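import Mathlib
import Cfsg.Agent.Lib.Helper97.FXDefs
import Cfsg.Agent.Lib.Helper48.SympRep
import Cfsg.Agent.Lib.Helper86.ESREC

/-!
# FX server piece (BLK): fixed space of an operator permuting the blocks of a decomposition
-/

set_option autoImplicit false

namespace Cfsg.Agent.Helper8.FX

open Cfsg.Agent.Helper97.FX Cfsg.Agent.Helper48.SympRep

universe u

section LA
variable {K : Type*} [Field K] {V : Type u} [AddCommGroup V] [Module K V] [FiniteDimensional K V]

/-- **(BLK)** -/
theorem block_bound {ι : Type*} [Fintype ι] (W : ι → Submodule K V) (hind : iSupIndep W)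
    (htop : ⨆ i, W i = ⊤) (T : Module.End K V) (σ : Equiv.Perm ι)
    (hT : ∀ i, ∀ w ∈ W i, T w ∈ W (σ i)) (d : ℕ) (hd : ∀ i, Module.finrank K (W i) = d) :
    fixDim T ≤ d * Nat.card (MulAction.orbitRel.Quotient (Subgroup.zpowers σ) ι) := by
  classical
  have hInt : DirectSum.IsInternal W :=
    DirectSum.isInternal_submodule_of_iSupIndep_of_iSup_eq_top hind htop
  let e : (DirectSum ι fun i => W i) ≃ₗ[K] V :=
    LinearEquiv.ofBijective (DirectSum.coeLinearMap W) hInt
  let e' : (∀ i, W i) ≃ₗ[K] V :=
    (DirectSum.linearEquivFunOnFintype K ι (fun i => W i)).symm ≪≫ₗ e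
  have he' : ∀ f : (∀ i, W i), e' f = ∑ i, (f i : V) := by
    intro f
    show DirectSum.coeLinearMap W
      ((DirectSum.linearEquivFunOnFintype K ι (fun i => W i)).symm f) = _
    set x := (DirectSum.linearEquivFunOnFintype K ι (fun i => W i)).symm f with hx
    have hxi : ∀ i, x i = f i := fun i =>
      congrFun (LinearEquiv.apply_symm_apply
        (DirectSum.linearEquivFunOnFintype K ι (fun i => W i)) f) i
    conv_lhs => rw [← DirectSum.sum_univ_of x]
    rw [map_sum]
    apply Finset.sum_congr rfl
    intro i _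
    rw [DirectSum.coeLinearMap_of, hxi]
  -- the key recursion
  have hkey : ∀ v : V, T v = v → ∀ i, ((e'.symm v (σ i) : W (σ i)) : V) = T (e'.symm v i : V) := by
    intro v hv i
    set x := e'.symm v with hx
    let f : ∀ j, W j := fun j =>
      ⟨T (x (σ.symm j) : V), by
        have := hT (σ.symm j) _ (x (σ.symm j)).2
        rwa [Equiv.apply_symm_apply] at this⟩
    have hf : e' f = v := by
      rw [he']
      show ∑ j, T (x (σ.symm j) : V) = v
      rw [Equiv.sum_comp σ.symm (fun i => T (x i : V)), ← map_sum, ← he', hx,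
        LinearEquiv.apply_symm_apply, hv]
    have hxf : x = f := by
      rw [hx, LinearEquiv.symm_apply_eq, hf]
    have : ((x (σ i) : W (σ i)) : V) = ((f (σ i) : W (σ i)) : V) := by rw [hxf]
    rw [this]
    show T (x (σ.symm (σ i)) : V) = _
    rw [Equiv.symm_apply_apply]
  have hzero : ∀ v : V, T v = v → ∀ i, (e'.symm v i : V) = 0 →
      ∀ n : ℕ, (e'.symm v ((σ ^ n) i) : V) = 0 := by
    intro v hv i hi n
    induction n with
    | zero =>
      rw [pow_zero]
      exact hi
    | succ n ih =>
      rw [pow_succ', Equiv.Perm.mul_apply, hkey v hv, ih, map_zero]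
  -- orbit representatives
  have hfinq : Fintype (MulAction.orbitRel.Quotient (Subgroup.zpowers σ) ι) := Fintype.ofFinite _
  let rep : MulAction.orbitRel.Quotient (Subgroup.zpowers σ) ι → ι := Quotient.out
  have hrep : ∀ i : ι, ∃ n : ℕ, (σ ^ n) (rep (Quotient.mk'' i)) = i := by
    intro i
    have h1 := @Quotient.mk_out ι (MulAction.orbitRel (Subgroup.zpowers σ) ι) i
    have h2 : i ∈ MulAction.orbit (Subgroup.zpowers σ) (rep (Quotient.mk'' i)) :=
      (MulAction.orbitRel (Subgroup.zpowers σ) ι).iseqv.symm h1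
    obtain ⟨⟨τ, hτ⟩, hg⟩ := h2
    have hfo : IsOfFinOrder σ := isOfFinOrder_of_finite σ
    have hτ' : τ ∈ Submonoid.powers σ := hfo.mem_powers_iff_mem_zpowers.mpr hτ
    obtain ⟨n, hn⟩ := Submonoid.mem_powers_iff _ _ |>.mp hτ'
    refine ⟨n, ?_⟩
    rw [hn]
    exact hg
  -- the evaluation map
  let Φ : LinearMap.ker (T - 1) →ₗ[K]
      (∀ o : MulAction.orbitRel.Quotient (Subgroup.zpowers σ) ι, W (rep o)) :=
    LinearMap.pi (fun o => (LinearMap.proj (rep o)) ∘ₗ e'.symm.toLinearMap ∘ₗ
      (LinearMap.ker (T - 1)).subtype)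
  have hΦ : Function.Injective Φ := by
    rw [injective_iff_map_eq_zero]
    rintro ⟨v, hv⟩ h0
    have hTv : T v = v := by
      rw [LinearMap.mem_ker, LinearMap.sub_apply, Module.End.one_apply, sub_eq_zero] at hv
      exact hv
    have hcomp : ∀ o, (e'.symm v (rep o) : V) = 0 := by
      intro o
      have := congrFun h0 o
      have h3 : e'.symm v (rep o) = 0 := this
      rw [h3]
      rfl
    have hall : ∀ i, e'.symm v i = 0 := by
      intro i
      obtain ⟨n, hn⟩ := hrep i
      have := hzero v hTv _ (hcomp (Quotient.mk'' i)) n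
      rw [hn] at this
      exact Subtype.ext this
    have hx0 : e'.symm v = 0 := funext hall
    have hv0 : v = 0 := by
      have := congrArg e' hx0
      rwa [LinearEquiv.apply_symm_apply, map_zero] at this
    exact Subtype.ext hv0
  have h1 := LinearMap.finrank_le_finrank_of_injective hΦ
  rw [Module.finrank_pi_fintype] at h1
  simp only [hd, Finset.sum_const, Finset.card_univ, smul_eq_mul] at h1
  rw [fixDim_def, Nat.card_eq_fintype_card, mul_comm]
  exact h1

end LA

end Cfsg.Agent.Helper8.FX
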