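import Mathlib
import Cfsg.Agent.Lib.Helper97.FXDefs
import Cfsg.Agent.Lib.Helper48.SympRep
import Cfsg.Agent.Lib.Helper86.ESREC

/-!
# FX server piece (ORB): orbit count for a permutation of prime order
-/

set_option autoImplicit false

namespace Cfsg.Agent.Helper8.FX

open Cfsg.Agent.Helper97.FX Cfsg.Agent.Helper48.SympRep

universe u

section LA
variable {K : Type*} [Field K] {V : Type u} [AddCommGroup V] [Module K V] [FiniteDimensional K V]

/-- **(ORB)** Burnside / orbit sizes 1 or p. -/
theorem orbit_count {α : Type*} [Finite α] (σ : Equiv.Perm α) {p : ℕ} (hp : p.Prime)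
    (hσ : σ ^ p = 1) :
    Nat.card (MulAction.orbitRel.Quotient (Subgroup.zpowers σ) α) * p =
      (p - 1) * Nat.card {t : α // σ t = t} + Nat.card α := by
  classical
  have : Fintype α := Fintype.ofFinite α
  have : Fintype (Subgroup.zpowers σ) := Fintype.ofFinite _
  have : Fintype (MulAction.orbitRel.Quotient (Subgroup.zpowers σ) α) := Fintype.ofFinite _
  have : Fintype {t : α // σ t = t} := Fintype.ofFinite _
  have hdvd : orderOf σ ∣ p := orderOf_dvd_of_pow_eq_one hσ
  have hcardG : Fintype.card (Subgroup.zpowers σ) = orderOf σ := by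
    rw [← Nat.card_eq_fintype_card, Nat.card_zpowers]
  have hB := MulAction.sum_card_fixedBy_eq_card_orbits_mul_card_group (Subgroup.zpowers σ) α
  have hterm : ∀ τ : Subgroup.zpowers σ, Fintype.card (MulAction.fixedBy α τ) =
      if τ = 1 then Fintype.card α else Fintype.card {t : α // σ t = t} := by
    intro τ
    split_ifs with hτ
    · subst hτ
      have : MulAction.fixedBy α (1 : Subgroup.zpowers σ) = Set.univ :=
        MulAction.fixedBy_one_eq_univ _ _
      rw [Fintype.card_congr (Equiv.setCongr this)]
      exact Fintype.card_congr (Equiv.Set.univ α)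
    · have hord : orderOf σ = p := by
        rcases (Nat.dvd_prime hp).mp hdvd with h2 | h2
        · exfalso
          apply hτ
          have h3 : σ = 1 := orderOf_eq_one_iff.mp h2
          obtain ⟨k, hk⟩ := τ.2
          apply Subtype.ext
          show (τ : Equiv.Perm α) = 1
          rw [← hk]
          simp only [h3, one_zpow]
        · exact h2
      have : Fact p.Prime := ⟨hp⟩
      have hcard' : Nat.card (Subgroup.zpowers σ) = p := by rw [Nat.card_zpowers, hord]
      have htop : Subgroup.zpowers τ = ⊤ := zpowers_eq_top_of_prime_card hcard' hτ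
      apply Fintype.card_congr
      refine Equiv.subtypeEquivRight (fun x => ?_)
      rw [MulAction.mem_fixedBy]
      constructor
      · intro hx
        have hσmem : (⟨σ, Subgroup.mem_zpowers σ⟩ : Subgroup.zpowers σ) ∈ Subgroup.zpowers τ := by
          rw [htop]; trivial
        have hle : Subgroup.zpowers τ ≤ MulAction.stabilizer (Subgroup.zpowers σ) x := by
          rw [Subgroup.zpowers_le]
          exact hx
        exact hle hσmem
      · intro hx
        have hle : Subgroup.zpowers σ ≤ MulAction.stabilizer (Equiv.Perm α) x := by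
          rw [Subgroup.zpowers_le]
          exact hx
        exact hle τ.2
  simp only [hterm] at hB
  rw [Finset.sum_ite, Finset.sum_const, Finset.sum_const] at hB
  have h1 : (Finset.univ.filter (fun τ : Subgroup.zpowers σ => τ = 1)).card = 1 := by
    rw [Finset.card_eq_one]
    exact ⟨1, by ext τ; simp⟩
  have h2 : (Finset.univ.filter (fun τ : Subgroup.zpowers σ => ¬ τ = 1)).card = orderOf σ - 1 := by
    have := Finset.card_filter_add_card_filter_not (s := (Finset.univ : Finset (Subgroup.zpowers σ)))
      (fun τ : Subgroup.zpowers σ => τ = 1)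
    rw [h1, Finset.card_univ, hcardG] at this
    omega
  rw [h1, h2, hcardG] at hB
  simp only [smul_eq_mul, one_mul] at hB
  rw [Nat.card_eq_fintype_card, Nat.card_eq_fintype_card, Nat.card_eq_fintype_card]
  rcases (Nat.dvd_prime hp).mp hdvd with h3 | h3
  · have h4 : σ = 1 := orderOf_eq_one_iff.mp h3
    have hf : Fintype.card {t : α // σ t = t} = Fintype.card α :=
      Fintype.card_congr (Equiv.subtypeUnivEquiv (fun t => by rw [h4]; rfl))
    rw [h3] at hB
    simp only [Nat.sub_self, zero_mul, add_zero, mul_one] at hB
    rw [hf, ← hB]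
    obtain ⟨k, rfl⟩ : ∃ k, p = k + 1 := ⟨p - 1, by have := hp.pos; omega⟩
    simp only [Nat.add_sub_cancel]
    ring
  · rw [h3] at hB
    rw [← hB]
    ring

end LA

end Cfsg.Agent.Helper8.FX
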