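import Mathlib
import Cfsg.Agent.Lib.Helper97.FXDefs
import Cfsg.Agent.Lib.Helper48.SympRep
import Cfsg.Agent.Lib.Helper86.ESREC

/-!
# FX server piece (SHIFT): `P T P⁻¹ = κ T` with `κ` of order `p` gives `p * fixDim T ≤ dim V`
-/

set_option autoImplicit false

namespace Cfsg.Agent.Helper8.FX

open Cfsg.Agent.Helper97.FX Cfsg.Agent.Helper48.SympRep

universe u

section LA
variable {K : Type*} [Field K] {V : Type u} [AddCommGroup V] [Module K V] [FiniteDimensional K V]

/-- the dimensions of an independent finite family of subspaces add up to at most `dim V` -/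
theorem h8_sum_finrank_le_of_iSupIndep {ι : Type*} [Fintype ι] (W : ι → Submodule K V)
    (h : iSupIndep W) : ∑ i, Module.finrank K (W i) ≤ Module.finrank K V := by
  classical
  rw [← Module.finrank_directSum]
  have hinj : Function.Injective (DirectSum.coeLinearMap W) := h.dfinsupp_lsum_injective
  exact LinearMap.finrank_le_finrank_of_injective hinj

/-- **(SHIFT)** -/
theorem shift_bound (T P P' : Module.End K V) (hPP' : P * P' = 1) (hP'P : P' * P = 1) (κ : K)
    {p : ℕ} (hp : p.Prime) (hκ1 : κ ≠ 1) (hκp : κ ^ p = 1) (hconj : P * T * P' = κ • T) :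
    p * fixDim T ≤ Module.finrank K V := by
  classical
  have h1 : T * P' = κ • (P' * T) := by
    calc T * P' = (P' * P) * T * P' := by rw [hP'P, one_mul]
      _ = P' * (P * T * P') := by simp only [mul_assoc]
      _ = P' * (κ • T) := by rw [hconj]
      _ = κ • (P' * T) := mul_smul_comm _ _ _
  have hmap : ∀ c : K, (Module.End.eigenspace T c).map P' ≤ Module.End.eigenspace T (κ * c) := by
    rintro c _ ⟨v, hv, rfl⟩
    have hv' : T v = c • v := Module.End.mem_eigenspace_iff.mp hv
    rw [Module.End.mem_eigenspace_iff]
    have h2 := LinearMap.congr_fun h1 v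
    simp only [Module.End.mul_apply, LinearMap.smul_apply] at h2
    rw [h2, hv', map_smul, smul_smul]
  have hP'inj : Function.Injective P' := by
    intro a b hab
    have h2 := congrArg P hab
    rw [← Module.End.mul_apply, ← Module.End.mul_apply, hPP'] at h2
    exact h2
  have hdim : ∀ c : K, Module.finrank K (Module.End.eigenspace T c) ≤
      Module.finrank K (Module.End.eigenspace T (κ * c)) := by
    intro c
    calc Module.finrank K (Module.End.eigenspace T c)
        = Module.finrank K ((Module.End.eigenspace T c).map P') :=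
          LinearEquiv.finrank_eq (Submodule.equivMapOfInjective P' hP'inj _)
      _ ≤ _ := Submodule.finrank_mono (hmap c)
  have hall : ∀ j : ℕ, fixDim T ≤ Module.finrank K (Module.End.eigenspace T (κ ^ j)) := by
    intro j
    induction j with
    | zero =>
      rw [pow_zero, fixDim_def, Module.End.eigenspace_def, one_smul]
    | succ j ih =>
      rw [pow_succ']
      exact ih.trans (hdim _)
  have hpf : Fact p.Prime := ⟨hp⟩
  have hord : orderOf κ = p := orderOf_eq_prime hκp hκ1
  have hinj : Function.Injective (fun j : Fin p => κ ^ (j : ℕ)) := by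
    intro i j hij
    apply Fin.ext
    exact pow_injOn_Iio_orderOf (by rw [hord]; exact i.2) (by rw [hord]; exact j.2) hij
  have hindep : iSupIndep (fun j : Fin p => Module.End.eigenspace T (κ ^ (j : ℕ))) :=
    (Module.End.eigenspaces_iSupIndep T).comp hinj
  have hsum := h8_sum_finrank_le_of_iSupIndep _ hindep
  calc p * fixDim T = ∑ _j : Fin p, fixDim T := by simp
    _ ≤ ∑ j : Fin p, Module.finrank K (Module.End.eigenspace T (κ ^ (j : ℕ))) :=
        Finset.sum_le_sum (fun j _ => hall j)
    _ ≤ Module.finrank K V := hsum

end LA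

end Cfsg.Agent.Helper8.FX
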