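import Mathlib
import Cfsg.Agent.Lib.Helper97.FXDefs
import Cfsg.Agent.Lib.Helper97.FXDefs2
import Cfsg.Agent.Lib.Helper48.SympRep
import Cfsg.Agent.Lib.Helper73.FXWT
import Cfsg.Agent.Lib.Helper24.FXPERM
import Cfsg.Agent.Lib.Helper8.FXBLK
import Cfsg.Agent.Lib.Helper8.FXORB
import Cfsg.Agent.Lib.Helper8.FXSHIFT

/-!
# FX server wave-2 piece (CASEA): the case of an abelian normal subgroup not centralised by `x`
-/

set_option autoImplicit false

namespace Cfsg.Agent.Helper8.FX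

open Cfsg.Agent.Helper97.FX Cfsg.Agent.Helper48.SympRep
open scoped TensorProduct

universe u

/-- the arithmetic of case (A) -/
theorem h8_caseA_arith (w d n f m q D : ℕ) (hq : 4 ≤ q) (h1 : w ≤ d * n)
    (h2 : n * (q + 1) = q * f + m) (h3 : (q + 1) * f ≤ m) (h4 : m * d ≤ D) (hd : 1 ≤ d)
    (hm : 2 ≤ m) : 2 * w < D := by
  have h5 : (q + 1) * w ≤ d * (q * f + m) := by
    calc (q + 1) * w ≤ (q + 1) * (d * n) := Nat.mul_le_mul_left _ h1
      _ = d * (n * (q + 1)) := by ring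
      _ = d * (q * f + m) := by rw [h2]
  have h6 : (q + 1) * (2 * (q * f + m)) < (q + 1) * ((q + 1) * m) := by
    have h7 : 2 * q * ((q + 1) * f) ≤ 2 * q * m := Nat.mul_le_mul_left _ h3
    nlinarith [Nat.mul_le_mul hq hq, Nat.mul_le_mul_right m (Nat.mul_le_mul hq hq)]
  have h8 : 2 * (q * f + m) < (q + 1) * m := Nat.lt_of_mul_lt_mul_left h6
  have h9 : (q + 1) * (2 * w) < (q + 1) * D := by
    calc (q + 1) * (2 * w) = 2 * ((q + 1) * w) := by ring
      _ ≤ 2 * (d * (q * f + m)) := Nat.mul_le_mul_left _ h5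
      _ = d * (2 * (q * f + m)) := by ring
      _ < d * ((q + 1) * m) := Nat.mul_lt_mul_of_pos_left h8 (by omega)
      _ = (q + 1) * (m * d) := by ring
      _ ≤ (q + 1) * D := Nat.mul_le_mul_left _ h4
  exact Nat.lt_of_mul_lt_mul_left h9

section RT
variable {K : Type*} [Field K] [IsAlgClosed K] {G : Type*} [Group G] [Finite G]
variable {V : Type u} [AddCommGroup V] [Module K V] [FiniteDimensional K V] [Nontrivial V]

omit [IsAlgClosed K] [Nontrivial V] in
/-- (CASEA) with the weight decomposition as a hypothesis -/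
theorem h8_case_A_core [Group.IsSolvable G] (ρ : G →* Module.End K V)
    (hf : Function.Injective ρ) {p : ℕ} (hp : p.Prime) (hp5 : 5 ≤ p) (x : G) (hx : orderOf x = p)
    (hgen : Subgroup.normalClosure ({x} : Set G) = ⊤) (N : Subgroup G)
    (hxN : ∃ n ∈ N, x * n ≠ n * x)
    (W₀ : Submodule K V) (hW₀ : W₀ ≠ ⊥) (hsc : ∀ n ∈ N, ∃ c : K, ∀ w ∈ W₀, ρ n w = c • w)
    (hind : iSupIndep (fun i : WtOrbit ρ W₀ => i.1)) (htop : (⨆ i : WtOrbit ρ W₀, i.1) = ⊤) :
    2 * fixDim (ρ x) < Module.finrank K V := by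
  classical
  have hfinΛ : Fintype (WtOrbit ρ W₀) := Fintype.ofFinite _
  -- at least two weights
  have hm2 : 2 ≤ Nat.card (WtOrbit ρ W₀) := by
    by_contra hlt
    have hle : Nat.card (WtOrbit ρ W₀) ≤ 1 := by omega
    have hsub : Subsingleton (WtOrbit ρ W₀) := (Finite.card_le_one_iff_subsingleton).mp hle
    have hW₀top : W₀ = ⊤ := by
      rw [← htop]
      apply le_antisymm
      · exact le_iSup (fun i : WtOrbit ρ W₀ => i.1) (WtOrbit.base ρ W₀)
      · apply iSup_le
        intro i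
        rw [Subsingleton.elim i (WtOrbit.base ρ W₀)]
        exact le_rfl
    obtain ⟨n, hnN, hxn⟩ := hxN
    obtain ⟨c, hc⟩ := hsc n hnN
    apply hxn
    apply hf
    rw [map_mul, map_mul]
    have hρn : ρ n = c • (1 : Module.End K V) := by
      ext v
      rw [LinearMap.smul_apply, Module.End.one_apply]
      exact hc v (hW₀top ▸ Submodule.mem_top)
    rw [hρn, mul_smul_comm, smul_mul_assoc, mul_one, one_mul]
  -- the permutation induced by `x`
  have hxp : x ^ p = 1 := hx ▸ pow_orderOf_eq_one x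
  set σ : Equiv.Perm (WtOrbit ρ W₀) := MulAction.toPerm x with hσ
  have hσp : σ ^ p = 1 := by
    have h1 : σ = MulAction.toPermHom G (WtOrbit ρ W₀) x := rfl
    rw [h1, ← map_pow, hxp, map_one]
  have hT : ∀ i : WtOrbit ρ W₀, ∀ w ∈ i.1, ρ x w ∈ (σ i).1 := by
    intro i w hw
    show ρ x w ∈ (x • i).1
    rw [WtOrbit.smul_val]
    exact Submodule.mem_map_of_mem hw
  have hinj : ∀ g : G, Function.Injective (ρ g) := by
    intro g a b hab
    have h1 := congrArg (ρ g⁻¹) hab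
    rw [← Module.End.mul_apply, ← Module.End.mul_apply, ← map_mul, inv_mul_cancel, map_one] at h1
    exact h1
  have hd : ∀ i : WtOrbit ρ W₀, Module.finrank K i.1 = Module.finrank K W₀ := by
    rintro ⟨W, g, rfl⟩
    exact (LinearEquiv.finrank_eq (Submodule.equivMapOfInjective (ρ g) (hinj g) W₀)).symm
  have hdpos : 1 ≤ Module.finrank K W₀ := by
    have : Nontrivial W₀ := (Submodule.nontrivial_iff_ne_bot).mpr hW₀
    exact Module.finrank_pos
  -- the wave-1 pieces
  have hBLK := block_bound (fun i : WtOrbit ρ W₀ => i.1) hind htop (ρ x) σ hT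
    (Module.finrank K W₀) hd
  have hORB := orbit_count σ hp hσp
  have hPERM := Cfsg.Agent.Helper24.FX.perm_fixed_le x hp hxp hgen (Nat.card (WtOrbit ρ W₀))
    (WtOrbit ρ W₀) rfl hm2
  have hfix : Nat.card (MulAction.fixedBy (WtOrbit ρ W₀) x) =
      Nat.card {t : WtOrbit ρ W₀ // σ t = t} := rfl
  rw [hfix] at hPERM
  have hsum := h8_sum_finrank_le_of_iSupIndep (fun i : WtOrbit ρ W₀ => i.1) hind
  simp only [hd, Finset.sum_const, Finset.card_univ, smul_eq_mul] at hsum
  rw [← Nat.card_eq_fintype_card] at hsum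
  obtain ⟨q, rfl⟩ : ∃ q, p = q + 1 := ⟨p - 1, by omega⟩
  simp only [Nat.add_sub_cancel] at hORB
  exact h8_caseA_arith (fixDim (ρ x)) (Module.finrank K W₀) _ _ _ q _ (by omega) hBLK hORB hPERM
    hsum hdpos hm2

/-- **(CASEA) [M-L]** -/
theorem case_A [Group.IsSolvable G] (ρ : G →* Module.End K V) (hirr : Irr ρ)
    (hf : Function.Injective ρ) {p : ℕ} (hp : p.Prime) (hp5 : 5 ≤ p) (x : G) (hx : orderOf x = p)
    (hgen : Subgroup.normalClosure ({x} : Set G) = ⊤) (N : Subgroup G) [N.Normal]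
    (hab : ∀ a ∈ N, ∀ b ∈ N, a * b = b * a) (hcard : (Nat.card N : K) ≠ 0)
    (hxN : ∃ n ∈ N, x * n ≠ n * x) : 2 * fixDim (ρ x) < Module.finrank K V := by
  obtain ⟨W₀, hW₀, hsc, hind, htop⟩ :=
    Cfsg.Agent.Helper73.FX.weight_decomp ρ hirr N hab hcard
  exact h8_case_A_core ρ hf hp hp5 x hx hgen N hxN W₀ hW₀ hsc hind htop

end RT

end Cfsg.Agent.Helper8.FX
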