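import Cfsg.Agent.Lib.Helper8.Forcing

set_option autoImplicit false
set_option maxRecDepth 100000

/-! Machine-generated forcing certificate for S(4,5,11). -/

namespace Cfsg.Agent.Helper8.Cert11

open Cfsg.Agent.Helper8.Forcing

def std : List ℕ :=
  [31, 103, 121, 171, 182, 213, 218, 236, 301, 314, 334, 339, 372, 391, 412, 433, 457, 482, 558, 565, 587, 604, 626, 653, 659, 696, 710, 737, 790, 793, 803, 837, 872, 906, 932, 976, 1075, 1084, 1101, 1110, 1130, 1166, 1177, 1189, 1219, 1264, 1291, 1301, 1318, 1368, 1377, 1426, 1448, 1476, 1543, 1562, 1577, 1617, 1636, 1684, 1698, 1736, 1804, 1840, 1858, 1921]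

def bad (i : ℕ) : Bool := i == 0 || i == 4

def c_0 : Cert :=
  .pick 816 [31, 20, 7, 3, 0, 0, 3, 5, 0, 0, 0] 1023 (.alt 10 (.pick 464 [34, 19, 7, 5, 0, 1, 0, 0, 0, 0, 1] 1535 (.alt 9 (.done [0, 1, 2, 3, 4, 5, 6, 7, 8, 9, 10]) (.altEnd))) (.altEnd))

def c_1 : Cert :=
  .pick 108 [6, 9, 0, 0, 1, 0, 0, 0, 19, 1, 2] 1919 (.alt 7 (.pick 780 [29, 9, 0, 0, 1, 21, 2, 1, 0, 0, 0] 1023 (.alt 10 (.pick 116 [10, 9, 0, 1, 0, 0, 0, 1, 0, 3, 4] 1791 (.alt 8 (.pick 660 [12, 16, 0, 3, 0, 20, 4, 0, 3, 0, 0] 1023 (.alt 10 (.pick 612 [10, 11, 0, 3, 1, 0, 0, 3, 1, 0, 0] 1023 (.alt 10 (.pick 420 [15, 10, 0, 4, 2, 0, 2, 0, 0, 0, 19] 1535 (.alt 9 (.pick 452 [16, 11, 0, 5, 3, 0, 0, 0, 0, 0, 0] 1023 (.alt 10 (.pick 184 [10, 18, 6, 0, 0, 0, 6, 0, 7, 0, 9] 1535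 (.alt 9 (.pick 344 [12, 19, 5, 0, 0, 5, 0, 8, 0, 9, 0] 1023 (.alt 10 (.pick 360 [5, 5, 6, 0, 0, 0, 0, 8, 0, 0, 0] 1535 (.alt 9 (.pick 424 [25, 15, 4, 0, 2, 0, 0, 0, 0, 0, 0] 1023 (.alt 10 (.pick 712 [25, 19, 10, 0, 3, 1, 0, 0, 1, 0, 0] 1023 (.alt 10 (.pick 240 [10, 10, 9, 4, 0, 0, 0, 0, 9, 4, 0] 1023 (.alt 10 (c_0) (.altEnd))) (.altEnd))) (.altEnd))) (.altEnd))) (.altEnd))) (.altEnd))) (.altEnd))) (.altEnd))) (.altEnd))) (.altEnd))) (.altEnd))) (.altEnd))) (.altEnd))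

def c_2 : Cert :=
  .pick 58 [17, 0, 4, 0, 0, 0, 8, 4, 0, 7, 18] 1791 (.alt 8 (.pick 90 [18, 0, 3, 0, 0, 0, 0, 0, 0, 20, 3] 1919 (.alt 7 (.pick 538 [17, 0, 5, 0, 0, 1, 0, 0, 1, 0, 0] 1023 (.alt 10 (.pick 106 [20, 0, 9, 0, 1, 0, 0, 1, 2, 10, 0] 1023 (.alt 10 (.pick 394 [17, 0, 9, 0, 2, 3, 2, 0, 0, 0, 9] 1535 (.alt 9 (.pick 114 [22, 0, 7, 1, 0, 0, 0, 3, 4, 0, 1] 1535 (.alt 9 (.pick 402 [18, 0, 9, 1, 0, 5, 4, 0, 0, 1, 0] 1023 (.alt 10 (.pick 226 [17, 0, 7, 3, 1, 0, 0, 0, 0, 1, 3] 1791 (.alt 8 (.pick 674 [18, 0, 8, 3, 2, 0, 0, 0, 0, 0, 0] 1023 (.alt 10 (.pick 834 [27, 0, 9, 4, 3, 1, 0, 1, 0, 0, 0] 1023 (.alt 10 (.pick 60 [0, 9, 0, 0, 0, 0, 18, 0, 9, 17, 0] 1023 (.alt 10 (.pick 92 [2, 9, 0, 0, 0, 0, 0, 9, 2, 0, 0] 1535 (.alt 9 (.pick 156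 [2, 10, 0, 0, 0, 1, 0, 0, 0, 0, 1] 1791 (.alt 8 (c_1) (.altEnd))) (.altEnd))) (.altEnd))) (.altEnd))) (.altEnd))) (.altEnd))) (.altEnd))) (.altEnd))) (.altEnd))) (.altEnd))) (.altEnd))) (.altEnd))) (.altEnd))

def c_3 : Cert :=
  .pick 368 [20, 19, 7, 4, 0, 0, 0, 7, 0, 0, 4] 1535 (.alt 9 (.pick 688 [26, 20, 9, 2, 0, 0, 0, 0, 0, 0, 0] 1023 (.alt 10 (.pick 464 [34, 17, 9, 5, 0, 1, 0, 0, 0, 1, 0] 1023 (.alt 10 (.done [0, 1, 2, 3, 4, 6, 5, 9, 10, 7, 8]) (.altEnd))) (.altEnd))) (.altEnd))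

def c_4 : Cert :=
  .pick 540 [3, 11, 0, 0, 0, 1, 0, 1, 0, 0, 0] 1023 (.alt 10 (.pick 108 [6, 9, 0, 0, 1, 0, 0, 2, 1, 0, 20] 1535 (.alt 9 (.pick 396 [6, 11, 0, 0, 2, 3, 2, 0, 0, 19, 0] 1023 (.alt 10 (.pick 116 [10, 9, 0, 1, 0, 0, 0, 4, 3, 1, 0] 1023 (.alt 10 (.pick 404 [8, 13, 0, 1, 0, 5, 4, 0, 0, 0, 1] 1535 (.alt 9 (.pick 228 [10, 11, 0, 3, 1, 0, 0, 0, 0, 3, 1] 1791 (.alt 8 (.pick 804 [16, 19, 0, 4, 1, 0, 0, 0, 0, 0, 0] 1023 (.alt 10 (.pick 708 [29, 9, 0, 5, 2, 1, 0, 0, 1, 0, 0] 1023 (.alt 10 (.pick 312 [0, 0, 8, 0, 0, 0, 8, 9, 0, 19, 0] 1023 (.alt 10 (.pick 216 [2, 2, 9, 0, 0, 10, 0, 0, 9, 0, 19] 1535 (.alt 9 (.pick 232 [15, 16, 4, 0, 0, 0, 0, 0, 4, 0, 0] 1023 (.alt 10 (.pick 424 [25, 14, 5, 0, 2, 0, 0, 0, 0, 0, 0] 1535 (.alt 9 (.pick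 840 [27, 14, 10, 0, 2, 0, 0, 0, 0, 0, 0] 1023 (.alt 10 (c_3) (.altEnd))) (.altEnd))) (.altEnd))) (.altEnd))) (.altEnd))) (.altEnd))) (.altEnd))) (.altEnd))) (.altEnd))) (.altEnd))) (.altEnd))) (.altEnd))) (.altEnd))

def c_5 : Cert :=
  .pick 326 [17, 0, 0, 4, 1, 3, 0, 5, 0, 1, 0] 1023 (.alt 10 (.pick 58 [17, 0, 4, 0, 0, 0, 8, 18, 4, 0, 7] 1535 (.alt 9 (.pick 90 [18, 0, 3, 0, 0, 0, 0, 7, 20, 0, 0] 1023 (.alt 10 (.pick 154 [16, 0, 5, 0, 0, 1, 0, 0, 0, 1, 0] 1791 (.alt 8 (.pick 106 [20, 0, 9, 0, 1, 0, 0, 9, 0, 2, 1] 1791 (.alt 8 (.pick 650 [28, 0, 5, 0, 1, 3, 10, 0, 1, 0, 0] 1023 (.alt 10 (.pick 114 [22, 0, 7, 1, 0, 0, 0, 0, 1, 4, 3] 1919 (.alt 7 (.pick 786 [21, 0, 8, 3, 0, 5, 8, 3, 0, 0, 0] 1023 (.alt 10 (.pick 610 [17, 0, 8, 3, 1, 0,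 0, 1, 3, 0, 0] 1023 (.alt 10 (.pick 418 [20, 0, 9, 4, 2, 0, 2, 0, 0, 9, 0] 1023 (.alt 10 (.pick 450 [22, 0, 9, 5, 3, 0, 0, 0, 0, 0, 0] 1535 (.alt 9 (.pick 60 [0, 9, 0, 0, 0, 0, 18, 0, 14, 9, 0] 1919 (.alt 7 (.pick 92 [2, 9, 0, 0, 0, 0, 0, 0, 0, 2, 9] 1791 (.alt 8 (c_4) (.altEnd))) (.altEnd))) (.altEnd))) (.altEnd))) (.altEnd))) (.altEnd))) (.altEnd))) (.altEnd))) (.altEnd))) (.altEnd))) (.altEnd))) (.altEnd))) (.altEnd))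

def c_6 : Cert :=
  .pick 177 [0, 14, 6, 1, 0, 0, 4, 0, 0, 9, 1] 1791 (.alt 8 (.pick 593 [0, 15, 6, 3, 0, 5, 0, 9, 3, 0, 0] 1023 (.alt 10 (.pick 225 [0, 15, 8, 2, 1, 0, 0, 0, 1, 0, 8] 1535 (.alt 9 (.pick 353 [0, 18, 8, 3, 2, 0, 0, 0, 0, 0, 0] 1023 (.alt 10 (.pick 897 [0, 18, 9, 4, 3, 1, 1, 0, 0, 0, 0] 1023 (.alt 10 (.pick 46 [17, 0, 0, 0, 0, 0, 0, 3, 3, 0, 0] 511 (.alt 9 (.pick 270 [18, 0, 0, 0, 3, 0, 0, 4, 0, 0, 3] 1983 (.alt 6 (.pick 142 [18, 0, 0, 0, 3, 1, 0, 0, 0, 1, 0] 1023 (.alt 10 (.pick 150 [16, 0, 0, 0, 0, 0, 11, 0, 11, 4, 0] 2015 (.alt 5 (.pick 278 [16, 0, 0, 2, 0, 0, 2, 0, 0, 0, 6] 1535 (.alt 9 (.pick 86 [18, 0, 0, 3, 0, 1, 0, 1, 0, 0, 0] 1023 (.alt 10 (.pick 294 [23, 0, 0, 4, 1, 0, 4, 2, 0, 1, 0] 1023 (.alt 10 (.pick 198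 [20, 0, 0, 4, 1, 3, 0, 0, 5, 0, 1] 1535 (.alt 9 (c_2) (.altEnd))) (.altEnd))) (.altEnd))) (.altEnd))) (.altEnd))) (.altEnd))) (.altEnd))) (.alt 10 (.pick 142 [17, 0, 0, 0, 2, 0, 0, 0, 4, 2, 0] 1983 (.alt 6 (.pick 270 [19, 0, 0, 0, 4, 1, 0, 0, 0, 0, 1] 1535 (.alt 9 (.pick 278 [15, 0, 0, 0, 0, 0, 11, 11, 0, 0, 5] 2015 (.alt 5 (.pick 150 [17, 0, 0, 2, 0, 0, 2, 0, 0, 5, 0] 1023 (.alt 10 (.pick 86 [18, 0, 0, 3, 0, 1, 0, 0, 1, 0, 0] 1535 (.alt 9 (.pick 166 [17, 0, 0, 4, 1, 0, 4, 0, 2, 0, 1] 1535 (.alt 9 (c_5) (.altEnd))) (.altEnd))) (.altEnd))) (.altEnd))) (.altEnd))) (.altEnd))) (.altEnd)))) (.altEnd))) (.altEnd))) (.altEnd))) (.altEnd))) (.altEnd))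

def c_7 : Cert :=
  .pick 240 [10, 10, 9, 4, 0, 0, 0, 0, 9, 4, 0] 1023 (.alt 10 (.pick 816 [31, 20, 7, 3, 0, 0, 3, 5, 0, 0, 0] 1023 (.alt 10 (.pick 464 [23, 21, 7, 5, 0, 1, 0, 0, 0, 0, 1] 1535 (.alt 9 (.done [0, 1, 2, 3, 4, 10, 9, 8, 7, 6, 5]) (.altEnd))) (.altEnd))) (.altEnd))

def c_8 : Cert :=
  .pick 156 [3, 9, 0, 0, 0, 1, 0, 0, 0, 0, 1] 1791 (.alt 8 (.pick 108 [3, 12, 0, 0, 1, 0, 0, 0, 20, 1, 2] 1919 (.alt 7 (.pick 780 [27, 12, 0, 0, 1, 21, 2, 1, 0, 0, 0] 1023 (.alt 10 (.pick 116 [5, 14, 0, 1, 0, 0, 0, 1, 0, 3, 4] 1791 (.alt 8 (.pick 660 [7, 19, 0, 3, 0, 20, 4, 0, 3, 0, 0] 1023 (.alt 10 (.pick 612 [14, 9, 0, 3, 1, 0, 0, 3, 1, 0, 0] 1023 (.alt 10 (.pick 420 [11, 12, 0, 4, 2, 0, 2, 0, 0, 0, 19] 1535 (.alt 9 (.pick 452 [15, 14, 0,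 5, 3, 0, 0, 0, 0, 0, 0] 1023 (.alt 10 (.pick 184 [20, 14, 6, 0, 0, 0, 6, 0, 7, 0, 9] 1535 (.alt 9 (.pick 344 [22, 16, 5, 0, 0, 5, 0, 8, 0, 9, 0] 1023 (.alt 10 (.pick 360 [5, 5, 6, 0, 0, 0, 0, 8, 0, 0, 0] 1535 (.alt 9 (.pick 424 [16, 17, 4, 0, 2, 0, 0, 0, 0, 0, 0] 1023 (.alt 10 (.pick 712 [26, 16, 10, 0, 3, 1, 0, 0, 1, 0, 0] 1023 (.alt 10 (c_7) (.altEnd))) (.altEnd))) (.altEnd))) (.altEnd))) (.altEnd))) (.altEnd))) (.altEnd))) (.altEnd))) (.altEnd))) (.altEnd))) (.altEnd))) (.altEnd))) (.altEnd))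

def c_9 : Cert :=
  .pick 326 [23, 0, 0, 4, 1, 6, 0, 2, 0, 0, 1] 1535 (.alt 9 (.pick 58 [16, 0, 4, 0, 0, 0, 0, 8, 7, 4, 18] 1983 (.alt 6 (.pick 538 [18, 0, 5, 0, 0, 0, 0, 7, 0, 0, 11] 1791 (.alt 8 (.pick 154 [17, 0, 5, 0, 0, 1, 1, 0, 0, 0, 0] 1023 (.alt 10 (.pick 554 [28, 0, 7, 0, 1, 0, 2, 9, 1, 0, 0] 1023 (.alt 10 (.pick 202 [19, 0, 7, 0, 1, 3, 0, 0, 0, 10, 1] 1791 (.alt 8 (.pick 178 [27, 0, 6, 2, 0, 0, 4, 0, 0, 9, 2] 1791 (.alt 8 (.pick 594 [18, 0, 6, 4, 0, 5, 0, 9, 4, 0, 0] 1023 (.alt 10 (.pick 226 [17, 0, 8, 2, 1, 0, 0, 0, 1, 0, 8] 1535 (.alt 9 (.pick 354 [18, 0, 8, 3, 2, 0, 0, 0, 0, 0, 0] 1023 (.alt 10 (.pick 898 [22, 0, 9, 4, 3, 1, 1, 0, 0, 0, 0] 1023 (.alt 10 (.pick 60 [0, 9, 0, 0, 0, 0, 0, 18, 17, 14, 0] 1023 (.alt 10 (.pick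 92 [1, 10, 0, 0, 0, 0, 0, 14, 20, 0, 0] 1535 (.alt 9 (c_8) (.altEnd))) (.altEnd))) (.altEnd))) (.altEnd))) (.altEnd))) (.altEnd))) (.altEnd))) (.altEnd))) (.altEnd))) (.altEnd))) (.altEnd))) (.altEnd))) (.altEnd))

def c_10 : Cert :=
  .pick 456 [8, 8, 7, 0, 2, 1, 0, 0, 0, 1, 0] 1023 (.alt 10 (.pick 368 [20, 19, 6, 3, 0, 0, 0, 8, 0, 3, 0] 1023 (.alt 10 (.pick 432 [11, 11, 9, 5, 0, 0, 0, 0, 0, 0, 0] 1535 (.alt 9 (.pick 720 [34, 17, 10, 4, 0, 0, 0, 0, 0, 0, 0] 1023 (.alt 10 (.done [0, 1, 2, 3, 4, 9, 10, 6, 5, 8, 7]) (.altEnd))) (.altEnd))) (.altEnd))) (.altEnd))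

def c_11 : Cert :=
  .pick 156 [3, 10, 0, 0, 0, 0, 0, 0, 3, 0, 13] 1535 (.alt 9 (.pick 284 [4, 11, 0, 0, 0, 1, 1, 0, 0, 0, 0] 1023 (.alt 10 (.pick 172 [6, 14, 0, 0, 1, 0, 2, 0, 0, 1, 20] 1791 (.alt 8 (.pick 588 [5, 18, 0, 0, 2, 3, 0, 2, 19, 0, 0] 1023 (.alt 10 (.pick 564 [27, 13, 0, 3, 0, 0, 4, 3, 18, 0, 0] 1023 (.alt 10 (.pick 212 [31, 10, 0, 4, 0, 5, 0, 0, 0, 4, 18] 1791 (.alt 8 (.pick 228 [10, 11, 0, 3, 0, 0, 0, 0, 0, 18, 0] 1023 (.alt 10 (.pick 356 [13, 14, 0, 4, 1, 0, 0, 0, 0, 0, 0] 1535 (.alt 9 (.pick 900 [16, 9, 0, 5, 2, 0, 0, 0, 0, 0, 0] 1023 (.alt 10 (.pick 184 [20, 14, 6, 0, 0, 0, 9, 0, 6, 8, 0] 1023 (.alt 10 (.pick 344 [22, 17, 4, 0, 0, 10, 0, 4, 0, 0, 8] 1535 (.alt 9 (.pick 232 [15, 16, 4, 0, 1, 0, 0, 0, 8, 0, 1] 1535 (.alt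 9 (.pick 808 [25, 19, 4, 0, 1, 0, 0, 0, 0, 0, 0] 1023 (.alt 10 (c_10) (.altEnd))) (.altEnd))) (.altEnd))) (.altEnd))) (.altEnd))) (.altEnd))) (.altEnd))) (.altEnd))) (.altEnd))) (.altEnd))) (.altEnd))) (.altEnd))) (.altEnd))

def c_12 : Cert :=
  .pick 166 [20, 0, 0, 4, 0, 0, 4, 0, 1, 0, 0] 1535 (.alt 9 (.pick 326 [23, 0, 0, 4, 2, 2, 0, 5, 0, 3, 0] 1023 (.alt 10 (.pick 154 [15, 0, 2, 0, 0, 8, 6, 0, 0, 21, 2] 1791 (.alt 8 (.pick 538 [18, 0, 5, 0, 0, 0, 5, 0, 0, 0, 11] 2015 (.alt 5 (.pick 90 [17, 0, 6, 0, 0, 0, 0, 1, 1, 0, 0] 1023 (.alt 10 (.pick 106 [17, 0, 9, 0, 0, 0, 0, 9, 0, 1, 0] 1791 (.alt 8 (.pick 650 [17, 0, 5, 0, 2, 2, 10, 0, 3, 0, 0] 1023 (.alt 10 (.pick 114 [17, 0, 8, 1, 0, 0, 0, 0, 1, 3, 2] 1919 (.alt 7 (.pick 786 [26, 0, 9,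 4, 0, 4, 10, 5, 0, 0, 0] 1023 (.alt 10 (.pick 610 [19, 0, 8, 3, 1, 0, 0, 1, 3, 0, 0] 1023 (.alt 10 (.pick 418 [18, 0, 9, 4, 2, 0, 2, 0, 0, 9, 0] 1023 (.alt 10 (.pick 450 [19, 0, 9, 5, 3, 0, 0, 0, 0, 0, 0] 1535 (.alt 9 (.pick 60 [0, 8, 0, 0, 0, 0, 0, 18, 13, 8, 0] 1983 (.alt 6 (c_11) (.altEnd))) (.altEnd))) (.altEnd))) (.altEnd))) (.altEnd))) (.altEnd))) (.altEnd))) (.altEnd))) (.altEnd))) (.altEnd))) (.altEnd))) (.altEnd))) (.altEnd))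

def c_13 : Cert :=
  .pick 393 [0, 17, 9, 0, 1, 2, 1, 0, 0, 0, 9] 1535 (.alt 9 (.pick 113 [0, 15, 6, 1, 0, 0, 0, 2, 3, 0, 1] 1535 (.alt 9 (.pick 401 [0, 15, 8, 1, 0, 4, 3, 0, 0, 1, 0] 1023 (.alt 10 (.pick 225 [0, 15, 7, 3, 1, 0, 0, 0, 0, 1, 3] 1791 (.alt 8 (.pick 673 [0, 17, 8, 3, 2, 0, 0, 0, 0, 0, 0] 1023 (.alt 10 (.pick 833 [0, 19, 9, 4, 3, 1, 0, 1, 0, 0, 0] 1023 (.alt 10 (.pick 46 [17, 0, 0, 0, 0, 0, 3, 0, 0, 3, 0] 767 (.alt 8 (.pick 526 [18, 0, 0, 0, 3, 0, 4, 0, 0, 0, 3] 1919 (.alt 7 (.pick 78 [18, 0, 0, 0, 3, 1, 0, 0, 1, 0, 0] 1023 (.alt 10 (.pick 54 [17, 0, 0, 2, 0, 0, 8, 3, 2, 0, 8] 1535 (.alt 9 (.pick 86 [15, 0, 0, 1, 0, 0, 0, 0, 5, 0, 1] 1919 (.alt 7 (.pick 278 [17, 0, 0, 4, 0, 1, 0, 0, 0, 1, 0] 1023 (.alt 10 (.pick 166 [20,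 0, 0, 4, 1, 0, 1, 0, 5, 2, 0] 1023 (.alt 10 (c_9) (.altEnd))) (.altEnd))) (.altEnd))) (.altEnd))) (.altEnd))) (.altEnd))) (.alt 10 (.pick 78 [17, 0, 0, 0, 2, 0, 0, 0, 2, 4, 0] 1919 (.alt 7 (.pick 270 [18, 0, 0, 0, 3, 1, 0, 0, 0, 0, 1] 1535 (.alt 9 (.pick 86 [14, 0, 0, 1, 0, 8, 0, 1, 4, 0, 8] 1535 (.alt 9 (.pick 54 [18, 0, 0, 3, 0, 0, 0, 4, 0, 0, 3] 1791 (.alt 8 (.pick 150 [19, 0, 0, 3, 0, 0, 1, 0, 0, 1, 0] 1023 (.alt 10 (c_12) (.altEnd))) (.altEnd))) (.altEnd))) (.altEnd))) (.altEnd))) (.altEnd)))) (.altEnd))) (.altEnd))) (.altEnd))) (.altEnd))) (.altEnd))) (.altEnd))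

def c_14 : Cert :=
  .pick 368 [30, 16, 7, 4, 0, 0, 0, 7, 0, 0, 4] 1535 (.alt 9 (.pick 688 [32, 18, 9, 2, 0, 0, 0, 0, 0, 0, 0] 1023 (.alt 10 (.pick 464 [23, 21, 9, 5, 0, 1, 0, 0, 0, 1, 0] 1023 (.alt 10 (.done [0, 1, 2, 3, 4, 8, 7, 10, 9, 5, 6]) (.altEnd))) (.altEnd))) (.altEnd))

def c_15 : Cert :=
  .pick 540 [3, 9, 0, 0, 0, 1, 0, 1, 0, 0, 0] 1023 (.alt 10 (.pick 108 [3, 12, 0, 0, 1, 0, 0, 2, 1, 0, 19] 1535 (.alt 9 (.pick 396 [7, 9, 0, 0, 2, 3, 2, 0, 0, 19, 0] 1023 (.alt 10 (.pick 116 [5, 14, 0, 1, 0, 0, 0, 4, 3, 1, 0] 1023 (.alt 10 (.pick 404 [12, 10, 0, 1, 0, 5, 4, 0, 0, 0, 1] 1535 (.alt 9 (.pick 228 [14, 9, 0, 3, 1, 0, 0, 0, 0, 3, 1] 1791 (.alt 8 (.pick 804 [16, 18, 0, 4, 1, 0, 0, 0, 0, 0, 0] 1023 (.alt 10 (.pick 708 [27, 11, 0,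 5, 2, 1, 0, 0, 1, 0, 0] 1023 (.alt 10 (.pick 312 [0, 0, 8, 0, 0, 0, 8, 9, 0, 17, 0] 1023 (.alt 10 (.pick 216 [2, 2, 9, 0, 0, 10, 0, 0, 9, 0, 19] 1535 (.alt 9 (.pick 232 [24, 14, 4, 0, 0, 0, 0, 0, 4, 0, 0] 1023 (.alt 10 (.pick 424 [16, 17, 5, 0, 2, 0, 0, 0, 0, 0, 0] 1535 (.alt 9 (.pick 840 [25, 19, 10, 0, 2, 0, 0, 0, 0, 0, 0] 1023 (.alt 10 (c_14) (.altEnd))) (.altEnd))) (.altEnd))) (.altEnd))) (.altEnd))) (.altEnd))) (.altEnd))) (.altEnd))) (.altEnd))) (.altEnd))) (.altEnd))) (.altEnd))) (.altEnd))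

def c_16 : Cert :=
  .pick 326 [17, 0, 0, 5, 1, 6, 0, 3, 0, 0, 1] 1535 (.alt 9 (.pick 58 [15, 0, 3, 0, 0, 0, 0, 18, 7, 3, 8] 1983 (.alt 6 (.pick 154 [18, 0, 5, 0, 0, 0, 0, 0, 11, 6, 0] 1023 (.alt 10 (.pick 282 [19, 0, 4, 0, 0, 1, 1, 0, 0, 0, 0] 1535 (.alt 9 (.pick 554 [18, 0, 6, 0, 0, 0, 2, 8, 0, 0, 0] 1023 (.alt 10 (.pick 202 [24, 0, 8, 0, 2, 3, 0, 0, 0, 9, 2] 1791 (.alt 8 (.pick 178 [17, 0, 6, 3, 0, 0, 4, 0, 0, 8, 3] 1791 (.alt 8 (.pick 594 [29, 0, 6, 3, 0, 5, 0, 10, 3, 0, 0] 1023 (.alt 10 (.pick 226 [19, 0, 8, 2, 1, 0, 0, 0, 1, 0, 8] 1535 (.alt 9 (.pick 354 [24, 0, 8, 3, 2, 0, 0, 0, 0, 0, 0] 1023 (.alt 10 (.pick 898 [17, 0, 9, 4, 3, 1, 1, 0, 0, 0, 0] 1023 (.alt 10 (.pick 60 [0, 9, 0, 0, 0, 0, 0, 0, 17, 13, 18] 1919 (.alt 7 (.pick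 92 [1, 10, 0, 0, 0, 0, 0, 0, 0, 20, 17] 1791 (.alt 8 (c_15) (.altEnd))) (.altEnd))) (.altEnd))) (.altEnd))) (.altEnd))) (.altEnd))) (.altEnd))) (.altEnd))) (.altEnd))) (.altEnd))) (.altEnd))) (.altEnd))) (.altEnd))

def c_17 : Cert :=
  .pick 456 [8, 8, 7, 0, 2, 1, 0, 0, 0, 1, 0] 1023 (.alt 10 (.pick 368 [31, 17, 6, 3, 0, 0, 0, 8, 0, 3, 0] 1023 (.alt 10 (.pick 432 [11, 11, 9, 5, 0, 0, 0, 0, 0, 0, 0] 1535 (.alt 9 (.pick 720 [28, 21, 10, 4, 0, 0, 0, 0, 0, 0, 0] 1023 (.alt 10 (.done [0, 1, 2, 3, 4, 7, 8, 5, 6, 10, 9]) (.altEnd))) (.altEnd))) (.altEnd))) (.altEnd))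

def c_18 : Cert :=
  .pick 156 [1, 10, 0, 0, 0, 0, 0, 0, 21, 0, 17] 1535 (.alt 9 (.pick 284 [3, 10, 0, 0, 0, 1, 1, 0, 0, 0, 0] 1023 (.alt 10 (.pick 172 [3, 17, 0, 0, 1, 0, 2, 0, 0, 1, 19] 1791 (.alt 8 (.pick 588 [7, 14, 0, 0, 2, 3, 0, 2, 19, 0, 0] 1023 (.alt 10 (.pick 564 [30, 9, 0, 3, 0, 0, 4, 3, 17, 0, 0] 1023 (.alt 10 (.pick 212 [28, 15, 0, 4, 0, 5, 0, 0, 0, 4, 19] 1791 (.alt 8 (.pick 228 [14, 9, 0, 3, 0, 0, 0, 0, 0, 17, 0] 1023 (.alt 10 (.pick 356 [15, 10, 0, 4, 1, 0, 0, 0, 0, 0, 0] 1535 (.alt 9 (.pick 900 [15, 14, 0, 5, 2, 0, 0, 0, 0, 0, 0] 1023 (.alt 10 (.pick 184 [10, 18, 6, 0, 0, 0, 9, 0, 6, 8, 0] 1023 (.alt 10 (.pick 344 [12, 19, 4, 0, 0, 10, 0, 4, 0, 0, 8] 1535 (.alt 9 (.pick 232 [24, 14, 4, 0, 1, 0, 0, 0, 8, 0, 1] 1535 (.alt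 9 (.pick 808 [26, 18, 4, 0, 1, 0, 0, 0, 0, 0, 0] 1023 (.alt 10 (c_17) (.altEnd))) (.altEnd))) (.altEnd))) (.altEnd))) (.altEnd))) (.altEnd))) (.altEnd))) (.altEnd))) (.altEnd))) (.altEnd))) (.altEnd))) (.altEnd))) (.altEnd))

def c_19 : Cert :=
  .pick 294 [22, 0, 0, 3, 0, 0, 3, 2, 0, 0, 0] 1023 (.alt 10 (.pick 198 [19, 0, 0, 4, 2, 3, 0, 0, 4, 0, 2] 1535 (.alt 9 (.pick 154 [17, 0, 4, 0, 0, 4, 0, 0, 10, 18, 6] 1983 (.alt 6 (.pick 58 [16, 0, 5, 0, 0, 0, 0, 0, 0, 8, 9] 1791 (.alt 8 (.pick 538 [17, 0, 4, 0, 0, 0, 1, 1, 0, 0, 0] 1023 (.alt 10 (.pick 106 [19, 0, 8, 0, 1, 0, 0, 2, 1, 10, 0] 1023 (.alt 10 (.pick 394 [21, 0, 9, 0, 2, 2, 3, 0, 0, 0, 10] 1535 (.alt 9 (.pick 114 [17, 0, 8, 1, 0, 0, 0, 4, 3, 0, 1] 1535 (.alt 9 (.pick 402 [23, 0, 8,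 1, 0, 4, 5, 0, 0, 1, 0] 1023 (.alt 10 (.pick 226 [19, 0, 7, 3, 1, 0, 0, 0, 0, 1, 3] 1791 (.alt 8 (.pick 674 [29, 0, 8, 3, 2, 0, 0, 0, 0, 0, 0] 1023 (.alt 10 (.pick 834 [17, 0, 9, 4, 3, 1, 0, 1, 0, 0, 0] 1023 (.alt 10 (.pick 60 [0, 8, 0, 0, 0, 0, 0, 0, 8, 17, 18] 1983 (.alt 6 (c_18) (.altEnd))) (.altEnd))) (.altEnd))) (.altEnd))) (.altEnd))) (.altEnd))) (.altEnd))) (.altEnd))) (.altEnd))) (.altEnd))) (.altEnd))) (.altEnd))) (.altEnd))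

def c_20 : Cert :=
  .pick 649 [0, 13, 5, 0, 1, 1, 6, 0, 3, 0, 0] 1023 (.alt 10 (.pick 113 [0, 15, 10, 1, 0, 0, 0, 0, 3, 2, 1] 1919 (.alt 7 (.pick 785 [0, 15, 7, 3, 0, 3, 11, 5, 0, 0, 0] 1023 (.alt 10 (.pick 609 [0, 18, 10, 4, 1, 0, 0, 1, 5, 0, 0] 1023 (.alt 10 (.pick 417 [0, 19, 11, 6, 2, 0, 2, 0, 0, 11, 0] 1023 (.alt 10 (.pick 449 [0, 17, 9, 7, 3, 0, 0, 0, 0, 0, 0] 1535 (.alt 9 (.pick 46 [17, 0, 0, 0, 0, 0, 3, 3, 0, 0, 0] 1279 (.alt 8 (.pick 78 [13, 0, 0, 0, 2, 0, 0, 4, 0, 2, 0] 1023 (.alt 10 (.pick 142 [14, 0, 0, 0, 4, 1, 0, 0, 1, 0, 0] 1535 (.alt 9 (.pick 86 [18, 0, 0, 1, 0, 8, 0, 0, 8, 4, 1] 1919 (.alt 7 (.pick 54 [20, 0, 0, 3, 0, 0, 0, 0, 3, 0, 4] 1535 (.alt 9 (.pick 278 [21, 0, 0, 4, 0, 0, 1, 1, 0, 0, 0] 1023 (.alt 10 (.pick 166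 [19, 0, 0, 3, 1, 0, 2, 0, 5, 1, 0] 1023 (.alt 10 (c_16) (.altEnd))) (.altEnd))) (.altEnd))) (.altEnd))) (.altEnd))) (.altEnd))) (.alt 9 (.pick 142 [13, 0, 0, 0, 3, 0, 4, 0, 3, 0, 0] 1023 (.alt 10 (.pick 78 [14, 0, 0, 0, 3, 1, 0, 0, 0, 1, 0] 1791 (.alt 8 (.pick 54 [19, 0, 0, 2, 0, 0, 8, 0, 8, 2, 3] 1919 (.alt 7 (.pick 86 [19, 0, 0, 1, 0, 0, 0, 0, 1, 5, 0] 1023 (.alt 10 (.pick 278 [21, 0, 0, 2, 0, 1, 0, 1, 0, 0, 0] 1535 (.alt 9 (c_19) (.altEnd))) (.altEnd))) (.altEnd))) (.altEnd))) (.altEnd))) (.altEnd)))) (.altEnd))) (.altEnd))) (.altEnd))) (.altEnd))) (.altEnd))) (.altEnd))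

def c_21 : Cert :=
  .pick 45 [0, 9, 0, 0, 11, 0, 10, 9, 0, 0, 0] 255 (.alt 8 (.pick 525 [0, 7, 0, 0, 12, 0, 8, 0, 0, 0, 7] 1919 (.alt 7 (.pick 77 [0, 9, 0, 0, 13, 1, 0, 0, 1, 0, 0] 1023 (.alt 10 (.pick 549 [0, 6, 0, 1, 0, 0, 13, 1, 2, 0, 9] 2031 (.alt 4 (.pick 85 [0, 6, 0, 1, 0, 0, 0, 0, 6, 0, 1] 1919 (.alt 7 (.pick 277 [0, 7, 0, 4, 0, 1, 0, 0, 0, 1, 0] 1023 (.alt 10 (.pick 165 [0, 14, 0, 4, 1, 0, 1, 0, 5, 2, 0] 1023 (.alt 10 (.pick 325 [0, 9, 0, 4, 1, 6, 0, 2, 0, 0, 1] 1535 (.alt 9 (.pick 57 [0, 12, 4, 0, 0, 0, 0, 17, 7, 4, 12] 1983 (.alt 6 (.pick 553 [0, 12, 5, 0, 0, 0, 0, 7, 8, 0, 0] 1023 (.alt 10 (.pick 537 [0, 11, 6, 0, 0, 0, 1, 8, 0, 0, 0] 1791 (.alt 8 (.pick 153 [0, 12, 6, 0, 0, 2, 2, 0, 0, 0, 0] 1023 (.alt 10 (.pick 201 [0,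 12, 7, 0, 0, 3, 0, 0, 0, 10, 0] 1791 (.alt 8 (c_6) (.altEnd))) (.altEnd))) (.altEnd))) (.altEnd))) (.altEnd))) (.altEnd))) (.altEnd))) (.altEnd))) (.altEnd))) (.altEnd))) (.altEnd))) (.altEnd))) (.alt 9 (.pick 269 [0, 6, 0, 0, 12, 0, 0, 9, 0, 0, 6] 1983 (.alt 6 (.pick 141 [0, 10, 0, 0, 13, 1, 0, 0, 0, 1, 0] 1023 (.alt 10 (.pick 165 [0, 11, 0, 0, 0, 0, 13, 0, 11, 2, 0] 2031 (.alt 4 (.pick 293 [0, 7, 0, 2, 0, 0, 2, 0, 0, 3, 0] 1023 (.alt 10 (.pick 277 [0, 7, 0, 3, 0, 0, 3, 1, 0, 0, 0] 1535 (.alt 9 (.pick 85 [0, 8, 0, 4, 0, 2, 0, 2, 0, 0, 0] 1023 (.alt 10 (.pick 197 [0, 7, 0, 4, 0, 3, 0, 0, 5, 0, 0] 1535 (.alt 9 (.pick 537 [0, 9, 2, 0, 0, 7, 15, 9, 2, 0, 0] 1023 (.alt 10 (.pick 297 [0, 12, 4, 0, 0, 0, 7, 18, 0, 8, 4] 2031 (.alt 4 (.pick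 89 [0, 12, 3, 0, 0, 0, 0, 0, 0, 1, 1] 1919 (.alt 7 (.pick 105 [0, 18, 9, 0, 0, 0, 0, 0, 1, 10, 0] 1023 (.alt 10 (c_13) (.altEnd))) (.altEnd))) (.altEnd))) (.altEnd))) (.altEnd))) (.altEnd))) (.altEnd))) (.altEnd))) (.altEnd))) (.altEnd))) (.altEnd))) (.alt 10 (.pick 293 [0, 4, 0, 0, 0, 0, 11, 9, 0, 4, 0] 2031 (.alt 4 (.pick 533 [0, 3, 0, 13, 0, 0, 0, 3, 0, 0, 8] 1983 (.alt 6 (.pick 149 [0, 4, 0, 14, 0, 1, 0, 0, 1, 0, 0] 1023 (.alt 10 (.pick 165 [0, 12, 0, 3, 0, 0, 14, 0, 2, 0, 0] 1535 (.alt 9 (.pick 141 [0, 13, 0, 0, 1, 0, 0, 0, 13, 0, 1] 1983 (.alt 6 (.pick 269 [0, 11, 0, 0, 4, 4, 0, 0, 0, 0, 5] 1535 (.alt 9 (.pick 325 [0, 9, 0, 0, 4, 5, 0, 1, 0, 0, 0] 1023 (.alt 10 (.pick 153 [0, 9, 2, 0, 0, 17, 2, 0, 0, 9, 4] 1791 (.alt 8 (.pick 297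 [0, 12, 2, 0, 0, 0, 0, 0, 0, 2, 8] 1983 (.alt 6 (.pick 57 [0, 14, 8, 0, 0, 0, 0, 1, 0, 0, 9] 1535 (.alt 9 (.pick 89 [0, 13, 5, 0, 0, 0, 0, 2, 1, 0, 0] 1023 (.alt 10 (c_20) (.altEnd))) (.altEnd))) (.altEnd))) (.altEnd))) (.altEnd))) (.altEnd))) (.altEnd))) (.altEnd))) (.altEnd))) (.altEnd))) (.altEnd))) (.altEnd))))

def cert : Cert :=
  .pick 15 [0, 0, 0, 0] 15 (.altNew (.free (.pick 39 [0, 0, 0, 0, 0, 0] 63 (.altNew (.pick 43 [0, 0, 0, 0, 1, 0, 0] 127 (.altNew (.pick 135 [0, 0, 0, 0, 2, 0, 1, 0] 255 (.altNew (.pick 75 [0, 0, 2, 0, 3, 1, 0, 1, 0] 255 (.alt 8 (.pick 51 [0, 0, 3, 2, 0, 0, 3, 2, 0] 255 (.alt 8 (.pick 83 [0, 0, 4, 1, 0, 0, 0, 0, 0] 383 (.alt 7 (.pick 45 [0, 4, 0, 0, 6, 0, 5, 4, 0] 255 (.alt 8 (.pick 46 [0, 0, 0, 0, 7, 0,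 6, 5, 0] 511 (.altNew (.pick 519 [0, 0, 0, 0, 8, 0, 7, 5, 5, 0] 1023 (.altNew (.pick 523 [0, 0, 0, 0, 9, 1, 5, 7, 5, 0, 0] 2047 (.altEnd)))))) (.altNew (.pick 519 [0, 0, 0, 0, 7, 0, 6, 4, 4, 0] 1023 (.altNew (.pick 523 [0, 0, 0, 0, 8, 1, 4, 6, 4, 0, 0] 2047 (.altEnd))))))) (.altNew (.pick 519 [0, 0, 0, 6, 0, 5, 0, 3, 3, 0] 1023 (.altNew (.pick 523 [0, 0, 0, 0, 1, 5, 1, 5, 3, 0, 0] 2047 (.altEnd))))))) (.altNew (.pick 519 [0, 0, 0, 5, 0, 0, 4, 2, 2, 0] 1023 (.altNew (.pick 523 [0, 0, 0, 0, 1, 1, 2, 4, 2, 0, 0] 2047 (.altEnd))))))) (.altNew (.pick 519 [0, 0, 0, 0, 4, 3, 0, 1, 1, 0] 1023 (.altNew (.pick 267 [0, 0, 2, 0, 5, 3, 1, 2, 0, 1, 0] 1023 (.alt 10 (.pick 1059 [0, 0, 1, 0, 0, 0, 5, 4, 0, 1, 0] 2031 (.alt 4 (.pick 291 [0, 0, 4, 1, 0,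 0, 6, 4, 0, 0, 0] 1535 (.alt 9 (.pick 275 [0, 0, 5, 2, 0, 0, 0, 5, 0, 0, 1] 1983 (.alt 6 (.pick 147 [0, 0, 6, 7, 0, 2, 0, 0, 0, 0, 2] 1535 (.alt 9 (.pick 195 [0, 0, 7, 6, 0, 8, 0, 0, 1, 0, 0] 1023 (.alt 10 (c_21) (.altEnd))) (.altEnd))) (.altEnd))) (.altEnd))) (.altEnd))) (.altEnd))))))))))))))))

theorem cert_ok : check 4 11 bad std cert none 4 [] = true := by decide +kernel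

theorem std_ok : ∀ S ∈ std, S < 2 ^ 11 ∧ pc 11 S = 5 := by decide +kernel

theorem std_nodup : std.Nodup := by decide +kernel

theorem std_length : std.length = 66 := by decide +kernel

end Cfsg.Agent.Helper8.Cert11
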