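import Cfsg.Agent.Lib.Helper8.Forcing

set_option autoImplicit false
set_option maxRecDepth 100000

/-! Machine-generated forcing certificate for S(5,6,12). -/

namespace Cfsg.Agent.Helper8.Cert12

open Cfsg.Agent.Helper8.Forcing

def std : List ℕ :=
  [63, 207, 243, 252, 343, 365, 378, 414, 427, 437, 473, 486, 603, 622, 629, 669, 679, 698, 726, 745, 783, 822, 825, 860, 867, 915, 940, 965, 970, 1008, 1117, 1131, 1142, 1175, 1198, 1209, 1242, 1253, 1307, 1319, 1340, 1358, 1393, 1421, 1458, 1475, 1492, 1512, 1566, 1581, 1587, 1607, 1656, 1675, 1716, 1740, 1745, 1762, 1813, 1834, 1865, 1874, 1892, 1926, 1944, 1953, 2142, 2151, 2169, 2203, 2221, 2230, 2261, 2282, 2333, 2350, 2355, 2379, 2420, 2439, 2488, 2508, 2514, 2529, 2583, 2603,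 2620, 2637, 2674, 2702, 2737, 2755, 2776, 2788, 2842, 2853, 2886, 2897, 2920, 2953, 2964, 2978, 3087, 3125, 3130, 3155, 3180, 3228, 3235, 3270, 3273, 3312, 3350, 3369, 3397, 3416, 3426, 3466, 3473, 3492, 3609, 3622, 3658, 3668, 3681, 3717, 3730, 3752, 3843, 3852, 3888, 4032]

def bad (i : ℕ) : Bool := i == 1 || i == 5

def c_0 : Cert :=
  .pick 738 [20, 0, 19, 7, 4, 0, 0, 0, 7, 0, 0, 4] 3071 (.alt 10 (.pick 1378 [26, 0, 20, 9, 2, 0, 0, 0, 0, 0, 0, 0] 2047 (.alt 11 (.pick 930 [34, 0, 17, 9, 5, 0, 1, 0, 0, 0, 1, 0] 2047 (.alt 11 (.done [0, 1, 2, 3, 4, 5, 6, 7, 8, 9, 10, 11]) (.altEnd))) (.altEnd))) (.altEnd))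

def c_1 : Cert :=
  .pick 1082 [3, 0, 11, 0, 0, 0, 1, 0, 1, 0, 0, 0] 2047 (.alt 11 (.pick 218 [6, 0, 9, 0, 0, 1, 0, 0, 2, 1, 0, 20] 3071 (.alt 10 (.pick 794 [6, 0, 11, 0, 0, 2, 3, 2, 0, 0, 19, 0] 2047 (.alt 11 (.pick 234 [10, 0, 9, 0, 1, 0, 0, 0, 4, 3, 1, 0] 2047 (.alt 11 (.pick 810 [8, 0, 13, 0, 1, 0, 5, 4, 0, 0, 0, 1] 3071 (.alt 10 (.pick 458 [10, 0, 11, 0, 3, 1, 0, 0, 0, 0, 3, 1] 3583 (.alt 9 (.pick 1610 [16, 0, 19, 0, 4, 1, 0, 0, 0, 0, 0, 0] 2047 (.alt 11 (.pick 1418 [54, 0, 9, 0, 5, 2, 1, 0, 0, 1, 0, 0] 2047 (.alt 11 (.pick 626 [0, 0, 0, 8, 0, 0, 0, 8, 9, 0, 19, 0] 2047 (.alt 11 (.pick 434 [2, 0, 2, 9, 0, 0, 10, 0, 0, 9, 0, 19] 3071 (.alt 10 (.pick 466 [15, 0, 16, 4, 0, 0, 0, 0, 0, 4, 0, 0] 2047 (.alt 11 (.pick 850 [26, 0,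 14, 5, 0, 2, 0, 0, 0, 0, 0, 0] 3071 (.alt 10 (.pick 1682 [26, 0, 14, 10, 0, 2, 0, 0, 0, 0, 0, 0] 2047 (.alt 11 (c_0) (.altEnd))) (.altEnd))) (.altEnd))) (.altEnd))) (.altEnd))) (.altEnd))) (.altEnd))) (.altEnd))) (.altEnd))) (.altEnd))) (.altEnd))) (.altEnd))) (.altEnd))

def c_2 : Cert :=
  .pick 654 [14, 0, 0, 0, 4, 2, 3, 0, 5, 0, 2, 0] 2047 (.alt 11 (.pick 118 [16, 0, 0, 4, 0, 0, 0, 16, 16, 4, 0, 7] 3071 (.alt 10 (.pick 182 [18, 0, 0, 4, 0, 0, 0, 0, 7, 18, 0, 0] 2047 (.alt 11 (.pick 310 [20, 0, 0, 4, 0, 0, 1, 0, 0, 0, 1, 0] 3583 (.alt 9 (.pick 214 [22, 0, 0, 9, 0, 1, 0, 0, 9, 0, 2, 1] 3583 (.alt 9 (.pick 1302 [24, 0, 0, 5, 0, 1, 3, 10, 0, 1, 0, 0] 2047 (.alt 11 (.pick 230 [26, 0, 0, 8, 1, 0, 0, 0, 0, 1, 4, 3] 3839 (.alt 8 (.pick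 1574 [28, 0, 0, 9, 3, 0, 5, 9, 3, 0, 0, 0] 2047 (.alt 11 (.pick 1222 [30, 0, 0, 8, 3, 1, 0, 0, 1, 3, 0, 0] 2047 (.alt 11 (.pick 838 [32, 0, 0, 9, 4, 2, 0, 2, 0, 0, 9, 0] 2047 (.alt 11 (.pick 902 [34, 0, 0, 9, 5, 3, 0, 0, 0, 0, 0, 0] 3071 (.alt 10 (.pick 122 [0, 0, 9, 0, 0, 0, 0, 36, 0, 14, 9, 0] 3839 (.alt 8 (.pick 186 [2, 0, 9, 0, 0, 0, 0, 0, 0, 0, 2, 9] 3583 (.alt 9 (c_1) (.altEnd))) (.altEnd))) (.altEnd))) (.altEnd))) (.altEnd))) (.altEnd))) (.altEnd))) (.altEnd))) (.altEnd))) (.altEnd))) (.altEnd))) (.altEnd))) (.altEnd))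

def c_3 : Cert :=
  .pick 721 [0, 5, 5, 6, 0, 0, 0, 0, 8, 0, 0, 0] 3071 (.alt 10 (.pick 849 [0, 25, 15, 4, 0, 2, 0, 0, 0, 0, 0, 0] 2047 (.alt 11 (.pick 1425 [0, 25, 19, 10, 0, 3, 1, 0, 0, 1, 0, 0] 2047 (.alt 11 (.pick 481 [0, 10, 10, 9, 4, 0, 0, 0, 0, 9, 4, 0] 2047 (.alt 11 (.pick 1633 [0, 31, 20, 7, 3, 0, 0, 3, 5, 0, 0, 0] 2047 (.alt 11 (.pick 929 [0, 34, 19, 7, 5, 0, 1, 0, 0, 0, 0, 1] 3071 (.alt 10 (.pick 94 [0, 0, 0, 0, 0, 0, 0, 0, 0, 0, 0, 0] 2047 (.alt 11 (.pick 158 [2, 0, 0, 0, 0, 2, 0, 0, 0, 2, 2, 0] 3839 (.alt 8 (.pick 542 [4, 0, 0, 0, 0, 4, 1, 0, 0, 0, 0, 1] 3071 (.alt 10 (.pick 110 [6, 0, 0, 0, 2, 0, 0, 6, 6, 0, 6, 2] 3583 (.alt 9 (.pick 174 [8, 0, 0, 0, 2, 0, 0, 0, 2, 0, 0, 8] 3071 (.alt 10 (.pick 302 [10, 0, 0, 0, 3,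 0, 1, 0, 0, 1, 0, 0] 2047 (.alt 11 (.pick 334 [12, 0, 0, 0, 4, 0, 0, 4, 0, 2, 0, 0] 3071 (.alt 10 (c_2) (.altEnd))) (.altEnd))) (.altEnd))) (.altEnd))) (.altEnd))) (.altEnd))) (.altEnd))) (.altEnd))) (.altEnd))) (.altEnd))) (.altEnd))) (.altEnd))) (.altEnd))

def c_4 : Cert :=
  .pick 1669 [0, 24, 0, 9, 4, 3, 1, 0, 1, 0, 0, 0] 2047 (.alt 11 (.pick 121 [0, 0, 9, 0, 0, 0, 0, 26, 0, 9, 17, 0] 2047 (.alt 11 (.pick 185 [0, 2, 9, 0, 0, 0, 0, 0, 9, 2, 0, 0] 3071 (.alt 10 (.pick 313 [0, 2, 10, 0, 0, 0, 1, 0, 0, 0, 0, 1] 3583 (.alt 9 (.pick 217 [0, 6, 9, 0, 0, 1, 0, 0, 0, 19, 1, 2] 3839 (.alt 8 (.pick 1561 [0, 22, 9, 0, 0, 1, 21, 2, 1, 0, 0, 0] 2047 (.alt 11 (.pick 233 [0, 10, 9, 0, 1, 0, 0, 0, 1, 0, 3, 4] 3583 (.alt 9 (.pick 1321 [0, 12,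 16, 0, 3, 0, 20, 4, 0, 3, 0, 0] 2047 (.alt 11 (.pick 1225 [0, 10, 11, 0, 3, 1, 0, 0, 3, 1, 0, 0] 2047 (.alt 11 (.pick 841 [0, 15, 10, 0, 4, 2, 0, 2, 0, 0, 0, 19] 3071 (.alt 10 (.pick 905 [0, 16, 11, 0, 5, 3, 0, 0, 0, 0, 0, 0] 2047 (.alt 11 (.pick 369 [0, 10, 18, 6, 0, 0, 0, 6, 0, 7, 0, 9] 3071 (.alt 10 (.pick 689 [0, 12, 19, 5, 0, 0, 5, 0, 8, 0, 9, 0] 2047 (.alt 11 (c_3) (.altEnd))) (.altEnd))) (.altEnd))) (.altEnd))) (.altEnd))) (.altEnd))) (.altEnd))) (.altEnd))) (.altEnd))) (.altEnd))) (.altEnd))) (.altEnd))) (.altEnd))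

def c_5 : Cert :=
  .pick 557 [0, 9, 0, 0, 2, 0, 0, 2, 0, 0, 0, 9] 3071 (.alt 10 (.pick 173 [0, 9, 0, 0, 3, 0, 1, 0, 1, 0, 0, 0] 2047 (.alt 11 (.pick 589 [0, 6, 0, 0, 4, 1, 0, 4, 2, 0, 1, 0] 2047 (.alt 11 (.pick 397 [0, 11, 0, 0, 4, 1, 3, 0, 0, 5, 0, 1] 3071 (.alt 10 (.pick 117 [0, 16, 0, 4, 0, 0, 0, 16, 4, 0, 7, 15] 3583 (.alt 9 (.pick 181 [0, 17, 0, 3, 0, 0, 0, 0, 0, 0, 15, 3] 3839 (.alt 8 (.pick 1077 [0, 20, 0, 5, 0, 0, 1, 0, 0, 1, 0, 0] 2047 (.alt 11 (.pick 213 [0, 19, 0, 9, 0, 1, 0, 0, 1, 2, 10, 0] 2047 (.alt 11 (.pick 789 [0, 24, 0, 9, 0, 2, 3, 2, 0, 0, 0, 9] 3071 (.alt 10 (.pick 229 [0, 21, 0, 7, 1, 0, 0, 0, 3, 4, 0, 1] 3071 (.alt 10 (.pick 805 [0, 27, 0, 9, 1, 0, 5, 4, 0, 0, 1, 0] 2047 (.alt 11 (.pick 453 [0, 30, 0, 7,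 3, 1, 0, 0, 0, 0, 1, 3] 3583 (.alt 9 (.pick 1349 [0, 31, 0, 8, 3, 2, 0, 0, 0, 0, 0, 0] 2047 (.alt 11 (c_4) (.altEnd))) (.altEnd))) (.altEnd))) (.altEnd))) (.altEnd))) (.altEnd))) (.altEnd))) (.altEnd))) (.altEnd))) (.altEnd))) (.altEnd))) (.altEnd))) (.altEnd))

def c_6 : Cert :=
  .pick 1426 [25, 0, 19, 10, 0, 3, 1, 0, 0, 1, 0, 0] 2047 (.alt 11 (.pick 482 [10, 0, 10, 9, 4, 0, 0, 0, 0, 9, 4, 0] 2047 (.alt 11 (.pick 1634 [31, 0, 20, 7, 3, 0, 0, 3, 5, 0, 0, 0] 2047 (.alt 11 (.pick 930 [34, 0, 19, 7, 5, 0, 1, 0, 0, 0, 0, 1] 3071 (.alt 10 (.done [0, 1, 2, 3, 4, 5, 7, 6, 10, 11, 8, 9]) (.altEnd))) (.altEnd))) (.altEnd))) (.altEnd))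

def c_7 : Cert :=
  .pick 186 [2, 0, 9, 0, 0, 0, 0, 0, 9, 2, 0, 0] 3071 (.alt 10 (.pick 314 [2, 0, 10, 0, 0, 0, 1, 0, 0, 0, 0, 1] 3583 (.alt 9 (.pick 218 [6, 0, 9, 0, 0, 1, 0, 0, 0, 19, 1, 2] 3839 (.alt 8 (.pick 1562 [44, 0, 9, 0, 0, 1, 21, 2, 1, 0, 0, 0] 2047 (.alt 11 (.pick 234 [10, 0, 9, 0, 1, 0, 0, 0, 1, 0, 3, 4] 3583 (.alt 9 (.pick 1322 [12, 0, 16, 0, 3, 0, 20, 4, 0, 3, 0, 0] 2047 (.alt 11 (.pick 1226 [10, 0, 11, 0, 3, 1, 0, 0, 3, 1, 0, 0] 2047 (.alt 11 (.pick 842 [15, 0, 10, 0, 4, 2, 0, 2, 0, 0, 0, 19] 3071 (.alt 10 (.pick 906 [16, 0, 11, 0, 5, 3, 0, 0, 0, 0, 0, 0] 2047 (.alt 11 (.pick 370 [10, 0, 18, 6, 0, 0, 0, 6, 0, 7, 0, 9] 3071 (.alt 10 (.pick 690 [12, 0, 19, 5, 0, 0, 5, 0, 8, 0, 9, 0] 2047 (.alt 11 (.pick 722 [5, 0,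 5, 6, 0, 0, 0, 0, 8, 0, 0, 0] 3071 (.alt 10 (.pick 850 [26, 0, 15, 4, 0, 2, 0, 0, 0, 0, 0, 0] 2047 (.alt 11 (c_6) (.altEnd))) (.altEnd))) (.altEnd))) (.altEnd))) (.altEnd))) (.altEnd))) (.altEnd))) (.altEnd))) (.altEnd))) (.altEnd))) (.altEnd))) (.altEnd))) (.altEnd))

def c_8 : Cert :=
  .pick 590 [12, 0, 0, 0, 4, 0, 0, 4, 2, 0, 0, 0] 2047 (.alt 11 (.pick 398 [14, 0, 0, 0, 4, 2, 3, 0, 0, 5, 0, 2] 3071 (.alt 10 (.pick 118 [16, 0, 0, 4, 0, 0, 0, 16, 4, 0, 7, 16] 3583 (.alt 9 (.pick 182 [18, 0, 0, 4, 0, 0, 0, 0, 0, 0, 18, 4] 3839 (.alt 8 (.pick 1078 [20, 0, 0, 4, 0, 0, 1, 0, 0, 1, 0, 0] 2047 (.alt 11 (.pick 214 [22, 0, 0, 9, 0, 1, 0, 0, 1, 2, 10, 0] 2047 (.alt 11 (.pick 790 [24, 0, 0, 9, 0, 2, 3, 2, 0, 0, 0, 9] 3071 (.alt 10 (.pick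 230 [26, 0, 0, 8, 1, 0, 0, 0, 3, 4, 0, 1] 3071 (.alt 10 (.pick 806 [28, 0, 0, 8, 1, 0, 5, 4, 0, 0, 1, 0] 2047 (.alt 11 (.pick 454 [30, 0, 0, 7, 3, 1, 0, 0, 0, 0, 1, 3] 3583 (.alt 9 (.pick 1350 [32, 0, 0, 8, 3, 2, 0, 0, 0, 0, 0, 0] 2047 (.alt 11 (.pick 1670 [34, 0, 0, 9, 4, 3, 1, 0, 1, 0, 0, 0] 2047 (.alt 11 (.pick 122 [0, 0, 9, 0, 0, 0, 0, 36, 0, 9, 17, 0] 2047 (.alt 11 (c_7) (.altEnd))) (.altEnd))) (.altEnd))) (.altEnd))) (.altEnd))) (.altEnd))) (.altEnd))) (.altEnd))) (.altEnd))) (.altEnd))) (.altEnd))) (.altEnd))) (.altEnd))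

def c_9 : Cert :=
  .pick 433 [0, 2, 2, 9, 0, 0, 10, 0, 0, 9, 0, 19] 3071 (.alt 10 (.pick 465 [0, 15, 16, 4, 0, 0, 0, 0, 0, 4, 0, 0] 2047 (.alt 11 (.pick 849 [0, 25, 14, 5, 0, 2, 0, 0, 0, 0, 0, 0] 3071 (.alt 10 (.pick 1681 [0, 27, 14, 10, 0, 2, 0, 0, 0, 0, 0, 0] 2047 (.alt 11 (.pick 737 [0, 20, 19, 7, 4, 0, 0, 0, 7, 0, 0, 4] 3071 (.alt 10 (.pick 1377 [0, 26, 20, 9, 2, 0, 0, 0, 0, 0, 0, 0] 2047 (.alt 11 (.pick 929 [0, 34, 17, 9, 5, 0, 1, 0, 0, 0, 1, 0] 2047 (.alt 11 (.pick 94 [0, 0, 0, 0, 0, 0, 0, 0, 0, 0, 0, 0] 3071 (.alt 10 (.pick 158 [2, 0, 0, 0, 0, 2, 0, 0, 2, 0, 0, 2] 3583 (.alt 9 (.pick 286 [4, 0, 0, 0, 0, 4, 1, 0, 0, 0, 1, 0] 2047 (.alt 11 (.pick 110 [6, 0, 0, 0, 2, 0, 0, 6, 0, 6, 2, 6] 3839 (.alt 8 (.pick 174 [8, 0, 0, 0,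 2, 0, 0, 0, 0, 2, 8, 0] 2047 (.alt 11 (.pick 558 [10, 0, 0, 0, 3, 0, 1, 0, 1, 0, 0, 0] 3071 (.alt 10 (c_8) (.altEnd))) (.altEnd))) (.altEnd))) (.altEnd))) (.altEnd))) (.altEnd))) (.altEnd))) (.altEnd))) (.altEnd))) (.altEnd))) (.altEnd))) (.altEnd))) (.altEnd))

def c_10 : Cert :=
  .pick 837 [0, 29, 0, 9, 4, 2, 0, 2, 0, 0, 9, 0] 2047 (.alt 11 (.pick 901 [0, 29, 0, 9, 5, 3, 0, 0, 0, 0, 0, 0] 3071 (.alt 10 (.pick 121 [0, 0, 9, 0, 0, 0, 0, 26, 0, 14, 9, 0] 3839 (.alt 8 (.pick 185 [0, 2, 9, 0, 0, 0, 0, 0, 0, 0, 2, 9] 3583 (.alt 9 (.pick 1081 [0, 3, 11, 0, 0, 0, 1, 0, 1, 0, 0, 0] 2047 (.alt 11 (.pick 217 [0, 6, 9, 0, 0, 1, 0, 0, 2, 1, 0, 20] 3071 (.alt 10 (.pick 793 [0, 6, 11, 0, 0, 2, 3, 2, 0, 0, 19, 0] 2047 (.alt 11 (.pick 233 [0,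 10, 9, 0, 1, 0, 0, 0, 4, 3, 1, 0] 2047 (.alt 11 (.pick 809 [0, 8, 13, 0, 1, 0, 5, 4, 0, 0, 0, 1] 3071 (.alt 10 (.pick 457 [0, 10, 11, 0, 3, 1, 0, 0, 0, 0, 3, 1] 3583 (.alt 9 (.pick 1609 [0, 16, 19, 0, 4, 1, 0, 0, 0, 0, 0, 0] 2047 (.alt 11 (.pick 1417 [0, 29, 9, 0, 5, 2, 1, 0, 0, 1, 0, 0] 2047 (.alt 11 (.pick 625 [0, 0, 0, 8, 0, 0, 0, 8, 9, 0, 19, 0] 2047 (.alt 11 (c_9) (.altEnd))) (.altEnd))) (.altEnd))) (.altEnd))) (.altEnd))) (.altEnd))) (.altEnd))) (.altEnd))) (.altEnd))) (.altEnd))) (.altEnd))) (.altEnd))) (.altEnd))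

def c_11 : Cert :=
  .pick 557 [0, 8, 0, 0, 0, 0, 0, 14, 14, 0, 0, 8] 4031 (.alt 6 (.pick 301 [0, 8, 0, 0, 2, 0, 0, 2, 0, 0, 20, 0] 2047 (.alt 11 (.pick 173 [0, 9, 0, 0, 3, 0, 1, 0, 0, 1, 0, 0] 3071 (.alt 10 (.pick 333 [0, 12, 0, 0, 4, 1, 0, 4, 0, 2, 0, 1] 3071 (.alt 10 (.pick 653 [0, 14, 0, 0, 4, 1, 3, 0, 5, 0, 1, 0] 2047 (.alt 11 (.pick 117 [0, 16, 0, 4, 0, 0, 0, 16, 15, 4, 0, 7] 3071 (.alt 10 (.pick 181 [0, 17, 0, 3, 0, 0, 0, 0, 7, 15, 0, 0] 2047 (.alt 11 (.pick 309 [0, 19, 0, 5, 0, 0, 1, 0, 0, 0, 1, 0] 3583 (.alt 9 (.pick 213 [0, 19, 0, 9, 0, 1, 0, 0, 9, 0, 2, 1] 3583 (.alt 9 (.pick 1301 [0, 14, 0, 5, 0, 1, 3, 10, 0, 1, 0, 0] 2047 (.alt 11 (.pick 229 [0, 21, 0, 7, 1, 0, 0, 0, 0, 1, 4, 3] 3839 (.alt 8 (.pick 1573 [0, 24, 0,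 8, 3, 0, 5, 8, 3, 0, 0, 0] 2047 (.alt 11 (.pick 1221 [0, 30, 0, 8, 3, 1, 0, 0, 1, 3, 0, 0] 2047 (.alt 11 (c_10) (.altEnd))) (.altEnd))) (.altEnd))) (.altEnd))) (.altEnd))) (.altEnd))) (.altEnd))) (.altEnd))) (.altEnd))) (.altEnd))) (.altEnd))) (.altEnd))) (.altEnd))

def c_12 : Cert :=
  .pick 1804 [18, 18, 0, 0, 5, 2, 0, 0, 0, 0, 0, 0] 2047 (.alt 11 (.pick 372 [20, 20, 0, 6, 0, 0, 0, 9, 0, 6, 8, 0] 2047 (.alt 11 (.pick 692 [22, 22, 0, 4, 0, 0, 10, 0, 4, 0, 0, 8] 3071 (.alt 10 (.pick 468 [24, 24, 0, 4, 0, 1, 0, 0, 0, 8, 0, 1] 3071 (.alt 10 (.pick 1620 [26, 26, 0, 4, 0, 1, 0, 0, 0, 0, 0, 0] 2047 (.alt 11 (.pick 916 [8, 8, 0, 7, 0, 2, 1, 0, 0, 0, 1, 0] 2047 (.alt 11 (.pick 740 [31, 31, 0, 6, 3, 0, 0, 0, 8, 0, 3, 0] 2047 (.alt 11 (.pick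 868 [11, 11, 0, 9, 5, 0, 0, 0, 0, 0, 0, 0] 3071 (.alt 10 (.pick 1444 [34, 34, 0, 10, 4, 0, 0, 0, 0, 0, 0, 0] 2047 (.alt 11 (.pick 93 [0, 0, 0, 0, 0, 17, 0, 17, 14, 0, 0, 0] 1023 (.alt 10 (.pick 541 [0, 1, 0, 0, 0, 16, 0, 0, 15, 0, 0, 16] 3967 (.alt 7 (.pick 285 [0, 4, 0, 0, 0, 18, 1, 0, 0, 0, 1, 0] 2047 (.alt 11 (.pick 301 [0, 7, 0, 0, 0, 0, 0, 7, 0, 14, 19, 0] 4031 (.alt 6 (c_5) (.altEnd))) (.altEnd))) (.altEnd))) (.alt 11 (.pick 285 [0, 3, 0, 0, 0, 17, 0, 0, 0, 15, 3, 0] 3967 (.alt 7 (.pick 541 [0, 2, 0, 0, 0, 17, 1, 0, 0, 0, 0, 1] 3071 (.alt 10 (c_11) (.altEnd))) (.altEnd))) (.altEnd)))) (.altEnd))) (.altEnd))) (.altEnd))) (.altEnd))) (.altEnd))) (.altEnd))) (.altEnd))) (.altEnd))) (.altEnd))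

def c_13 : Cert :=
  .pick 1187 [0, 0, 19, 6, 3, 0, 5, 0, 9, 3, 0, 0] 2047 (.alt 11 (.pick 451 [0, 0, 16, 8, 2, 1, 0, 0, 0, 1, 0, 8] 3071 (.alt 10 (.pick 707 [0, 0, 17, 8, 3, 2, 0, 0, 0, 0, 0, 0] 2047 (.alt 11 (.pick 1795 [0, 0, 19, 9, 4, 3, 1, 1, 0, 0, 0, 0] 2047 (.alt 11 (.pick 124 [0, 0, 0, 0, 0, 0, 0, 0, 0, 0, 0, 0] 3967 (.alt 7 (.pick 316 [2, 2, 0, 0, 0, 0, 0, 0, 0, 2, 0, 2] 3071 (.alt 10 (.pick 572 [4, 4, 0, 0, 0, 0, 1, 1, 0, 0, 0, 0] 2047 (.alt 11 (.pick 348 [6, 6, 0, 0, 0, 1, 0, 2, 0, 0, 1, 6] 3583 (.alt 9 (.pick 1180 [8, 8, 0, 0, 0, 2, 3, 0, 2, 8, 0, 0] 2047 (.alt 11 (.pick 1132 [10, 10, 0, 0, 3, 0, 0, 4, 3, 10, 0, 0] 2047 (.alt 11 (.pick 428 [14, 14, 0, 0, 4, 0, 5, 0, 0, 0, 4, 13] 3583 (.alt 9 (.pick 460 [14, 14, 0, 0,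 3, 0, 0, 0, 0, 0, 13, 0] 2047 (.alt 11 (.pick 716 [14, 14, 0, 0, 4, 1, 0, 0, 0, 0, 0, 0] 3071 (.alt 10 (c_12) (.altEnd))) (.altEnd))) (.altEnd))) (.altEnd))) (.altEnd))) (.altEnd))) (.altEnd))) (.altEnd))) (.altEnd))) (.altEnd))) (.altEnd))) (.altEnd))) (.altEnd))

def c_14 : Cert :=
  .pick 1051 [0, 0, 1, 0, 0, 1, 0, 6, 0, 0, 0, 4] 3839 (.alt 8 (.pick 155 [0, 0, 2, 0, 0, 2, 1, 0, 0, 1, 0, 0] 2047 (.alt 11 (.pick 1099 [0, 0, 4, 0, 1, 0, 0, 4, 1, 2, 0, 6] 4063 (.alt 5 (.pick 171 [0, 0, 4, 0, 1, 0, 0, 0, 0, 12, 0, 1] 3839 (.alt 8 (.pick 555 [0, 0, 5, 0, 4, 0, 1, 0, 0, 0, 1, 0] 2047 (.alt 11 (.pick 331 [0, 0, 7, 0, 4, 1, 0, 1, 0, 5, 2, 0] 2047 (.alt 11 (.pick 651 [0, 0, 8, 0, 4, 1, 6, 0, 2, 0, 0, 1] 3071 (.alt 10 (.pick 115 [0, 0,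 8, 4, 0, 0, 0, 0, 12, 7, 4, 15] 3967 (.alt 7 (.pick 1107 [0, 0, 13, 5, 0, 0, 0, 0, 7, 8, 0, 0] 2047 (.alt 11 (.pick 1075 [0, 0, 10, 6, 0, 0, 0, 1, 8, 0, 0, 0] 3583 (.alt 9 (.pick 307 [0, 0, 11, 6, 0, 0, 2, 2, 0, 0, 0, 0] 2047 (.alt 11 (.pick 403 [0, 0, 16, 7, 0, 0, 3, 0, 0, 0, 10, 0] 3583 (.alt 9 (.pick 355 [0, 0, 17, 6, 1, 0, 0, 4, 0, 0, 9, 1] 3583 (.alt 9 (c_13) (.altEnd))) (.altEnd))) (.altEnd))) (.altEnd))) (.altEnd))) (.altEnd))) (.altEnd))) (.altEnd))) (.altEnd))) (.altEnd))) (.altEnd))) (.altEnd))) (.altEnd))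

def c_15 : Cert :=
  .pick 738 [20, 0, 19, 6, 3, 0, 0, 0, 8, 0, 3, 0] 2047 (.alt 11 (.pick 866 [11, 0, 11, 9, 5, 0, 0, 0, 0, 0, 0, 0] 3071 (.alt 10 (.pick 1442 [34, 0, 17, 10, 4, 0, 0, 0, 0, 0, 0, 0] 2047 (.alt 11 (.done [0, 1, 2, 3, 4, 5, 11, 10, 9, 8, 7, 6]) (.altEnd))) (.altEnd))) (.altEnd))

def c_16 : Cert :=
  .pick 570 [4, 0, 9, 0, 0, 0, 1, 1, 0, 0, 0, 0] 2047 (.alt 11 (.pick 346 [6, 0, 14, 0, 0, 1, 0, 2, 0, 0, 1, 20] 3583 (.alt 9 (.pick 1178 [5, 0, 17, 0, 0, 2, 3, 0, 2, 19, 0, 0] 2047 (.alt 11 (.pick 1130 [46, 0, 14, 0, 3, 0, 0, 4, 3, 19, 0, 0] 2047 (.alt 11 (.pick 426 [48, 0, 10, 0, 4, 0, 5, 0, 0, 0, 4, 18] 3583 (.alt 9 (.pick 458 [10, 0, 11, 0, 3, 0, 0, 0, 0, 0, 18, 0] 2047 (.alt 11 (.pick 714 [13, 0, 14, 0, 4, 1, 0,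 0, 0, 0, 0, 0] 3071 (.alt 10 (.pick 1802 [17, 0, 9, 0, 5, 2, 0, 0, 0, 0, 0, 0] 2047 (.alt 11 (.pick 370 [20, 0, 14, 6, 0, 0, 0, 9, 0, 6, 8, 0] 2047 (.alt 11 (.pick 690 [22, 0, 17, 4, 0, 0, 10, 0, 4, 0, 0, 8] 3071 (.alt 10 (.pick 466 [15, 0, 16, 4, 0, 1, 0, 0, 0, 8, 0, 1] 3071 (.alt 10 (.pick 1618 [25, 0, 19, 4, 0, 1, 0, 0, 0, 0, 0, 0] 2047 (.alt 11 (.pick 914 [8, 0, 8, 7, 0, 2, 1, 0, 0, 0, 1, 0] 2047 (.alt 11 (c_15) (.altEnd))) (.altEnd))) (.altEnd))) (.altEnd))) (.altEnd))) (.altEnd))) (.altEnd))) (.altEnd))) (.altEnd))) (.altEnd))) (.altEnd))) (.altEnd))) (.altEnd))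

def c_17 : Cert :=
  .pick 654 [14, 0, 0, 0, 4, 2, 3, 0, 5, 0, 2, 0] 2047 (.alt 11 (.pick 118 [16, 0, 0, 4, 0, 0, 0, 16, 16, 4, 0, 7] 3071 (.alt 10 (.pick 182 [18, 0, 0, 4, 0, 0, 0, 0, 7, 18, 0, 0] 2047 (.alt 11 (.pick 310 [20, 0, 0, 4, 0, 0, 1, 0, 0, 0, 1, 0] 3583 (.alt 9 (.pick 214 [22, 0, 0, 9, 0, 1, 0, 0, 9, 0, 2, 1] 3583 (.alt 9 (.pick 1302 [24, 0, 0, 5, 0, 1, 3, 10, 0, 1, 0, 0] 2047 (.alt 11 (.pick 230 [26, 0, 0, 8, 1, 0, 0, 0, 0, 1, 4, 3] 3839 (.alt 8 (.pick 1574 [28, 0, 0, 9, 3, 0, 5, 9, 3, 0, 0, 0] 2047 (.alt 11 (.pick 1222 [30, 0, 0, 8, 3, 1, 0, 0, 1, 3, 0, 0] 2047 (.alt 11 (.pick 838 [32, 0, 0, 9, 4, 2, 0, 2, 0, 0, 9, 0] 2047 (.alt 11 (.pick 902 [34, 0, 0, 9, 5, 3, 0, 0, 0, 0, 0, 0] 3071 (.alt 10 (.pick 122 [0, 0, 9,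 0, 0, 0, 0, 0, 36, 14, 9, 0] 3967 (.alt 7 (.pick 314 [3, 0, 8, 0, 0, 0, 0, 0, 0, 3, 0, 13] 3071 (.alt 10 (c_16) (.altEnd))) (.altEnd))) (.altEnd))) (.altEnd))) (.altEnd))) (.altEnd))) (.altEnd))) (.altEnd))) (.altEnd))) (.altEnd))) (.altEnd))) (.altEnd))) (.altEnd))

def c_18 : Cert :=
  .pick 721 [0, 5, 5, 6, 0, 0, 0, 0, 8, 0, 0, 0] 3071 (.alt 10 (.pick 849 [0, 16, 17, 4, 0, 2, 0, 0, 0, 0, 0, 0] 2047 (.alt 11 (.pick 1425 [0, 26, 16, 10, 0, 3, 1, 0, 0, 1, 0, 0] 2047 (.alt 11 (.pick 481 [0, 10, 10, 9, 4, 0, 0, 0, 0, 9, 4, 0] 2047 (.alt 11 (.pick 1633 [0, 31, 20, 7, 3, 0, 0, 3, 5, 0, 0, 0] 2047 (.alt 11 (.pick 929 [0, 23, 21, 7, 5, 0, 1, 0, 0, 0, 0, 1] 3071 (.alt 10 (.pick 94 [0, 0, 0, 0, 0, 0, 0, 0, 0, 0, 0, 0] 2047 (.alt 11 (.pick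 158 [2, 0, 0, 0, 0, 2, 0, 0, 0, 2, 2, 0] 3839 (.alt 8 (.pick 542 [4, 0, 0, 0, 0, 4, 1, 0, 0, 0, 0, 1] 3071 (.alt 10 (.pick 110 [6, 0, 0, 0, 2, 0, 0, 6, 6, 0, 6, 2] 3583 (.alt 9 (.pick 174 [8, 0, 0, 0, 2, 0, 0, 0, 2, 0, 0, 8] 3071 (.alt 10 (.pick 302 [10, 0, 0, 0, 3, 0, 1, 0, 0, 1, 0, 0] 2047 (.alt 11 (.pick 334 [12, 0, 0, 0, 4, 0, 0, 4, 0, 2, 0, 0] 3071 (.alt 10 (c_17) (.altEnd))) (.altEnd))) (.altEnd))) (.altEnd))) (.altEnd))) (.altEnd))) (.altEnd))) (.altEnd))) (.altEnd))) (.altEnd))) (.altEnd))) (.altEnd))) (.altEnd))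

def c_19 : Cert :=
  .pick 1797 [0, 29, 0, 9, 4, 3, 1, 1, 0, 0, 0, 0] 2047 (.alt 11 (.pick 121 [0, 0, 9, 0, 0, 0, 0, 0, 21, 17, 14, 0] 2047 (.alt 11 (.pick 185 [0, 1, 10, 0, 0, 0, 0, 0, 14, 20, 0, 0] 3071 (.alt 10 (.pick 313 [0, 3, 9, 0, 0, 0, 1, 0, 0, 0, 0, 1] 3583 (.alt 9 (.pick 217 [0, 3, 12, 0, 0, 1, 0, 0, 0, 20, 1, 2] 3839 (.alt 8 (.pick 1561 [0, 22, 12, 0, 0, 1, 21, 2, 1, 0, 0, 0] 2047 (.alt 11 (.pick 233 [0, 5, 14, 0, 1, 0, 0, 0, 1, 0, 3, 4] 3583 (.alt 9 (.pick 1321 [0, 7, 19, 0, 3, 0, 20, 4, 0, 3, 0, 0] 2047 (.alt 11 (.pick 1225 [0, 14, 9, 0, 3, 1, 0, 0, 3, 1, 0, 0] 2047 (.alt 11 (.pick 841 [0, 11, 12, 0, 4, 2, 0, 2, 0, 0, 0, 19] 3071 (.alt 10 (.pick 905 [0, 15, 14, 0, 5, 3, 0, 0, 0, 0, 0, 0] 2047 (.alt 11 (.pick 369 [0,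 20, 14, 6, 0, 0, 0, 6, 0, 7, 0, 9] 3071 (.alt 10 (.pick 689 [0, 22, 16, 5, 0, 0, 5, 0, 8, 0, 9, 0] 2047 (.alt 11 (c_18) (.altEnd))) (.altEnd))) (.altEnd))) (.altEnd))) (.altEnd))) (.altEnd))) (.altEnd))) (.altEnd))) (.altEnd))) (.altEnd))) (.altEnd))) (.altEnd))) (.altEnd))

def c_20 : Cert :=
  .pick 173 [0, 8, 0, 0, 1, 0, 0, 0, 0, 20, 0, 1] 3839 (.alt 8 (.pick 557 [0, 10, 0, 0, 4, 0, 1, 0, 0, 0, 1, 0] 2047 (.alt 11 (.pick 333 [0, 9, 0, 0, 4, 1, 0, 1, 0, 5, 2, 0] 2047 (.alt 11 (.pick 653 [0, 8, 0, 0, 4, 1, 6, 0, 2, 0, 0, 1] 3071 (.alt 10 (.pick 117 [0, 16, 0, 4, 0, 0, 0, 0, 25, 7, 4, 15] 3967 (.alt 7 (.pick 1077 [0, 19, 0, 5, 0, 0, 0, 0, 7, 0, 0, 19] 3583 (.alt 9 (.pick 309 [0, 19, 0, 5, 0, 0, 1, 1, 0, 0, 0, 0] 2047 (.alt 11 (.pick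 1109 [0, 11, 0, 7, 0, 1, 0, 2, 9, 1, 0, 0] 2047 (.alt 11 (.pick 405 [0, 21, 0, 7, 0, 1, 3, 0, 0, 0, 10, 1] 3583 (.alt 9 (.pick 357 [0, 16, 0, 6, 2, 0, 0, 4, 0, 0, 9, 2] 3583 (.alt 9 (.pick 1189 [0, 27, 0, 6, 4, 0, 5, 0, 9, 4, 0, 0] 2047 (.alt 11 (.pick 453 [0, 30, 0, 8, 2, 1, 0, 0, 0, 1, 0, 8] 3071 (.alt 10 (.pick 709 [0, 31, 0, 8, 3, 2, 0, 0, 0, 0, 0, 0] 2047 (.alt 11 (c_19) (.altEnd))) (.altEnd))) (.altEnd))) (.altEnd))) (.altEnd))) (.altEnd))) (.altEnd))) (.altEnd))) (.altEnd))) (.altEnd))) (.altEnd))) (.altEnd))) (.altEnd))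

def c_21 : Cert :=
  .pick 1426 [26, 0, 16, 10, 0, 3, 1, 0, 0, 1, 0, 0] 2047 (.alt 11 (.pick 482 [10, 0, 10, 9, 4, 0, 0, 0, 0, 9, 4, 0] 2047 (.alt 11 (.pick 1634 [32, 0, 20, 7, 3, 0, 0, 3, 5, 0, 0, 0] 2047 (.alt 11 (.pick 930 [23, 0, 21, 7, 5, 0, 1, 0, 0, 0, 0, 1] 3071 (.alt 10 (.done [0, 1, 2, 3, 4, 5, 10, 11, 7, 6, 9, 8]) (.altEnd))) (.altEnd))) (.altEnd))) (.altEnd))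

def c_22 : Cert :=
  .pick 186 [1, 0, 10, 0, 0, 0, 0, 0, 14, 38, 0, 0] 3071 (.alt 10 (.pick 314 [3, 0, 10, 0, 0, 0, 1, 0, 0, 0, 0, 1] 3583 (.alt 9 (.pick 218 [3, 0, 12, 0, 0, 1, 0, 0, 0, 20, 1, 2] 3839 (.alt 8 (.pick 1562 [44, 0, 11, 0, 0, 1, 21, 2, 1, 0, 0, 0] 2047 (.alt 11 (.pick 234 [5, 0, 14, 0, 1, 0, 0, 0, 1, 0, 3, 4] 3583 (.alt 9 (.pick 1322 [7, 0, 19, 0, 3, 0, 20, 4, 0, 3, 0, 0] 2047 (.alt 11 (.pick 1226 [15, 0, 9, 0, 3, 1, 0, 0, 3, 1, 0, 0] 2047 (.alt 11 (.pick 842 [11, 0, 12, 0, 4, 2, 0, 2, 0, 0, 0, 19] 3071 (.alt 10 (.pick 906 [15, 0, 14, 0, 5, 3, 0, 0, 0, 0, 0, 0] 2047 (.alt 11 (.pick 370 [20, 0, 14, 6, 0, 0, 0, 6, 0, 7, 0, 9] 3071 (.alt 10 (.pick 690 [22, 0, 16, 5, 0, 0, 5, 0, 8, 0, 9, 0] 2047 (.alt 11 (.pick 722 [5,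 0, 5, 6, 0, 0, 0, 0, 8, 0, 0, 0] 3071 (.alt 10 (.pick 850 [16, 0, 17, 4, 0, 2, 0, 0, 0, 0, 0, 0] 2047 (.alt 11 (c_21) (.altEnd))) (.altEnd))) (.altEnd))) (.altEnd))) (.altEnd))) (.altEnd))) (.altEnd))) (.altEnd))) (.altEnd))) (.altEnd))) (.altEnd))) (.altEnd))) (.altEnd))

def c_23 : Cert :=
  .pick 334 [12, 0, 0, 0, 3, 1, 0, 1, 0, 5, 2, 0] 2047 (.alt 11 (.pick 654 [14, 0, 0, 0, 5, 1, 6, 0, 2, 0, 0, 1] 3071 (.alt 10 (.pick 118 [16, 0, 0, 4, 0, 0, 0, 0, 16, 7, 4, 16] 3967 (.alt 7 (.pick 310 [18, 0, 0, 4, 0, 0, 0, 0, 0, 18, 6, 0] 2047 (.alt 11 (.pick 566 [20, 0, 0, 4, 0, 0, 1, 1, 0, 0, 0, 0] 3071 (.alt 10 (.pick 1110 [22, 0, 0, 7, 0, 0, 0, 2, 8, 0, 0, 0] 2047 (.alt 11 (.pick 406 [24, 0, 0, 7, 0, 2, 3, 0, 0, 0, 9, 2] 3583 (.alt 9 (.pick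 358 [26, 0, 0, 6, 3, 0, 0, 4, 0, 0, 9, 3] 3583 (.alt 9 (.pick 1190 [28, 0, 0, 6, 3, 0, 5, 0, 9, 3, 0, 0] 2047 (.alt 11 (.pick 454 [30, 0, 0, 8, 2, 1, 0, 0, 0, 1, 0, 8] 3071 (.alt 10 (.pick 710 [32, 0, 0, 8, 3, 2, 0, 0, 0, 0, 0, 0] 2047 (.alt 11 (.pick 1798 [34, 0, 0, 9, 4, 3, 1, 1, 0, 0, 0, 0] 2047 (.alt 11 (.pick 122 [0, 0, 9, 0, 0, 0, 0, 0, 36, 17, 14, 0] 2047 (.alt 11 (c_22) (.altEnd))) (.altEnd))) (.altEnd))) (.altEnd))) (.altEnd))) (.altEnd))) (.altEnd))) (.altEnd))) (.altEnd))) (.altEnd))) (.altEnd))) (.altEnd))) (.altEnd))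

def c_24 : Cert :=
  .pick 689 [0, 22, 17, 4, 0, 0, 10, 0, 4, 0, 0, 8] 3071 (.alt 10 (.pick 465 [0, 15, 16, 4, 0, 1, 0, 0, 0, 8, 0, 1] 3071 (.alt 10 (.pick 1617 [0, 25, 19, 4, 0, 1, 0, 0, 0, 0, 0, 0] 2047 (.alt 11 (.pick 913 [0, 8, 8, 7, 0, 2, 1, 0, 0, 0, 1, 0] 2047 (.alt 11 (.pick 737 [0, 20, 19, 6, 3, 0, 0, 0, 8, 0, 3, 0] 2047 (.alt 11 (.pick 865 [0, 11, 11, 9, 5, 0, 0, 0, 0, 0, 0, 0] 3071 (.alt 10 (.pick 1441 [0, 34, 17, 10, 4, 0, 0, 0, 0, 0, 0, 0] 2047 (.alt 11 (.pick 94 [0, 0, 0, 0, 0, 0, 0, 0, 0, 0, 0, 0] 3583 (.alt 9 (.pick 158 [2, 0, 0, 0, 0, 2, 0, 0, 2, 0, 2, 0] 2047 (.alt 11 (.pick 286 [4, 0, 0, 0, 0, 4, 1, 0, 0, 1, 0, 0] 3071 (.alt 10 (.pick 110 [6, 0, 0, 0, 2, 0, 0, 6, 6, 2, 0, 6] 3071 (.alt 10 (.pick 174 [8, 0, 0,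 0, 2, 0, 0, 0, 0, 8, 0, 2] 3839 (.alt 8 (.pick 558 [10, 0, 0, 0, 4, 0, 1, 0, 0, 0, 1, 0] 2047 (.alt 11 (c_23) (.altEnd))) (.altEnd))) (.altEnd))) (.altEnd))) (.altEnd))) (.altEnd))) (.altEnd))) (.altEnd))) (.altEnd))) (.altEnd))) (.altEnd))) (.altEnd))) (.altEnd))

def c_25 : Cert :=
  .pick 837 [0, 31, 0, 9, 4, 2, 0, 2, 0, 0, 9, 0] 2047 (.alt 11 (.pick 901 [0, 32, 0, 9, 5, 3, 0, 0, 0, 0, 0, 0] 3071 (.alt 10 (.pick 121 [0, 0, 8, 0, 0, 0, 0, 0, 21, 13, 8, 0] 3967 (.alt 7 (.pick 313 [0, 3, 10, 0, 0, 0, 0, 0, 0, 3, 0, 13] 3071 (.alt 10 (.pick 569 [0, 4, 11, 0, 0, 0, 1, 1, 0, 0, 0, 0] 2047 (.alt 11 (.pick 345 [0, 6, 14, 0, 0, 1, 0, 2, 0, 0, 1, 20] 3583 (.alt 9 (.pick 1177 [0, 5, 18, 0, 0, 2, 3, 0, 2, 19, 0, 0] 2047 (.alt 11 (.pick 1129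 [0, 23, 13, 0, 3, 0, 0, 4, 3, 18, 0, 0] 2047 (.alt 11 (.pick 425 [0, 27, 10, 0, 4, 0, 5, 0, 0, 0, 4, 18] 3583 (.alt 9 (.pick 457 [0, 10, 11, 0, 3, 0, 0, 0, 0, 0, 18, 0] 2047 (.alt 11 (.pick 713 [0, 13, 14, 0, 4, 1, 0, 0, 0, 0, 0, 0] 3071 (.alt 10 (.pick 1801 [0, 16, 9, 0, 5, 2, 0, 0, 0, 0, 0, 0] 2047 (.alt 11 (.pick 369 [0, 20, 14, 6, 0, 0, 0, 9, 0, 6, 8, 0] 2047 (.alt 11 (c_24) (.altEnd))) (.altEnd))) (.altEnd))) (.altEnd))) (.altEnd))) (.altEnd))) (.altEnd))) (.altEnd))) (.altEnd))) (.altEnd))) (.altEnd))) (.altEnd))) (.altEnd))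

def c_26 : Cert :=
  .pick 173 [0, 7, 0, 0, 1, 0, 15, 0, 1, 19, 0, 7] 3071 (.alt 10 (.pick 109 [0, 7, 0, 0, 3, 0, 0, 0, 7, 0, 0, 3] 3583 (.alt 9 (.pick 301 [0, 8, 0, 0, 3, 0, 0, 1, 0, 0, 1, 0] 2047 (.alt 11 (.pick 333 [0, 9, 0, 0, 4, 0, 0, 4, 0, 1, 0, 0] 3071 (.alt 10 (.pick 653 [0, 8, 0, 0, 4, 2, 2, 0, 5, 0, 3, 0] 2047 (.alt 11 (.pick 309 [0, 17, 0, 2, 0, 0, 25, 6, 0, 0, 14, 2] 3583 (.alt 9 (.pick 1077 [0, 19, 0, 5, 0, 0, 0, 5, 0, 0, 0, 19] 4031 (.alt 6 (.pick 181 [0, 19, 0, 6, 0, 0, 0, 0, 1, 1, 0, 0] 2047 (.alt 11 (.pick 213 [0, 22, 0, 9, 0, 0, 0, 0, 9, 0, 1, 0] 3583 (.alt 9 (.pick 1301 [0, 24, 0, 5, 0, 2, 2, 10, 0, 3, 0, 0] 2047 (.alt 11 (.pick 229 [0, 26, 0, 8, 1, 0, 0, 0, 0, 1, 3, 2] 3839 (.alt 8 (.pick 1573 [0, 19, 0, 9,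 4, 0, 4, 10, 5, 0, 0, 0] 2047 (.alt 11 (.pick 1221 [0, 28, 0, 8, 3, 1, 0, 0, 1, 3, 0, 0] 2047 (.alt 11 (c_25) (.altEnd))) (.altEnd))) (.altEnd))) (.altEnd))) (.altEnd))) (.altEnd))) (.altEnd))) (.altEnd))) (.altEnd))) (.altEnd))) (.altEnd))) (.altEnd))) (.altEnd))

def c_27 : Cert :=
  .pick 1420 [17, 17, 0, 0, 5, 2, 1, 0, 0, 1, 0, 0] 2047 (.alt 11 (.pick 628 [0, 0, 0, 8, 0, 0, 0, 8, 9, 0, 20, 0] 2047 (.alt 11 (.pick 436 [2, 2, 0, 9, 0, 0, 10, 0, 0, 9, 0, 23] 3071 (.alt 10 (.pick 468 [24, 24, 0, 4, 0, 0, 0, 0, 0, 4, 0, 0] 2047 (.alt 11 (.pick 852 [24, 24, 0, 5, 0, 2, 0, 0, 0, 0, 0, 0] 3071 (.alt 10 (.pick 1684 [28, 28, 0, 10, 0, 2, 0, 0, 0, 0, 0, 0] 2047 (.alt 11 (.pick 740 [30, 30, 0, 7, 4, 0, 0, 0, 7, 0, 0, 4] 3071 (.alt 10 (.pick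 1380 [32, 32, 0, 9, 2, 0, 0, 0, 0, 0, 0, 0] 2047 (.alt 11 (.pick 932 [34, 34, 0, 9, 5, 0, 1, 0, 0, 0, 1, 0] 2047 (.alt 11 (.pick 93 [0, 0, 0, 0, 0, 17, 0, 14, 17, 0, 0, 0] 1535 (.alt 9 (.pick 1053 [0, 1, 0, 0, 0, 16, 0, 15, 0, 0, 0, 16] 3839 (.alt 8 (.pick 157 [0, 3, 0, 0, 0, 18, 1, 0, 0, 1, 0, 0] 2047 (.alt 11 (.pick 109 [0, 6, 0, 0, 2, 0, 0, 15, 6, 2, 0, 15] 3071 (.alt 10 (c_20) (.altEnd))) (.altEnd))) (.altEnd))) (.alt 11 (.pick 157 [0, 2, 0, 0, 0, 17, 0, 0, 0, 2, 15, 0] 3839 (.alt 8 (.pick 541 [0, 3, 0, 0, 0, 18, 1, 0, 0, 0, 0, 1] 3071 (.alt 10 (c_26) (.altEnd))) (.altEnd))) (.altEnd)))) (.altEnd))) (.altEnd))) (.altEnd))) (.altEnd))) (.altEnd))) (.altEnd))) (.altEnd))) (.altEnd))) (.altEnd))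

def c_28 : Cert :=
  .pick 803 [0, 0, 16, 8, 1, 0, 4, 3, 0, 0, 1, 0] 2047 (.alt 11 (.pick 451 [0, 0, 16, 7, 3, 1, 0, 0, 0, 0, 1, 3] 3583 (.alt 9 (.pick 1347 [0, 0, 20, 8, 3, 2, 0, 0, 0, 0, 0, 0] 2047 (.alt 11 (.pick 1667 [0, 0, 22, 9, 4, 3, 1, 0, 1, 0, 0, 0] 2047 (.alt 11 (.pick 124 [0, 0, 0, 0, 0, 0, 0, 0, 0, 0, 0, 0] 3839 (.alt 8 (.pick 188 [2, 2, 0, 0, 0, 0, 0, 0, 0, 0, 2, 2] 3583 (.alt 9 (.pick 1084 [4, 4, 0, 0, 0, 0, 1, 0, 1, 0, 0, 0] 2047 (.alt 11 (.pick 220 [6, 6, 0, 0, 0, 1, 0, 0, 2, 1, 0, 6] 3071 (.alt 10 (.pick 796 [8, 8, 0, 0, 0, 2, 3, 2, 0, 0, 8, 0] 2047 (.alt 11 (.pick 236 [10, 10, 0, 0, 1, 0, 0, 0, 4, 3, 1, 0] 2047 (.alt 11 (.pick 812 [12, 12, 0, 0, 1, 0, 5, 4, 0, 0, 0, 1] 3071 (.alt 10 (.pick 460 [16, 16, 0, 0, 3,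 1, 0, 0, 0, 0, 3, 1] 3583 (.alt 9 (.pick 1612 [15, 15, 0, 0, 4, 1, 0, 0, 0, 0, 0, 0] 2047 (.alt 11 (c_27) (.altEnd))) (.altEnd))) (.altEnd))) (.altEnd))) (.altEnd))) (.altEnd))) (.altEnd))) (.altEnd))) (.altEnd))) (.altEnd))) (.altEnd))) (.altEnd))) (.altEnd))

def c_29 : Cert :=
  .pick 539 [0, 0, 1, 0, 0, 1, 0, 0, 3, 0, 0, 7] 3967 (.alt 7 (.pick 283 [0, 0, 2, 0, 0, 2, 1, 0, 0, 0, 1, 0] 2047 (.alt 11 (.pick 331 [0, 0, 4, 0, 0, 0, 0, 4, 0, 5, 2, 0] 4063 (.alt 5 (.pick 587 [0, 0, 5, 0, 2, 0, 0, 2, 0, 0, 3, 0] 2047 (.alt 11 (.pick 555 [0, 0, 5, 0, 3, 0, 0, 3, 1, 0, 0, 0] 3071 (.alt 10 (.pick 171 [0, 0, 6, 0, 4, 0, 2, 0, 2, 0, 0, 0] 2047 (.alt 11 (.pick 395 [0, 0, 8, 0, 4, 0, 3, 0, 0, 5, 0, 0] 3071 (.alt 10 (.pick 1075 [0, 0, 8, 2,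 0, 0, 7, 13, 17, 2, 0, 0] 2047 (.alt 11 (.pick 595 [0, 0, 13, 4, 0, 0, 0, 7, 13, 0, 8, 4] 4063 (.alt 5 (.pick 179 [0, 0, 10, 3, 0, 0, 0, 0, 0, 0, 1, 1] 3839 (.alt 8 (.pick 211 [0, 0, 12, 9, 0, 0, 0, 0, 0, 1, 10, 0] 2047 (.alt 11 (.pick 787 [0, 0, 14, 9, 0, 1, 2, 1, 0, 0, 0, 9] 3071 (.alt 10 (.pick 227 [0, 0, 14, 6, 1, 0, 0, 0, 2, 3, 0, 1] 3071 (.alt 10 (c_28) (.altEnd))) (.altEnd))) (.altEnd))) (.altEnd))) (.altEnd))) (.altEnd))) (.altEnd))) (.altEnd))) (.altEnd))) (.altEnd))) (.altEnd))) (.altEnd))) (.altEnd))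

def c_30 : Cert :=
  .pick 738 [30, 0, 17, 6, 3, 0, 0, 0, 8, 0, 3, 0] 2047 (.alt 11 (.pick 866 [11, 0, 11, 9, 5, 0, 0, 0, 0, 0, 0, 0] 3071 (.alt 10 (.pick 1442 [28, 0, 21, 10, 4, 0, 0, 0, 0, 0, 0, 0] 2047 (.alt 11 (.done [0, 1, 2, 3, 4, 5, 9, 8, 11, 10, 6, 7]) (.altEnd))) (.altEnd))) (.altEnd))

def c_31 : Cert :=
  .pick 570 [3, 0, 11, 0, 0, 0, 1, 1, 0, 0, 0, 0] 2047 (.alt 11 (.pick 346 [3, 0, 17, 0, 0, 1, 0, 2, 0, 0, 1, 18] 3583 (.alt 9 (.pick 1178 [7, 0, 14, 0, 0, 2, 3, 0, 2, 20, 0, 0] 2047 (.alt 11 (.pick 1130 [46, 0, 9, 0, 3, 0, 0, 4, 3, 17, 0, 0] 2047 (.alt 11 (.pick 426 [48, 0, 14, 0, 4, 0, 5, 0, 0, 0, 4, 19] 3583 (.alt 9 (.pick 458 [14, 0, 9, 0, 3, 0, 0, 0, 0, 0, 17, 0] 2047 (.alt 11 (.pick 714 [15, 0, 10, 0, 4, 1, 0, 0,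 0, 0, 0, 0] 3071 (.alt 10 (.pick 1802 [15, 0, 14, 0, 5, 2, 0, 0, 0, 0, 0, 0] 2047 (.alt 11 (.pick 370 [10, 0, 18, 6, 0, 0, 0, 9, 0, 6, 8, 0] 2047 (.alt 11 (.pick 690 [12, 0, 19, 4, 0, 0, 10, 0, 4, 0, 0, 8] 3071 (.alt 10 (.pick 466 [24, 0, 14, 4, 0, 1, 0, 0, 0, 8, 0, 1] 3071 (.alt 10 (.pick 1618 [26, 0, 18, 4, 0, 1, 0, 0, 0, 0, 0, 0] 2047 (.alt 11 (.pick 914 [8, 0, 8, 7, 0, 2, 1, 0, 0, 0, 1, 0] 2047 (.alt 11 (c_30) (.altEnd))) (.altEnd))) (.altEnd))) (.altEnd))) (.altEnd))) (.altEnd))) (.altEnd))) (.altEnd))) (.altEnd))) (.altEnd))) (.altEnd))) (.altEnd))) (.altEnd))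

def c_32 : Cert :=
  .pick 398 [14, 0, 0, 0, 4, 2, 3, 0, 0, 5, 0, 2] 3071 (.alt 10 (.pick 118 [16, 0, 0, 4, 0, 0, 0, 16, 4, 0, 7, 16] 3583 (.alt 9 (.pick 182 [18, 0, 0, 4, 0, 0, 0, 0, 0, 0, 18, 4] 3839 (.alt 8 (.pick 1078 [20, 0, 0, 4, 0, 0, 1, 0, 0, 1, 0, 0] 2047 (.alt 11 (.pick 214 [22, 0, 0, 9, 0, 1, 0, 0, 1, 2, 10, 0] 2047 (.alt 11 (.pick 790 [24, 0, 0, 9, 0, 2, 3, 2, 0, 0, 0, 9] 3071 (.alt 10 (.pick 230 [26, 0, 0, 8, 1, 0, 0, 0, 3, 4, 0, 1] 3071 (.alt 10 (.pick 806 [28, 0, 0, 8, 1, 0, 5, 4, 0, 0, 1, 0] 2047 (.alt 11 (.pick 454 [30, 0, 0, 7, 3, 1, 0, 0, 0, 0, 1, 3] 3583 (.alt 9 (.pick 1350 [32, 0, 0, 8, 3, 2, 0, 0, 0, 0, 0, 0] 2047 (.alt 11 (.pick 1670 [34, 0, 0, 9, 4, 3, 1, 0, 1, 0, 0, 0] 2047 (.alt 11 (.pick 122 [0, 0, 9,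 0, 0, 0, 0, 0, 0, 9, 17, 36] 3967 (.alt 7 (.pick 314 [1, 0, 9, 0, 0, 0, 0, 0, 0, 38, 0, 16] 3071 (.alt 10 (c_31) (.altEnd))) (.altEnd))) (.altEnd))) (.altEnd))) (.altEnd))) (.altEnd))) (.altEnd))) (.altEnd))) (.altEnd))) (.altEnd))) (.altEnd))) (.altEnd))) (.altEnd))

def c_33 : Cert :=
  .pick 465 [0, 24, 14, 4, 0, 0, 0, 0, 0, 4, 0, 0] 2047 (.alt 11 (.pick 849 [0, 16, 17, 5, 0, 2, 0, 0, 0, 0, 0, 0] 3071 (.alt 10 (.pick 1681 [0, 25, 19, 10, 0, 2, 0, 0, 0, 0, 0, 0] 2047 (.alt 11 (.pick 737 [0, 30, 16, 7, 4, 0, 0, 0, 7, 0, 0, 4] 3071 (.alt 10 (.pick 1377 [0, 32, 18, 9, 2, 0, 0, 0, 0, 0, 0, 0] 2047 (.alt 11 (.pick 929 [0, 23, 21, 9, 5, 0, 1, 0, 0, 0, 1, 0] 2047 (.alt 11 (.pick 94 [0, 0, 0, 0, 0, 0, 0, 0, 0, 0, 0, 0] 3071 (.alt 10 (.pick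 158 [2, 0, 0, 0, 0, 2, 0, 0, 2, 0, 0, 2] 3583 (.alt 9 (.pick 286 [4, 0, 0, 0, 0, 4, 1, 0, 0, 0, 1, 0] 2047 (.alt 11 (.pick 110 [6, 0, 0, 0, 2, 0, 0, 6, 0, 6, 2, 6] 3839 (.alt 8 (.pick 174 [8, 0, 0, 0, 2, 0, 0, 0, 0, 2, 8, 0] 2047 (.alt 11 (.pick 558 [10, 0, 0, 0, 3, 0, 1, 0, 1, 0, 0, 0] 3071 (.alt 10 (.pick 590 [12, 0, 0, 0, 4, 0, 0, 4, 2, 0, 0, 0] 2047 (.alt 11 (c_32) (.altEnd))) (.altEnd))) (.altEnd))) (.altEnd))) (.altEnd))) (.altEnd))) (.altEnd))) (.altEnd))) (.altEnd))) (.altEnd))) (.altEnd))) (.altEnd))) (.altEnd))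

def c_34 : Cert :=
  .pick 1797 [0, 34, 0, 9, 4, 3, 1, 1, 0, 0, 0, 0] 2047 (.alt 11 (.pick 121 [0, 0, 9, 0, 0, 0, 0, 0, 0, 17, 13, 18] 3839 (.alt 8 (.pick 185 [0, 1, 10, 0, 0, 0, 0, 0, 0, 0, 23, 17] 3583 (.alt 9 (.pick 1081 [0, 3, 9, 0, 0, 0, 1, 0, 1, 0, 0, 0] 2047 (.alt 11 (.pick 217 [0, 3, 12, 0, 0, 1, 0, 0, 2, 1, 0, 19] 3071 (.alt 10 (.pick 793 [0, 7, 9, 0, 0, 2, 3, 2, 0, 0, 19, 0] 2047 (.alt 11 (.pick 233 [0, 5, 14, 0, 1, 0, 0, 0, 4, 3, 1, 0] 2047 (.alt 11 (.pick 809 [0, 12, 10, 0, 1, 0, 5, 4, 0, 0, 0, 1] 3071 (.alt 10 (.pick 457 [0, 14, 9, 0, 3, 1, 0, 0, 0, 0, 3, 1] 3583 (.alt 9 (.pick 1609 [0, 16, 18, 0, 4, 1, 0, 0, 0, 0, 0, 0] 2047 (.alt 11 (.pick 1417 [0, 28, 11, 0, 5, 2, 1, 0, 0, 1, 0, 0] 2047 (.alt 11 (.pick 625 [0, 0,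 0, 8, 0, 0, 0, 8, 9, 0, 17, 0] 2047 (.alt 11 (.pick 433 [0, 2, 2, 9, 0, 0, 10, 0, 0, 9, 0, 19] 3071 (.alt 10 (c_33) (.altEnd))) (.altEnd))) (.altEnd))) (.altEnd))) (.altEnd))) (.altEnd))) (.altEnd))) (.altEnd))) (.altEnd))) (.altEnd))) (.altEnd))) (.altEnd))) (.altEnd))

def c_35 : Cert :=
  .pick 109 [0, 7, 0, 0, 3, 0, 0, 0, 0, 3, 0, 21] 3071 (.alt 10 (.pick 557 [0, 8, 0, 0, 4, 0, 0, 1, 1, 0, 0, 0] 2047 (.alt 11 (.pick 333 [0, 12, 0, 0, 3, 1, 0, 2, 0, 5, 1, 0] 2047 (.alt 11 (.pick 653 [0, 14, 0, 0, 5, 1, 6, 0, 3, 0, 0, 1] 3071 (.alt 10 (.pick 117 [0, 16, 0, 3, 0, 0, 0, 0, 15, 7, 3, 25] 3967 (.alt 7 (.pick 309 [0, 19, 0, 5, 0, 0, 0, 0, 0, 19, 6, 0] 2047 (.alt 11 (.pick 565 [0, 20, 0, 4, 0, 0, 1, 1, 0, 0, 0, 0] 3071 (.alt 10 (.pick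 1109 [0, 19, 0, 6, 0, 0, 0, 2, 8, 0, 0, 0] 2047 (.alt 11 (.pick 405 [0, 13, 0, 8, 0, 2, 3, 0, 0, 0, 9, 2] 3583 (.alt 9 (.pick 357 [0, 26, 0, 6, 3, 0, 0, 4, 0, 0, 8, 3] 3583 (.alt 9 (.pick 1189 [0, 18, 0, 6, 3, 0, 5, 0, 10, 3, 0, 0] 2047 (.alt 11 (.pick 453 [0, 28, 0, 8, 2, 1, 0, 0, 0, 1, 0, 8] 3071 (.alt 10 (.pick 709 [0, 27, 0, 8, 3, 2, 0, 0, 0, 0, 0, 0] 2047 (.alt 11 (c_34) (.altEnd))) (.altEnd))) (.altEnd))) (.altEnd))) (.altEnd))) (.altEnd))) (.altEnd))) (.altEnd))) (.altEnd))) (.altEnd))) (.altEnd))) (.altEnd))) (.altEnd))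

def c_36 : Cert :=
  .pick 1682 [25, 0, 19, 10, 0, 2, 0, 0, 0, 0, 0, 0] 2047 (.alt 11 (.pick 738 [30, 0, 16, 7, 4, 0, 0, 0, 7, 0, 0, 4] 3071 (.alt 10 (.pick 1378 [32, 0, 18, 9, 2, 0, 0, 0, 0, 0, 0, 0] 2047 (.alt 11 (.pick 930 [23, 0, 21, 9, 5, 0, 1, 0, 0, 0, 1, 0] 2047 (.alt 11 (.done [0, 1, 2, 3, 4, 5, 8, 9, 6, 7, 11, 10]) (.altEnd))) (.altEnd))) (.altEnd))) (.altEnd))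

def c_37 : Cert :=
  .pick 186 [1, 0, 10, 0, 0, 0, 0, 0, 0, 0, 38, 17] 3583 (.alt 9 (.pick 1082 [3, 0, 9, 0, 0, 0, 1, 0, 1, 0, 0, 0] 2047 (.alt 11 (.pick 218 [3, 0, 12, 0, 0, 1, 0, 0, 2, 1, 0, 19] 3071 (.alt 10 (.pick 794 [7, 0, 9, 0, 0, 2, 3, 2, 0, 0, 19, 0] 2047 (.alt 11 (.pick 234 [5, 0, 14, 0, 1, 0, 0, 0, 4, 3, 1, 0] 2047 (.alt 11 (.pick 810 [12, 0, 10, 0, 1, 0, 5, 4, 0, 0, 0, 1] 3071 (.alt 10 (.pick 458 [14, 0, 9, 0, 3, 1, 0, 0, 0, 0, 3, 1] 3583 (.alt 9 (.pick 1610 [16, 0, 18, 0, 4, 1, 0, 0, 0, 0, 0, 0] 2047 (.alt 11 (.pick 1418 [53, 0, 11, 0, 5, 2, 1, 0, 0, 1, 0, 0] 2047 (.alt 11 (.pick 626 [0, 0, 0, 8, 0, 0, 0, 8, 9, 0, 17, 0] 2047 (.alt 11 (.pick 434 [2, 0, 2, 9, 0, 0, 10, 0, 0, 9, 0, 19] 3071 (.alt 10 (.pick 466 [24, 0,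 14, 4, 0, 0, 0, 0, 0, 4, 0, 0] 2047 (.alt 11 (.pick 850 [16, 0, 17, 5, 0, 2, 0, 0, 0, 0, 0, 0] 3071 (.alt 10 (c_36) (.altEnd))) (.altEnd))) (.altEnd))) (.altEnd))) (.altEnd))) (.altEnd))) (.altEnd))) (.altEnd))) (.altEnd))) (.altEnd))) (.altEnd))) (.altEnd))) (.altEnd))

def c_38 : Cert :=
  .pick 334 [12, 0, 0, 0, 3, 1, 0, 1, 0, 5, 2, 0] 2047 (.alt 11 (.pick 654 [14, 0, 0, 0, 5, 1, 6, 0, 2, 0, 0, 1] 3071 (.alt 10 (.pick 118 [16, 0, 0, 4, 0, 0, 0, 0, 16, 7, 4, 16] 3967 (.alt 7 (.pick 310 [18, 0, 0, 4, 0, 0, 0, 0, 0, 18, 6, 0] 2047 (.alt 11 (.pick 566 [20, 0, 0, 4, 0, 0, 1, 1, 0, 0, 0, 0] 3071 (.alt 10 (.pick 1110 [22, 0, 0, 7, 0, 0, 0, 2, 8, 0, 0, 0] 2047 (.alt 11 (.pick 406 [24, 0, 0, 7, 0, 2, 3, 0, 0, 0, 9, 2] 3583 (.alt 9 (.pick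 358 [26, 0, 0, 6, 3, 0, 0, 4, 0, 0, 9, 3] 3583 (.alt 9 (.pick 1190 [28, 0, 0, 6, 3, 0, 5, 0, 9, 3, 0, 0] 2047 (.alt 11 (.pick 454 [30, 0, 0, 8, 2, 1, 0, 0, 0, 1, 0, 8] 3071 (.alt 10 (.pick 710 [32, 0, 0, 8, 3, 2, 0, 0, 0, 0, 0, 0] 2047 (.alt 11 (.pick 1798 [34, 0, 0, 9, 4, 3, 1, 1, 0, 0, 0, 0] 2047 (.alt 11 (.pick 122 [0, 0, 9, 0, 0, 0, 0, 0, 0, 17, 14, 36] 3839 (.alt 8 (c_37) (.altEnd))) (.altEnd))) (.altEnd))) (.altEnd))) (.altEnd))) (.altEnd))) (.altEnd))) (.altEnd))) (.altEnd))) (.altEnd))) (.altEnd))) (.altEnd))) (.altEnd))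

def c_39 : Cert :=
  .pick 689 [0, 12, 19, 4, 0, 0, 10, 0, 4, 0, 0, 8] 3071 (.alt 10 (.pick 465 [0, 24, 14, 4, 0, 1, 0, 0, 0, 8, 0, 1] 3071 (.alt 10 (.pick 1617 [0, 26, 18, 4, 0, 1, 0, 0, 0, 0, 0, 0] 2047 (.alt 11 (.pick 913 [0, 8, 8, 7, 0, 2, 1, 0, 0, 0, 1, 0] 2047 (.alt 11 (.pick 737 [0, 31, 17, 6, 3, 0, 0, 0, 8, 0, 3, 0] 2047 (.alt 11 (.pick 865 [0, 11, 11, 9, 5, 0, 0, 0, 0, 0, 0, 0] 3071 (.alt 10 (.pick 1441 [0, 28, 21, 10, 4, 0, 0, 0, 0, 0, 0, 0] 2047 (.alt 11 (.pick 94 [0, 0, 0, 0, 0, 0, 0, 0, 0, 0, 0, 0] 3583 (.alt 9 (.pick 158 [2, 0, 0, 0, 0, 2, 0, 0, 2, 0, 2, 0] 2047 (.alt 11 (.pick 286 [4, 0, 0, 0, 0, 4, 1, 0, 0, 1, 0, 0] 3071 (.alt 10 (.pick 110 [6, 0, 0, 0, 2, 0, 0, 6, 6, 2, 0, 6] 3071 (.alt 10 (.pick 174 [8, 0, 0,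 0, 2, 0, 0, 0, 0, 8, 0, 2] 3839 (.alt 8 (.pick 558 [10, 0, 0, 0, 4, 0, 1, 0, 0, 0, 1, 0] 2047 (.alt 11 (c_38) (.altEnd))) (.altEnd))) (.altEnd))) (.altEnd))) (.altEnd))) (.altEnd))) (.altEnd))) (.altEnd))) (.altEnd))) (.altEnd))) (.altEnd))) (.altEnd))) (.altEnd))

def c_40 : Cert :=
  .pick 1349 [0, 22, 0, 8, 3, 2, 0, 0, 0, 0, 0, 0] 2047 (.alt 11 (.pick 1669 [0, 34, 0, 9, 4, 3, 1, 0, 1, 0, 0, 0] 2047 (.alt 11 (.pick 121 [0, 0, 8, 0, 0, 0, 0, 0, 0, 8, 17, 18] 3967 (.alt 7 (.pick 313 [0, 1, 10, 0, 0, 0, 0, 0, 0, 29, 0, 17] 3071 (.alt 10 (.pick 569 [0, 3, 10, 0, 0, 0, 1, 1, 0, 0, 0, 0] 2047 (.alt 11 (.pick 345 [0, 3, 17, 0, 0, 1, 0, 2, 0, 0, 1, 19] 3583 (.alt 9 (.pick 1177 [0, 7, 14, 0, 0, 2, 3, 0, 2, 19, 0, 0] 2047 (.alt 11 (.pick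 1129 [0, 26, 9, 0, 3, 0, 0, 4, 3, 17, 0, 0] 2047 (.alt 11 (.pick 425 [0, 25, 15, 0, 4, 0, 5, 0, 0, 0, 4, 19] 3583 (.alt 9 (.pick 457 [0, 14, 9, 0, 3, 0, 0, 0, 0, 0, 17, 0] 2047 (.alt 11 (.pick 713 [0, 15, 10, 0, 4, 1, 0, 0, 0, 0, 0, 0] 3071 (.alt 10 (.pick 1801 [0, 15, 14, 0, 5, 2, 0, 0, 0, 0, 0, 0] 2047 (.alt 11 (.pick 369 [0, 10, 18, 6, 0, 0, 0, 9, 0, 6, 8, 0] 2047 (.alt 11 (c_39) (.altEnd))) (.altEnd))) (.altEnd))) (.altEnd))) (.altEnd))) (.altEnd))) (.altEnd))) (.altEnd))) (.altEnd))) (.altEnd))) (.altEnd))) (.altEnd))) (.altEnd))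

def c_41 : Cert :=
  .pick 109 [0, 6, 0, 0, 2, 0, 0, 15, 0, 6, 2, 20] 3839 (.alt 8 (.pick 173 [0, 8, 0, 0, 1, 0, 0, 0, 0, 1, 8, 0] 2047 (.alt 11 (.pick 557 [0, 8, 0, 0, 2, 0, 1, 0, 1, 0, 0, 0] 3071 (.alt 10 (.pick 589 [0, 9, 0, 0, 3, 0, 0, 3, 2, 0, 0, 0] 2047 (.alt 11 (.pick 397 [0, 8, 0, 0, 4, 2, 3, 0, 0, 4, 0, 2] 3071 (.alt 10 (.pick 309 [0, 18, 0, 4, 0, 0, 4, 0, 0, 18, 15, 6] 3967 (.alt 7 (.pick 117 [0, 17, 0, 5, 0, 0, 0, 0, 0, 0, 8, 26] 3583 (.alt 9 (.pick 1077 [0, 18, 0, 4, 0, 0, 0, 1, 1, 0, 0, 0] 2047 (.alt 11 (.pick 213 [0, 22, 0, 8, 0, 1, 0, 0, 2, 1, 10, 0] 2047 (.alt 11 (.pick 789 [0, 22, 0, 9, 0, 2, 2, 3, 0, 0, 0, 10] 3071 (.alt 10 (.pick 229 [0, 26, 0, 8, 1, 0, 0, 0, 4, 3, 0, 1] 3071 (.alt 10 (.pick 805 [0, 24, 0, 8,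 1, 0, 4, 5, 0, 0, 1, 0] 2047 (.alt 11 (.pick 453 [0, 28, 0, 7, 3, 1, 0, 0, 0, 0, 1, 3] 3583 (.alt 9 (c_40) (.altEnd))) (.altEnd))) (.altEnd))) (.altEnd))) (.altEnd))) (.altEnd))) (.altEnd))) (.altEnd))) (.altEnd))) (.altEnd))) (.altEnd))) (.altEnd))) (.altEnd))

def c_42 : Cert :=
  .pick 908 [16, 16, 0, 0, 5, 3, 0, 0, 0, 0, 0, 0] 2047 (.alt 11 (.pick 372 [20, 20, 0, 6, 0, 0, 0, 6, 0, 7, 0, 9] 3071 (.alt 10 (.pick 692 [24, 24, 0, 5, 0, 0, 5, 0, 8, 0, 9, 0] 2047 (.alt 11 (.pick 724 [5, 5, 0, 6, 0, 0, 0, 0, 8, 0, 0, 0] 3071 (.alt 10 (.pick 852 [28, 28, 0, 4, 0, 2, 0, 0, 0, 0, 0, 0] 2047 (.alt 11 (.pick 1428 [30, 30, 0, 10, 0, 3, 1, 0, 0, 1, 0, 0] 2047 (.alt 11 (.pick 484 [10, 10, 0, 9, 4, 0, 0, 0, 0, 9, 4, 0] 2047 (.alt 11 (.pick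 1636 [28, 28, 0, 7, 3, 0, 0, 3, 5, 0, 0, 0] 2047 (.alt 11 (.pick 932 [34, 34, 0, 7, 5, 0, 1, 0, 0, 0, 0, 1] 3071 (.alt 10 (.pick 93 [0, 0, 0, 0, 0, 17, 0, 14, 14, 0, 0, 0] 2559 (.alt 9 (.pick 157 [0, 2, 0, 0, 0, 17, 0, 0, 2, 0, 17, 0] 2047 (.alt 11 (.pick 285 [0, 3, 0, 0, 0, 17, 1, 0, 0, 1, 0, 0] 3071 (.alt 10 (.pick 173 [0, 7, 0, 0, 1, 0, 15, 0, 0, 15, 7, 1] 3839 (.alt 8 (c_35) (.altEnd))) (.altEnd))) (.altEnd))) (.alt 10 (.pick 285 [0, 2, 0, 0, 0, 16, 0, 2, 0, 16, 0, 0] 2047 (.alt 11 (.pick 157 [0, 3, 0, 0, 0, 18, 1, 0, 0, 0, 1, 0] 3583 (.alt 9 (c_41) (.altEnd))) (.altEnd))) (.altEnd)))) (.altEnd))) (.altEnd))) (.altEnd))) (.altEnd))) (.altEnd))) (.altEnd))) (.altEnd))) (.altEnd))) (.altEnd))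

def c_43 : Cert :=
  .pick 1571 [0, 0, 22, 7, 3, 0, 3, 11, 5, 0, 0, 0] 2047 (.alt 11 (.pick 1219 [0, 0, 16, 10, 4, 1, 0, 0, 1, 5, 0, 0] 2047 (.alt 11 (.pick 835 [0, 0, 18, 11, 6, 2, 0, 2, 0, 0, 11, 0] 2047 (.alt 11 (.pick 899 [0, 0, 19, 9, 7, 3, 0, 0, 0, 0, 0, 0] 3071 (.alt 10 (.pick 124 [0, 0, 0, 0, 0, 0, 0, 0, 0, 0, 0, 0] 2047 (.alt 11 (.pick 188 [2, 2, 0, 0, 0, 0, 0, 0, 2, 2, 0, 0] 3071 (.alt 10 (.pick 316 [4, 4, 0, 0, 0, 0, 1, 0, 0, 0, 0, 1] 3583 (.alt 9 (.pick 220 [6, 6, 0, 0, 0, 1, 0, 0, 0, 6, 1, 2] 3839 (.alt 8 (.pick 1564 [8, 8, 0, 0, 0, 1, 8, 2, 1, 0, 0, 0] 2047 (.alt 11 (.pick 236 [10, 10, 0, 0, 1, 0, 0, 0, 1, 0, 3, 4] 3583 (.alt 9 (.pick 1324 [14, 14, 0, 0, 3, 0, 12, 4, 0, 3, 0, 0] 2047 (.alt 11 (.pick 1228 [16, 16,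 0, 0, 3, 1, 0, 0, 3, 1, 0, 0] 2047 (.alt 11 (.pick 844 [14, 14, 0, 0, 4, 2, 0, 2, 0, 0, 0, 14] 3071 (.alt 10 (c_42) (.altEnd))) (.altEnd))) (.altEnd))) (.altEnd))) (.altEnd))) (.altEnd))) (.altEnd))) (.altEnd))) (.altEnd))) (.altEnd))) (.altEnd))) (.altEnd))) (.altEnd))

def c_44 : Cert :=
  .pick 587 [0, 0, 2, 0, 0, 0, 0, 2, 3, 0, 11, 0] 4063 (.alt 5 (.pick 1067 [0, 0, 2, 0, 2, 0, 0, 0, 11, 0, 0, 5] 3967 (.alt 7 (.pick 299 [0, 0, 3, 0, 3, 0, 1, 0, 0, 1, 0, 0] 2047 (.alt 11 (.pick 331 [0, 0, 5, 0, 3, 0, 0, 5, 0, 2, 0, 0] 3071 (.alt 10 (.pick 283 [0, 0, 5, 0, 0, 1, 0, 0, 0, 7, 0, 1] 3967 (.alt 7 (.pick 539 [0, 0, 6, 0, 0, 4, 4, 0, 0, 0, 0, 5] 3071 (.alt 10 (.pick 651 [0, 0, 8, 0, 0, 4, 5, 0, 1, 0, 0, 0] 2047 (.alt 11 (.pick 307 [0,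 0, 8, 2, 0, 0, 12, 2, 0, 0, 17, 4] 3583 (.alt 9 (.pick 595 [0, 0, 13, 2, 0, 0, 0, 0, 0, 0, 2, 8] 3967 (.alt 7 (.pick 115 [0, 0, 10, 8, 0, 0, 0, 0, 1, 0, 0, 9] 3071 (.alt 10 (.pick 179 [0, 0, 11, 5, 0, 0, 0, 0, 2, 1, 0, 0] 2047 (.alt 11 (.pick 1299 [0, 0, 16, 5, 0, 1, 1, 6, 0, 3, 0, 0] 2047 (.alt 11 (.pick 227 [0, 0, 14, 10, 1, 0, 0, 0, 0, 3, 2, 1] 3839 (.alt 8 (c_43) (.altEnd))) (.altEnd))) (.altEnd))) (.altEnd))) (.altEnd))) (.altEnd))) (.altEnd))) (.altEnd))) (.altEnd))) (.altEnd))) (.altEnd))) (.altEnd))) (.altEnd))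

def c_45 : Cert :=
  .pick 632 [0, 0, 0, 0, 0, 0, 0, 0, 0, 0, 0, 0] 3071 (.alt 10 (.pick 440 [4, 4, 4, 0, 0, 0, 4, 0, 0, 4, 4, 0] 2047 (.alt 11 (.pick 728 [3, 3, 3, 0, 0, 1, 0, 0, 3, 0, 1, 0] 2047 (.alt 11 (.pick 1368 [5, 5, 5, 0, 0, 2, 0, 5, 0, 2, 0, 0] 2047 (.alt 11 (.pick 920 [8, 8, 8, 0, 0, 2, 1, 0, 0, 0, 0, 1] 3071 (.alt 10 (.pick 488 [10, 10, 10, 0, 3, 0, 0, 0, 0, 10, 0, 3] 3071 (.alt 10 (.pick 872 [13, 13, 13, 0, 5, 0, 0, 0, 0, 0, 0, 0] 2047 (.alt 11 (.pick 1704 [16, 16, 16, 0, 2, 0, 1, 0, 1, 0, 0, 0] 2047 (.alt 11 (.pick 496 [14, 14, 14, 2, 0, 0, 0, 0, 0, 0, 2, 6] 3583 (.alt 9 (.pick 1264 [17, 17, 17, 3, 0, 0, 0, 0, 0, 0, 0, 0] 2047 (.alt 11 (.pick 1840 [20, 20, 20, 5, 0, 0, 1, 1, 0, 0, 0, 0] 2047 (.alt 11 (.pick 1984 [22,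 22, 22, 5, 2, 2, 0, 0, 0, 0, 0, 0] 2047 (.alt 11 (.pick 91 [0, 0, 0, 0, 0, 0, 0, 1, 4, 0, 0, 0] 511 (.alt 9 (c_14) (.alt 10 (c_29) (.alt 11 (c_44) (.altEnd))))) (.altEnd))) (.altEnd))) (.altEnd))) (.altEnd))) (.altEnd))) (.altEnd))) (.altEnd))) (.altEnd))) (.altEnd))) (.altEnd))) (.altEnd))) (.altEnd))

def cert : Cert :=
  .pick 31 [0, 0, 0, 0, 0] 31 (.altNew (.free (.pick 79 [0, 0, 0, 0, 0, 0, 0] 127 (.altNew (.pick 87 [0, 0, 0, 0, 0, 1, 0, 0] 255 (.altNew (.pick 271 [0, 0, 0, 0, 0, 2, 0, 1, 0] 511 (.altNew (.pick 151 [0, 0, 0, 2, 0, 3, 1, 0, 1, 0] 511 (.alt 9 (.pick 103 [0, 0, 0, 3, 2, 0, 0, 3, 2, 0] 511 (.alt 9 (.pick 167 [0, 0, 0, 4, 1, 0, 0, 0, 0, 0] 767 (.alt 8 (.pick 91 [0, 0, 4, 0, 0, 6, 0, 5, 4, 0] 511 (.alt 9 (.pick 93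 [0, 0, 0, 0, 0, 7, 0, 6, 5, 0] 1023 (.altNew (.pick 1039 [0, 0, 0, 0, 0, 8, 0, 7, 5, 5, 0] 2047 (.altNew (.pick 1047 [0, 0, 0, 0, 0, 9, 1, 5, 7, 5, 0, 0] 4095 (.altEnd)))))) (.altNew (.pick 1039 [0, 0, 0, 0, 0, 7, 0, 6, 4, 4, 0] 2047 (.altNew (.pick 1047 [0, 0, 0, 0, 0, 8, 1, 4, 6, 4, 0, 0] 4095 (.altEnd))))))) (.altNew (.pick 1039 [0, 0, 0, 0, 6, 0, 5, 0, 3, 3, 0] 2047 (.altNew (.pick 1047 [0, 0, 0, 0, 0, 1, 5, 1, 5, 3, 0, 0] 4095 (.altEnd))))))) (.altNew (.pick 1039 [0, 0, 0, 0, 5, 0, 0, 4, 2, 2, 0] 2047 (.altNew (.pick 1047 [0, 0, 0, 0, 0, 1, 1, 2, 4, 2, 0, 0] 4095 (.altEnd))))))) (.altNew (.pick 1039 [0, 0, 0, 0, 0, 4, 3, 0, 1, 1, 0] 2047 (.altNew (.pick 535 [0, 0, 0, 2, 0, 5, 3, 1, 2, 0, 1, 0] 2047 (.alt 11 (.pick 2119 [0,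 0, 0, 1, 0, 0, 0, 5, 4, 0, 1, 0] 4063 (.alt 5 (.pick 583 [0, 0, 0, 4, 1, 0, 0, 6, 4, 0, 0, 0] 3071 (.alt 10 (.pick 551 [0, 0, 0, 5, 2, 0, 0, 0, 5, 0, 0, 1] 3967 (.alt 7 (.pick 295 [0, 0, 0, 6, 7, 0, 2, 0, 0, 0, 0, 2] 3071 (.alt 10 (.pick 391 [0, 0, 0, 7, 6, 0, 8, 0, 0, 1, 0, 0] 2047 (.alt 11 (c_45) (.altEnd))) (.altEnd))) (.altEnd))) (.altEnd))) (.altEnd))) (.altEnd))))))))))))))))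

theorem cert_ok : check 5 12 bad std cert none 5 [] = true := by decide +kernel

theorem std_ok : ∀ S ∈ std, S < 2 ^ 12 ∧ pc 12 S = 6 := by decide +kernel

theorem std_nodup : std.Nodup := by decide +kernel

theorem std_length : std.length = 132 := by decide +kernel

end Cfsg.Agent.Helper8.Cert12
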