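import Cfsg.Agent.Lib.Helper8.Plane4

set_option autoImplicit false
set_option linter.unusedSectionVars false

/-! Reconstruction of the projective plane of order 4 from a hyperoval: points off the hyperoval
are the partitions of the hyperoval into three pairs.  Consequences: uniqueness of the plane and
unique extension of bijections between hyperovals. -/

namespace Cfsg.Agent.Helper8

open Cfsg Finset

section single

variable {α : Type*} [Fintype α] [DecidableEq α]

/-- The line through a 2-set of points (junk value `∅` if there is none). -/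
noncomputable def lineOf (L : Set (Finset α)) (P : Finset α) : Finset α := by
  classical exact if h : ∃ l, l ∈ L ∧ P ⊆ l then Classical.choose h else ∅

theorem lineOf_spec {L : Set (Finset α)} (hL : IsSteinerSystem 2 5 L) {P : Finset α}
    (hP : P.card = 2) : lineOf L P ∈ L ∧ P ⊆ lineOf L P := by
  classical
  obtain ⟨l, ⟨hl, hPl⟩, -⟩ := hL.2 P hP
  have h : ∃ l, l ∈ L ∧ P ⊆ l := ⟨l, hl, hPl⟩
  rw [lineOf, dif_pos h]
  exact Classical.choose_spec h

theorem eq_lineOf {L : Set (Finset α)} (hL : IsSteinerSystem 2 5 L) {P : Finset α}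
    (hP : P.card = 2) {l : Finset α} (hl : l ∈ L) (hPl : P ⊆ l) : l = lineOf L P := by
  obtain ⟨m, -, huniq⟩ := hL.2 P hP
  rw [huniq l ⟨hl, hPl⟩, huniq (lineOf L P) (lineOf_spec hL hP)]

/-- Two lines sharing two distinct points are equal. -/
theorem line_eq_of_two {L : Set (Finset α)} (hL : IsSteinerSystem 2 5 L) {l m : Finset α}
    (hl : l ∈ L) (hm : m ∈ L) {x y : α} (hxy : x ≠ y) (hxl : x ∈ l) (hyl : y ∈ l)
    (hxm : x ∈ m) (hym : y ∈ m) : l = m := by
  have hP : ({x, y} : Finset α).card = 2 := card_pair hxy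
  have h1 : ({x, y} : Finset α) ⊆ l := by
    intro z hz; rcases mem_insert.mp hz with rfl | hz
    · exact hxl
    · rw [mem_singleton.mp hz]; exact hyl
  have h2 : ({x, y} : Finset α) ⊆ m := by
    intro z hz; rcases mem_insert.mp hz with rfl | hz
    · exact hxm
    · rw [mem_singleton.mp hz]; exact hym
  rw [eq_lineOf hL hP hl h1, eq_lineOf hL hP hm h2]

variable (hα : Fintype.card α = 21) {L : Set (Finset α)} (hL : IsSteinerSystem 2 5 L)
  {H : Finset α} (hH : H ∈ arcsF L 6)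

include hα hL hH

/-- A hyperoval has no tangent lines. -/
theorem hyperoval_inter {l : Finset α} (hl : l ∈ L) : (l ∩ H).card = 0 ∨ (l ∩ H).card = 2 := by
  obtain ⟨hH6, hHa⟩ := mem_arcsF.mp hH
  by_cases h0 : (l ∩ H).card = 0
  · exact Or.inl h0
  right
  obtain ⟨a, ha⟩ : (l ∩ H).Nonempty := by rw [← card_pos]; omega
  obtain ⟨hal, haH⟩ := mem_inter.mp ha
  obtain ⟨h5, hsum⟩ := pencil_sums hα hL a (H.erase a) (notMem_erase a H)
  have hcard : (H.erase a).card = 5 := by rw [card_erase_of_mem haH, hH6]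
  have hrel : ∀ l' ∈ (blocksF L).filter (fun l => a ∈ l),
      ((H.erase a) ∩ l').card + 1 = (l' ∩ H).card := by
    intro l' hl'
    have hal' := (mem_filter.mp hl').2
    have : (H.erase a) ∩ l' = (l' ∩ H).erase a := by
      ext z; simp only [mem_inter, mem_erase]; tauto
    rw [this, card_erase_of_mem (mem_inter.mpr ⟨hal', haH⟩)]
    have : 0 < (l' ∩ H).card := card_pos.mpr ⟨a, mem_inter.mpr ⟨hal', haH⟩⟩
    omega
  have hi : ∀ l' ∈ (blocksF L).filter (fun l => a ∈ l), ((H.erase a) ∩ l').card ≤ 1 := by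
    intro l' hl'
    have h1 := hrel l' hl'
    have h2 := hHa l' (mem_blocksF.mp (mem_filter.mp hl').1)
    omega
  have key := termwise ((blocksF L).filter (fun l => a ∈ l)) (fun c => ((H.erase a) ∩ c).card)
    (fun n => n) (fun _ => 1) 1 hi (by intro n hn; exact hn)
    (by
      show ∑ c ∈ (blocksF L).filter (fun l => a ∈ l), ((H.erase a) ∩ c).card =
        ∑ c ∈ (blocksF L).filter (fun l => a ∈ l), 1
      rw [hsum, sum_const, smul_eq_mul, mul_one, h5, hcard])
  have hlP : l ∈ (blocksF L).filter (fun l => a ∈ l) := mem_filter.mpr ⟨mem_blocksF.mpr hl, hal⟩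
  have h1 : ((H.erase a) ∩ l).card = 1 := key l hlP
  have h2 := hrel l hlP
  omega

/-- The line through a pair of hyperoval points meets the hyperoval exactly in that pair. -/
theorem lineOf_inter {P : Finset α} (hPH : P ⊆ H) (hP : P.card = 2) : lineOf L P ∩ H = P := by
  obtain ⟨hH6, hHa⟩ := mem_arcsF.mp hH
  obtain ⟨hl, hPl⟩ := lineOf_spec hL hP
  symm
  apply eq_of_subset_of_card_le (subset_inter hPl hPH)
  rw [hP]; exact hHa _ hl

/-- At most two exterior lines pass through a point off the hyperoval. -/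
theorem ext_le_two {y : α} (hy : y ∉ H) : ((missing L H).filter (fun l => y ∈ l)).card ≤ 2 := by
  obtain ⟨hH6, hHa⟩ := mem_arcsF.mp hH
  obtain ⟨a, h1, h2, -⟩ := arc_point_data hα hL hHa hy
  omega

omit hα hL hH in
/-- A partition of `H` into pairs. -/
def IsSyntheme (H : Finset α) (T : Finset (Finset α)) : Prop :=
  (∀ P ∈ T, P ⊆ H ∧ P.card = 2) ∧ ∀ a ∈ H, ∃! P, P ∈ T ∧ a ∈ P

omit hα hL hH in
theorem IsSyntheme.disjoint {H : Finset α} {T : Finset (Finset α)} (hT : IsSyntheme H T)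
    {P Q : Finset α} (hP : P ∈ T) (hQ : Q ∈ T) (hne : P ≠ Q) : Disjoint P Q := by
  rw [disjoint_left]
  intro a haP haQ
  obtain ⟨R, -, huniq⟩ := hT.2 a ((hT.1 P hP).1 haP)
  exact hne ((huniq P ⟨hP, haP⟩).trans (huniq Q ⟨hQ, haQ⟩).symm)

omit hα hL hH in
/-- In a 6-set, a member of a syntheme other than two given members is the complement of their
union. -/
theorem IsSyntheme.third {H : Finset α} (hH6 : H.card = 6) {T : Finset (Finset α)}
    (hT : IsSyntheme H T) {P1 P2 Q : Finset α} (h1 : P1 ∈ T) (h2 : P2 ∈ T) (hQ : Q ∈ T)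
    (h12 : P1 ≠ P2) (hQ1 : Q ≠ P1) (hQ2 : Q ≠ P2) : Q = H \ (P1 ∪ P2) := by
  have d12 := hT.disjoint h1 h2 h12
  have dQ1 := hT.disjoint hQ h1 hQ1
  have dQ2 := hT.disjoint hQ h2 hQ2
  have hsub : Q ⊆ H \ (P1 ∪ P2) := by
    intro a ha
    rw [mem_sdiff, mem_union]
    refine ⟨(hT.1 Q hQ).1 ha, ?_⟩
    rintro (h | h)
    · exact (disjoint_left.mp dQ1 ha) h
    · exact (disjoint_left.mp dQ2 ha) h
  apply eq_of_subset_of_card_le hsub
  have hu : (P1 ∪ P2).card = 4 := by
    rw [card_union_of_disjoint d12, (hT.1 P1 h1).2, (hT.1 P2 h2).2]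
  have hsubH : P1 ∪ P2 ⊆ H := union_subset (hT.1 P1 h1).1 (hT.1 P2 h2).1
  rw [card_sdiff_of_subset hsubH, hu, hH6, (hT.1 Q hQ).2]

omit hα hL hH in
/-- Two synthemes of a 6-set sharing two distinct members are equal. -/
theorem syntheme_ext {H : Finset α} (hH6 : H.card = 6) {T T' : Finset (Finset α)}
    (hT : IsSyntheme H T) (hT' : IsSyntheme H T') {P1 P2 : Finset α} (h1 : P1 ∈ T)
    (h1' : P1 ∈ T') (h2 : P2 ∈ T) (h2' : P2 ∈ T') (h12 : P1 ≠ P2) : T = T' := by
  have key : ∀ {T T' : Finset (Finset α)}, IsSyntheme H T → IsSyntheme H T' → P1 ∈ T → P1 ∈ T' →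
      P2 ∈ T → P2 ∈ T' → T ⊆ T' := by
    intro T T' hT hT' h1 h1' h2 h2' Q hQ
    by_cases hQ1 : Q = P1
    · rw [hQ1]; exact h1'
    by_cases hQ2 : Q = P2
    · rw [hQ2]; exact h2'
    have hQeq := hT.third hH6 h1 h2 hQ h12 hQ1 hQ2
    obtain ⟨a, ha⟩ : Q.Nonempty := by rw [← card_pos, (hT.1 Q hQ).2]; norm_num
    obtain ⟨Q', ⟨hQ', haQ'⟩, -⟩ := hT'.2 a ((hT.1 Q hQ).1 ha)
    have haP1 : a ∉ P1 := fun h => (disjoint_left.mp (hT.disjoint hQ h1 hQ1) ha) h
    have haP2 : a ∉ P2 := fun h => (disjoint_left.mp (hT.disjoint hQ h2 hQ2) ha) h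
    have hQ'1 : Q' ≠ P1 := by rintro rfl; exact haP1 haQ'
    have hQ'2 : Q' ≠ P2 := by rintro rfl; exact haP2 haQ'
    have hQ'eq := hT'.third hH6 h1' h2' hQ' h12 hQ'1 hQ'2
    rw [hQeq, ← hQ'eq]; exact hQ'
  exact Subset.antisymm (key hT hT' h1 h1' h2 h2') (key hT' hT h1' h1 h2' h2)

omit hα hL hH in
/-- A syntheme of a 6-set has two distinct members. -/
theorem IsSyntheme.exists_two {H : Finset α} (hH6 : H.card = 6) {T : Finset (Finset α)}
    (hT : IsSyntheme H T) : ∃ P1 P2, P1 ∈ T ∧ P2 ∈ T ∧ P1 ≠ P2 := by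
  obtain ⟨a, ha⟩ : H.Nonempty := by rw [← card_pos, hH6]; norm_num
  obtain ⟨P1, ⟨hP1, -⟩, -⟩ := hT.2 a ha
  obtain ⟨b, hb⟩ : (H \ P1).Nonempty := by
    rw [← card_pos, card_sdiff_of_subset (hT.1 P1 hP1).1, hH6, (hT.1 P1 hP1).2]; norm_num
  obtain ⟨hbH, hbP1⟩ := mem_sdiff.mp hb
  obtain ⟨P2, ⟨hP2, hbP2⟩, -⟩ := hT.2 b hbH
  exact ⟨P1, P2, hP1, hP2, by rintro rfl; exact hbP1 hbP2⟩

omit hα hL hH in
/-- The pairs cut on the hyperoval by the secants through `x`. -/
noncomputable def duads (L : Set (Finset α)) (H : Finset α) (x : α) : Finset (Finset α) := by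
  classical exact (H.powersetCard 2).filter (fun P => x ∈ lineOf L P)

omit hα hL hH in
theorem mem_duads {L : Set (Finset α)} {H : Finset α} {x : α} {P : Finset α} :
    P ∈ duads L H x ↔ P ⊆ H ∧ P.card = 2 ∧ x ∈ lineOf L P := by
  classical
  simp [duads, mem_powersetCard, and_assoc]

theorem duads_syntheme {x : α} (hx : x ∉ H) : IsSyntheme H (duads L H x) := by
  refine ⟨fun P hP => ⟨(mem_duads.mp hP).1, (mem_duads.mp hP).2.1⟩, ?_⟩
  intro a ha
  have hxa : x ≠ a := by rintro rfl; exact hx ha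
  have hc : ({x, a} : Finset α).card = 2 := card_pair hxa
  obtain ⟨hl, hsub⟩ := lineOf_spec hL hc
  set l := lineOf L {x, a} with hldef
  have hxl : x ∈ l := hsub (by simp)
  have hal : a ∈ l := hsub (by simp)
  have h2 : (l ∩ H).card = 2 := by
    rcases hyperoval_inter hα hL hH hl with h | h
    · exact absurd (card_eq_zero.mp h) (ne_empty_of_mem (mem_inter.mpr ⟨hal, ha⟩))
    · exact h
  have hline : l = lineOf L (l ∩ H) := eq_lineOf hL h2 hl inter_subset_left
  refine ⟨l ∩ H, ⟨mem_duads.mpr ⟨inter_subset_right, h2, ?_⟩, mem_inter.mpr ⟨hal, ha⟩⟩, ?_⟩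
  · rw [← hline]; exact hxl
  · rintro P' ⟨hP', haP'⟩
    obtain ⟨hP'H, hP'2, hxP'⟩ := mem_duads.mp hP'
    obtain ⟨hm, hP'm⟩ := lineOf_spec hL hP'2
    have : lineOf L P' = l :=
      line_eq_of_two hL hm hl hxa hxP' (hP'm haP') hxl hal
    rw [← lineOf_inter hα hL hH hP'H hP'2, this]

/-- Two disjoint pairs of hyperoval points determine a point off the hyperoval. -/
theorem exists_point_of_duads {P1 P2 : Finset α} (h1H : P1 ⊆ H) (h2H : P2 ⊆ H)
    (h1 : P1.card = 2) (h2 : P2.card = 2) (hd : Disjoint P1 P2) :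
    ∃ y, y ∉ H ∧ P1 ∈ duads L H y ∧ P2 ∈ duads L H y := by
  obtain ⟨hm1, -⟩ := lineOf_spec hL h1
  obtain ⟨hm2, -⟩ := lineOf_spec hL h2
  have hi1 := lineOf_inter hα hL hH h1H h1
  have hi2 := lineOf_inter hα hL hH h2H h2
  have hne : lineOf L P1 ≠ lineOf L P2 := by
    intro h
    rw [h, hi2] at hi1
    obtain ⟨a, ha⟩ : P1.Nonempty := by rw [← card_pos, h1]; norm_num
    exact (disjoint_left.mp hd ha) (hi1 ▸ ha)
  obtain ⟨y, hy⟩ := card_eq_one.mp (line_inter hα hL hm1 hm2 hne)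
  have hy' : y ∈ lineOf L P1 ∩ lineOf L P2 := by rw [hy]; exact mem_singleton_self y
  obtain ⟨hy1, hy2⟩ := mem_inter.mp hy'
  refine ⟨y, ?_, mem_duads.mpr ⟨h1H, h1, hy1⟩, mem_duads.mpr ⟨h2H, h2, hy2⟩⟩
  intro hyH
  have a1 : y ∈ P1 := by rw [← hi1]; exact mem_inter.mpr ⟨hy1, hyH⟩
  have a2 : y ∈ P2 := by rw [← hi2]; exact mem_inter.mpr ⟨hy2, hyH⟩
  exact (disjoint_left.mp hd a1) a2

/-- A point is determined by two of its duads. -/
theorem point_unique_of_duads {x y : α} {P1 P2 : Finset α} (hne : P1 ≠ P2)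
    (h1x : P1 ∈ duads L H x) (h2x : P2 ∈ duads L H x) (h1y : P1 ∈ duads L H y)
    (h2y : P2 ∈ duads L H y) : x = y := by
  obtain ⟨h1H, h1, hx1⟩ := mem_duads.mp h1x
  obtain ⟨h2H, h2, hx2⟩ := mem_duads.mp h2x
  obtain ⟨-, -, hy1⟩ := mem_duads.mp h1y
  obtain ⟨-, -, hy2⟩ := mem_duads.mp h2y
  obtain ⟨hm1, -⟩ := lineOf_spec hL h1
  obtain ⟨hm2, -⟩ := lineOf_spec hL h2
  have hlne : lineOf L P1 ≠ lineOf L P2 := by
    intro h
    apply hne
    rw [← lineOf_inter hα hL hH h1H h1, ← lineOf_inter hα hL hH h2H h2, h]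
  have hc := line_inter hα hL hm1 hm2 hlne
  exact card_le_one.mp hc.le x (mem_inter.mpr ⟨hx1, hx2⟩) y (mem_inter.mpr ⟨hy1, hy2⟩)

omit hα hH in
theorem join_spec {y y' : α} (hyy' : y ≠ y') :
    lineOf L {y, y'} ∈ L ∧ y ∈ lineOf L {y, y'} ∧ y' ∈ lineOf L {y, y'} := by
  obtain ⟨h1, h2⟩ := lineOf_spec hL (card_pair hyy')
  exact ⟨h1, h2 (by simp), h2 (by simp)⟩

omit hα hH in
theorem eq_join {y y' : α} (hyy' : y ≠ y') {l : Finset α} (hl : l ∈ L) (hy : y ∈ l)
    (hy' : y' ∈ l) : l = lineOf L {y, y'} := by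
  obtain ⟨h1, h2, h3⟩ := join_spec hL hyy'
  exact line_eq_of_two hL hl h1 hyy' hy hy' h2 h3

/-- Three distinct exterior lines cannot pass through a point off the hyperoval. -/
theorem not_three_ext {r : α} (hr : r ∉ H) {B C D : Finset α} (hB : B ∈ L) (hC : C ∈ L)
    (hD : D ∈ L) (hBH : B ∩ H = ∅) (hCH : C ∩ H = ∅) (hDH : D ∩ H = ∅) (hrB : r ∈ B)
    (hrC : r ∈ C) (hrD : r ∈ D) (hBC : B ≠ C) (hBD : B ≠ D) (hCD : C ≠ D) : False := by
  have h2 := ext_le_two hα hL hH hr
  have hmem : ∀ E : Finset α, E ∈ L → E ∩ H = ∅ → r ∈ E →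
      E ∈ (missing L H).filter (fun l => r ∈ l) := by
    intro E hE hEH hrE
    rw [mem_filter, missing, mem_filter, mem_blocksF, inter_comm, hEH]
    exact ⟨⟨hE, rfl⟩, hrE⟩
  have hsub : ({B, C, D} : Finset (Finset α)) ⊆ (missing L H).filter (fun l => r ∈ l) := by
    intro E hE
    simp only [mem_insert, mem_singleton] at hE
    rcases hE with rfl | rfl | rfl
    · exact hmem _ hB hBH hrB
    · exact hmem _ hC hCH hrC
    · exact hmem _ hD hDH hrD
  have h3 : ({B, C, D} : Finset (Finset α)).card = 3 :=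
    card_eq_three.mpr ⟨B, C, D, hBC, hBD, hCD, rfl⟩
  have := card_le_card hsub
  omega

/-- Five points off the hyperoval, pairwise joined by exterior lines, form an exterior line. -/
theorem clique_is_line {K : Finset α} (hK5 : K.card = 5) (hKH : ∀ y ∈ K, y ∉ H)
    (hKe : ∀ y ∈ K, ∀ y' ∈ K, y ≠ y' → lineOf L {y, y'} ∩ H = ∅) : K ∈ L := by
  by_contra hKL
  -- a triangle lemma
  have tri : ∀ p ∈ K, ∀ q ∈ K, ∀ r ∈ K, ∀ w ∈ K, p ≠ q → r ≠ p → r ≠ q → w ≠ p → w ≠ q →
      w ≠ r → r ∉ lineOf L {p, q} → w ∉ lineOf L {p, q} := by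
    intro p hp q hq r hr w hw hpq hrp hrq hwp hwq hwr hrA hwA
    obtain ⟨hA, hpA, hqA⟩ := join_spec hL hpq
    obtain ⟨hB, hrB, hpB⟩ := join_spec hL hrp
    obtain ⟨hC, hrC, hqC⟩ := join_spec hL hrq
    obtain ⟨hD, hrD, hwD⟩ := join_spec hL (Ne.symm hwr)
    apply not_three_ext hα hL hH (hKH r hr) hB hC hD (hKe r hr p hp hrp) (hKe r hr q hq hrq)
      (hKe r hr w hw (Ne.symm hwr)) hrB hrC hrD
    · intro h
      have : lineOf L {r, p} = lineOf L {p, q} :=
        line_eq_of_two hL hB hA hpq hpB (h ▸ hqC) hpA hqA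
      exact hrA (this ▸ hrB)
    · intro h
      have : lineOf L {r, p} = lineOf L {p, q} :=
        line_eq_of_two hL hB hA (Ne.symm hwp) hpB (h ▸ hwD) hpA hwA
      exact hrA (this ▸ hrB)
    · intro h
      have : lineOf L {r, q} = lineOf L {p, q} :=
        line_eq_of_two hL hC hA (Ne.symm hwq) hqC (h ▸ hwD) hqA hwA
      exact hrA (this ▸ hrC)
  obtain ⟨y, hy⟩ : K.Nonempty := by rw [← card_pos, hK5]; norm_num
  obtain ⟨y1, hy1⟩ : (K.erase y).Nonempty := by
    rw [← card_pos, card_erase_of_mem hy, hK5]; norm_num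
  obtain ⟨hy1y, hy1K⟩ := mem_erase.mp hy1
  obtain ⟨hE1, hyE1, hy1E1⟩ := join_spec hL (Ne.symm hy1y)
  have hnot : ¬ K ⊆ lineOf L {y, y1} := by
    intro h
    apply hKL
    rw [eq_of_subset_of_card_le h (by rw [hK5, hL.1 _ hE1])]
    exact hE1
  obtain ⟨y2, hy2K, hy2E1⟩ := not_subset.mp hnot
  have hy2y : y2 ≠ y := by rintro rfl; exact hy2E1 hyE1
  have hy2y1 : y2 ≠ y1 := by rintro rfl; exact hy2E1 hy1E1
  obtain ⟨hE2, hyE2, hy2E2⟩ := join_spec hL (Ne.symm hy2y)
  obtain ⟨hE3, hy1E3, hy2E3⟩ := join_spec hL (Ne.symm hy2y1)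
  have hy1E2 : y1 ∉ lineOf L {y, y2} := by
    intro h
    have : lineOf L {y, y2} = lineOf L {y, y1} :=
      line_eq_of_two hL hE2 hE1 (Ne.symm hy1y) hyE2 h hyE1 hy1E1
    exact hy2E1 (this ▸ hy2E2)
  have hyE3 : y ∉ lineOf L {y1, y2} := by
    intro h
    have : lineOf L {y1, y2} = lineOf L {y, y1} :=
      line_eq_of_two hL hE3 hE1 (Ne.symm hy1y) h hy1E3 hyE1 hy1E1
    exact hy2E1 (this ▸ hy2E3)
  obtain ⟨w, hw⟩ : (K \ {y, y1, y2}).Nonempty := by
    rw [← card_pos]
    have h3 : ({y, y1, y2} : Finset α).card = 3 :=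
      card_eq_three.mpr ⟨y, y1, y2, Ne.symm hy1y, Ne.symm hy2y, Ne.symm hy2y1, rfl⟩
    have := le_card_sdiff ({y, y1, y2} : Finset α) K
    omega
  obtain ⟨hwK, hwn⟩ := mem_sdiff.mp hw
  simp only [mem_insert, mem_singleton, not_or] at hwn
  obtain ⟨hwy, hwy1, hwy2⟩ := hwn
  have hw1 : w ∉ lineOf L {y, y1} :=
    tri y hy y1 hy1K y2 hy2K w hwK (Ne.symm hy1y) hy2y hy2y1 hwy hwy1 hwy2 hy2E1
  have hw2 : w ∉ lineOf L {y, y2} :=
    tri y hy y2 hy2K y1 hy1K w hwK (Ne.symm hy2y) hy1y (Ne.symm hy2y1) hwy hwy2 hwy1 hy1E2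
  have hw3 : w ∉ lineOf L {y1, y2} :=
    tri y1 hy1K y2 hy2K y hy w hwK (Ne.symm hy2y1) (Ne.symm hy1y) (Ne.symm hy2y) hwy1 hwy2
      hwy hyE3
  obtain ⟨hB, hwB, hyB⟩ := join_spec hL hwy
  obtain ⟨hC, hwC, hy1C⟩ := join_spec hL hwy1
  obtain ⟨hD, hwD, hy2D⟩ := join_spec hL hwy2
  apply not_three_ext hα hL hH (hKH w hwK) hB hC hD (hKe w hwK y hy hwy)
    (hKe w hwK y1 hy1K hwy1) (hKe w hwK y2 hy2K hwy2) hwB hwC hwD
  · intro h
    have : lineOf L {w, y} = lineOf L {y, y1} :=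
      line_eq_of_two hL hB hE1 (Ne.symm hy1y) hyB (h ▸ hy1C) hyE1 hy1E1
    exact hw1 (this ▸ hwB)
  · intro h
    have : lineOf L {w, y} = lineOf L {y, y2} :=
      line_eq_of_two hL hB hE2 (Ne.symm hy2y) hyB (h ▸ hy2D) hyE2 hy2E2
    exact hw2 (this ▸ hwB)
  · intro h
    have : lineOf L {w, y1} = lineOf L {y1, y2} :=
      line_eq_of_two hL hC hE3 (Ne.symm hy2y1) hy1C (h ▸ hy2D) hy1E3 hy2E3
    exact hw3 (this ▸ hwC)

end single

section iso

variable {α β : Type*} [Fintype α] [DecidableEq α] [Fintype β] [DecidableEq β]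

theorem IsSyntheme.image {H : Finset α} {T : Finset (Finset α)} (hT : IsSyntheme H T)
    (f : α ≃ β) : IsSyntheme (H.image f) (T.image (fun P => P.image f)) := by
  constructor
  · intro Q hQ
    obtain ⟨P, hP, rfl⟩ := mem_image.mp hQ
    exact ⟨image_subset_image (hT.1 P hP).1,
      by rw [card_image_of_injective _ f.injective, (hT.1 P hP).2]⟩
  · intro b hb
    obtain ⟨a, ha, rfl⟩ := mem_image.mp hb
    obtain ⟨P, ⟨hP, haP⟩, huniq⟩ := hT.2 a ha
    refine ⟨P.image f, ⟨mem_image_of_mem _ hP, mem_image_of_mem _ haP⟩, ?_⟩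
    rintro Q ⟨hQ, hbQ⟩
    obtain ⟨P', hP', rfl⟩ := mem_image.mp hQ
    obtain ⟨a', ha', hfa⟩ := mem_image.mp hbQ
    have : a' = a := f.injective hfa
    rw [huniq P' ⟨hP', this ▸ ha'⟩]

theorem image_image_injective (f : α ≃ β) :
    Function.Injective (fun T : Finset (Finset α) => T.image (fun P => P.image f)) :=
  Finset.image_injective (Finset.image_injective f.injective)

variable (hα : Fintype.card α = 21) (hβ : Fintype.card β = 21) {L : Set (Finset α)}
  {L' : Set (Finset β)} (hL : IsSteinerSystem 2 5 L) (hL' : IsSteinerSystem 2 5 L')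
  {H : Finset α} {H' : Finset β} (hH : H ∈ arcsF L 6) (hH' : H' ∈ arcsF L' 6)
  (f : α ≃ β) (hf : H.image f = H')

include hα hβ hL hL' hH hH' hf

/-- For a point `x` off `H` there is a point `y` off `H'` whose duads are the images of those of
`x`. -/
theorem exists_transfer {x : α} (hx : x ∉ H) :
    ∃ y, y ∉ H' ∧ duads L' H' y = (duads L H x).image (fun P => P.image f) := by
  have hH6 : H.card = 6 := (mem_arcsF.mp hH).1
  have hH'6 : H'.card = 6 := (mem_arcsF.mp hH').1
  have hT := duads_syntheme hα hL hH hx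
  obtain ⟨P1, P2, hP1, hP2, hne⟩ := hT.exists_two hH6
  have hTi := hT.image f
  rw [hf] at hTi
  have hQ1 : P1.image f ∈ (duads L H x).image (fun P => P.image f) := mem_image_of_mem _ hP1
  have hQ2 : P2.image f ∈ (duads L H x).image (fun P => P.image f) := mem_image_of_mem _ hP2
  have hQne : P1.image f ≠ P2.image f := fun h => hne (Finset.image_injective f.injective h)
  obtain ⟨y, hy, hy1, hy2⟩ := exists_point_of_duads hβ hL' hH' (hTi.1 _ hQ1).1 (hTi.1 _ hQ2).1
    (hTi.1 _ hQ1).2 (hTi.1 _ hQ2).2 (hTi.disjoint hQ1 hQ2 hQne)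
  refine ⟨y, hy, ?_⟩
  exact syntheme_ext hH'6 (duads_syntheme hβ hL' hH' hy) hTi hy1 hQ1 hy2 hQ2 hQne

/-- Any bijection of hyperovals extends to an isomorphism of the planes. -/
theorem exists_iso_extending :
    ∃ e : α ≃ β, (∀ a ∈ H, e a = f a) ∧ (fun b : Finset α => b.image e) '' L = L' := by
  classical
  have hH6 : H.card = 6 := (mem_arcsF.mp hH).1
  have hH'6 : H'.card = 6 := (mem_arcsF.mp hH').1
  have hex : ∀ x, x ∉ H →
      ∃ y, y ∉ H' ∧ duads L' H' y = (duads L H x).image (fun P => P.image f) :=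
    fun x hx => exists_transfer hα hβ hL hL' hH hH' f hf hx
  have hne : Nonempty β := Fintype.card_pos_iff.mp (by rw [hβ]; norm_num)
  choose! g hg using hex
  let e0 : α → β := fun x => if x ∈ H then f x else g x
  have he0H : ∀ x, x ∈ H → e0 x = f x := fun x hx => if_pos hx
  have he0N : ∀ x, x ∉ H → e0 x = g x := fun x hx => if_neg hx
  have hmemH' : ∀ x, x ∈ H → e0 x ∈ H' := by
    intro x hx; rw [he0H x hx, ← hf]; exact mem_image_of_mem _ hx
  have hnmemH' : ∀ x, x ∉ H → e0 x ∉ H' := by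
    intro x hx; rw [he0N x hx]; exact (hg x hx).1
  have hduads : ∀ x, x ∉ H →
      duads L' H' (e0 x) = (duads L H x).image (fun P => P.image f) := by
    intro x hx; rw [he0N x hx]; exact (hg x hx).2
  have hinj : Function.Injective e0 := by
    intro x x' hxx'
    by_cases hx : x ∈ H <;> by_cases hx' : x' ∈ H
    · rw [he0H x hx, he0H x' hx'] at hxx'; exact f.injective hxx'
    · exact absurd (hxx' ▸ hmemH' x hx) (hnmemH' x' hx')
    · exact absurd (hxx' ▸ hmemH' x' hx') (hnmemH' x hx)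
    · have h1 := hduads x hx
      rw [hxx', hduads x' hx'] at h1
      have h2 : duads L H x' = duads L H x := image_image_injective f h1
      obtain ⟨P1, P2, hP1, hP2, hne⟩ := (duads_syntheme hα hL hH hx).exists_two hH6
      exact point_unique_of_duads hα hL hH hne hP1 hP2 (h2 ▸ hP1) (h2 ▸ hP2)
  have hbij : Function.Bijective e0 :=
    (Fintype.bijective_iff_injective_and_card e0).mpr ⟨hinj, by rw [hα, hβ]⟩
  -- images of lines are lines
  have hline : ∀ l ∈ L, l.image e0 ∈ L' := by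
    intro l hl
    rcases hyperoval_inter hα hL hH hl with h0 | h2
    · -- exterior line
      have hlH : ∀ x ∈ l, x ∉ H := by
        intro x hxl hxH
        have : x ∈ l ∩ H := mem_inter.mpr ⟨hxl, hxH⟩
        rw [card_eq_zero.mp h0] at this
        exact notMem_empty x this
      apply clique_is_line hβ hL' hH'
      · rw [card_image_of_injective _ hinj, hL.1 l hl]
      · intro y hy
        obtain ⟨x, hxl, rfl⟩ := mem_image.mp hy
        exact hnmemH' x (hlH x hxl)
      · intro y hy y' hy' hyy'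
        obtain ⟨x, hxl, rfl⟩ := mem_image.mp hy
        obtain ⟨x', hx'l, rfl⟩ := mem_image.mp hy'
        have hxx' : x ≠ x' := fun h => hyy' (by rw [h])
        obtain ⟨hm, hym, hy'm⟩ := join_spec hL' hyy'
        rcases hyperoval_inter hβ hL' hH' hm with hm0 | hm2
        · exact card_eq_zero.mp hm0
        · exfalso
          -- the secant m cuts the duad Q, which belongs to both e0 x and e0 x'
          set m := lineOf L' {e0 x, e0 x'} with hmdef
          have hQm : m = lineOf L' (m ∩ H') := eq_lineOf hL' hm2 hm inter_subset_left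
          have hQ1 : m ∩ H' ∈ duads L' H' (e0 x) :=
            mem_duads.mpr ⟨inter_subset_right, hm2, by rw [← hQm]; exact hym⟩
          have hQ2 : m ∩ H' ∈ duads L' H' (e0 x') :=
            mem_duads.mpr ⟨inter_subset_right, hm2, by rw [← hQm]; exact hy'm⟩
          rw [hduads x (hlH x hxl)] at hQ1
          rw [hduads x' (hlH x' hx'l)] at hQ2
          obtain ⟨P, hP, hPQ⟩ := mem_image.mp hQ1
          obtain ⟨P', hP', hP'Q⟩ := mem_image.mp hQ2
          have hPP' : P' = P := Finset.image_injective f.injective (hP'Q.trans hPQ.symm)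
          rw [hPP'] at hP'
          obtain ⟨hPH, hP2, hxP⟩ := mem_duads.mp hP
          obtain ⟨-, -, hx'P⟩ := mem_duads.mp hP'
          obtain ⟨hk, -⟩ := lineOf_spec hL hP2
          have hlk : l = lineOf L P := line_eq_of_two hL hl hk hxx' hxl hx'l hxP hx'P
          have := lineOf_inter hα hL hH hPH hP2
          rw [← hlk] at this
          rw [this, hP2] at h0
          exact absurd h0 (by norm_num)
    · -- secant
      set P := l ∩ H with hPdef
      have hPH : P ⊆ H := inter_subset_right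
      have hlP : l = lineOf L P := eq_lineOf hL h2 hl inter_subset_left
      have hQH' : P.image f ⊆ H' := by rw [← hf]; exact image_subset_image hPH
      have hQ2 : (P.image f).card = 2 := by rw [card_image_of_injective _ f.injective, h2]
      obtain ⟨hm, hQm⟩ := lineOf_spec hL' hQ2
      have hsub : l.image e0 ⊆ lineOf L' (P.image f) := by
        intro y hy
        obtain ⟨x, hxl, rfl⟩ := mem_image.mp hy
        by_cases hxH : x ∈ H
        · rw [he0H x hxH]
          exact hQm (mem_image_of_mem _ (mem_inter.mpr ⟨hxl, hxH⟩))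
        · have hPx : P ∈ duads L H x := mem_duads.mpr ⟨hPH, h2, by rw [← hlP]; exact hxl⟩
          have : P.image f ∈ duads L' H' (e0 x) := by
            rw [hduads x hxH]; exact mem_image_of_mem _ hPx
          exact (mem_duads.mp this).2.2
      rw [eq_of_subset_of_card_le hsub
        (by rw [card_image_of_injective _ hinj, hL.1 l hl, hL'.1 _ hm])]
      exact hm
  refine ⟨Equiv.ofBijective e0 hbij, fun a ha => he0H a ha, ?_⟩
  have hsub : (fun b : Finset α => b.image (Equiv.ofBijective e0 hbij)) '' L ⊆ L' := by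
    rintro _ ⟨l, hl, rfl⟩
    exact hline l hl
  apply Set.eq_of_subset_of_ncard_le hsub _ (Set.toFinite _)
  rw [Set.ncard_image_of_injective L (Finset.image_injective (Equiv.ofBijective e0 hbij).injective),
    ncard_eq_card_blocksF, ncard_eq_card_blocksF, (plane_sums hα hL ∅).1, (plane_sums hβ hL' ∅).1]

end iso

end Cfsg.Agent.Helper8
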