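import Cfsg.Agent.Lib.Helper8.SteinerThrough
import Cfsg.Agent.Lib.Helper8.Cert11
import Cfsg.Agent.Lib.Helper8.Cert12
import Cfsg.Agent.S5628

set_option autoImplicit false
set_option linter.unusedSectionVars false

/-! Intersection numbers, normal forms and uniqueness for `S(5,6,12)` and `S(4,5,11)`. -/

namespace Cfsg.Agent.Helper8

open Cfsg Finset Cfsg.Agent.Helper8.Forcing

variable {α : Type*} [Fintype α] [DecidableEq α]

/-! ### S(5,6,12) -/

theorem card_blocks_5_6_12 (hα : Fintype.card α = 12) {B : Set (Finset α)}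
    (hB : IsSteinerSystem 5 6 B) : (blocksF B).card = 132 := by
  have h := card_blocks hB
  rw [hα] at h
  norm_num [Nat.choose] at h
  omega

theorem inter_5_6_12 (hα : Fintype.card α = 12) {B : Set (Finset α)}
    (hB : IsSteinerSystem 5 6 B) {b c : Finset α} (hb : b ∈ B) (hc : c ∈ B) (hbc : b ≠ c) :
    (b ∩ c).card ≠ 1 ∧ (b ∩ c).card ≤ 4 := by
  obtain ⟨h0, h1, h2, h3, h4⟩ := sums_5_6_12 hα hB hb
  have hi : ∀ c ∈ (blocksF B).erase b, (b ∩ c).card ≤ 4 := by
    intro c hc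
    rw [mem_erase_blocksF] at hc
    have := card_inter_lt hB hb hc.2 (Ne.symm hc.1)
    omega
  have hid : ∀ c ∈ (blocksF B).erase b,
      (if (b ∩ c).card = 1 then 1 else 0) + 2 * Nat.choose (b ∩ c).card 2 +
          4 * Nat.choose (b ∩ c).card 4 = (b ∩ c).card + 3 * Nat.choose (b ∩ c).card 3 := by
    intro c hc
    have := hi c hc
    interval_cases (b ∩ c).card <;> decide
  have hs := Finset.sum_congr rfl hid
  rw [Finset.sum_add_distrib, Finset.sum_add_distrib, Finset.sum_add_distrib,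
    ← Finset.mul_sum, ← Finset.mul_sum, ← Finset.mul_sum, h1, h2, h3, h4] at hs
  have hz : ∑ c ∈ (blocksF B).erase b, (if (b ∩ c).card = 1 then 1 else 0) = 0 := by omega
  rw [Finset.sum_eq_zero_iff] at hz
  have hcE : c ∈ (blocksF B).erase b := mem_erase_blocksF.mpr ⟨Ne.symm hbc, hc⟩
  refine ⟨?_, hi c hcE⟩
  intro h
  have := hz c hcE
  rw [if_pos h] at this
  exact one_ne_zero this

theorem hbad_5_6_12 (hα : Fintype.card α = 12) {B : Set (Finset α)}
    (hB : IsSteinerSystem 5 6 B) :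
    ∀ b ∈ B, ∀ c ∈ B, b ≠ c → Cert12.bad (b ∩ c).card = false := by
  intro b hb c hc hbc
  obtain ⟨h1, h2⟩ := inter_5_6_12 hα hB hb hc hbc
  unfold Cert12.bad
  rw [Bool.or_eq_false_iff, beq_eq_false_iff_ne, beq_eq_false_iff_ne]
  exact ⟨h1, by omega⟩

theorem exists_isNF_12 (hα : Fintype.card α = 12) {B : Set (Finset α)}
    (hB : IsSteinerSystem 5 6 B) (x₀ : Fin 5 ↪ α) :
    ∃ y : ℕ → α, (∀ i : Fin 5, y i = x₀ i) ∧ IsNF B 12 Cert12.std y := by
  obtain ⟨y, hy, hy0, hyS⟩ := normal_form Cert12.cert (by norm_num) Cert12.cert_ok (by decide)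
    Cert12.std_ok hα hB (hbad_5_6_12 hα hB) x₀
  exact ⟨y, hy0, isNF_of_subset hy (fun S hS => (Cert12.std_ok S hS).1) Cert12.std_nodup
    (by rw [card_blocks_5_6_12 hα hB, Cert12.std_length]) hyS⟩

/-! ### S(4,5,11) -/

theorem card_blocks_4_5_11 (hα : Fintype.card α = 11) {B : Set (Finset α)}
    (hB : IsSteinerSystem 4 5 B) : (blocksF B).card = 66 := by
  have h := card_blocks hB
  rw [hα] at h
  norm_num [Nat.choose] at h
  omega

theorem sums_4_5_11 (hα : Fintype.card α = 11) {B : Set (Finset α)}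
    (hB : IsSteinerSystem 4 5 B) {b : Finset α} (hb : b ∈ B) :
    ((blocksF B).erase b).card = 65 ∧
    (∑ c ∈ (blocksF B).erase b, (b ∩ c).card) = 145 ∧
    (∑ c ∈ (blocksF B).erase b, Nat.choose (b ∩ c).card 2) = 110 ∧
    (∑ c ∈ (blocksF B).erase b, Nat.choose (b ∩ c).card 3) = 30 := by
  have h0 := moment_erase hB hb 0 (by norm_num)
  have h1 := moment_erase hB hb 1 (by norm_num)
  have h2 := moment_erase hB hb 2 (by norm_num)
  have h3 := moment_erase hB hb 3 (by norm_num)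
  rw [hα] at h0 h1 h2 h3
  norm_num [Nat.choose] at h0 h1 h2 h3
  refine ⟨?_, ?_, ?_, ?_⟩ <;> omega

theorem inter_4_5_11 (hα : Fintype.card α = 11) {B : Set (Finset α)}
    (hB : IsSteinerSystem 4 5 B) {b c : Finset α} (hb : b ∈ B) (hc : c ∈ B) (hbc : b ≠ c) :
    (b ∩ c).card ≠ 0 ∧ (b ∩ c).card ≤ 3 := by
  obtain ⟨h0, h1, h2, h3⟩ := sums_4_5_11 hα hB hb
  have hi : ∀ c ∈ (blocksF B).erase b, (b ∩ c).card ≤ 3 := by
    intro c hc
    rw [mem_erase_blocksF] at hc
    have := card_inter_lt hB hb hc.2 (Ne.symm hc.1)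
    omega
  have hid : ∀ c ∈ (blocksF B).erase b,
      (if (b ∩ c).card = 0 then 1 else 0) + (b ∩ c).card + Nat.choose (b ∩ c).card 3 =
        1 + Nat.choose (b ∩ c).card 2 := by
    intro c hc
    have := hi c hc
    interval_cases (b ∩ c).card <;> decide
  have hs := Finset.sum_congr rfl hid
  rw [Finset.sum_add_distrib, Finset.sum_add_distrib, Finset.sum_add_distrib, h1, h2, h3,
    sum_const, h0] at hs
  simp only [smul_eq_mul, mul_one] at hs
  have hz : ∑ c ∈ (blocksF B).erase b, (if (b ∩ c).card = 0 then 1 else 0) = 0 := by omega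
  rw [Finset.sum_eq_zero_iff] at hz
  have hcE : c ∈ (blocksF B).erase b := mem_erase_blocksF.mpr ⟨Ne.symm hbc, hc⟩
  refine ⟨?_, hi c hcE⟩
  intro h
  have := hz c hcE
  rw [if_pos h] at this
  exact one_ne_zero this

theorem hbad_4_5_11 (hα : Fintype.card α = 11) {B : Set (Finset α)}
    (hB : IsSteinerSystem 4 5 B) :
    ∀ b ∈ B, ∀ c ∈ B, b ≠ c → Cert11.bad (b ∩ c).card = false := by
  intro b hb c hc hbc
  obtain ⟨h1, h2⟩ := inter_4_5_11 hα hB hb hc hbc
  unfold Cert11.bad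
  rw [Bool.or_eq_false_iff, beq_eq_false_iff_ne, beq_eq_false_iff_ne]
  exact ⟨h1, by omega⟩

theorem exists_isNF_11 (hα : Fintype.card α = 11) {B : Set (Finset α)}
    (hB : IsSteinerSystem 4 5 B) (x₀ : Fin 4 ↪ α) :
    ∃ y : ℕ → α, (∀ i : Fin 4, y i = x₀ i) ∧ IsNF B 11 Cert11.std y := by
  obtain ⟨y, hy, hy0, hyS⟩ := normal_form Cert11.cert (by norm_num) Cert11.cert_ok (by decide)
    Cert11.std_ok hα hB (hbad_4_5_11 hα hB) x₀
  exact ⟨y, hy0, isNF_of_subset hy (fun S hS => (Cert11.std_ok S hS).1) Cert11.std_nodup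
    (by rw [card_blocks_4_5_11 hα hB, Cert11.std_length]) hyS⟩

/-! ### Transitivity of the automorphism group -/

/-- Generic: if every `t`-tuple extends to a normal-form labelling, the automorphism group is
`t`-transitive. -/
theorem pretransitive_of_isNF {B : Set (Finset α)} {t v : ℕ} {std : List ℕ}
    (hα : Fintype.card α = v) (htv : t ≤ v) (hstd : ∀ S ∈ std, S < 2 ^ v)
    (h : ∀ x₀ : Fin t ↪ α, ∃ y : ℕ → α, (∀ i : Fin t, y i = x₀ i) ∧ IsNF B v std y) :
    MulAction.IsMultiplyPretransitive (setSystemAut B) α t := by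
  rw [MulAction.isMultiplyPretransitive_iff]
  intro x x'
  obtain ⟨y, hy0, hy⟩ := h x
  obtain ⟨y', hy0', hy'⟩ := h x'
  obtain ⟨e, he, hB'⟩ := iso_of_isNF hα hα hstd hy hy'
  have hmem : e ∈ setSystemAut B := by
    rw [Cfsg.Agent.S5628.mem_aut_iff]
    intro l hl
    rw [← hB']
    exact ⟨l, hl, rfl⟩
  refine ⟨⟨e, hmem⟩, ?_⟩
  apply Function.Embedding.ext
  intro i
  rw [Function.Embedding.smul_apply]
  show e (x i) = x' i
  rw [← hy0 i, ← hy0' i]
  exact he i (lt_of_lt_of_le i.2 htv)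

end Cfsg.Agent.Helper8
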