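import Cfsg.Agent.Lib.Helper8.Sharp12

set_option autoImplicit false
set_option linter.unusedSectionVars false

/-! The counting input for `rigid_of_blocks`, and triviality of the stabilizers of ordered
`t`-tuples of points. -/

namespace Cfsg.Agent.Helper8

open Cfsg Finset

variable {α : Type*} [Fintype α] [DecidableEq α]

theorem exists_of_sum_ite_ne_zero {ι : Type*} (E : Finset ι) (p : ι → Prop) [DecidablePred p]
    (h : (∑ c ∈ E, (if p c then 1 else 0)) ≠ 0) : ∃ c ∈ E, p c := by
  obtain ⟨c, hc, hne⟩ := Finset.exists_ne_zero_of_sum_ne_zero h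
  refine ⟨c, hc, ?_⟩
  by_contra hp
  rw [if_neg hp] at hne
  exact hne rfl

/-- In an `S(5,6,12)`, two points off a block `b` lie in a block meeting `b` in four points and in
a block meeting `b` in three points. -/
theorem through_pair_5_6_12 (hα : Fintype.card α = 12) {B : Set (Finset α)}
    (hB : IsSteinerSystem 5 6 B) {b : Finset α} (hb : b ∈ B) {x y : α} (hx : x ∉ b) (hy : y ∉ b)
    (hxy : x ≠ y) :
    (∃ c ∈ B, x ∈ c ∧ y ∈ c ∧ (b ∩ c).card = 4) ∧ (∃ c ∈ B, x ∈ c ∧ y ∈ c ∧ (b ∩ c).card = 3) := by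
  have hdisj : Disjoint ({x, y} : Finset α) b := by
    rw [disjoint_left]
    intro a ha
    simp only [mem_insert, mem_singleton] at ha
    rcases ha with rfl | rfl
    · exact hx
    · exact hy
  have hs : ({x, y} : Finset α).card = 2 := card_pair hxy
  have hbc : b.card = 6 := hB.1 b hb
  have m0 := moment_through hB {x, y} b hdisj 0 (by omega)
  have m1 := moment_through hB {x, y} b hdisj 1 (by omega)
  have m2 := moment_through hB {x, y} b hdisj 2 (by omega)
  have m3 := moment_through hB {x, y} b hdisj 3 (by omega)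
  rw [hs, hα, hbc] at m0 m1 m2 m3
  norm_num [Nat.choose] at m0 m1 m2 m3
  set E := (blocksF B).filter (fun c => ({x, y} : Finset α) ⊆ c) with hE
  have hmemE : ∀ c ∈ E, c ∈ B ∧ x ∈ c ∧ y ∈ c := by
    intro c hc
    rw [hE, mem_filter, mem_blocksF] at hc
    exact ⟨hc.1, hc.2 (mem_insert_self x _), hc.2 (mem_insert_of_mem (mem_singleton_self y))⟩
  have hi : ∀ c ∈ E, (b ∩ c).card ≠ 1 ∧ (b ∩ c).card ≤ 4 := by
    intro c hc
    obtain ⟨hcB, hxc, -⟩ := hmemE c hc
    exact inter_5_6_12 hα hB hb hcB (fun h => hx (by rw [h]; exact hxc))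
  constructor
  · have hid : ∀ c ∈ E, 4 * (if (b ∩ c).card = 4 then 1 else 0) + 2 * Nat.choose (b ∩ c).card 2 =
        (b ∩ c).card + 3 * Nat.choose (b ∩ c).card 3 := by
      intro c hc
      obtain ⟨h1, h4⟩ := hi c hc
      interval_cases (b ∩ c).card <;> first | decide | exact absurd rfl h1
    have hsum := Finset.sum_congr rfl hid
    rw [Finset.sum_add_distrib, Finset.sum_add_distrib, ← Finset.mul_sum, ← Finset.mul_sum,
      ← Finset.mul_sum] at hsum
    have hne : (∑ c ∈ E, (if (b ∩ c).card = 4 then 1 else 0)) ≠ 0 := by omega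
    obtain ⟨c, hc, hc4⟩ := exists_of_sum_ite_ne_zero E _ hne
    obtain ⟨hcB, hxc, hyc⟩ := hmemE c hc
    exact ⟨c, hcB, hxc, hyc, hc4⟩
  · have hid : ∀ c ∈ E, (if (b ∩ c).card = 3 then 1 else 0) + (b ∩ c).card +
        2 * Nat.choose (b ∩ c).card 3 = 2 * Nat.choose (b ∩ c).card 2 := by
      intro c hc
      obtain ⟨h1, h4⟩ := hi c hc
      interval_cases (b ∩ c).card <;> first | decide | exact absurd rfl h1
    have hsum := Finset.sum_congr rfl hid
    rw [Finset.sum_add_distrib, Finset.sum_add_distrib, ← Finset.mul_sum, ← Finset.mul_sum] at hsum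
    have hne : (∑ c ∈ E, (if (b ∩ c).card = 3 then 1 else 0)) ≠ 0 := by omega
    obtain ⟨c, hc, hc3⟩ := exists_of_sum_ite_ne_zero E _ hne
    obtain ⟨hcB, hxc, hyc⟩ := hmemE c hc
    exact ⟨c, hcB, hxc, hyc, hc3⟩

/-- In an `S(4,5,11)`, two points off a block `b` lie in a block meeting `b` in three points and in
a block meeting `b` in two points. -/
theorem through_pair_4_5_11 (hα : Fintype.card α = 11) {B : Set (Finset α)}
    (hB : IsSteinerSystem 4 5 B) {b : Finset α} (hb : b ∈ B) {x y : α} (hx : x ∉ b) (hy : y ∉ b)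
    (hxy : x ≠ y) :
    (∃ c ∈ B, x ∈ c ∧ y ∈ c ∧ (b ∩ c).card = 3) ∧ (∃ c ∈ B, x ∈ c ∧ y ∈ c ∧ (b ∩ c).card = 2) := by
  have hdisj : Disjoint ({x, y} : Finset α) b := by
    rw [disjoint_left]
    intro a ha
    simp only [mem_insert, mem_singleton] at ha
    rcases ha with rfl | rfl
    · exact hx
    · exact hy
  have hs : ({x, y} : Finset α).card = 2 := card_pair hxy
  have hbc : b.card = 5 := hB.1 b hb
  have m0 := moment_through hB {x, y} b hdisj 0 (by omega)
  have m1 := moment_through hB {x, y} b hdisj 1 (by omega)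
  have m2 := moment_through hB {x, y} b hdisj 2 (by omega)
  rw [hs, hα, hbc] at m0 m1 m2
  norm_num [Nat.choose] at m0 m1 m2
  set E := (blocksF B).filter (fun c => ({x, y} : Finset α) ⊆ c) with hE
  have hmemE : ∀ c ∈ E, c ∈ B ∧ x ∈ c ∧ y ∈ c := by
    intro c hc
    rw [hE, mem_filter, mem_blocksF] at hc
    exact ⟨hc.1, hc.2 (mem_insert_self x _), hc.2 (mem_insert_of_mem (mem_singleton_self y))⟩
  have hi : ∀ c ∈ E, (b ∩ c).card ≠ 0 ∧ (b ∩ c).card ≤ 3 := by
    intro c hc
    obtain ⟨hcB, hxc, -⟩ := hmemE c hc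
    exact inter_4_5_11 hα hB hb hcB (fun h => hx (by rw [h]; exact hxc))
  constructor
  · have hid : ∀ c ∈ E, (if (b ∩ c).card = 3 then 1 else 0) + (b ∩ c).card =
        1 + Nat.choose (b ∩ c).card 2 := by
      intro c hc
      obtain ⟨h1, h4⟩ := hi c hc
      interval_cases (b ∩ c).card <;> first | decide | exact absurd rfl h1
    have hsum := Finset.sum_congr rfl hid
    rw [Finset.sum_add_distrib, Finset.sum_add_distrib, sum_const, smul_eq_mul, mul_one] at hsum
    have hne : (∑ c ∈ E, (if (b ∩ c).card = 3 then 1 else 0)) ≠ 0 := by omega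
    obtain ⟨c, hc, hc4⟩ := exists_of_sum_ite_ne_zero E _ hne
    obtain ⟨hcB, hxc, hyc⟩ := hmemE c hc
    exact ⟨c, hcB, hxc, hyc, hc4⟩
  · have hid : ∀ c ∈ E, (if (b ∩ c).card = 2 then 1 else 0) + 3 +
        2 * Nat.choose (b ∩ c).card 2 = 3 * (b ∩ c).card := by
      intro c hc
      obtain ⟨h1, h4⟩ := hi c hc
      interval_cases (b ∩ c).card <;> first | decide | exact absurd rfl h1
    have hsum := Finset.sum_congr rfl hid
    rw [Finset.sum_add_distrib, Finset.sum_add_distrib, ← Finset.mul_sum, ← Finset.mul_sum,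
      sum_const, smul_eq_mul] at hsum
    have hne : (∑ c ∈ E, (if (b ∩ c).card = 2 then 1 else 0)) ≠ 0 := by omega
    obtain ⟨c, hc, hc3⟩ := exists_of_sum_ite_ne_zero E _ hne
    obtain ⟨hcB, hxc, hyc⟩ := hmemE c hc
    exact ⟨c, hcB, hxc, hyc, hc3⟩

/-- If automorphisms fixing a block pointwise are trivial, then the stabilizer of every ordered
`t`-tuple of points is trivial. -/
theorem stabilizer_eq_bot_of_rigid {t : ℕ} {B : Set (Finset α)}
    (hB : IsSteinerSystem t (t + 1) B)
    (hrigid : ∀ b ∈ B, ∀ g : Equiv.Perm α, (∀ l ∈ B, l.image g ∈ B) → (∀ a ∈ b, g a = a) →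
      ∀ a, g a = a) (x : Fin t ↪ α) : MulAction.stabilizer (setSystemAut B) x = ⊥ := by
  rw [eq_bot_iff]
  intro g hg
  rw [MulAction.mem_stabilizer_iff] at hg
  rw [Subgroup.mem_bot]
  have hgx : ∀ i, (g : Equiv.Perm α) (x i) = x i := by
    intro i
    exact DFunLike.congr_fun hg i
  have hgB : ∀ l ∈ B, l.image (g : Equiv.Perm α) ∈ B :=
    (Cfsg.Agent.S5628.mem_aut_iff B g.1).mp g.2
  let S : Finset α := univ.map x
  have hScard : S.card = t := by rw [card_map, card_univ, Fintype.card_fin]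
  have hSfix : ∀ a ∈ S, (g : Equiv.Perm α) a = a := by
    intro a ha
    obtain ⟨i, -, rfl⟩ := mem_map.mp ha
    exact hgx i
  obtain ⟨b, ⟨hbB, hSb⟩, huniq⟩ := hB.2 S hScard
  have himg : b.image (g : Equiv.Perm α) = b := by
    apply huniq
    refine ⟨hgB b hbB, ?_⟩
    intro a ha
    exact mem_image.mpr ⟨a, hSb ha, hSfix a ha⟩
  have hbfix : ∀ a ∈ b, (g : Equiv.Perm α) a = a := by
    intro a ha
    by_cases haS : a ∈ S
    · exact hSfix a haS
    have hsd : (b \ S).card = 1 := by
      rw [card_sdiff_of_subset hSb, hB.1 b hbB, hScard]; omega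
    obtain ⟨z, hz⟩ := card_eq_one.mp hsd
    have ha' : a ∈ b \ S := mem_sdiff.mpr ⟨ha, haS⟩
    have hga : (g : Equiv.Perm α) a ∈ b \ S := by
      rw [mem_sdiff]
      refine ⟨by rw [← himg]; exact mem_image_of_mem _ ha, ?_⟩
      intro h
      have := hSfix _ h
      exact haS (by rw [← (g : Equiv.Perm α).injective this]; exact h)
    rw [hz, mem_singleton] at ha' hga
    rw [hga, ha']
  apply Subtype.ext
  apply Equiv.ext
  intro a
  exact hrigid b hbB g.1 hgB hbfix a

theorem stabilizer_eq_bot_5_6_12 (hα : Fintype.card α = 12) {B : Set (Finset α)}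
    (hB : IsSteinerSystem 5 6 B) (x : Fin 5 ↪ α) :
    MulAction.stabilizer (setSystemAut B) x = ⊥ := by
  apply stabilizer_eq_bot_of_rigid hB
  intro b hb g hg hfix a
  exact rigid_of_blocks hB (by norm_num)
    (fun x y hx hy hxy => (through_pair_5_6_12 hα hB hb hx hy hxy).1)
    (fun x y hx hy hxy => (through_pair_5_6_12 hα hB hb hx hy hxy).2) g hg hfix a

theorem stabilizer_eq_bot_4_5_11 (hα : Fintype.card α = 11) {B : Set (Finset α)}
    (hB : IsSteinerSystem 4 5 B) (x : Fin 4 ↪ α) :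
    MulAction.stabilizer (setSystemAut B) x = ⊥ := by
  apply stabilizer_eq_bot_of_rigid hB
  intro b hb g hg hfix a
  exact rigid_of_blocks hB (by norm_num)
    (fun x y hx hy hxy => (through_pair_4_5_11 hα hB hb hx hy hxy).1)
    (fun x y hx hy hxy => (through_pair_4_5_11 hα hB hb hx hy hxy).2) g hg hfix a

end Cfsg.Agent.Helper8
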