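import Mathlib
import Cfsg.Prelude.Def_FusionSystem
import Cfsg.Agent.Lib.Helper87.Om7Defs

/-!
# OM7 (API2a) for helper87's server (S2647): the elements `D i j` and `W a b p q` on the frame

Self-contained: the few (API1) facts needed are proved here under `h8_` names.
-/

set_option autoImplicit false

namespace Cfsg.Agent.Helper8.Om7

open Matrix QuadraticMap Cfsg.Agent.Helper36.QuadInv Cfsg.Agent.Helper36.OmegaTrans
  Cfsg.Agent.Helper43 Cfsg.Agent.Helper87.Om7

variable {F : Type*} [Field F] [Fintype F] [DecidableEq F] {ι : Type} [Fintype ι] [DecidableEq ι]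
variable {Q : QuadraticForm F (ι → F)} {c : F} {f : Fin 7 → ι → F}

/-! ## local API1 -/

theorem h8_act_refl {v : ι → F} (hv : Q v ≠ 0) (x : ι → F) :
    actHom (⇑Q) (reflIso' Q v) x = x - ((Q v)⁻¹ * polar Q v x) • v := by
  rw [reflIso'_of_ne Q hv, act_reflIso]

theorem h8_polar_self (hF : Frame Q c f) (i : Fin 7) : polar Q (f i) (f i) = 2 * c := by
  rw [QuadraticMap.polar_self, hF.norm]
  simp

theorem h8_polar (hF : Frame Q c f) (i j : Fin 7) :
    polar Q (f i) (f j) = if i = j then 2 * c else 0 := by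
  split_ifs with h
  · subst h; exact h8_polar_self hF i
  · exact hF.orth i j h

theorem h8_Q_ne (hF : Frame Q c f) (i : Fin 7) : Q (f i) ≠ 0 := by
  rw [hF.norm]; exact hF.c0

theorem h8_f_ne (hF : Frame Q c f) (i : Fin 7) : f i ≠ 0 := by
  intro h
  have := h8_Q_ne hF i
  rw [h, map_zero] at this
  exact this rfl

theorem h8_Q_sub (hF : Frame Q c f) {a b : Fin 7} (hab : a ≠ b) : Q (f a - f b) = 2 * c := by
  have h := QuadraticMap.map_add Q (f a) (-(f b))
  have hp : polar Q (f a) (-(f b)) = 0 := by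
    rw [QuadraticMap.polar_neg_right, hF.orth a b hab, neg_zero]
  rw [sub_eq_add_neg, h, QuadraticMap.map_neg, hF.norm, hF.norm, hp]
  ring

theorem h8_Q_sub_ne (hF : Frame Q c f) {a b : Fin 7} (hab : a ≠ b) : Q (f a - f b) ≠ 0 := by
  rw [h8_Q_sub hF hab]
  exact mul_ne_zero hF.two hF.c0

theorem h8_two_c_ne (hF : Frame Q c f) : (2 * c : F) ≠ 0 := mul_ne_zero hF.two hF.c0

theorem h8_linearIndependent (hF : Frame Q c f) : LinearIndependent F f := by
  rw [Fintype.linearIndependent_iff]
  intro g hg j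
  have h1 : polar Q (f j) (∑ i, g i • f i) = 0 := by
    rw [hg]; exact QuadraticMap.polar_zero_right _ _
  have h2 : polar Q (f j) (∑ i, g i • f i) = ∑ i, g i * polar Q (f j) (f i) := by
    have : polar Q (f j) (∑ i, g i • f i) = (polarBilin Q (f j)) (∑ i, g i • f i) := rfl
    rw [this, map_sum]
    refine Finset.sum_congr rfl (fun i _ => ?_)
    rw [map_smul]; rfl
  rw [h2] at h1
  simp only [h8_polar hF] at h1
  rw [Finset.sum_eq_single j] at h1
  · simp only [if_true] at h1
    rcases mul_eq_zero.1 h1 with h | h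
    · exact h
    · exact absurd h (h8_two_c_ne hF)
  · intro b _ hb
    rw [if_neg (Ne.symm hb), mul_zero]
  · intro h; exact absurd (Finset.mem_univ j) h

theorem h8_span_top (hF : Frame Q c f) : Submodule.span F (Set.range f) = ⊤ := by
  apply (h8_linearIndependent hF).span_eq_top_of_card_eq_finrank'
  rw [Module.finrank_fintype_fun_eq_card, hF.card, Fintype.card_fin]

theorem h8_frame_ext (hF : Frame Q c f) (g h : OG F ⇑Q)
    (H : ∀ i, actHom (⇑Q) g (f i) = actHom (⇑Q) h (f i)) : g = h := by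
  apply act_ext
  intro v
  have hv : v ∈ Submodule.span F (Set.range f) := by rw [h8_span_top hF]; trivial
  have : (actHom (⇑Q) g : (ι → F) →ₗ[F] (ι → F)) = (actHom (⇑Q) h : (ι → F) →ₗ[F] (ι → F)) := by
    apply LinearMap.ext_on_range (h8_span_top hF)
    intro i
    exact H i
  exact LinearMap.congr_fun this v

/-- the reflection in `f i` on the frame -/
theorem h8_refl_act (hF : Frame Q c f) (i k : Fin 7) :
    actHom (⇑Q) (reflIso' Q (f i)) (f k) = if k = i then - f k else f k := by
  rw [h8_act_refl (h8_Q_ne hF i), h8_polar hF, hF.norm]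
  split_ifs with h1 h2 h2
  · subst h2
    rw [show c⁻¹ * (2 * c) = 2 by field_simp [hF.c0], two_smul]
    abel
  · exact absurd h1.symm h2
  · exact absurd h2.symm h1
  · rw [mul_zero, zero_smul, sub_zero]

/-- the reflection in `f a - f b` on the frame -/
theorem h8_refl_sub_act (hF : Frame Q c f) {a b : Fin 7} (hab : a ≠ b) (k : Fin 7) :
    actHom (⇑Q) (reflIso' Q (f a - f b)) (f k) = f (Equiv.swap a b k) := by
  rw [h8_act_refl (h8_Q_sub_ne hF hab), h8_Q_sub hF hab, QuadraticMap.polar_sub_left,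
    h8_polar hF, h8_polar hF]
  have h2c := h8_two_c_ne hF
  by_cases hka : k = a
  · subst hka
    rw [if_pos rfl, if_neg (Ne.symm hab), sub_zero, inv_mul_cancel₀ h2c, one_smul,
      Equiv.swap_apply_left]
    abel
  · by_cases hkb : k = b
    · subst hkb
      rw [if_neg hab, if_pos rfl, zero_sub, mul_neg, inv_mul_cancel₀ h2c, neg_one_smul,
        Equiv.swap_apply_right]
      abel
    · rw [if_neg (Ne.symm hka), if_neg (Ne.symm hkb), sub_zero, mul_zero, zero_smul, sub_zero,
        Equiv.swap_apply_of_ne_of_ne hka hkb]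

/-! ## (API2a) -/

theorem D_act (hF : Frame Q c f) {i j : Fin 7} (hij : i ≠ j) (k : Fin 7) :
    actHom (⇑Q) (D Q f i j) (f k) = if k = i ∨ k = j then - f k else f k := by
  unfold D
  rw [act_mul, h8_refl_act hF j k]
  by_cases hkj : k = j
  · subst hkj
    rw [if_pos rfl, map_neg, h8_refl_act hF i k, if_neg (Ne.symm hij), if_pos (Or.inr rfl)]
  · rw [if_neg hkj, h8_refl_act hF i k]
    by_cases hki : k = i
    · rw [if_pos hki, if_pos (Or.inl hki)]
    · rw [if_neg hki, if_neg (by tauto)]

theorem W_act (hF : Frame Q c f) {a b p q : Fin 7} (hab : a ≠ b) (hpq : p ≠ q) (hap : a ≠ p)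
    (haq : a ≠ q) (hbp : b ≠ p) (hbq : b ≠ q) (k : Fin 7) :
    actHom (⇑Q) (W Q f a b p q) (f k) = f ((Equiv.swap a b * Equiv.swap p q) k) := by
  unfold W
  rw [act_mul, h8_refl_sub_act hF hpq, h8_refl_sub_act hF hab]
  rfl

theorem D_isMono (hF : Frame Q c f) {i j : Fin 7} (hij : i ≠ j) : IsMono Q f (D Q f i j) 1 := by
  intro k
  rw [D_act hF hij k]
  show (_ = f k) ∨ (_ = - f k)
  split_ifs
  · exact Or.inr rfl
  · exact Or.inl rfl

theorem W_isMono (hF : Frame Q c f) {a b p q : Fin 7} (hab : a ≠ b) (hpq : p ≠ q) (hap : a ≠ p)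
    (haq : a ≠ q) (hbp : b ≠ p) (hbq : b ≠ q) :
    IsMono Q f (W Q f a b p q) (Equiv.swap a b * Equiv.swap p q) := by
  intro k
  exact Or.inl (W_act hF hab hpq hap haq hbp hbq k)

/-- the action of `D i j * D k l` on the frame -/
theorem h8_DD_act (hF : Frame Q c f) {i j k l : Fin 7} (hij : i ≠ j) (hkl : k ≠ l) (m : Fin 7) :
    actHom (⇑Q) (D Q f i j * D Q f k l) (f m) =
      if (m = i ∨ m = j) ↔ (m = k ∨ m = l) then f m else - f m := by
  rw [act_mul, D_act hF hkl m]
  by_cases h1 : m = k ∨ m = l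
  · rw [if_pos h1, map_neg, D_act hF hij m]
    by_cases h2 : m = i ∨ m = j
    · rw [if_pos h2, neg_neg, if_pos (by tauto)]
    · rw [if_neg h2, if_neg (by tauto)]
  · rw [if_neg h1, D_act hF hij m]
    by_cases h2 : m = i ∨ m = j
    · rw [if_pos h2, if_neg (by tauto)]
    · rw [if_neg h2, if_pos (by tauto)]

theorem D_mul_self (hF : Frame Q c f) {i j : Fin 7} (hij : i ≠ j) :
    D Q f i j * D Q f i j = 1 := by
  apply h8_frame_ext hF
  intro m
  rw [h8_DD_act hF hij hij, if_pos Iff.rfl, act_one]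

theorem D_comm (hF : Frame Q c f) {i j k l : Fin 7} (hij : i ≠ j) (hkl : k ≠ l) :
    D Q f i j * D Q f k l = D Q f k l * D Q f i j := by
  apply h8_frame_ext hF
  intro m
  rw [h8_DD_act hF hij hkl, h8_DD_act hF hkl hij]
  by_cases h : (m = i ∨ m = j) ↔ (m = k ∨ m = l)
  · rw [if_pos h, if_pos h.symm]
  · rw [if_neg h, if_neg (fun h' => h h'.symm)]

theorem D_ne_one (hF : Frame Q c f) {i j : Fin 7} (hij : i ≠ j) : D Q f i j ≠ 1 := by
  intro h
  have h1 := D_act hF hij i
  rw [h, act_one, if_pos (Or.inl rfl)] at h1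
  have h2 : (2 : F) • f i = 0 := by
    rw [two_smul]
    nth_rewrite 1 [h1]
    exact neg_add_cancel _
  rcases smul_eq_zero.1 h2 with h3 | h3
  · exact hF.two h3
  · exact h8_f_ne hF i h3

theorem D_symm (hF : Frame Q c f) {i j : Fin 7} (hij : i ≠ j) : D Q f i j = D Q f j i := by
  apply h8_frame_ext hF
  intro m
  rw [D_act hF hij, D_act hF (Ne.symm hij)]
  by_cases h : m = i ∨ m = j
  · rw [if_pos h, if_pos h.symm]
  · rw [if_neg h, if_neg (fun h' => h h'.symm)]

/-- `D i k * D j k = D i j` -/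
theorem D_mul_D (hF : Frame Q c f) {i j k : Fin 7} (hij : i ≠ j) (hik : i ≠ k) (hjk : j ≠ k) :
    D Q f i k * D Q f j k = D Q f i j := by
  apply h8_frame_ext hF
  intro m
  rw [h8_DD_act hF hik hjk, D_act hF hij]
  by_cases hmi : m = i
  · subst hmi
    rw [if_neg (by
      intro h
      rcases h.1 (Or.inl rfl) with h' | h'
      · exact hij h'
      · exact hik h'), if_pos (Or.inl rfl)]
  · by_cases hmj : m = j
    · subst hmj
      rw [if_neg (by
        intro h
        rcases h.2 (Or.inl rfl) with h' | h'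
        · exact hmi h'
        · exact hjk h'), if_pos (Or.inr rfl)]
    · by_cases hmk : m = k
      · rw [if_pos (by
          constructor
          · intro _; exact Or.inr hmk
          · intro _; exact Or.inr hmk), if_neg (by tauto)]
      · rw [if_pos (by
          constructor
          · intro h; tauto
          · intro h; tauto), if_neg (by tauto)]

end Cfsg.Agent.Helper8.Om7
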