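import Mathlib
import Cfsg.Agent.Lib.Helper31.H2Defs

set_option autoImplicit false

/-!
# H2 server piece (D2): structure of a non-central normal `(p,p)`-subgroup of a `p`-group
-/

namespace Cfsg.Agent.Helper8.H2

open Cfsg Cfsg.Agent.Helper31.H2 Cfsg.Agent.Helper31.HHB Cfsg.Agent.Helper48.Wreath

/-- (D2) Structure of a non-central normal subgroup `M` of type `(p,p)` of a `p`-group `B`. -/
theorem pp_structure {H : Type*} [Group H] [Finite H] {p : ℕ} [Fact p.Prime] (B M : Subgroup H)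
    (hB : IsPGroup p B) (hMB : M ≤ B) (hMn : ∀ b ∈ B, ∀ m ∈ M, b * m * b⁻¹ ∈ M)
    (hMc : ∀ x ∈ M, ∀ y ∈ M, x * y = y * x) (hMp : ∀ x ∈ M, x ^ p = 1) (hMcard : Nat.card M = p ^ 2)
    (hnc : ∃ m ∈ M, ∃ b ∈ B, b * m ≠ m * b) :
    ∃ a ∈ M, ∃ c ∈ M, c ≠ 1 ∧ (∀ b ∈ B, b * c = c * b) ∧ (∃ b ∈ B, b * a ≠ a * b) ∧
      ∀ b ∈ B, ∃ t : ZMod p, b * a * b⁻¹ = a * c ^ t.val := by
  classical
  obtain ⟨a, haM, b₀, hb₀, hba⟩ := hnc
  have hp : p.Prime := Fact.out
  -- the conjugation action of `B` on `M`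
  let act : MulAction ↥B ↥M :=
    { smul := fun b m => ⟨(b : H) * m * (b : H)⁻¹, hMn b b.2 m m.2⟩
      one_smul := fun m => by
        apply Subtype.ext
        show ((1 : ↥B) : H) * m * ((1 : ↥B) : H)⁻¹ = m
        simp
      mul_smul := fun b b' m => by
        apply Subtype.ext
        show ((b * b' : ↥B) : H) * m * ((b * b' : ↥B) : H)⁻¹
          = (b : H) * ((b' : H) * m * (b' : H)⁻¹) * (b : H)⁻¹
        simp [mul_assoc] }
  have hsmul : ∀ (b : ↥B) (m : ↥M), ((b • m : ↥M) : H) = b * m * (b : H)⁻¹ := fun _ _ => rfl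
  have hfix := hB.card_modEq_card_fixedPoints (α := ↥M)
  have hdvd : p ∣ Nat.card (MulAction.fixedPoints ↥B ↥M) := by
    have h1 : Nat.card (MulAction.fixedPoints ↥B ↥M) % p = 0 := by
      have h2 := hfix
      unfold Nat.ModEq at h2
      rw [hMcard] at h2
      rw [← h2, pow_two]
      exact Nat.mul_mod_right p p
    exact Nat.dvd_of_mod_eq_zero h1
  have h1mem : (1 : ↥M) ∈ MulAction.fixedPoints ↥B ↥M := by
    intro b
    apply Subtype.ext
    rw [hsmul]
    simp
  have hfin : Finite (MulAction.fixedPoints ↥B ↥M) := inferInstance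
  have hnt : Nontrivial (MulAction.fixedPoints ↥B ↥M) := by
    rw [← Finite.one_lt_card_iff_nontrivial]
    have hpos : 0 < Nat.card (MulAction.fixedPoints ↥B ↥M) :=
      Nat.card_pos_iff.mpr ⟨⟨⟨1, h1mem⟩⟩, hfin⟩
    have := Nat.le_of_dvd hpos hdvd
    have := hp.two_le
    omega
  obtain ⟨⟨c', hc'fix⟩, hc'ne⟩ := exists_ne (⟨1, h1mem⟩ : MulAction.fixedPoints ↥B ↥M)
  have hcM : (c' : H) ∈ M := c'.2
  have hc1 : (c' : H) ≠ 1 := by
    intro h
    apply hc'ne
    apply Subtype.ext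
    apply Subtype.ext
    exact h
  have hcB : ∀ b ∈ B, b * (c' : H) = c' * b := by
    intro b hb
    have h1 := hc'fix ⟨b, hb⟩
    have h2 := congrArg Subtype.val h1
    rw [hsmul] at h2
    calc b * (c' : H) = (b * c' * b⁻¹) * b := by group
      _ = c' * b := by rw [h2]
  generalize (c' : H) = c at hcM hc1 hcB
  have hac : Commute a c := hMc a haM c hcM
  have horder : orderOf c = p := orderOf_eq_prime (hMp c hcM) hc1
  have hcardZ : Nat.card (Subgroup.zpowers c) = p := by rw [Nat.card_zpowers, horder]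
  have haZ : a ∉ Subgroup.zpowers c := by
    rintro ⟨k, rfl⟩
    apply hba
    have : Commute b₀ c := hcB b₀ hb₀
    exact (this.zpow_right k).eq
  -- `M` is generated by `a` and `c`
  set K := Subgroup.closure ({a, c} : Set H) with hK
  have hKM : K ≤ M := by
    rw [hK, Subgroup.closure_le]
    rintro x (rfl | rfl)
    · exact haM
    · exact hcM
  have hZK : Subgroup.zpowers c ≤ K := by
    rw [Subgroup.zpowers_le]
    exact Subgroup.subset_closure (by simp)
  have haK : a ∈ K := Subgroup.subset_closure (by simp)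
  have hKeq : K = M := by
    have h1 : Nat.card K ∣ p ^ 2 := hMcard ▸ Subgroup.card_dvd_of_le hKM
    obtain ⟨k, hk2, hk⟩ := (Nat.dvd_prime_pow hp).mp h1
    have h2 : p ∣ Nat.card K := hcardZ ▸ Subgroup.card_dvd_of_le hZK
    interval_cases k
    · rw [hk, pow_zero] at h2
      exact absurd (Nat.le_of_dvd one_pos h2) (by have := hp.two_le; omega)
    · exfalso
      apply haZ
      have h3 : Subgroup.zpowers c = K :=
        Subgroup.eq_of_le_of_card_ge hZK (by rw [hk, hcardZ, pow_one])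
      rw [h3]
      exact haK
    · exact Subgroup.eq_of_le_of_card_ge hKM (by rw [hk, hMcard])
  have hrep : ∀ x ∈ K, ∃ i j : ℤ, x = a ^ i * c ^ j := by
    intro x hx
    induction hx using Subgroup.closure_induction with
    | mem y hy =>
      rcases hy with rfl | rfl
      · exact ⟨1, 0, by simp⟩
      · exact ⟨0, 1, by simp⟩
    | one => exact ⟨0, 0, by simp⟩
    | mul x y _ _ hx hy =>
      obtain ⟨i, j, rfl⟩ := hx
      obtain ⟨i', j', rfl⟩ := hy
      refine ⟨i + i', j + j', ?_⟩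
      rw [zpow_add, zpow_add]
      exact Commute.mul_mul_mul_comm ((hac.zpow_zpow i' j).symm) _ _
    | inv x _ hx =>
      obtain ⟨i, j, rfl⟩ := hx
      refine ⟨-i, -j, ?_⟩
      rw [mul_inv_rev, zpow_neg, zpow_neg]
      exact ((hac.zpow_zpow i j).inv_inv).symm.eq
  have hcpow : ∀ m : ℤ, c ^ ((m : ZMod p).val) = c ^ m := by
    intro m
    rw [← zpow_natCast, ZMod.natCast_val, ZMod.coe_intCast]
    exact (zpow_eq_zpow_emod' m (hMp c hcM)).symm
  refine ⟨a, haM, c, hcM, hc1, hcB, ⟨b₀, hb₀, hba⟩, ?_⟩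
  intro b hb
  obtain ⟨i, j, hij⟩ := hrep (b * a * b⁻¹) (hKeq ▸ hMn b hb a haM)
  have hbc : b * c * b⁻¹ = c := by
    rw [hcB b hb]; group
  have key : ∀ n : ℕ, ∃ s : ℤ, b ^ n * a * (b ^ n)⁻¹ = a ^ (i ^ n) * c ^ s := by
    intro n
    induction n with
    | zero => exact ⟨0, by simp⟩
    | succ n ih =>
      obtain ⟨s, hs⟩ := ih
      refine ⟨j * i ^ n + s, ?_⟩
      have h1 : b ^ (n + 1) * a * (b ^ (n + 1))⁻¹ = MulAut.conj b (b ^ n * a * (b ^ n)⁻¹) := by
        rw [MulAut.conj_apply, pow_succ']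
        group
      rw [h1, hs, map_mul, map_zpow, map_zpow, MulAut.conj_apply, MulAut.conj_apply, hij, hbc]
      rw [(hac.zpow_zpow i j).mul_zpow, ← zpow_mul, ← zpow_mul, zpow_add, pow_succ', mul_assoc]
  obtain ⟨k, hk⟩ := hB ⟨b, hb⟩
  have hbk : b ^ p ^ k = 1 := by
    have := congrArg Subtype.val hk
    simpa using this
  obtain ⟨s, hs⟩ := key (p ^ k)
  rw [hbk] at hs
  have hfermat : a ^ (i ^ (p ^ k)) = a ^ i := by
    have h1 : ((i ^ (p ^ k) : ℤ) : ZMod p) = (i : ZMod p) := by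
      push_cast
      exact ZMod.pow_card_pow _
    obtain ⟨d, hd⟩ := (ZMod.intCast_eq_intCast_iff_dvd_sub _ _ p).mp h1
    have h2 : i = i ^ (p ^ k) + (p : ℤ) * d := by linarith
    have h3 : a ^ ((p : ℤ) * d) = 1 := by
      rw [zpow_mul, zpow_natCast, hMp a haM, one_zpow]
    conv_rhs => rw [h2, zpow_add, h3, mul_one]
  rw [hfermat] at hs
  -- `a = a ^ i * c ^ s`
  have hs' : a ^ i = a * (c ^ s)⁻¹ := by
    have : a = a ^ i * c ^ s := by simpa using hs
    calc a ^ i = (a ^ i * c ^ s) * (c ^ s)⁻¹ := by group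
      _ = a * (c ^ s)⁻¹ := by rw [← this]
  refine ⟨((j - s : ℤ) : ZMod p), ?_⟩
  rw [hcpow, hij, hs', zpow_sub, mul_assoc]
  congr 1
  exact ((Commute.refl c).zpow_zpow s j).inv_left.eq
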