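import Mathlib
import Cfsg.Agent.Lib.Helper31.H2Defs

set_option autoImplicit false

/-!
# H2 server piece (ABD): ab-deficiency from the trace condition
-/

namespace Cfsg.Agent.Helper8.H2

open Cfsg Cfsg.Agent.Helper31.H2 Cfsg.Agent.Helper31.HHB Cfsg.Agent.Helper48.Wreath

/-- (ABD) ab-deficiency from the trace condition: `Helper31.GT`'s `trN_centralizes` applied to `X.map ψ`. -/
theorem abDef_of_trace {H : Type*} [Group H] [Finite H] {p : ℕ} [Fact p.Prime] {W : Type*} [CommGroup W]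
    (hexp : ∀ w : W, w ^ p = 1) (ψ : H →* MulAut W) (hψ : Function.Injective ψ) (N : Subgroup H)
    (hN : (Nat.card N).Coprime p) (k : H) (n : ℕ) (hk : k ^ p ^ (n + 1) = 1)
    (htr : ∀ w : W, ∏ j ∈ Finset.range (p ^ (n + 1)), ((ψ k) ^ j) w = 1) : AbDef p N k n := by
  intro X hXN hXc hXk a ha
  set R := X.map ψ with hR
  have hfin : Finite ↥R := by
    show Finite ↥(ψ '' (X : Set H))
    infer_instance
  have hRc : ∀ r ∈ R, ∀ s ∈ R, r * s = s * r := by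
    rintro _ ⟨a, ha, rfl⟩ _ ⟨b, hb, rfl⟩
    rw [← map_mul, ← map_mul, hXc a ha b hb]
  have hRm : ∀ r ∈ R, r ^ Nat.card N = 1 := by
    rintro _ ⟨a, ha, rfl⟩
    rw [← map_pow]
    have h1 : (⟨a, hXN ha⟩ : ↥N) ^ Nat.card ↥N = 1 := pow_card_eq_one'
    have h2 := congrArg Subtype.val h1
    rw [Subgroup.coe_pow] at h2
    rw [show a ^ Nat.card ↥N = 1 from h2, map_one]
  have hxR : ∀ r ∈ R, ψ k * r * (ψ k)⁻¹ ∈ R := by
    rintro _ ⟨a, ha, rfl⟩
    refine ⟨k * a * k⁻¹, hXk a ha, ?_⟩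
    rw [map_mul, map_mul, map_inv]
  have hxp : (ψ k) ^ p ^ (n + 1) = 1 := by rw [← map_pow, hk, map_one]
  have h4 := Cfsg.Agent.Helper31.GT.trN_centralizes hexp n (ψ k) hxp htr R hRc (Nat.card N) hN hRm hxR
  have h5 := h4 (ψ a) (Subgroup.mem_map_of_mem _ ha)
  rw [← map_pow, ← map_inv, ← map_mul, ← map_mul] at h5
  have h6 := hψ h5
  calc k ^ p ^ n * a = (k ^ p ^ n * a * (k ^ p ^ n)⁻¹) * k ^ p ^ n := by group
    _ = a * k ^ p ^ n := by rw [h6]

end Cfsg.Agent.Helper8.H2
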