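import Mathlib
import Cfsg.Prelude.Def_Transfer
import Cfsg.Agent.Lib.Helper63.HeisES

set_option autoImplicit false

/-! Abstract group theory for involution centralisers: conjugacy of involutions through a Sylow
`2`-subgroup, passage to a quotient by a central subgroup of order `3`, a criterion for
extraspecial groups, and subgroups given by closed lists. -/

namespace Cfsg.Agent.Helper8.InvC

open scoped Pointwise commutatorElement

/-! ### Subgroups given by multiplicatively closed lists -/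

section ListSub

variable {X : Type*} [Group X] [Finite X]

/-- A finite list closed under multiplication and containing `1` is a subgroup. -/
def listSubgroup (e : ℕ → X) (n : ℕ) (m : ℕ → ℕ → ℕ) (h0 : 0 < n) (h1 : e 0 = 1)
    (hm : ∀ a < n, ∀ b < n, m a b < n ∧ e a * e b = e (m a b)) : Subgroup X where
  carrier := {x | ∃ a < n, x = e a}
  mul_mem' := by
    rintro x y ⟨a, ha, rfl⟩ ⟨b, hb, rfl⟩
    exact ⟨m a b, (hm a ha b hb).1, (hm a ha b hb).2⟩
  one_mem' := ⟨0, h0, h1.symm⟩
  inv_mem' := by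
    rintro x ⟨a, ha, rfl⟩
    have hpow : ∀ k : ℕ, ∃ c < n, (e a) ^ k = e c := by
      intro k
      induction k with
      | zero => exact ⟨0, h0, by rw [pow_zero, h1]⟩
      | succ k ih =>
        obtain ⟨c, hc, he⟩ := ih
        exact ⟨m c a, (hm c hc a ha).1, by rw [pow_succ, he, (hm c hc a ha).2]⟩
    obtain ⟨c, hc, he⟩ := hpow (orderOf (e a) - 1)
    refine ⟨c, hc, ?_⟩
    rw [← he]
    apply inv_eq_of_mul_eq_one_right
    rw [← pow_succ', Nat.sub_add_cancel (orderOf_pos (e a)), pow_orderOf_eq_one]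

theorem mem_listSubgroup {e : ℕ → X} {n : ℕ} {m : ℕ → ℕ → ℕ} {h0 : 0 < n} {h1 : e 0 = 1}
    {hm : ∀ a < n, ∀ b < n, m a b < n ∧ e a * e b = e (m a b)} {x : X} :
    x ∈ listSubgroup e n m h0 h1 hm ↔ ∃ a < n, x = e a := Iff.rfl

theorem card_listSubgroup (e : ℕ → X) (n : ℕ) (m : ℕ → ℕ → ℕ) (h0 : 0 < n) (h1 : e 0 = 1)
    (hm : ∀ a < n, ∀ b < n, m a b < n ∧ e a * e b = e (m a b))
    (hinj : ∀ a < n, ∀ b < n, e a = e b → a = b) :
    Nat.card (listSubgroup e n m h0 h1 hm) = n := by
  have hb : Function.Bijective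
      (fun a : Fin n => (⟨e a, ⟨a, a.2, rfl⟩⟩ : listSubgroup e n m h0 h1 hm)) := by
    constructor
    · intro a b hab
      have := congrArg Subtype.val hab
      exact Fin.ext (hinj a a.2 b b.2 this)
    · rintro ⟨x, a, ha, rfl⟩
      exact ⟨⟨a, ha⟩, rfl⟩
  rw [← Nat.card_congr (Equiv.ofBijective _ hb), Nat.card_eq_fintype_card, Fintype.card_fin]

end ListSub

/-! ### Conjugacy of involutions -/

section Conj

variable {G : Type*} [Group G] [Finite G]

theorem conj_of_sylow (P : Subgroup G) (k : ℕ) (hP : Nat.card P = 2 ^ k)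
    (hk : ¬ 2 ^ (k + 1) ∣ Nat.card G) (t : G)
    (hPt : ∀ x ∈ P, x ^ 2 = 1 → x ≠ 1 → IsConj t x) :
    ∀ x : G, x ^ 2 = 1 → x ≠ 1 → IsConj t x := by
  intro x hx2 hx1
  haveI : Fact (Nat.Prime 2) := ⟨Nat.prime_two⟩
  have hPp : IsPGroup 2 P := IsPGroup.of_card hP
  obtain ⟨S0, hS0⟩ := hPp.exists_le_sylow
  -- `P` is its own Sylow overgroup
  have hS0card : Nat.card S0 = 2 ^ k := by
    obtain ⟨m, hm⟩ := (IsPGroup.iff_card.mp S0.isPGroup')
    have h1 : 2 ^ k ∣ 2 ^ m := by
      rw [← hP, ← hm]; exact Subgroup.card_dvd_of_le hS0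
    have h2 : k ≤ m := (Nat.pow_dvd_pow_iff_le_right (by norm_num)).mp h1
    have h3 : 2 ^ m ∣ Nat.card G := by rw [← hm]; exact Subgroup.card_subgroup_dvd_card _
    have h4 : m ≤ k := by
      by_contra hcon
      exact hk ((pow_dvd_pow 2 (by omega : k + 1 ≤ m)).trans h3)
    rw [hm, le_antisymm h4 h2]
  have hPS0 : P = (S0 : Subgroup G) :=
    Subgroup.eq_of_le_of_card_ge hS0 (by rw [hS0card, hP])
  -- a Sylow subgroup through `x`
  have hxp : IsPGroup 2 (Subgroup.zpowers x) := by
    apply IsPGroup.of_card (n := 1)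
    rw [Nat.card_zpowers, pow_one]
    exact orderOf_eq_prime hx2 hx1
  obtain ⟨S, hS⟩ := hxp.exists_le_sylow
  obtain ⟨g, hg⟩ := MulAction.exists_smul_eq G S S0
  have hxS : x ∈ (S : Subgroup G) := hS (Subgroup.mem_zpowers x)
  have hgx : g * x * g⁻¹ ∈ P := by
    rw [hPS0, ← hg, Sylow.coe_subgroup_smul, Subgroup.mem_pointwise_smul_iff_inv_smul_mem]
    show (MulAut.conj g)⁻¹ • (g * x * g⁻¹) ∈ (S : Subgroup G)
    rw [← map_inv, MulAut.smul_def, MulAut.conj_apply]
    simpa [mul_assoc] using hxS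
  have hconj : IsConj x (g * x * g⁻¹) := isConj_iff.mpr ⟨g, rfl⟩
  have h2 : (g * x * g⁻¹) ^ 2 = 1 := by
    rw [conj_pow, hx2]; simp
  have h1 : g * x * g⁻¹ ≠ 1 := by
    intro h
    apply hx1
    have := congrArg (fun y => g⁻¹ * y * g) h
    simpa [mul_assoc] using this
  exact (hPt _ hgx h2 h1).trans hconj.symm

theorem conj_quotient (Z : Subgroup G) [Z.Normal] (hZ : Nat.card Z = 3) (t : G)
    (h : ∀ x : G, x ^ 2 = 1 → x ≠ 1 → IsConj t x) :
    ∀ x y : G ⧸ Z, orderOf x = 2 → orderOf y = 2 → IsConj x y := by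
  have key : ∀ x : G ⧸ Z, orderOf x = 2 → IsConj (QuotientGroup.mk' Z t) x := by
    intro x hx
    obtain ⟨x0, rfl⟩ := QuotientGroup.mk'_surjective Z x
    have hx2 : (QuotientGroup.mk' Z x0) ^ 2 = 1 := by rw [← hx, pow_orderOf_eq_one]
    have hx1 : (QuotientGroup.mk' Z x0) ≠ 1 := by
      intro h1
      rw [h1, orderOf_one] at hx
      omega
    have hmem : x0 ^ 2 ∈ Z := by
      rw [← QuotientGroup.eq_one_iff, ← hx2]; rfl
    have h6 : (x0 ^ 3) ^ 2 = 1 := by
      have : (⟨x0 ^ 2, hmem⟩ : Z) ^ 3 = 1 := by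
        rw [← hZ]; exact pow_card_eq_one'
      have := congrArg Subtype.val this
      rw [← pow_mul, mul_comm, pow_mul]
      simpa using this
    have himg : QuotientGroup.mk' Z (x0 ^ 3) = QuotientGroup.mk' Z x0 := by
      rw [map_pow, pow_succ, hx2, one_mul]
    have h31 : x0 ^ 3 ≠ 1 := by
      intro h1
      apply hx1
      rw [← himg, h1, map_one]
    have := (QuotientGroup.mk' Z).map_isConj (h _ h6 h31)
    rw [himg] at this
    exact this
  intro x y hx hy
  exact (key x hx).symm.trans (key y hy)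

end Conj

/-! ### A criterion for extraspecial groups -/

section Crit

theorem isExtraspecial_of_crit' {E : Type*} [Group E] [Finite E] {p : ℕ} [hp : Fact p.Prime]
    (hE : IsPGroup p E) (T : Subgroup E) (hT : Nat.card T = p) (hTZ : T ≤ Subgroup.center E)
    (hZT : Subgroup.center E ≤ T) (hcomm : ∀ x y : E, ⁅x, y⁆ ∈ T) (hpow : ∀ x : E, x ^ p ∈ T)
    (hna : ∃ x y : E, x * y ≠ y * x) : Cfsg.IsExtraspecial p E := by
  have hcen : Subgroup.center E = T := le_antisymm hZT hTZ
  have hcomle : commutator E ≤ T := by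
    rw [commutator_def, Subgroup.commutator_le]
    intro x _ y _
    exact hcomm x y
  have hcomne : commutator E ≠ ⊥ := by
    intro h
    obtain ⟨x, y, hxy⟩ := hna
    apply hxy
    have h1 : ⁅x, y⁆ ∈ commutator E := by
      rw [commutator_def]
      exact Subgroup.commutator_mem_commutator (Subgroup.mem_top x) (Subgroup.mem_top y)
    rw [h, Subgroup.mem_bot] at h1
    exact commutatorElement_eq_one_iff_mul_comm.1 h1
  have hcomT : commutator E = T := by
    have hdvd : Nat.card (commutator E) ∣ p := by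
      rw [← hT]; exact Subgroup.card_dvd_of_le hcomle
    rcases (Nat.dvd_prime hp.out).1 hdvd with h | h
    · exact absurd (Subgroup.card_eq_one.1 h) hcomne
    · exact Subgroup.eq_of_le_of_card_ge hcomle (by rw [h, hT])
  have hTn : T.Normal := by
    rw [← hcen]; infer_instance
  have hfr1 : frattini E ≤ T := by
    have := Cfsg.Agent.Helper47.frattini_le_ker_of_elementary (p := p) (QuotientGroup.mk' T)
      (by
        intro x y
        have h1 : ((⁅x, y⁆ : E) : E ⧸ T) = 1 := (QuotientGroup.eq_one_iff _).2 (hcomm x y)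
        rw [commutatorElement_def] at h1
        simp only [QuotientGroup.mk'_apply]
        have h2 : (x : E ⧸ T) * (y : E ⧸ T) * (x : E ⧸ T)⁻¹ * (y : E ⧸ T)⁻¹ = 1 := by
          simpa using h1
        calc (x : E ⧸ T) * (y : E ⧸ T)
            = ((x : E ⧸ T) * (y : E ⧸ T) * (x : E ⧸ T)⁻¹ * (y : E ⧸ T)⁻¹) *
                ((y : E ⧸ T) * (x : E ⧸ T)) := by group
          _ = (y : E ⧸ T) * (x : E ⧸ T) := by rw [h2, one_mul])
      (by
        intro x
        simp only [QuotientGroup.mk'_apply]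
        have := (QuotientGroup.eq_one_iff (N := T) (x ^ p)).2 (hpow x)
        simpa using this)
    rwa [QuotientGroup.ker_mk'] at this
  have hfr2 : T ≤ frattini E := by
    rw [← hcomT]
    exact Cfsg.Agent.Helper2.commutator_le_frattini hE
  refine ⟨⟨hE, ?_, ?_⟩, ?_⟩
  · rw [hcen]; exact le_antisymm hfr1 hfr2
  · rw [hcen]; exact hcomT
  · rw [hcen]; exact hT

end Crit

/-! ### The structure of an involution centraliser, transported to a central quotient -/

section Cent

theorem noE8_of_mulEquiv {A B : Type*} [Group A] [Group B] (e : A ≃* B)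
    (h : ∀ E : Subgroup A, Cfsg.IsElementaryAbelian 2 E → Nat.card E ≤ 2 ^ 2) :
    ∀ E : Subgroup B, Cfsg.IsElementaryAbelian 2 E → Nat.card E ≤ 2 ^ 2 := by
  intro E hE
  have h1 := h (E.map e.symm.toMonoidHom) ⟨?_, ?_⟩
  · rwa [Subgroup.card_map_of_injective (f := e.symm.toMonoidHom) e.symm.injective] at h1
  · have := hE.1
    infer_instance
  · rintro _ ⟨a, ha, rfl⟩
    rw [← map_pow, hE.2 a ha, map_one]

variable {G : Type*} [Group G] [Finite G]

theorem structure_in_subgroup (C Q H : Subgroup G) (hQC : Q ≤ C) (hHC : H ≤ C)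
    (hnorm : ∀ c ∈ C, ∀ q ∈ Q, c * q * c⁻¹ ∈ Q) (hES : Cfsg.IsExtraspecial 2 Q)
    (hQ : Nat.card Q = 32)
    (hE : ∀ E : Subgroup Q, Cfsg.IsElementaryAbelian 2 E → Nat.card E ≤ 2 ^ 2)
    (hH : Nonempty (H ≃* alternatingGroup (Fin 5))) (hdisj : ∀ x, x ∈ Q → x ∈ H → x = 1)
    (hcard : Nat.card C = Nat.card Q * Nat.card H) :
    ∃ (Q' : Subgroup C) (_ : Q'.Normal), Cfsg.IsExtraspecial 2 Q' ∧ Nat.card Q' = 32 ∧
      (∀ E : Subgroup Q', Cfsg.IsElementaryAbelian 2 E → Nat.card E ≤ 2 ^ 2) ∧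
      (∃ H' : Subgroup C, Q'.IsComplement' H') ∧
      Nonempty (C ⧸ Q' ≃* alternatingGroup (Fin 5)) := by
  let eQ : Q.subgroupOf C ≃* Q := Subgroup.subgroupOfEquivOfLe hQC
  let eH : H.subgroupOf C ≃* H := Subgroup.subgroupOfEquivOfLe hHC
  have hn : (Q.subgroupOf C).Normal := ⟨fun q hq c => by
    rw [Subgroup.mem_subgroupOf] at hq ⊢
    simpa using hnorm c c.2 q hq⟩
  have hcQ : Nat.card (Q.subgroupOf C) = Nat.card Q := Nat.card_congr eQ.toEquiv
  have hcH : Nat.card (H.subgroupOf C) = Nat.card H := Nat.card_congr eH.toEquiv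
  have hdisj' : Disjoint (Q.subgroupOf C) (H.subgroupOf C) := by
    rw [Subgroup.disjoint_def]
    intro x hxQ hxH
    rw [Subgroup.mem_subgroupOf] at hxQ hxH
    exact Subtype.ext (hdisj _ hxQ hxH)
  have hcomp : (Q.subgroupOf C).IsComplement' (H.subgroupOf C) :=
    Subgroup.isComplement'_of_card_mul_and_disjoint (by rw [hcQ, hcH, hcard]) hdisj'
  refine ⟨Q.subgroupOf C, hn, Cfsg.Agent.Helper63.isExtraspecial_of_mulEquiv eQ.symm hES,
    by rw [hcQ, hQ], noE8_of_mulEquiv eQ.symm hE, ⟨H.subgroupOf C, hcomp⟩, ?_⟩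
  obtain ⟨f⟩ := hH
  exact ⟨(hcomp.symm.QuotientMulEquiv).trans (eH.trans f)⟩

theorem involution_centralizer_quotient (hZ : Nat.card (Subgroup.center G) = 3) (t : G)
    (ht : t ^ 2 = 1) (ht1 : t ≠ 1) (Q H : Subgroup G)
    (hQC : Q ≤ Subgroup.centralizer {t}) (hHC : H ≤ Subgroup.centralizer {t})
    (hC : Nat.card (Subgroup.centralizer ({t} : Set G)) = 5760)
    (hnorm : ∀ c ∈ Subgroup.centralizer ({t} : Set G), ∀ q ∈ Q, c * q * c⁻¹ ∈ Q)
    (hQ : Nat.card Q = 32) (hES : Cfsg.IsExtraspecial 2 Q)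
    (hE : ∀ E : Subgroup Q, Cfsg.IsElementaryAbelian 2 E → Nat.card E ≤ 2 ^ 2)
    (hHcard : Nat.card H = 60) (hH : Nonempty (H ≃* alternatingGroup (Fin 5)))
    (hHQ : ∀ h ∈ H, ∀ q ∈ Q, ∀ z ∈ Subgroup.center G, h = q * z → h = 1) :
    orderOf (QuotientGroup.mk' (Subgroup.center G) t) = 2 ∧
    ∃ (Q' : Subgroup (Subgroup.centralizer
        ({QuotientGroup.mk' (Subgroup.center G) t} : Set (G ⧸ Subgroup.center G))))
      (_ : Q'.Normal), Cfsg.IsExtraspecial 2 Q' ∧ Nat.card Q' = 32 ∧
      (∀ E : Subgroup Q', Cfsg.IsElementaryAbelian 2 E → Nat.card E ≤ 2 ^ 2) ∧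
      (∃ H' : Subgroup (Subgroup.centralizer
        ({QuotientGroup.mk' (Subgroup.center G) t} : Set (G ⧸ Subgroup.center G))),
          Q'.IsComplement' H') ∧
      Nonempty ((Subgroup.centralizer
        ({QuotientGroup.mk' (Subgroup.center G) t} : Set (G ⧸ Subgroup.center G))) ⧸ Q' ≃*
          alternatingGroup (Fin 5)) := by
  set Z := Subgroup.center G with hZdef
  set π := QuotientGroup.mk' Z with hπ
  -- elements of the centre have order dividing three
  have hz3 : ∀ z ∈ Z, z ^ 3 = 1 := by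
    intro z hz
    have : (⟨z, hz⟩ : Z) ^ 3 = 1 := by rw [← hZ]; exact pow_card_eq_one'
    simpa using congrArg Subtype.val this
  have hz2 : ∀ z ∈ Z, z ^ 2 = 1 → z = 1 := by
    intro z hz h2
    have h3 := hz3 z hz
    rw [pow_succ, h2, one_mul] at h3
    exact h3
  have htZ : t ∉ Z := fun h => ht1 (hz2 t h ht)
  have hπt1 : π t ≠ 1 := by
    intro h
    exact htZ ((QuotientGroup.eq_one_iff t).mp h)
  have hπt2 : π t ^ 2 = 1 := by rw [← map_pow, ht, map_one]
  have hord : orderOf (π t) = 2 := orderOf_eq_prime hπt2 hπt1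
  -- the centraliser of the image is the image of the centraliser
  have key : ∀ x : G, π x ∈ Subgroup.centralizer ({π t} : Set (G ⧸ Z)) ↔
      x ∈ Subgroup.centralizer ({t} : Set G) := by
    intro x
    rw [Subgroup.mem_centralizer_singleton_iff, Subgroup.mem_centralizer_singleton_iff]
    constructor
    · intro h
      rw [← map_mul, ← map_mul] at h
      have hz : (x * t)⁻¹ * (t * x) ∈ Z := by
        rw [← QuotientGroup.eq]
        exact h
      set z := (x * t)⁻¹ * (t * x) with hzdef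
      have hzc : ∀ y : G, z * y = y * z := fun y => (Subgroup.mem_center_iff.mp hz y).symm
      have e1 : t * x = x * t * z := by rw [hzdef]; group
      have e2 : x = x * (z * z) := by
        calc x = t * (t * x) := by rw [← mul_assoc, ← pow_two, ht, one_mul]
          _ = t * (x * t * z) := by rw [← e1]
          _ = (t * x) * (t * z) := by group
          _ = (x * t * z) * (t * z) := by rw [← e1]
          _ = x * t * (z * t) * z := by group
          _ = x * t * (t * z) * z := by rw [hzc t]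
          _ = x * (t * t) * (z * z) := by group
          _ = x * (z * z) := by rw [← pow_two, ht, mul_one]
      have hz1 : z = 1 := by
        apply hz2 z hz
        rw [pow_two]
        exact (mul_left_cancel (a := x) (by rw [mul_one]; exact e2)).symm
      rw [e1, hz1, mul_one]
    · intro h
      rw [← map_mul, ← map_mul, h]
  have hsurj : Function.Surjective π := QuotientGroup.mk'_surjective Z
  -- the order of the centraliser in the quotient
  have hcomap : (Subgroup.centralizer ({π t} : Set (G ⧸ Z))).comap π =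
      Subgroup.centralizer ({t} : Set G) := by
    ext x
    rw [Subgroup.mem_comap]
    exact key x
  have hidx : (Subgroup.centralizer ({t} : Set G)).index =
      (Subgroup.centralizer ({π t} : Set (G ⧸ Z))).index := by
    rw [← hcomap]
    exact Subgroup.index_comap_of_surjective _ hsurj
  have hCbar : Nat.card (Subgroup.centralizer ({π t} : Set (G ⧸ Z))) = 1920 := by
    have h1 := Subgroup.card_mul_index (Subgroup.centralizer ({t} : Set G))
    have h2 := Subgroup.card_mul_index (Subgroup.centralizer ({π t} : Set (G ⧸ Z)))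
    have h3 := Subgroup.card_eq_card_quotient_mul_card_subgroup Z
    rw [hC, hidx] at h1
    rw [hZ] at h3
    have hpos : 0 < (Subgroup.centralizer ({π t} : Set (G ⧸ Z))).index :=
      Nat.pos_of_ne_zero (Subgroup.index_ne_zero_of_finite)
    have h4 : 5760 * (Subgroup.centralizer ({π t} : Set (G ⧸ Z))).index =
        (Nat.card (Subgroup.centralizer ({π t} : Set (G ⧸ Z))) * 3) *
          (Subgroup.centralizer ({π t} : Set (G ⧸ Z))).index := by
      rw [h1, h3, ← h2]; ring
    have h5 := Nat.eq_of_mul_eq_mul_right hpos h4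
    omega
  -- the images of `Q` and `H`
  have hQinj : Function.Injective (π.domRestrict Q) := by
    rw [injective_iff_map_eq_one]
    intro q hq
    have hqZ : (q : G) ∈ Z := (QuotientGroup.eq_one_iff (q : G)).mp hq
    have h3 := hz3 _ hqZ
    have h32 : (q : G) ^ 32 = 1 := by
      have : q ^ 32 = 1 := by rw [← hQ]; exact pow_card_eq_one'
      simpa using congrArg Subtype.val this
    apply Subtype.ext
    have : (q : G) = ((q : G) ^ 3) ^ 11 * ((q : G) ^ 32)⁻¹ := by
      rw [← pow_mul]; group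
    rw [this, h3, h32]; simp
  have hHinj : Function.Injective (π.domRestrict H) := by
    rw [injective_iff_map_eq_one]
    intro h hh
    have hhZ : (h : G) ∈ Z := (QuotientGroup.eq_one_iff (h : G)).mp hh
    apply Subtype.ext
    exact hHQ h h.2 1 (one_mem _) h hhZ (by rw [one_mul])
  let eQ : Q ≃* (π.domRestrict Q).range := MonoidHom.ofInjective hQinj
  let eH : H ≃* (π.domRestrict H).range := MonoidHom.ofInjective hHinj
  have hcQ : Nat.card (π.domRestrict Q).range = 32 := by
    rw [← Nat.card_congr eQ.toEquiv, hQ]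
  have hcH : Nat.card (π.domRestrict H).range = 60 := by
    rw [← Nat.card_congr eH.toEquiv, hHcard]
  refine ⟨hord, ?_⟩
  apply structure_in_subgroup (Subgroup.centralizer ({π t} : Set (G ⧸ Z)))
    (π.domRestrict Q).range (π.domRestrict H).range
  · rintro _ ⟨q, rfl⟩
    exact (key q).mpr (hQC q.2)
  · rintro _ ⟨h, rfl⟩
    exact (key h).mpr (hHC h.2)
  · rintro c' hc' _ ⟨q, rfl⟩
    obtain ⟨c, rfl⟩ := hsurj c'
    have hc : c ∈ Subgroup.centralizer ({t} : Set G) := (key c).mp hc'
    refine ⟨⟨c * q * c⁻¹, hnorm c hc q q.2⟩, ?_⟩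
    simp [MonoidHom.domRestrict_apply]
  · exact Cfsg.Agent.Helper63.isExtraspecial_of_mulEquiv eQ hES
  · exact hcQ
  · exact noE8_of_mulEquiv eQ hE
  · obtain ⟨f⟩ := hH
    exact ⟨eH.symm.trans f⟩
  · rintro x ⟨q, rfl⟩ ⟨h, hh⟩
    have h1 : π (h : G) = π (q : G) := hh
    have hz : (q : G)⁻¹ * (h : G) ∈ Z := by
      rw [← QuotientGroup.eq]
      exact h1.symm
    have h2 : (h : G) = 1 := hHQ h h.2 q q.2 _ hz (by group)
    show π (q : G) = 1
    rw [← h1, h2, map_one]
  · rw [hCbar, hcQ, hcH]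

end Cent

end Cfsg.Agent.Helper8.InvC
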