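import Mathlib

set_option autoImplicit false

namespace Cfsg.Agent.Helper8.JPC

open Equiv Equiv.Perm MulAction Subgroup
open scoped Pointwise

universe u

/-- (PR) transitive + prime cycle longer than half ⇒ primitive. -/
theorem isPreprimitive_of_prime_cycle {Ω : Type u} [Fintype Ω] [DecidableEq Ω]
    (G : Subgroup (Perm Ω)) (hG : IsPretransitive G Ω) {q : ℕ} (hq : q.Prime) {y : Perm Ω}
    (hyc : y.IsCycle) (hyq : y.support.card = q) (hy : y ∈ G)
    (hcard : Fintype.card Ω < 2 * q) : IsPreprimitive G Ω := by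
  classical
  have hord : orderOf y = q := by rw [hyc.orderOf, hyq]
  refine { toIsPretransitive := hG, isTrivialBlock_of_isBlock := ?_ }
  intro B hB
  by_cases hsub : B.Subsingleton
  · exact Or.inl hsub
  right
  -- a point of the support of `y`
  obtain ⟨a, ha⟩ : ∃ a, y a ≠ a := by
    obtain ⟨a, ha, -⟩ := hyc
    exact ⟨a, ha⟩
  -- two distinct points of `B`
  obtain ⟨b₀, hb₀, b₁, hb₁, hne⟩ : ∃ b₀ ∈ B, ∃ b₁ ∈ B, b₀ ≠ b₁ := by
    by_contra hcon
    apply hsub
    intro u hu v hv
    by_contra huv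
    exact hcon ⟨u, hu, v, hv, huv⟩
  -- translate `B` so that it contains `a`
  obtain ⟨g, hg⟩ := hG.exists_smul_eq b₀ a
  set B' : Set Ω := g • B with hB'def
  have hB' : IsBlock G B' := hB.translate g
  have haB' : a ∈ B' := by
    rw [← hg]; exact Set.smul_mem_smul_set hb₀
  have hcB' : g • b₁ ∈ B' := Set.smul_mem_smul_set hb₁
  have hca : g • b₁ ≠ a := by
    rw [← hg]
    intro h
    exact hne (MulAction.injective g h).symm
  set c : Ω := g • b₁ with hcdef
  let yG : G := ⟨y, hy⟩
  have hyG : ∀ x : Ω, yG • x = y x := fun x => rfl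
  have hyGpow : ∀ (i : ℤ) (x : Ω), (yG ^ i) • x = (y ^ i) x := by
    intro i x
    show (((yG ^ i : G) : Perm Ω)) x = (y ^ i) x
    rw [Subgroup.coe_zpow]
  -- `y` stabilizes `B'`
  have hstab : yG ∈ stabilizer G B' := by
    by_cases hyc' : y c = c
    · rw [mem_stabilizer_iff]
      exact (isBlock_iff_smul_eq_of_mem.1 hB') hcB' (by rw [hyG, hyc']; exact hcB')
    · obtain ⟨i, hi⟩ := hyc.exists_zpow_eq ha hyc'
      have h1 : yG ^ i ∈ stabilizer G B' := by
        rw [mem_stabilizer_iff]
        exact (isBlock_iff_smul_eq_of_mem.1 hB') haB' (by rw [hyGpow, hi]; exact hcB')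
      -- `y ^ i ≠ 1`, so `q ∤ i`
      have hqi : ¬ (q : ℤ) ∣ i := by
        intro hdvd
        have : y ^ i = 1 := by
          rw [← hord] at hdvd
          exact orderOf_dvd_iff_zpow_eq_one.1 hdvd
        rw [this] at hi
        exact hca hi.symm
      have hcop : IsCoprime i (q : ℤ) := by
        have hqp : Prime (q : ℤ) := Nat.prime_iff_prime_int.1 hq
        exact (hqp.coprime_iff_not_dvd.2 hqi).symm
      obtain ⟨u, v, huv⟩ := hcop
      have hyq1 : y ^ (q : ℤ) = 1 := by
        rw [zpow_natCast, ← hord, pow_orderOf_eq_one]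
      have hyu : (y ^ i) ^ u = y := by
        have h2 : y ^ (u * i + v * (q : ℤ)) = y := by rw [huv, zpow_one]
        rw [zpow_add, zpow_mul' y v, hyq1, one_zpow, mul_one, mul_comm u i, zpow_mul] at h2
        exact h2
      have h3 : (yG ^ i) ^ u ∈ stabilizer G B' := Subgroup.zpow_mem _ h1 u
      have h4 : (yG ^ i) ^ u = yG := by
        apply Subtype.ext
        rw [Subgroup.coe_zpow, Subgroup.coe_zpow]
        exact hyu
      rw [h4] at h3
      exact h3
  -- hence the support of `y` lies in `B'`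
  have hsupp : ∀ x, y x ≠ x → x ∈ B' := by
    intro x hx
    obtain ⟨i, hi⟩ := hyc.exists_zpow_eq ha hx
    have h1 : yG ^ i ∈ stabilizer G B' := Subgroup.zpow_mem _ hstab i
    rw [mem_stabilizer_iff] at h1
    rw [← h1, ← hi, ← hyGpow]
    exact Set.smul_mem_smul_set haB'
  have hle : q ≤ B'.ncard := by
    rw [← hyq]
    have : (y.support : Set Ω) ⊆ B' := by
      intro x hx
      exact hsupp x (by simpa using hx)
    calc y.support.card = (y.support : Set Ω).ncard := (Set.ncard_coe_finset _).symm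
      _ ≤ B'.ncard := Set.ncard_le_ncard this (Set.toFinite _)
  have hnc : B'.ncard = B.ncard := Set.ncard_smul_set g B
  apply hB.eq_univ_of_card_lt
  rw [Nat.card_eq_fintype_card]
  omega

end Cfsg.Agent.Helper8.JPC
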