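import Mathlib
import Cfsg.Agent.Lib.Helper40.StVal.Defs

/-!
# STV lemma server (helper40, S2425): piece (T) `exists_gl_map_chain`

`GL_n` is transitive on chains of subspaces with the same dimensions.
-/

set_option autoImplicit false

namespace Cfsg.Agent.Helper8.STV

open Cfsg Cfsg.Agent.Helper40.Par Cfsg.Agent.Helper40.StVal Polynomial

universe u v

section Ext

variable {F : Type u} [Field F] {V V' : Type v} [AddCommGroup V] [Module F V]
  [FiniteDimensional F V] [AddCommGroup V'] [Module F V'] [FiniteDimensional F V']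

/-- extension of a linear equivalence between subspaces to the whole spaces -/
theorem h8_exists_extend (hVV' : Module.finrank F V = Module.finrank F V')
    (M : Submodule F V) (M' : Submodule F V') (e₀ : M ≃ₗ[F] M') :
    ∃ e : V ≃ₗ[F] V', ∀ x : M, e (x : V) = (e₀ x : V') := by
  obtain ⟨Q, hQ⟩ := Submodule.exists_isCompl M
  obtain ⟨Q', hQ'⟩ := Submodule.exists_isCompl M'
  have h1 : Module.finrank F M + Module.finrank F Q = Module.finrank F V :=
    Submodule.finrank_add_eq_of_isCompl hQ
  have h2 : Module.finrank F M' + Module.finrank F Q' = Module.finrank F V' :=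
    Submodule.finrank_add_eq_of_isCompl hQ'
  have h3 : Module.finrank F M = Module.finrank F M' := e₀.finrank_eq
  have h4 : Module.finrank F Q = Module.finrank F Q' := by omega
  let e₁ : Q ≃ₗ[F] Q' := LinearEquiv.ofFinrankEq Q Q' h4
  refine ⟨(Submodule.prodEquivOfIsCompl M Q hQ).symm ≪≫ₗ (e₀.prodCongr e₁) ≪≫ₗ
    (Submodule.prodEquivOfIsCompl M' Q' hQ'), ?_⟩
  intro x
  simp

/-- transport of submodules of `M` along an extension -/
theorem h8_map_map_extend (M : Submodule F V) (M' : Submodule F V') (e₀ : M ≃ₗ[F] M')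
    (e : V ≃ₗ[F] V') (he : ∀ x : M, e (x : V) = (e₀ x : V')) (P : Submodule F M) :
    (P.map M.subtype).map (e : V →ₗ[F] V') =
      (P.map (e₀ : M →ₗ[F] M')).map M'.subtype := by
  rw [← Submodule.map_comp, ← Submodule.map_comp]
  congr 1
  apply LinearMap.ext
  intro x
  simp [he x]

end Ext

/-- the inductive core: two dimension-indexed flags with the same dimensions are related by a
linear equivalence -/
theorem h8_flag_equiv {F : Type u} [Field F] (D : Finset ℕ) :
    ∀ (V V' : Type v) [AddCommGroup V] [Module F V] [FiniteDimensional F V]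
      [AddCommGroup V'] [Module F V'] [FiniteDimensional F V'],
      Module.finrank F V = Module.finrank F V' →
      ∀ (W : ℕ → Submodule F V) (W' : ℕ → Submodule F V'),
        (∀ d ∈ D, Module.finrank F (W d) = d) → (∀ d ∈ D, Module.finrank F (W' d) = d) →
        (∀ d ∈ D, ∀ d' ∈ D, d ≤ d' → W d ≤ W d') →
        (∀ d ∈ D, ∀ d' ∈ D, d ≤ d' → W' d ≤ W' d') →
        ∃ e : V ≃ₗ[F] V', ∀ d ∈ D, (W d).map (e : V →ₗ[F] V') = W' d := by
  induction D using Finset.induction_on_max with
  | empty =>
    intro V V' _ _ _ _ _ _ hVV' W W' _ _ _ _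
    exact ⟨LinearEquiv.ofFinrankEq V V' hVV', by simp⟩
  | insert a s has ih =>
    intro V V' _ _ _ _ _ _ hVV' W W' hW hW' hmono hmono'
    have haD : a ∈ insert a s := Finset.mem_insert_self a s
    have hsD : ∀ d ∈ s, d ∈ insert a s := fun d hd => Finset.mem_insert_of_mem hd
    have hle : ∀ d ∈ insert a s, d ≤ a := by
      intro d hd
      rcases Finset.mem_insert.1 hd with h | h
      · exact h.le
      · exact (has d h).le
    have hWle : ∀ d ∈ insert a s, W d ≤ W a := fun d hd => hmono d hd a haD (hle d hd)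
    have hWle' : ∀ d ∈ insert a s, W' d ≤ W' a := fun d hd => hmono' d hd a haD (hle d hd)
    have hMM' : Module.finrank F (W a) = Module.finrank F (W' a) := by
      rw [hW a haD, hW' a haD]
    obtain ⟨e₀, he₀⟩ := ih (W a) (W' a) hMM'
      (fun d => (W d).comap (W a).subtype) (fun d => (W' d).comap (W' a).subtype)
      (fun d hd => by
        rw [(Submodule.comapSubtypeEquivOfLe (hWle d (hsD d hd))).finrank_eq]
        exact hW d (hsD d hd))
      (fun d hd => by
        rw [(Submodule.comapSubtypeEquivOfLe (hWle' d (hsD d hd))).finrank_eq]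
        exact hW' d (hsD d hd))
      (fun d hd d' hd' h => Submodule.comap_mono (hmono d (hsD d hd) d' (hsD d' hd') h))
      (fun d hd d' hd' h => Submodule.comap_mono (hmono' d (hsD d hd) d' (hsD d' hd') h))
    obtain ⟨e, he⟩ := h8_exists_extend hVV' (W a) (W' a) e₀
    refine ⟨e, ?_⟩
    intro d hd
    have key : ((W d).comap (W a).subtype).map (e₀ : (W a) →ₗ[F] (W' a)) =
        (W' d).comap (W' a).subtype := by
      rcases Finset.mem_insert.1 hd with h | h
      · subst h
        rw [Submodule.comap_subtype_self, Submodule.comap_subtype_self, Submodule.map_top]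
        exact LinearEquiv.range e₀
      · exact he₀ d h
    have e1 : W d = ((W d).comap (W a).subtype).map (W a).subtype := by
      rw [Submodule.map_comap_subtype, inf_eq_right.2 (hWle d hd)]
    have e2 : W' d = ((W' d).comap (W' a).subtype).map (W' a).subtype := by
      rw [Submodule.map_comap_subtype, inf_eq_right.2 (hWle' d hd)]
    rw [e1, h8_map_map_extend (W a) (W' a) e₀ e he, key, ← e2]

section Chain

variable {F : Type u} [Field F] {V : Type v} [AddCommGroup V] [Module F V] [FiniteDimensional F V]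

open Classical in
/-- the member of dimension `d` of a chain (or `⊥` if there is none) -/
noncomputable def h8_pick (C : Finset (Submodule F V)) (d : ℕ) : Submodule F V :=
  if h : ∃ X ∈ C, Module.finrank F X = d then h.choose else ⊥

theorem h8_pick_spec (C : Finset (Submodule F V)) (d : ℕ)
    (h : ∃ X ∈ C, Module.finrank F X = d) :
    h8_pick C d ∈ C ∧ Module.finrank F (h8_pick C d) = d := by
  unfold h8_pick
  rw [dif_pos h]
  exact h.choose_spec

theorem h8_chain_eq (C : Finset (Submodule F V))
    (hC : IsChain (· ≤ ·) (C : Set (Submodule F V))) {X Y : Submodule F V}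
    (hX : X ∈ C) (hY : Y ∈ C) (h : Module.finrank F X = Module.finrank F Y) : X = Y := by
  rcases hC.total (Finset.mem_coe.2 hX) (Finset.mem_coe.2 hY) with h1 | h1
  · exact Submodule.eq_of_le_of_finrank_eq h1 h
  · exact (Submodule.eq_of_le_of_finrank_eq h1 h.symm).symm

theorem h8_pick_self (C : Finset (Submodule F V))
    (hC : IsChain (· ≤ ·) (C : Set (Submodule F V))) {X : Submodule F V} (hX : X ∈ C) :
    h8_pick C (Module.finrank F X) = X :=
  h8_chain_eq C hC (h8_pick_spec C _ ⟨X, hX, rfl⟩).1 hX (h8_pick_spec C _ ⟨X, hX, rfl⟩).2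

theorem h8_pick_mono (C : Finset (Submodule F V))
    (hC : IsChain (· ≤ ·) (C : Set (Submodule F V))) {d d' : ℕ}
    (hd : ∃ X ∈ C, Module.finrank F X = d) (hd' : ∃ X ∈ C, Module.finrank F X = d')
    (h : d ≤ d') : h8_pick C d ≤ h8_pick C d' := by
  obtain ⟨m1, f1⟩ := h8_pick_spec C d hd
  obtain ⟨m2, f2⟩ := h8_pick_spec C d' hd'
  rcases hC.total (Finset.mem_coe.2 m1) (Finset.mem_coe.2 m2) with h1 | h1
  · exact h1
  · have h3 := Submodule.finrank_mono h1
    rw [f1, f2] at h3
    have h4 : d = d' := le_antisymm h h3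
    subst h4
    exact le_rfl

end Chain

open Classical in
theorem exists_gl_map_chain {F : Type*} [Field F] {n : ℕ}
    (C C' : Finset (Submodule F (Fin n → F)))
    (hC : IsChain (· ≤ ·) (C : Set (Submodule F (Fin n → F))))
    (hC' : IsChain (· ≤ ·) (C' : Set (Submodule F (Fin n → F))))
    (hdim : C.image (fun W : Submodule F (Fin n → F) => Module.finrank F W) =
      C'.image (fun W : Submodule F (Fin n → F) => Module.finrank F W)) :
    ∃ g : GL (Fin n) F,
      C.image (fun W : Submodule F (Fin n → F) =>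
        W.map (Matrix.toLin' (g : Matrix (Fin n) (Fin n) F))) = C' := by
  have hmem : ∀ d ∈ C.image (fun W : Submodule F (Fin n → F) => Module.finrank F W),
      ∃ X ∈ C, Module.finrank F X = d := fun d hd => Finset.mem_image.1 hd
  have hmem' : ∀ d ∈ C.image (fun W : Submodule F (Fin n → F) => Module.finrank F W),
      ∃ X ∈ C', Module.finrank F X = d := fun d hd => Finset.mem_image.1 (hdim ▸ hd)
  obtain ⟨e, he⟩ := h8_flag_equiv (F := F)
    (C.image (fun W : Submodule F (Fin n → F) => Module.finrank F W))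
    (Fin n → F) (Fin n → F) rfl (h8_pick C) (h8_pick C')
    (fun d hd => (h8_pick_spec C d (hmem d hd)).2)
    (fun d hd => (h8_pick_spec C' d (hmem' d hd)).2)
    (fun d hd d' hd' h => h8_pick_mono C hC (hmem d hd) (hmem d' hd') h)
    (fun d hd d' hd' h => h8_pick_mono C' hC' (hmem' d hd) (hmem' d' hd') h)
  have h1 : LinearMap.toMatrix' (e : (Fin n → F) →ₗ[F] (Fin n → F)) *
      LinearMap.toMatrix' (e.symm : (Fin n → F) →ₗ[F] (Fin n → F)) = 1 := by
    rw [← LinearMap.toMatrix'_comp, ← LinearMap.toMatrix'_id]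
    congr 1
    ext x : 1
    simp
  have h2 : LinearMap.toMatrix' (e.symm : (Fin n → F) →ₗ[F] (Fin n → F)) *
      LinearMap.toMatrix' (e : (Fin n → F) →ₗ[F] (Fin n → F)) = 1 := by
    rw [← LinearMap.toMatrix'_comp, ← LinearMap.toMatrix'_id]
    congr 1
    ext x : 1
    simp
  refine ⟨⟨LinearMap.toMatrix' (e : (Fin n → F) →ₗ[F] (Fin n → F)),
    LinearMap.toMatrix' (e.symm : (Fin n → F) →ₗ[F] (Fin n → F)), h1, h2⟩, ?_⟩
  have hg : Matrix.toLin' (LinearMap.toMatrix' (e : (Fin n → F) →ₗ[F] (Fin n → F))) =
      (e : (Fin n → F) →ₗ[F] (Fin n → F)) := Matrix.toLin'_toMatrix' _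
  ext X'
  rw [Finset.mem_image]
  constructor
  · rintro ⟨X, hX, rfl⟩
    have hd : Module.finrank F X ∈
        C.image (fun W : Submodule F (Fin n → F) => Module.finrank F W) :=
      Finset.mem_image_of_mem _ hX
    have e1 := he _ hd
    rw [h8_pick_self C hC hX] at e1
    show X.map (Matrix.toLin' (LinearMap.toMatrix' (e : (Fin n → F) →ₗ[F] (Fin n → F)))) ∈ C'
    rw [hg, e1]
    exact (h8_pick_spec C' _ (hmem' _ hd)).1
  · intro hX'
    have hd : Module.finrank F X' ∈
        C.image (fun W : Submodule F (Fin n → F) => Module.finrank F W) := by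
      rw [hdim]
      exact Finset.mem_image_of_mem _ hX'
    refine ⟨h8_pick C (Module.finrank F X'), (h8_pick_spec C _ (hmem _ hd)).1, ?_⟩
    show (h8_pick C (Module.finrank F X')).map
      (Matrix.toLin' (LinearMap.toMatrix' (e : (Fin n → F) →ₗ[F] (Fin n → F)))) = X'
    rw [hg, he _ hd]
    exact h8_pick_self C' hC' hX'

end Cfsg.Agent.Helper8.STV
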