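import Mathlib
import Cfsg.Agent.Lib.Helper40.StVal.Defs

/-!
# STV lemma server (helper40, S2425): piece (V) `muVal_mul_irreducible`
-/

set_option autoImplicit false

namespace Cfsg.Agent.Helper8.STV

open Cfsg Cfsg.Agent.Helper40.Par Cfsg.Agent.Helper40.StVal Polynomial

/-- the multiset computation behind (V) -/
theorem h8_prod_cons {α : Type*} [DecidableEq α] (N : Multiset α) (f : α) (d : α → ℕ) (q : ℤ) :
    ∏ h ∈ (f ::ₘ N).toFinset,
        (-1 : ℤ) ^ (f ::ₘ N).count h * (q ^ d h) ^ ((f ::ₘ N).count h).choose 2 =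
      -(q ^ (d f * N.count f)) *
        ∏ h ∈ N.toFinset, (-1 : ℤ) ^ N.count h * (q ^ d h) ^ (N.count h).choose 2 := by
  have hsub : N.toFinset ⊆ insert f N.toFinset := Finset.subset_insert _ _
  have h1 : ∏ h ∈ N.toFinset, (-1 : ℤ) ^ N.count h * (q ^ d h) ^ (N.count h).choose 2 =
      ∏ h ∈ insert f N.toFinset, (-1 : ℤ) ^ N.count h * (q ^ d h) ^ (N.count h).choose 2 := by
    apply Finset.prod_subset hsub
    intro x _ hx
    have : N.count x = 0 := by
      rw [Multiset.count_eq_zero]
      intro hmem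
      exact hx (Multiset.mem_toFinset.2 hmem)
    rw [this]
    simp
  have hf : f ∈ insert f N.toFinset := Finset.mem_insert_self _ _
  rw [Multiset.toFinset_cons, h1, ← Finset.mul_prod_erase _ _ hf, ← Finset.mul_prod_erase _ _ hf]
  have h2 : ∏ h ∈ (insert f N.toFinset).erase f,
        (-1 : ℤ) ^ (f ::ₘ N).count h * (q ^ d h) ^ ((f ::ₘ N).count h).choose 2 =
      ∏ h ∈ (insert f N.toFinset).erase f,
        (-1 : ℤ) ^ N.count h * (q ^ d h) ^ (N.count h).choose 2 := by
    apply Finset.prod_congr rfl
    intro x hx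
    have hne : x ≠ f := (Finset.mem_erase.1 hx).1
    rw [Multiset.count_cons_of_ne hne]
  rw [h2, Multiset.count_cons_self]
  have h3 : (N.count f + 1).choose 2 = N.count f + (N.count f).choose 2 := by
    rw [Nat.choose_succ_succ, Nat.choose_one_right]
  rw [h3, pow_add, pow_succ, ← pow_mul]
  ring

open Classical in
theorem muVal_mul_irreducible {F : Type*} [Field F] (q : ℕ) (f g : F[X]) (hf : Irreducible f)
    (hfm : f.Monic) (hg : g.Monic) :
    muVal q (f * g) =
      -((q : ℤ) ^ (f.natDegree * Multiset.count f (UniqueFactorizationMonoid.normalizedFactors g))) *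
        muVal q g := by
  have hNF : UniqueFactorizationMonoid.normalizedFactors (f * g) =
      f ::ₘ UniqueFactorizationMonoid.normalizedFactors g := by
    rw [UniqueFactorizationMonoid.normalizedFactors_mul hf.ne_zero hg.ne_zero,
      UniqueFactorizationMonoid.normalizedFactors_irreducible hf, hfm.normalize_eq_self]
    rfl
  unfold muVal
  rw [hNF]
  exact h8_prod_cons _ f (fun h => h.natDegree) (q : ℤ)

end Cfsg.Agent.Helper8.STV
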