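import Mathlib
import Cfsg.Agent.Lib.Helper52.FCDefs

set_option autoImplicit false

namespace Cfsg.Agent.Helper8.FC

open Subgroup Cfsg.Agent.Helper52.FC
open scoped commutatorElement

universe u

variable {G : Type u} [Group G]

/-- conjugation by elements of `X ⊔ Y` preserves `V` if conjugation by `X` and by `Y` does. -/
theorem h8_norm_sup {X Y V : Subgroup G} (hX : ∀ x ∈ X, ∀ v ∈ V, x * v * x⁻¹ ∈ V)
    (hY : ∀ y ∈ Y, ∀ v ∈ V, y * v * y⁻¹ ∈ V) : ∀ k ∈ X ⊔ Y, ∀ v ∈ V, k * v * k⁻¹ ∈ V := by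
  have key : ∀ k ∈ X ⊔ Y, (∀ v ∈ V, k * v * k⁻¹ ∈ V) ∧ (∀ v ∈ V, k⁻¹ * v * k ∈ V) := by
    intro k hk
    rw [sup_eq_closure] at hk
    induction hk using Subgroup.closure_induction with
    | mem z hz =>
      rcases hz with hz | hz
      · refine ⟨hX z hz, fun v hv => ?_⟩
        have := hX z⁻¹ (X.inv_mem hz) v hv
        rwa [inv_inv] at this
      · refine ⟨hY z hz, fun v hv => ?_⟩
        have := hY z⁻¹ (Y.inv_mem hz) v hv
        rwa [inv_inv] at this
    | one =>
      constructor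
      · intro v hv
        rwa [one_mul, inv_one, mul_one]
      · intro v hv
        rwa [inv_one, one_mul, mul_one]
    | mul x y _ _ hx hy =>
      constructor
      · intro v hv
        have h1 := hx.1 _ (hy.1 v hv)
        have h2 : x * y * v * (x * y)⁻¹ = x * (y * v * y⁻¹) * x⁻¹ := by group
        rw [h2]
        exact h1
      · intro v hv
        have h1 := hy.2 _ (hx.2 v hv)
        have h2 : (x * y)⁻¹ * v * (x * y) = y⁻¹ * (x⁻¹ * v * x) * y := by group
        rw [h2]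
        exact h1
    | inv x _ hx =>
      constructor
      · intro v hv
        have := hx.2 v hv
        rwa [inv_inv]
      · intro v hv
        have := hx.1 v hv
        rwa [inv_inv]
  intro k hk
  exact (key k hk).1

theorem h8_inv_pow {a : G} {V : Subgroup G} (hV : Inv a V) (n : ℕ) :
    ∀ v ∈ V, a ^ n * v * (a ^ n)⁻¹ ∈ V := by
  induction n with
  | zero =>
    intro v hv
    rwa [pow_zero, one_mul, inv_one, mul_one]
  | succ n ih =>
    intro v hv
    have h1 := hV _ (ih v hv)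
    have h2 : a ^ (n + 1) * v * (a ^ (n + 1))⁻¹ = a * (a ^ n * v * (a ^ n)⁻¹) * a⁻¹ := by
      rw [pow_succ']
      group
    rw [h2]
    exact h1

theorem h8_inv_zpowers [Finite G] {a : G} {V : Subgroup G} (hV : Inv a V) :
    ∀ y ∈ zpowers a, ∀ v ∈ V, y * v * y⁻¹ ∈ V := by
  intro y hy v hv
  rw [← mem_powers_iff_mem_zpowers, Submonoid.mem_powers_iff] at hy
  obtain ⟨n, rfl⟩ := hy
  exact h8_inv_pow hV n v hv

/-- `a⁻¹`-invariance from `a`-invariance in a finite group. -/
theorem h8_inv_inv [Finite G] {a : G} {V : Subgroup G} (hV : Inv a V) :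
    ∀ v ∈ V, a⁻¹ * v * a ∈ V := by
  intro v hv
  have h1 := h8_inv_zpowers hV a⁻¹ ((zpowers a).inv_mem (mem_zpowers a)) v hv
  rwa [inv_inv] at h1

theorem h8_mem_Fix {a x : G} : x ∈ Fix a ↔ a * x = x * a := by
  unfold Cfsg.Agent.Helper52.FC.Fix
  rw [mem_centralizer_iff]
  constructor
  · intro h
    exact h a rfl
  · intro h y hy
    rw [Set.mem_singleton_iff] at hy
    rw [hy]
    exact h

theorem h8_conj_of_Fix {a x : G} (hx : x ∈ Fix a) : a * x * a⁻¹ = x := by
  rw [h8_mem_Fix.1 hx, mul_inv_cancel_right]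

/-- the commutator `⁅V, K⁆` is preserved by conjugation with `g` if `V` and `K` are. -/
theorem h8_conj_commutator {V K : Subgroup G} (g : G) (hV : ∀ v ∈ V, g * v * g⁻¹ ∈ V)
    (hK : ∀ k ∈ K, g * k * g⁻¹ ∈ K) : ∀ w ∈ ⁅V, K⁆, g * w * g⁻¹ ∈ ⁅V, K⁆ := by
  intro w hw
  have h1 : (MulAut.conj g).toMonoidHom w ∈ (⁅V, K⁆).map (MulAut.conj g).toMonoidHom :=
    mem_map_of_mem _ hw
  rw [map_commutator] at h1
  have h2 : V.map (MulAut.conj g).toMonoidHom ≤ V := by
    rintro x ⟨v, hv, rfl⟩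
    exact hV v hv
  have h3 : K.map (MulAut.conj g).toMonoidHom ≤ K := by
    rintro x ⟨k, hk, rfl⟩
    exact hK k hk
  exact commutator_mono h2 h3 h1

end Cfsg.Agent.Helper8.FC
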