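import Mathlib
import Cfsg.Agent.Lib.Helper52.FCDefs
import Cfsg.Agent.Lib.Helper8.FCAux

set_option autoImplicit false

namespace Cfsg.Agent.Helper8.FC

open Subgroup Cfsg.Agent.Helper52.FC
open scoped commutatorElement

universe u

variable {G : Type u} [Group G]

/-- (A0) a nontrivial `a`-invariant normal subgroup `W` of `H` contains a `MinNormal`. -/
theorem exists_minnormal [Finite G] (a : G) (H W : Subgroup G) (hWH : W ≤ H) (hWn : NormBy H W) (hWa : Inv a W) (hW : W ≠ ⊥) :
    ∃ V : Subgroup G, V ≤ W ∧ MinNormal a H V := by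
  induction' hn : Nat.card W using Nat.strong_induction_on with n ih generalizing W
  by_cases hmin : ∀ W' : Subgroup G, W' ≤ W → NormBy H W' → Inv a W' → W' ≠ ⊥ → W' = W
  · exact ⟨W, le_rfl, ⟨hWH, hWn, hWa, hW, hmin⟩⟩
  · push Not at hmin
    obtain ⟨W', hle, hn', ha', hne, hneq⟩ := hmin
    have hlt : Nat.card W' < Nat.card W := by
      by_contra hge
      push Not at hge
      exact hneq (Subgroup.eq_of_le_of_card_ge hle hge)
    obtain ⟨V, hV, hVm⟩ := ih _ (hn ▸ hlt) W' (hle.trans hWH) hn' ha' hne rfl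
    exact ⟨V, hV.trans hle, hVm⟩

/-- (A2) `ZZ a H ⊓ star a H = ⊥`. -/
theorem ZZ_inf_star [Finite G] {p : ℕ} {a : G} {H : Subgroup G} (mx : MCX p G a H) : ZZ a H ⊓ star a H = ⊥ := by
  by_contra hne
  have hle : ZZ a H ⊓ star a H ≤ H := by
    intro x hx
    exact hx.1.1.1
  have hnorm : NormBy H (ZZ a H ⊓ star a H) := by
    intro h hh n hn
    have h1 : n ∈ centralizer (H : Set G) := hn.1.2
    rw [mem_centralizer_iff] at h1
    have h2 : h * n * h⁻¹ = n := by
      rw [h1 h hh, mul_inv_cancel_right]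
    rw [h2]
    exact hn
  have hinv : Inv a (ZZ a H ⊓ star a H) := by
    intro n hn
    have h1 : n ∈ Fix a := hn.1.1.2
    rw [h8_conj_of_Fix h1]
    exact hn
  exact mx.not_le _ hle hnorm hinv hne (inf_le_left.trans inf_le_right)

end Cfsg.Agent.Helper8.FC
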