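import Mathlib
import Cfsg.Agent.Lib.Helper52.FCDefs
import Cfsg.Agent.Lib.Helper8.FCAux

set_option autoImplicit false

namespace Cfsg.Agent.Helper8.FC

open Subgroup Cfsg.Agent.Helper52.FC
open scoped commutatorElement

universe u

variable {G : Type u} [Group G]

/-- (CB1) a minimal normal `a`-invariant subgroup of a solvable group is elementary abelian. -/
theorem minnormal_abelian [Finite G] {p : ℕ} (a : G) (H V : Subgroup G) (hyp : Hyp p a H) (hV : MinNormal a H V) :
    Ab V ∧ ∃ q : ℕ, q.Prime ∧ ∀ v ∈ V, v ^ q = 1 := by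
  -- part 1: `⁅V, V⁆ = ⊥`
  have hsolH : Group.IsSolvable H := hyp.sol
  have hsolV : Group.IsSolvable V :=
    Group.isSolvable_of_isSolvable_injective (f := Subgroup.inclusion hV.le)
      (Subgroup.inclusion_injective hV.le)
  have hVnt : Nontrivial V := (Subgroup.nontrivial_iff_ne_bot V).2 hV.ne
  have hcle : ⁅V, V⁆ ≤ V := by
    rw [commutator_le]
    intro x hx y hy
    rw [commutatorElement_def]
    exact V.mul_mem (V.mul_mem (V.mul_mem hx hy) (V.inv_mem hx)) (V.inv_mem hy)
  have hcnorm : NormBy H ⁅V, V⁆ := fun h hh w hw =>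
    h8_conj_commutator h (hV.norm h hh) (hV.norm h hh) w hw
  have hcinv : Inv a ⁅V, V⁆ := fun w hw => h8_conj_commutator a hV.inv hV.inv w hw
  have hcne : ⁅V, V⁆ ≠ V := by
    intro h0
    have h1 : commutator V < ⊤ := Group.IsSolvable.commutator_lt_top_of_nontrivial V
    apply h1.ne
    apply Subgroup.map_injective V.subtype_injective
    rw [commutator_def, map_commutator, ← MonoidHom.range_eq_map, Subgroup.range_subtype]
    exact h0
  have hcbot : ⁅V, V⁆ = ⊥ := by
    by_contra hne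
    exact hcne (hV.min _ hcle hcnorm hcinv hne)
  have hab : Ab V := by
    intro x hx y hy
    have h1 := commutator_eq_bot_iff_le_centralizer.1 hcbot hy
    rw [mem_centralizer_iff] at h1
    exact h1 x hx
  refine ⟨hab, ?_⟩
  -- part 2: exponent `q`
  have hcard : Nat.card V ≠ 1 := by
    intro h0
    exact hV.ne (Subgroup.card_eq_one.1 h0)
  obtain ⟨q, hq, hqdvd⟩ := Nat.exists_prime_and_dvd hcard
  refine ⟨q, hq, ?_⟩
  have hqf : Fact q.Prime := ⟨hq⟩
  obtain ⟨x, hx⟩ := exists_prime_orderOf_dvd_card' q hqdvd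
  let Ω : Subgroup G :=
    { carrier := {v | v ∈ V ∧ v ^ q = 1}
      mul_mem' := by
        rintro u w ⟨hu, hu1⟩ ⟨hw, hw1⟩
        refine ⟨V.mul_mem hu hw, ?_⟩
        have hc : Commute u w := hab u hu w hw
        rw [hc.mul_pow, hu1, hw1, one_mul]
      one_mem' := ⟨V.one_mem, one_pow q⟩
      inv_mem' := by
        rintro u ⟨hu, hu1⟩
        exact ⟨V.inv_mem hu, by rw [inv_pow, hu1, inv_one]⟩ }
  have hΩmem : ∀ v, v ∈ Ω ↔ v ∈ V ∧ v ^ q = 1 := fun v => Iff.rfl
  have hΩV : Ω ≤ V := fun v hv => hv.1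
  have hΩnorm : NormBy H Ω := by
    intro h hh v hv
    refine ⟨hV.norm h hh v hv.1, ?_⟩
    rw [conj_pow, hv.2, mul_one, mul_inv_cancel]
  have hΩinv : Inv a Ω := by
    intro v hv
    refine ⟨hV.inv v hv.1, ?_⟩
    rw [conj_pow, hv.2, mul_one, mul_inv_cancel]
  have hΩne : Ω ≠ ⊥ := by
    intro h0
    have hx1 : (x : G) ∈ Ω := by
      refine ⟨x.2, ?_⟩
      have h1 : x ^ q = 1 := by
        rw [← hx]
        exact pow_orderOf_eq_one x
      have h2 := congrArg Subtype.val h1
      simpa using h2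
    rw [h0, mem_bot] at hx1
    have hx2 : x = 1 := Subtype.ext hx1
    rw [hx2, orderOf_one] at hx
    exact hq.one_lt.ne hx
  have hEq := hV.min Ω hΩV hΩnorm hΩinv hΩne
  intro v hv
  have h1 : v ∈ Ω := by
    rw [hEq]
    exact hv
  exact h1.2

end Cfsg.Agent.Helper8.FC
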