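import Mathlib
import Cfsg.Agent.Lib.Helper52.FCDefs
import Cfsg.Agent.Lib.Helper8.FCAux

set_option autoImplicit false

namespace Cfsg.Agent.Helper8.FC

open Subgroup Cfsg.Agent.Helper52.FC
open scoped commutatorElement

universe u

variable {G : Type u} [Group G]

/-- (CB2) `HypN` for an abelian minimal normal subgroup. -/
theorem hypN_min (a : G) (H V : Subgroup G) (hV : MinNormal a H V) (hVab : Ab V) : HypN a H V := by
  intro L hLH hLa _ hLne hsup
  by_contra hne
  have hWV : V ⊓ L ≤ V := inf_le_left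
  have hnorm : NormBy H (V ⊓ L) := by
    intro h hh w hw
    rw [← hsup] at hh
    refine h8_norm_sup (X := V) (Y := L) (V := V ⊓ L) ?_ ?_ h hh w hw
    · intro x hx v hv
      have h1 : x * v = v * x := hVab x hx v hv.1
      rw [h1, mul_inv_cancel_right]
      exact hv
    · intro y hy v hv
      exact ⟨hV.norm y (hLH hy) v hv.1, L.mul_mem (L.mul_mem hy hv.2) (L.inv_mem hy)⟩
  have hinv : Inv a (V ⊓ L) := fun x hx => ⟨hV.inv x hx.1, hLa x hx.2⟩
  have h1 := hV.min (V ⊓ L) hWV hnorm hinv hne
  apply hLne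
  have h2 : V ≤ L := by
    rw [← h1]
    exact inf_le_right
  rw [← hsup]
  exact (sup_eq_right.2 h2).symm

end Cfsg.Agent.Helper8.FC
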