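import Mathlib
import Cfsg.Agent.Lib.Helper52.FCDefs
import Cfsg.Agent.Lib.Helper8.FCAux

set_option autoImplicit false

namespace Cfsg.Agent.Helper8.FC

open Subgroup Cfsg.Agent.Helper52.FC
open scoped commutatorElement

universe u

variable {G : Type u} [Group G]

/-- (CB3) alternative (I) of the dichotomy is impossible in case B. -/
theorem caseB_I [Finite G] {p : ℕ} {a : G} {H : Subgroup G} (mx : MCX p G a H) (V : Subgroup G) (hV : MinNormal a H V) (hVab : Ab V)
    (hnc : ¬ V ≤ Fix a) (hI : Fix a ⊓ ⁅V, H ⊔ zpowers a⁆ ≤ star a H) : False := by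
  have hHa : Inv a H := mx.mc.hyp.inv
  -- `K = H ⊔ zpowers a` normalises `V`
  have hKV : ∀ k ∈ H ⊔ zpowers a, ∀ v ∈ V, k * v * k⁻¹ ∈ V :=
    h8_norm_sup (fun x hx v hv => hV.norm x hx v hv) (h8_inv_zpowers hV.inv)
  have hWV : ⁅V, H ⊔ zpowers a⁆ ≤ V := by
    rw [commutator_le]
    intro v hv k hk
    rw [commutatorElement_def]
    have h1 := hKV k hk v⁻¹ (V.inv_mem hv)
    have h2 : v * k * v⁻¹ * k⁻¹ = v * (k * v⁻¹ * k⁻¹) := by group
    rw [h2]
    exact V.mul_mem hv h1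
  -- `H` normalises `K`
  have hHK : ∀ h ∈ H, ∀ k ∈ H ⊔ zpowers a, h * k * h⁻¹ ∈ H ⊔ zpowers a := by
    intro h hh k hk
    have hh' : h ∈ H ⊔ zpowers a := mem_sup_left hh
    exact (H ⊔ zpowers a).mul_mem ((H ⊔ zpowers a).mul_mem hh' hk) ((H ⊔ zpowers a).inv_mem hh')
  have haK : a ∈ H ⊔ zpowers a := mem_sup_right (mem_zpowers a)
  have hnorm : NormBy H ⁅V, H ⊔ zpowers a⁆ := by
    intro h hh w hw
    exact h8_conj_commutator h (fun v hv => hV.norm h hh v hv) (hHK h hh) w hw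
  have hinv : Inv a ⁅V, H ⊔ zpowers a⁆ := by
    intro w hw
    refine h8_conj_commutator a (fun v hv => hV.inv v hv) ?_ w hw
    intro k hk
    exact (H ⊔ zpowers a).mul_mem ((H ⊔ zpowers a).mul_mem haK hk) ((H ⊔ zpowers a).inv_mem haK)
  have hne : ⁅V, H ⊔ zpowers a⁆ ≠ ⊥ := by
    intro h0
    apply hnc
    intro v hv
    have h1 : ⁅v, a⁆ ∈ ⁅V, H ⊔ zpowers a⁆ := commutator_mem_commutator hv haK
    rw [h0, mem_bot, commutatorElement_eq_one_iff_mul_comm] at h1
    exact h8_mem_Fix.2 h1.symm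
  have hEq := hV.min _ hWV hnorm hinv hne
  rw [hEq] at hI
  apply mx.not_le V hV.le hV.norm hV.inv hV.ne
  rw [inf_comm]
  exact hI

/-- (CB4) `L` centralising `V` is impossible in case B. -/
theorem caseB_cent [Finite G] {p : ℕ} {a : G} {H : Subgroup G} (mx : MCX p G a H) (V : Subgroup G) (hV : MinNormal a H V) (hVab : Ab V)
    (hnc : ¬ V ≤ Fix a) (L : Subgroup G) (hVL : V ⊔ L = H) (hcent : ∀ v ∈ V, ∀ y ∈ L, v * y = y * v) : False := by
  have hHcent : H ≤ centralizer ((V ⊓ Fix a : Subgroup G) : Set G) := by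
    rw [← hVL]
    apply sup_le
    · intro x hx
      rw [mem_centralizer_iff]
      intro u hu
      exact hVab u hu.1 x hx
    · intro y hy
      rw [mem_centralizer_iff]
      intro u hu
      exact hcent u hu.1 y hy
  have hnorm : NormBy H (V ⊓ Fix a) := by
    intro h hh u hu
    have h1 := hHcent hh
    rw [mem_centralizer_iff] at h1
    have h2 : h * u * h⁻¹ = u := by
      rw [← h1 u hu, mul_inv_cancel_right]
    rw [h2]
    exact hu
  have hinv : Inv a (V ⊓ Fix a) := by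
    intro u hu
    rw [h8_conj_of_Fix hu.2]
    exact hu
  by_cases h0 : V ⊓ Fix a = ⊥
  · apply mx.not_le V hV.le hV.norm hV.inv hV.ne
    rw [h0]
    exact bot_le
  · have h1 := hV.min _ inf_le_left hnorm hinv h0
    apply hnc
    rw [← h1]
    exact inf_le_right

end Cfsg.Agent.Helper8.FC
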