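import Mathlib
import Cfsg.Agent.Lib.Helper52.FCDefs
import Cfsg.Agent.Lib.Helper2.Nilpotent
import Cfsg.Agent.Lib.Helper8.FCAux

set_option autoImplicit false

namespace Cfsg.Agent.Helper8.FC

open Subgroup Cfsg.Agent.Helper52.FC
open scoped commutatorElement

universe u

variable {G : Type u} [Group G]

/-- (CB4a) in a `q`-group `H = V ⊔ L` the minimal normal subgroup `V` is central. -/
theorem caseB_same_prime [Finite G] {a : G} {H : Subgroup G} (hH : Inv a H) (V : Subgroup G) (hV : MinNormal a H V) (q : ℕ) (hq : q.Prime)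
    (hVq : IsPGroup q V) (L : Subgroup G) (hVL : V ⊔ L = H) (hLq : IsPGroup q L) : ∀ v ∈ V, ∀ y ∈ L, v * y = y * v := by
  have hLH : L ≤ H := by
    rw [← hVL]
    exact le_sup_right
  have hLnorm : L ≤ normalizer (V : Set G) := by
    intro l hl
    rw [mem_normalizer_iff]
    intro v
    constructor
    · intro hv
      exact hV.norm l (hLH hl) v hv
    · intro hv
      have h1 := hV.norm l⁻¹ (H.inv_mem (hLH hl)) _ hv
      have h2 : l⁻¹ * (l * v * l⁻¹) * l⁻¹⁻¹ = v := by group
      rw [h2] at h1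
      exact h1
  have hHq : IsPGroup q H := by
    rw [← hVL]
    exact IsPGroup.to_sup_of_normal_left' hVq hLq hLnorm
  have hqf : Fact q.Prime := ⟨hq⟩
  have hnil : Group.IsNilpotent H := hHq.isNilpotent
  have hKn : (V.subgroupOf H).Normal := by
    constructor
    intro x hx g
    rw [mem_subgroupOf] at hx ⊢
    have h1 := hV.norm g.1 g.2 x.1 hx
    simpa using h1
  have hKne : V.subgroupOf H ≠ ⊥ := by
    intro h0
    rw [subgroupOf_eq_bot] at h0
    exact hV.ne (h0.eq_bot_of_le hV.le)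
  have h1 := Cfsg.Agent.Helper2.normal_inf_center_ne_bot (V.subgroupOf H) hKne
  rw [Subgroup.ne_bot_iff_exists_ne_one] at h1
  obtain ⟨⟨z, hz⟩, hz1⟩ := h1
  have hzV : (z : G) ∈ V := mem_subgroupOf.1 hz.1
  have hzc : (z : G) ∈ centralizer (H : Set G) := by
    rw [mem_centralizer_iff]
    intro h hh
    have h2 := (Subgroup.mem_center_iff.1 hz.2) ⟨h, hh⟩
    exact congrArg Subtype.val h2
  have hz1' : (z : G) ≠ 1 := by
    intro h0
    apply hz1
    apply Subtype.ext
    apply Subtype.ext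
    exact h0
  -- `Z = V ⊓ C_G(H)`
  have hZne : V ⊓ centralizer (H : Set G) ≠ ⊥ := by
    intro h0
    have h2 : (z : G) ∈ V ⊓ centralizer (H : Set G) := ⟨hzV, hzc⟩
    rw [h0, mem_bot] at h2
    exact hz1' h2
  have hZnorm : NormBy H (V ⊓ centralizer (H : Set G)) := by
    intro h hh n hn
    have h2 : n ∈ centralizer (H : Set G) := hn.2
    rw [mem_centralizer_iff] at h2
    have h3 : h * n * h⁻¹ = n := by
      rw [h2 h hh, mul_inv_cancel_right]
    rw [h3]
    exact hn
  have hZinv : Inv a (V ⊓ centralizer (H : Set G)) := by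
    intro n hn
    refine ⟨hV.inv n hn.1, ?_⟩
    show a * n * a⁻¹ ∈ centralizer (H : Set G)
    rw [mem_centralizer_iff]
    intro h hh
    have h2 : n ∈ centralizer (H : Set G) := hn.2
    rw [mem_centralizer_iff] at h2
    have h3 := h2 _ (h8_inv_inv hH h hh)
    calc h * (a * n * a⁻¹) = a * ((a⁻¹ * h * a) * n) * a⁻¹ := by group
      _ = a * (n * (a⁻¹ * h * a)) * a⁻¹ := by rw [h3]
      _ = a * n * a⁻¹ * h := by group
  have hEq := hV.min _ inf_le_left hZnorm hZinv hZne
  intro v hv y hy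
  have h2 : v ∈ V ⊓ centralizer (H : Set G) := by
    rw [hEq]
    exact hv
  have h3 : v ∈ centralizer (H : Set G) := h2.2
  rw [mem_centralizer_iff] at h3
  exact (h3 y (hLH hy)).symm

end Cfsg.Agent.Helper8.FC
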