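import Mathlib
import Cfsg.Agent.Lib.Helper53.CD3ADefs
import Cfsg.Agent.Lib.Helper81.CharClifford
import Cfsg.Agent.Lib.Helper81.CharProd
import Cfsg.Agent.Lib.Helper80.ConjIrr
import Cfsg.Agent.Lib.Helper78.CharLinear

/-!
# CD3A (VAN) `vanish` (helper8, for helper53's CD3A server, S4460)
-/

set_option autoImplicit false

namespace Cfsg.Agent.Helper8.CD3A

open Cfsg Cfsg.Agent.Helper53.CD3A Cfsg.Agent.Helper81
open scoped ComplexConjugate commutatorElement

universe u

/-- (VAN) `[χ conj χ, ψ] = [χψ, χ] ≠ 0`, so `χψ` is of `m`-type (PMN); a constituent `χ_k` of `χψ` has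
`[conj χ * χ_k, ψ] ≠ 0`, so by (PMM) applied to `conj χ` (an irreducible character) and `χ_k`: `χ_k = χ * lam_k`, `lam_k` linear.
Hence `χ * ψ = χ * Σ a_k lam_k`, `Σ a_k = n`; on `G'` every `lam_k` is `1`: `χ g * (ψ g - n) = 0`, and `ψ 1 = n`. -/
theorem vanish {G : Type u} [Group G] [Fintype G] {m n : ℕ} (hm : 1 < m) (hmn : m < n)
    (hcd : DegIn G m n) (hMN : ProdMN G m n) (hMM : ProdMM G m) : Vanish G m n := by
  classical
  have : Fintype (IrrCharacter G) := @Fintype.ofFinite _ irr_finite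
  intro χ ψ hχ hψ hne g hg hψg
  -- `[χψ, χ] ≠ 0`
  have h1 : classInner ((χ : G → ℂ) * (ψ : G → ℂ)) (χ : G → ℂ) ≠ 0 := by
    intro h0
    apply hne
    have e : classInner (fun g => (χ : G → ℂ) g * conj ((χ : G → ℂ) g)) (ψ : G → ℂ) =
        conj (classInner ((χ : G → ℂ) * (ψ : G → ℂ)) (χ : G → ℂ)) := by
      simp only [classInner, map_mul, map_inv₀, map_natCast, map_sum, Complex.conj_conj,
        Pi.mul_apply]
      congr 1
      apply Finset.sum_congr rfl
      intro g _
      ring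
    rw [e, h0, map_zero]
  -- `χψ` is of `m`-type
  have hmtype : ∀ σ : IrrCharacter G,
      classInner ((χ : G → ℂ) * (ψ : G → ℂ)) (σ : G → ℂ) ≠ 0 → charDegree (σ : G → ℂ) = m := by
    rcases hMN χ ψ hχ hψ with h | h
    · exact h
    · exfalso
      have := h χ h1
      omega
  -- every constituent is `χ * lam`
  have hlin : ∀ σ : IrrCharacter G,
      classInner ((χ : G → ℂ) * (ψ : G → ℂ)) (σ : G → ℂ) ≠ 0 →
      ∃ lam : IrrCharacter G, charDegree (lam : G → ℂ) = 1 ∧
        (σ : G → ℂ) = fun g => (χ : G → ℂ) g * (lam : G → ℂ) g := by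
    intro σ hσ
    by_contra hcon
    push Not at hcon
    have hχb : charDegree (Cfsg.Agent.Helper80.cconjIrr χ : G → ℂ) = m := by
      have : (Cfsg.Agent.Helper80.cconjIrr χ : G → ℂ) 1 = (χ : G → ℂ) 1 := by
        rw [Cfsg.Agent.Helper80.cconjIrr_apply, Cfsg.Agent.Helper80.irr_one]
        simp
      unfold charDegree
      rw [this]
      exact hχ
    have h2 := hMM (Cfsg.Agent.Helper80.cconjIrr χ) σ hχb (hmtype σ hσ)
      (fun lam hlam heq => hcon lam hlam (by
        rw [heq]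
        funext g
        rw [Cfsg.Agent.Helper80.cconjIrr_apply, Complex.conj_conj])) ψ (by
        have e : classInner ((Cfsg.Agent.Helper80.cconjIrr χ : G → ℂ) * (σ : G → ℂ)) (ψ : G → ℂ) =
            conj (classInner ((χ : G → ℂ) * (ψ : G → ℂ)) (σ : G → ℂ)) := by
          simp only [classInner, map_mul, map_inv₀, map_natCast, map_sum, Complex.conj_conj,
            Pi.mul_apply, Cfsg.Agent.Helper80.cconjIrr_apply]
          congr 1
          apply Finset.sum_congr rfl
          intro g _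
          ring
        rw [e]
        intro h0
        apply hσ
        have := congrArg conj h0
        simpa using this)
    omega
  -- expansion
  have hcf : IsClassFunction G ((χ : G → ℂ) * (ψ : G → ℂ)) :=
    isClassFunction_of_isCharacter (isCharacter_mul (IsIrrCharacter.isCharacter χ.2) (IsIrrCharacter.isCharacter ψ.2))
  have hexp : ∀ x : G, (χ : G → ℂ) x * (ψ : G → ℂ) x =
      ∑ σ : IrrCharacter G, classInner ((χ : G → ℂ) * (ψ : G → ℂ)) (σ : G → ℂ) * (σ : G → ℂ) x := by
    intro x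
    have h := congrFun (class_function_expansion hcf) x
    simp only [Pi.mul_apply, Finset.sum_apply, Pi.smul_apply, smul_eq_mul] at h
    exact h
  have hcomm : ∀ x ∈ commutator G, (χ : G → ℂ) x * (ψ : G → ℂ) x =
      (∑ σ : IrrCharacter G, classInner ((χ : G → ℂ) * (ψ : G → ℂ)) (σ : G → ℂ)) *
        (χ : G → ℂ) x := by
    intro x hx
    rw [hexp x, Finset.sum_mul]
    apply Finset.sum_congr rfl
    intro σ _
    by_cases hσ : classInner ((χ : G → ℂ) * (ψ : G → ℂ)) (σ : G → ℂ) = 0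
    · rw [hσ, zero_mul, zero_mul]
    · obtain ⟨lam, hlam, heq⟩ := hlin σ hσ
      have hl1 : (lam : G → ℂ) 1 = 1 := by
        rw [Cfsg.Agent.Helper80.irr_one, hlam]
        simp
      have hlx : (lam : G → ℂ) x = 1 :=
        Cfsg.Agent.Helper78.linear_char_eq_one_of_mem_commutator lam.2 hl1 x hx
      rw [heq]
      simp only [hlx, mul_one]
  have hone := hcomm 1 (Subgroup.one_mem _)
  have hχ1 : (χ : G → ℂ) 1 ≠ 0 := Cfsg.Agent.Helper80.irr_one_ne_zero χ
  have hsum : (∑ σ : IrrCharacter G, classInner ((χ : G → ℂ) * (ψ : G → ℂ)) (σ : G → ℂ)) =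
      (ψ : G → ℂ) 1 := by
    have : (χ : G → ℂ) 1 * (ψ : G → ℂ) 1 = (χ : G → ℂ) 1 *
        (∑ σ : IrrCharacter G, classInner ((χ : G → ℂ) * (ψ : G → ℂ)) (σ : G → ℂ)) := by
      rw [hone, mul_comm]
    exact (mul_left_cancel₀ hχ1 this).symm
  have hgg := hcomm g hg
  rw [hsum] at hgg
  have h3 : (χ : G → ℂ) g * ((ψ : G → ℂ) g - (ψ : G → ℂ) 1) = 0 := by
    rw [mul_sub, hgg]
    ring
  rcases mul_eq_zero.mp h3 with h | h
  · exact h
  · exact absurd (sub_eq_zero.mp h) hψg

end Cfsg.Agent.Helper8.CD3A
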