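import Mathlib
import Cfsg.Prelude.Def_Characters
import Cfsg.Prelude.Def_Blocks
import Cfsg.Agent.Lib.Helper80.RMKDefs
import Cfsg.Agent.Lib.Helper80.RMKBasic
import Cfsg.Agent.Lib.Helper81.CharClifford
import Cfsg.Agent.Lib.Helper80.ConjIrr
import Cfsg.Agent.Lib.Helper78.CharLinear
import Cfsg.Agent.Lib.Helper79.Integrality

/-!
# RMK (PAR) `exists_linear_constituent` (helper8, for helper80's RMK server, S4581)
-/

set_option autoImplicit false

namespace Cfsg.Agent.Helper8.RMK

open Cfsg Cfsg.Agent.Helper80 Cfsg.Agent.Helper80.RMK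
open scoped ComplexConjugate

universe u

theorem h8_two_zmod_two : (2 : ZMod 2) = 0 := by decide

/-- (PAR) a good character of `T` has a linear constituent on the `2`-subgroup `P`, real when
`r = true` -/
theorem exists_linear_constituent (r : Bool) {G : Type u} [Group G] [Finite G]
    (P T : Subgroup G) (hPT : P ≤ T) (hP : IsPGroup 2 ↥P) (ψ : IrrCharacter ↥T)
    (hψ : Good r ψ) :
    ∃ μ : ↥P →* ℂˣ,
      (∑ᶠ x : ↥P, (ψ : ↥T → ℂ) (Subgroup.inclusion hPT x) * conj (((μ x : ℂˣ) : ℂ)) ≠ 0) ∧
      (r = true → ∀ x : ↥P, μ x ^ 2 = 1) := by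
  classical
  have instP : Fintype ↥P := Fintype.ofFinite _
  have instI : Fintype (IrrCharacter ↥P) := @Fintype.ofFinite _ Cfsg.Agent.Helper81.irr_finite
  have : Fact (Nat.Prime 2) := ⟨Nat.prime_two⟩
  set res : ↥P → ℂ := fun x => (ψ : ↥T → ℂ) (Subgroup.inclusion hPT x) with hres
  have hchar : IsCharacter ↥P res := by
    obtain ⟨n, ρ, _, hρ⟩ := ψ.2
    refine ⟨n, ρ.comp (Subgroup.inclusion hPT), ?_⟩
    funext x
    simp only [hres, ← hρ]
    rfl
  obtain ⟨a, ha⟩ := Cfsg.Agent.Helper81.exists_nat_decomp hchar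
  have hinner : ∀ lam : IrrCharacter ↥P, classInner res (lam : ↥P → ℂ) = (a lam : ℂ) := by
    intro lam
    rw [ha]
    exact Cfsg.Agent.Helper81.classInner_nat_decomp (fun χ' => (a χ' : ℂ)) lam
  -- the degree equation
  have hdeg : charDegree (ψ : ↥T → ℂ) = ∑ lam : IrrCharacter ↥P, a lam * charDegree (lam : ↥P → ℂ) := by
    have h1 : res 1 = (charDegree (ψ : ↥T → ℂ) : ℂ) := by
      simp only [hres, map_one]
      exact Cfsg.Agent.Helper80.irr_one ψ
    have h2 := congrFun ha 1
    simp only [Finset.sum_apply, Pi.smul_apply, smul_eq_mul] at h2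
    rw [h1] at h2
    have h3 : ((charDegree (ψ : ↥T → ℂ) : ℕ) : ℂ) =
        ((∑ lam : IrrCharacter ↥P, a lam * charDegree (lam : ↥P → ℂ) : ℕ) : ℂ) := by
      rw [h2]
      push_cast
      apply Finset.sum_congr rfl
      intro lam _
      rw [Cfsg.Agent.Helper80.irr_one]
    exact_mod_cast h3
  -- the linear characters
  set L : Finset (IrrCharacter ↥P) :=
    Finset.univ.filter (fun lam => charDegree (lam : ↥P → ℂ) = 1) with hL
  obtain ⟨k, hk⟩ := IsPGroup.iff_card.mp hP
  have heven : ∀ lam : IrrCharacter ↥P, charDegree (lam : ↥P → ℂ) ≠ 1 →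
      ((charDegree (lam : ↥P → ℂ) : ℕ) : ZMod 2) = 0 := by
    intro lam hne
    have hd := Cfsg.Agent.Helper79.irr_degree_dvd_card lam
    rw [hk] at hd
    obtain ⟨j, _, hj⟩ := (Nat.dvd_prime_pow Nat.prime_two).mp hd
    have hj0 : j ≠ 0 := by
      intro h0
      rw [h0, pow_zero] at hj
      exact hne hj
    rw [hj]
    obtain ⟨j', rfl⟩ := Nat.exists_eq_succ_of_ne_zero hj0
    rw [pow_succ]
    push_cast
    rw [h8_two_zmod_two, mul_zero]
  have hsumL : ∑ lam ∈ L, ((a lam : ℕ) : ZMod 2) = 1 := by
    have h1 : ((charDegree (ψ : ↥T → ℂ) : ℕ) : ZMod 2) = 1 :=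
      (ZMod.natCast_eq_one_iff_odd).mpr hψ.2
    rw [hdeg] at h1
    push_cast at h1
    rw [← h1, hL, Finset.sum_filter]
    apply Finset.sum_congr rfl
    intro lam _
    by_cases hl : charDegree (lam : ↥P → ℂ) = 1
    · rw [if_pos hl, hl]
      simp
    · rw [if_neg hl, heven lam hl, mul_zero]
  -- the wanted linear constituent
  have key : ∃ lam ∈ L, a lam ≠ 0 ∧
      (r = true → ∀ x : ↥P, conj ((lam : ↥P → ℂ) x) = (lam : ↥P → ℂ) x) := by
    by_cases hr : r = true
    · -- real case
      have hreal : ∀ x : ↥P, conj (res x) = res x := by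
        intro x
        exact Complex.conj_eq_iff_im.mpr (hψ.1 hr _)
      have hsymm : ∀ lam : IrrCharacter ↥P, a (cconjIrr lam) = a lam := by
        intro lam
        have h1 : classInner res (cconjIrr lam : ↥P → ℂ) = conj (classInner res (lam : ↥P → ℂ)) := by
          simp only [classInner, map_mul, map_inv₀, map_natCast, map_sum, Complex.conj_conj,
            cconjIrr_apply, hreal]
        rw [hinner, hinner] at h1
        simp only [Complex.conj_natCast] at h1
        exact_mod_cast h1
      by_contra hcon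
      push Not at hcon
      have hz : ∑ lam ∈ L, ((a lam : ℕ) : ZMod 2) = 0 := by
        apply Finset.sum_involution (fun lam _ => cconjIrr lam)
        · intro lam _
          rw [hsymm lam]
          have : ((a lam : ℕ) : ZMod 2) + (a lam : ZMod 2) = ((2 * a lam : ℕ) : ZMod 2) := by
            push_cast
            ring
          rw [this]
          push_cast
          rw [h8_two_zmod_two, zero_mul]
        · intro lam hlam hne hfix
          have ha0 : a lam ≠ 0 := by
            intro h0
            apply hne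
            rw [h0]
            simp
          obtain ⟨_, x, hx⟩ := hcon lam hlam ha0
          apply hx
          have := congrArg (fun χ : IrrCharacter ↥P => (χ : ↥P → ℂ) x) hfix
          simpa using this
        · intro lam _
          exact cconjIrr_cconjIrr lam
        · intro lam hlam
          rw [hL, Finset.mem_filter] at hlam ⊢
          refine ⟨Finset.mem_univ _, ?_⟩
          unfold charDegree
          rw [cconjIrr_apply, Cfsg.Agent.Helper80.irr_one]
          simp only [Complex.conj_natCast]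
          rw [← Cfsg.Agent.Helper80.irr_one]
          exact hlam.2
      rw [hz] at hsumL
      exact zero_ne_one hsumL
    · have hne : ∑ lam ∈ L, ((a lam : ℕ) : ZMod 2) ≠ 0 := by
        rw [hsumL]
        exact one_ne_zero
      obtain ⟨lam, hlam, hl⟩ := Finset.exists_ne_zero_of_sum_ne_zero hne
      refine ⟨lam, hlam, ?_, fun h => absurd h hr⟩
      intro h0
      apply hl
      rw [h0]
      simp
  obtain ⟨lam, hlamL, hane, hlamreal⟩ := key
  have hd1 : charDegree (lam : ↥P → ℂ) = 1 := by
    rw [hL, Finset.mem_filter] at hlamL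
    exact hlamL.2
  have hl1 : (lam : ↥P → ℂ) 1 = 1 := by
    rw [Cfsg.Agent.Helper80.irr_one, hd1]
    simp
  refine ⟨Cfsg.Agent.Helper78.linearCharHom lam.2 hl1, ?_, ?_⟩
  · rw [finsum_eq_sum_of_fintype]
    have h1 : ∑ x : ↥P, (ψ : ↥T → ℂ) (Subgroup.inclusion hPT x) *
        conj (((Cfsg.Agent.Helper78.linearCharHom lam.2 hl1 x : ℂˣ) : ℂ)) =
        (Nat.card ↥P : ℂ) * classInner res (lam : ↥P → ℂ) := by
      unfold classInner
      have hcard : (Nat.card ↥P : ℂ) ≠ 0 := by exact_mod_cast (Nat.card_pos (α := ↥P)).ne'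
      rw [← mul_assoc, mul_inv_cancel₀ hcard, one_mul]
      apply Finset.sum_congr rfl
      intro x _
      rw [Cfsg.Agent.Helper78.linearCharHom_apply]
    rw [h1, hinner]
    have hcard : (Nat.card ↥P : ℂ) ≠ 0 := by exact_mod_cast (Nat.card_pos (α := ↥P)).ne'
    exact mul_ne_zero hcard (by exact_mod_cast hane)
  · intro hr x
    apply Units.ext
    rw [Units.val_pow_eq_pow_val, Cfsg.Agent.Helper78.linearCharHom_apply, Units.val_one]
    have h2 := Cfsg.Agent.Helper78.linear_char_mul_conj lam.2 hl1 x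
    rw [hlamreal hr x] at h2
    rw [pow_two]
    exact h2

end Cfsg.Agent.Helper8.RMK
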