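import Cfsg.Agent.Lib.Helper8.Steiner

set_option autoImplicit false
set_option linter.unusedSectionVars false
set_option linter.unusedVariables false

/-! Doubly even self-dual binary codes of length 24 without words of weight 4: the words of weight
8 form a Steiner system `S(5, 8, 24)` and span the code. -/

namespace Cfsg.Agent.Helper8.GolayUnique

open Cfsg Finset

variable {ι : Type*} [Fintype ι] [DecidableEq ι]

/-- The indicator word of a set of coordinates. -/
def ind (S : Finset ι) : ι → ZMod 2 := fun i => if i ∈ S then 1 else 0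

theorem support_ind (S : Finset ι) : support₂ (ind S) = S := by
  ext i
  unfold support₂ ind
  rw [mem_filter]
  by_cases h : i ∈ S
  · simp [h]
  · simp [h]

theorem zmod2_cases (a : ZMod 2) : a = 0 ∨ a = 1 := by
  revert a; decide

theorem ind_support (w : ι → ZMod 2) : ind (support₂ w) = w := by
  ext i
  unfold ind support₂
  rcases zmod2_cases (w i) with h | h
  · simp [h]
  · simp [h]

theorem hammingNorm_eq (w : ι → ZMod 2) : hammingNorm w = (support₂ w).card := rfl

theorem hammingNorm_ind (S : Finset ι) : hammingNorm (ind S) = S.card := by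
  rw [hammingNorm_eq, support_ind]

theorem ind_injective : Function.Injective (ind (ι := ι)) := by
  intro S T h
  rw [← support_ind S, ← support_ind T, h]

theorem ind_add (S T : Finset ι) : ind S + ind T = ind (symmDiff S T) := by
  ext i
  unfold ind
  rw [Pi.add_apply]
  by_cases hS : i ∈ S <;> by_cases hT : i ∈ T <;> simp [hS, hT, mem_symmDiff] <;> decide

theorem ind_empty : ind (∅ : Finset ι) = 0 := by
  ext i
  simp [ind]

theorem mem_supports_iff (C : Submodule (ZMod 2) (ι → ZMod 2)) (b : Finset ι) :
    b ∈ supports (C : Set (ι → ZMod 2)) ↔ ind b ∈ C := by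
  constructor
  · rintro ⟨w, hw, rfl⟩
    rw [ind_support]
    exact hw
  · intro h
    exact ⟨ind b, h, support_ind b⟩

theorem mem_words_iff (C : Submodule (ZMod 2) (ι → ZMod 2)) (n : ℕ) (b : Finset ι) :
    b ∈ wordsOfWeight (C : Set (ι → ZMod 2)) n ↔ ind b ∈ C ∧ b.card = n := by
  unfold wordsOfWeight
  rw [Set.mem_setOf_eq, mem_supports_iff]

theorem card_symmDiff_eq (S T : Finset ι) :
    (symmDiff S T).card + 2 * (S ∩ T).card = S.card + T.card := by
  have h1 : (symmDiff S T).card = (S \ T).card + (T \ S).card := by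
    rw [symmDiff_def, sup_eq_union, card_union_of_disjoint]
    exact disjoint_sdiff_sdiff
  have h2 := card_sdiff_add_card_inter S T
  have h3 := card_sdiff_add_card_inter T S
  rw [inter_comm T S] at h3
  omega

/-- The hypotheses on the code. -/
structure IsGolayLike (C : Submodule (ZMod 2) (ι → ZMod 2)) : Prop where
  card : Fintype.card ι = 24
  dim : Module.finrank (ZMod 2) C = 12
  dvd4 : ∀ w ∈ C, 4 ∣ hammingNorm w
  ne4 : ∀ w ∈ C, hammingNorm w ≠ 4

section Counting

variable {C : Submodule (ZMod 2) (ι → ZMod 2)} (hC : IsGolayLike C)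

include hC

theorem min_wt {S : Finset ι} (hS : ind S ∈ C) (hne : S ≠ ∅) : 8 ≤ S.card := by
  have h1 := hC.dvd4 _ hS
  have h2 := hC.ne4 _ hS
  rw [hammingNorm_ind] at h1 h2
  have h3 : S.card ≠ 0 := fun h => hne (card_eq_zero.mp h)
  omega

theorem ind_sub (S T : Finset ι) : ind S - ind T = ind (symmDiff S T) := by
  rw [← ind_add]
  ext i
  rw [Pi.sub_apply, Pi.add_apply]
  rcases zmod2_cases (ind S i) with h | h <;> rcases zmod2_cases (ind T i) with h' | h' <;>
    rw [h, h'] <;> decide

/-- Two distinct sets of size at most 4 in the same coset are disjoint 4-sets. -/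
theorem coset_small {S T : Finset ι} (hS : S.card ≤ 4) (hT : T.card ≤ 4)
    (h : ind (symmDiff S T) ∈ C) (hne : S ≠ T) :
    S.card = 4 ∧ T.card = 4 ∧ Disjoint S T := by
  have hne' : symmDiff S T ≠ ∅ := by
    intro h0
    apply hne
    have : symmDiff S T = ⊥ := h0
    exact symmDiff_eq_bot.mp this
  have h8 := min_wt hC h hne'
  have hc := card_symmDiff_eq S T
  refine ⟨by omega, by omega, ?_⟩
  rw [disjoint_iff_inter_eq_empty, ← card_eq_zero]
  omega

open Classical in
theorem card_quotient : Nat.card ((ι → ZMod 2) ⧸ C) = 4096 := by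
  have h1 := Submodule.card_eq_card_quotient_mul_card C
  have h2 : Nat.card (ι → ZMod 2) = 2 ^ 24 := by
    rw [Nat.card_eq_fintype_card, Fintype.card_fun, ZMod.card, hC.card]
  have h3 : Nat.card C = 2 ^ 12 := by
    rw [Nat.card_eq_fintype_card, Module.card_eq_pow_finrank (K := ZMod 2) (V := C), ZMod.card,
      hC.dim]
  rw [h2, h3] at h1
  have : (2 : ℕ) ^ 24 = 2 ^ 12 * 4096 := by norm_num
  rw [this] at h1
  exact (Nat.eq_of_mul_eq_mul_left (by norm_num) h1).symm

end Counting

section Sextets

variable {C : Submodule (ZMod 2) (ι → ZMod 2)} (hC : IsGolayLike C)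

include hC

/-- A family of pairwise disjoint 4-sets has at most 6 members, and exactly 6 only if it covers
all the points. -/
theorem card_disjoint_family (F : Finset (Finset ι)) (h4 : ∀ S ∈ F, S.card = 4)
    (hd : ∀ S ∈ F, ∀ T ∈ F, S ≠ T → Disjoint S T) :
    F.card ≤ 6 ∧ (F.card = 6 → F.biUnion id = univ) := by
  have hpd : (F : Set (Finset ι)).PairwiseDisjoint id := by
    intro S hS T hT hne
    exact hd S (Finset.mem_coe.mp hS) T (Finset.mem_coe.mp hT) hne
  have hcard : (F.biUnion id).card = 4 * F.card := by
    rw [card_biUnion hpd]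
    have : ∀ S ∈ F, (id S : Finset ι).card = 4 := fun S hS => h4 S hS
    rw [Finset.sum_congr rfl this, sum_const, smul_eq_mul, mul_comm]
  have hle : (F.biUnion id).card ≤ 24 := by
    rw [← hC.card, ← card_univ]
    exact card_le_card (subset_univ _)
  refine ⟨by omega, fun h6 => ?_⟩
  apply eq_univ_of_card
  rw [hcard, h6, hC.card]

open Classical in
/-- Every 4-set `T` and point `x` off it: some 4-set through `x` disjoint from `T` completes `T`
to a code word of weight 8. -/
theorem exists_tetrad {T : Finset ι} (hT : T.card = 4) {x : ι} (hx : x ∉ T) :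
    ∃ T' : Finset ι, T'.card = 4 ∧ x ∈ T' ∧ Disjoint T T' ∧ ind (T ∪ T') ∈ C := by
  let f : Finset ι → (ι → ZMod 2) ⧸ C := fun S => Submodule.Quotient.mk (ind S)
  have hf : ∀ S T : Finset ι, f S = f T ↔ ind (symmDiff S T) ∈ C := by
    intro S T
    show Submodule.Quotient.mk (ind S) = Submodule.Quotient.mk (ind T) ↔ _
    rw [Submodule.Quotient.eq, ind_sub hC]
  let A : Finset (Finset ι) := (range 4).biUnion (fun k => powersetCard k univ)
  let W : Finset (Finset ι) := powersetCard 4 univ
  have hAmem : ∀ S, S ∈ A ↔ S.card ≤ 3 := by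
    intro S
    simp only [A, mem_biUnion, mem_range, mem_powersetCard, subset_univ, true_and]
    constructor
    · rintro ⟨k, hk, rfl⟩; omega
    · intro h; exact ⟨S.card, by omega, rfl⟩
  have hWmem : ∀ S, S ∈ W ↔ S.card = 4 := by
    intro S
    simp only [W, mem_powersetCard, subset_univ, true_and]
  have hAcard : A.card = 2325 := by
    have hpd : ((range 4 : Finset ℕ) : Set ℕ).PairwiseDisjoint
        (fun k => powersetCard k (univ : Finset ι)) := by
      intro i _ j _ hij
      exact Finset.pairwise_disjoint_powersetCard _ hij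
    rw [card_biUnion hpd]
    simp only [card_powersetCard, card_univ, hC.card]
    decide
  have hWcard : W.card = 10626 := by
    simp only [W, card_powersetCard, card_univ, hC.card]
    decide
  -- `f` is injective on `A`
  have hAinj : Set.InjOn f (A : Set (Finset ι)) := by
    intro S hS T hT hST
    by_contra hne
    have hS' := (hAmem S).mp (Finset.mem_coe.mp hS)
    have hT' := (hAmem T).mp (Finset.mem_coe.mp hT)
    have := coset_small hC (by omega) (by omega) ((hf S T).mp hST) hne
    omega
  have hdisj : Disjoint (A.image f) (W.image f) := by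
    rw [disjoint_left]
    intro q hqA hqW
    obtain ⟨S, hS, rfl⟩ := mem_image.mp hqA
    obtain ⟨T, hT, hTS⟩ := mem_image.mp hqW
    have hS' := (hAmem S).mp hS
    have hT' := (hWmem T).mp hT
    have hne : T ≠ S := by
      rintro rfl
      omega
    have := coset_small hC (by omega) (by omega) ((hf T S).mp hTS) hne
    omega
  have himg : (W.image f).card ≤ 1771 := by
    have h1 : (A.image f ∪ W.image f).card ≤ Fintype.card ((ι → ZMod 2) ⧸ C) := card_le_univ _
    rw [card_union_of_disjoint hdisj, card_image_of_injOn hAinj, hAcard,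
      ← Nat.card_eq_fintype_card, card_quotient hC] at h1
    omega
  -- fibers
  have hfib : ∀ q ∈ W.image f, (W.filter (fun S => f S = q)).card ≤ 6 ∧
      ((W.filter (fun S => f S = q)).card = 6 → (W.filter (fun S => f S = q)).biUnion id = univ) := by
    intro q _
    apply card_disjoint_family hC
    · intro S hS
      exact (hWmem S).mp (mem_filter.mp hS).1
    · intro S hS T' hT' hne
      rw [mem_filter] at hS hT'
      have h4S := (hWmem S).mp hS.1
      have h4T := (hWmem T').mp hT'.1
      exact (coset_small hC (by omega) (by omega) ((hf S T').mp (hS.2.trans hT'.2.symm)) hne).2.2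
  have hsum := Finset.card_eq_sum_card_image f W
  have hle : ∑ q ∈ W.image f, (W.filter (fun S => f S = q)).card ≤ ∑ q ∈ W.image f, 6 :=
    Finset.sum_le_sum (fun q hq => (hfib q hq).1)
  have heq : ∑ q ∈ W.image f, (W.filter (fun S => f S = q)).card = ∑ q ∈ W.image f, 6 := by
    apply le_antisymm hle
    rw [← hsum, hWcard, sum_const, smul_eq_mul]
    omega
  have hall := (Finset.sum_eq_sum_iff_of_le (fun q hq => (hfib q hq).1)).mp heq
  -- the fiber of `T`
  have hTW : T ∈ W := (hWmem T).mpr hT
  have hq : f T ∈ W.image f := mem_image_of_mem f hTW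
  have hcover := (hfib (f T) hq).2 (hall (f T) hq)
  have hxmem : x ∈ (W.filter (fun S => f S = f T)).biUnion id := by rw [hcover]; exact mem_univ x
  rw [mem_biUnion] at hxmem
  obtain ⟨T', hT', hxT'⟩ := hxmem
  rw [mem_filter] at hT'
  have hne : T ≠ T' := by
    rintro rfl
    exact hx hxT'
  have h4T' := (hWmem T').mp hT'.1
  have hsd := (hf T T').mp hT'.2.symm
  have hdis := (coset_small hC (by omega) (by omega) hsd hne).2.2
  refine ⟨T', h4T', hxT', hdis, ?_⟩
  have : symmDiff T T' = T ∪ T' := by
    rw [symmDiff_def, sup_eq_union, sdiff_eq_self_of_disjoint hdis,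
      sdiff_eq_self_of_disjoint hdis.symm]
  rw [← this]
  exact hsd

end Sextets

section Steiner

variable {C : Submodule (ZMod 2) (ι → ZMod 2)} (hC : IsGolayLike C)

include hC

/-- The words of weight 8 form a Steiner system `S(5, 8, 24)`. -/
theorem octads_steiner : IsSteinerSystem 5 8 (wordsOfWeight (C : Set (ι → ZMod 2)) 8) := by
  constructor
  · intro b hb
    exact ((mem_words_iff C 8 b).mp hb).2
  · intro s hs
    obtain ⟨x, hx⟩ : s.Nonempty := by rw [← card_pos, hs]; norm_num
    have hT : (s.erase x).card = 4 := by rw [card_erase_of_mem hx, hs]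
    obtain ⟨T', h4, hxT', hdis, hmem⟩ := exists_tetrad hC hT (notMem_erase x s)
    have hOcard : (s.erase x ∪ T').card = 8 := by
      rw [card_union_of_disjoint hdis, hT, h4]
    have hsub : s ⊆ s.erase x ∪ T' := by
      intro y hy
      by_cases hyx : y = x
      · rw [hyx]; exact mem_union_right _ hxT'
      · exact mem_union_left _ (mem_erase.mpr ⟨hyx, hy⟩)
    refine ⟨s.erase x ∪ T', ⟨(mem_words_iff C 8 _).mpr ⟨hmem, hOcard⟩, hsub⟩, ?_⟩
    rintro O ⟨hO, hsO⟩
    rw [mem_words_iff] at hO
    by_contra hne
    have hsum : ind (symmDiff O (s.erase x ∪ T')) ∈ C := by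
      rw [← ind_add]
      exact C.add_mem hO.1 hmem
    have hne' : symmDiff O (s.erase x ∪ T') ≠ ∅ := by
      intro h0
      apply hne
      have : symmDiff O (s.erase x ∪ T') = ⊥ := h0
      exact symmDiff_eq_bot.mp this
    have h8 := min_wt hC hsum hne'
    have hc := card_symmDiff_eq O (s.erase x ∪ T')
    have h5 : s.card ≤ (O ∩ (s.erase x ∪ T')).card := card_le_card (subset_inter hsO hsub)
    rw [hO.2, hOcard] at hc
    omega

/-- The words of weight 8 span the code. -/
theorem span_octads :
    Submodule.span (ZMod 2) (ind '' wordsOfWeight (C : Set (ι → ZMod 2)) 8) = C := by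
  apply le_antisymm
  · rw [Submodule.span_le]
    rintro w ⟨b, hb, rfl⟩
    exact ((mem_words_iff C 8 b).mp hb).1
  · have key : ∀ n : ℕ, ∀ S : Finset ι, S.card = n → ind S ∈ C →
        ind S ∈ Submodule.span (ZMod 2) (ind '' wordsOfWeight (C : Set (ι → ZMod 2)) 8) := by
      intro n
      induction n using Nat.strong_induction_on with
      | _ n ih =>
        intro S hSn hS
        by_cases hS0 : S = ∅
        · rw [hS0, ind_empty]
          exact Submodule.zero_mem _
        have h8 := min_wt hC hS hS0
        obtain ⟨s, hsS, hs5⟩ := Finset.exists_subset_card_eq (show 5 ≤ S.card by omega)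
        obtain ⟨O, ⟨hO, hsO⟩, -⟩ := (octads_steiner hC).2 s hs5
        have hO' := (mem_words_iff C 8 O).mp hO
        have hc := card_symmDiff_eq S O
        have h5 : s.card ≤ (S ∩ O).card := card_le_card (subset_inter hsS hsO)
        have hlt : (symmDiff S O).card < n := by rw [hO'.2] at hc; omega
        have hmem : ind (symmDiff S O) ∈ C := by
          rw [← ind_add]
          exact C.add_mem hS hO'.1
        have h1 := ih _ hlt (symmDiff S O) rfl hmem
        have h2 : ind O ∈ Submodule.span (ZMod 2) (ind '' wordsOfWeight (C : Set (ι → ZMod 2)) 8) :=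
          Submodule.subset_span ⟨O, hO, rfl⟩
        have h3 : ind S = ind (symmDiff S O) + ind O := by
          rw [ind_add]
          congr 1
          rw [symmDiff_symmDiff_cancel_right]
        rw [h3]
        exact Submodule.add_mem _ h1 h2
    intro w hw
    rw [← ind_support w] at hw ⊢
    exact key _ _ rfl hw

end Steiner

end Cfsg.Agent.Helper8.GolayUnique
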