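import Cfsg.Agent.Lib.Helper8.Steiner

set_option autoImplicit false
set_option linter.unusedSectionVars false

namespace Cfsg.Agent.Helper8

open Cfsg Finset

variable {α : Type*} [Fintype α] [DecidableEq α]

/-- Moment identity over the blocks other than `b`. -/
theorem moment_erase {t k : ℕ} {B : Set (Finset α)} (hB : IsSteinerSystem t k B) {b : Finset α}
    (hb : b ∈ B) (s : ℕ) (hs : s ≤ t) :
    (∑ c ∈ (blocksF B).erase b, Nat.choose (b ∩ c).card s + Nat.choose k s) *
      Nat.choose (k - s) (t - s) = Nat.choose k s * Nat.choose (Fintype.card α - s) (t - s) := by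
  have h := moment hB hb s hs
  have hbk : b.card = k := hB.1 b hb
  rw [← Finset.add_sum_erase _ _ (mem_blocksF.mpr hb), inter_self, hbk] at h
  rw [add_comm]; exact h

theorem mem_erase_blocksF {B : Set (Finset α)} {b c : Finset α} :
    c ∈ (blocksF B).erase b ↔ c ≠ b ∧ c ∈ B := by
  rw [mem_erase, mem_blocksF]

/-- Termwise equality from equality of sums. -/
theorem termwise {ι : Type*} (E : Finset ι) (i : ι → ℕ) (f g : ℕ → ℕ) (N : ℕ)
    (hi : ∀ c ∈ E, i c ≤ N) (hfg : ∀ n ≤ N, f n ≤ g n)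
    (hsum : ∑ c ∈ E, f (i c) = ∑ c ∈ E, g (i c)) : ∀ c ∈ E, f (i c) = g (i c) :=
  (Finset.sum_eq_sum_iff_of_le (fun c hc => hfg _ (hi c hc))).mp hsum

/-! ### S(3,6,22) -/

theorem sums_3_6_22 (hα : Fintype.card α = 22) {B : Set (Finset α)}
    (hB : IsSteinerSystem 3 6 B) {b : Finset α} (hb : b ∈ B) :
    ((blocksF B).erase b).card = 76 ∧
    (∑ c ∈ (blocksF B).erase b, (b ∩ c).card) = 120 ∧
    (∑ c ∈ (blocksF B).erase b, Nat.choose (b ∩ c).card 2) = 60 := by
  have h0 := moment_erase hB hb 0 (by norm_num)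
  have h1 := moment_erase hB hb 1 (by norm_num)
  have h2 := moment_erase hB hb 2 (by norm_num)
  rw [hα] at h0 h1 h2
  norm_num [Nat.choose] at h0 h1 h2
  refine ⟨?_, ?_, ?_⟩ <;> omega

theorem inter_le_3_6_22 {B : Set (Finset α)}
    (hB : IsSteinerSystem 3 6 B) {b : Finset α} (hb : b ∈ B) :
    ∀ c ∈ (blocksF B).erase b, (b ∩ c).card ≤ 2 := by
  intro c hc
  rw [mem_erase_blocksF] at hc
  have := card_inter_lt hB hb hc.2 (Ne.symm hc.1)
  omega

theorem inter_3_6_22 (hα : Fintype.card α = 22) {B : Set (Finset α)}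
    (hB : IsSteinerSystem 3 6 B) {b c : Finset α} (hb : b ∈ B) (hc : c ∈ B) (hbc : b ≠ c) :
    (b ∩ c).card = 0 ∨ (b ∩ c).card = 2 := by
  obtain ⟨-, h1, h2⟩ := sums_3_6_22 hα hB hb
  have hi := inter_le_3_6_22 hB hb
  have key := termwise ((blocksF B).erase b) (fun c => (b ∩ c).card)
    (fun n => 2 * Nat.choose n 2) (fun n => n) 2 hi
    (by intro n hn; interval_cases n <;> decide)
    (by
      show ∑ c ∈ (blocksF B).erase b, 2 * Nat.choose (b ∩ c).card 2 =
        ∑ c ∈ (blocksF B).erase b, (b ∩ c).card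
      rw [← Finset.mul_sum, h2, h1]; norm_num)
  have hcE : c ∈ (blocksF B).erase b := mem_erase_blocksF.mpr ⟨Ne.symm hbc, hc⟩
  have hk : 2 * Nat.choose (b ∩ c).card 2 = (b ∩ c).card := key c hcE
  have hle := hi c hcE
  have : (b ∩ c).card = 0 ∨ (b ∩ c).card = 1 ∨ (b ∩ c).card = 2 := by omega
  rcases this with h | h | h
  · exact Or.inl h
  · rw [h] at hk; norm_num [Nat.choose] at hk
  · exact Or.inr h

/-- The blocks disjoint from a given block, as a Finset. -/
theorem disjoint_filter_eq {B : Set (Finset α)} {b : Finset α} (hbne : b.Nonempty) :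
    (blocksF B).filter (fun c => Disjoint b c) =
      ((blocksF B).erase b).filter (fun c => (b ∩ c).card = 0) := by
  ext c
  simp only [mem_filter, mem_erase, mem_blocksF, card_eq_zero, disjoint_iff_inter_eq_empty]
  constructor
  · rintro ⟨hc, hd⟩
    refine ⟨⟨?_, hc⟩, hd⟩
    rintro rfl
    rw [inter_self] at hd
    exact hbne.ne_empty hd
  · rintro ⟨⟨-, hc⟩, hd⟩
    exact ⟨hc, hd⟩

theorem disjoint_count_3_6_22 (hα : Fintype.card α = 22) {B : Set (Finset α)}
    (hB : IsSteinerSystem 3 6 B) {b : Finset α} (hb : b ∈ B) :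
    ((blocksF B).filter (fun c => Disjoint b c)).card = 16 := by
  obtain ⟨h0, h1, h2⟩ := sums_3_6_22 hα hB hb
  have hbne : b.Nonempty := by
    rw [← card_pos, hB.1 b hb]; norm_num
  rw [disjoint_filter_eq hbne, card_filter]
  have hi := inter_le_3_6_22 hB hb
  have hid : ∀ c ∈ (blocksF B).erase b,
      (if (b ∩ c).card = 0 then 1 else 0) + (b ∩ c).card =
        1 + Nat.choose (b ∩ c).card 2 := by
    intro c hc
    have := hi c hc
    interval_cases (b ∩ c).card <;> decide
  have := Finset.sum_congr rfl hid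
  rw [Finset.sum_add_distrib, Finset.sum_add_distrib, h1, h2, sum_const, h0] at this
  simp only [smul_eq_mul, mul_one] at this
  omega


/-! ### S(4,7,23) -/

theorem sums_4_7_23 (hα : Fintype.card α = 23) {B : Set (Finset α)}
    (hB : IsSteinerSystem 4 7 B) {b : Finset α} (hb : b ∈ B) :
    ((blocksF B).erase b).card = 252 ∧
    (∑ c ∈ (blocksF B).erase b, (b ∩ c).card) = 532 ∧
    (∑ c ∈ (blocksF B).erase b, Nat.choose (b ∩ c).card 2) = 420 ∧
    (∑ c ∈ (blocksF B).erase b, Nat.choose (b ∩ c).card 3) = 140 := by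
  have h0 := moment_erase hB hb 0 (by norm_num)
  have h1 := moment_erase hB hb 1 (by norm_num)
  have h2 := moment_erase hB hb 2 (by norm_num)
  have h3 := moment_erase hB hb 3 (by norm_num)
  rw [hα] at h0 h1 h2 h3
  norm_num [Nat.choose] at h0 h1 h2 h3
  refine ⟨?_, ?_, ?_, ?_⟩ <;> omega

theorem inter_le_4_7_23 {B : Set (Finset α)}
    (hB : IsSteinerSystem 4 7 B) {b : Finset α} (hb : b ∈ B) :
    ∀ c ∈ (blocksF B).erase b, (b ∩ c).card ≤ 3 := by
  intro c hc
  rw [mem_erase_blocksF] at hc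
  have := card_inter_lt hB hb hc.2 (Ne.symm hc.1)
  omega

theorem inter_4_7_23 (hα : Fintype.card α = 23) {B : Set (Finset α)}
    (hB : IsSteinerSystem 4 7 B) {b c : Finset α} (hb : b ∈ B) (hc : c ∈ B) (hbc : b ≠ c) :
    (b ∩ c).card = 1 ∨ (b ∩ c).card = 3 := by
  obtain ⟨h0, h1, h2, h3⟩ := sums_4_7_23 hα hB hb
  have hi := inter_le_4_7_23 hB hb
  -- exclude 2
  have key2 := termwise ((blocksF B).erase b) (fun c => (b ∩ c).card)
    (fun n => 3 * Nat.choose n 3) (fun n => Nat.choose n 2) 3 hi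
    (by intro n hn; interval_cases n <;> decide)
    (by
      show ∑ c ∈ (blocksF B).erase b, 3 * Nat.choose (b ∩ c).card 3 =
        ∑ c ∈ (blocksF B).erase b, Nat.choose (b ∩ c).card 2
      rw [← Finset.mul_sum, h2, h3]; norm_num)
  -- exclude 0
  have hid : ∀ c ∈ (blocksF B).erase b,
      (if (b ∩ c).card = 0 then 1 else 0) + (b ∩ c).card + Nat.choose (b ∩ c).card 3 =
        1 + Nat.choose (b ∩ c).card 2 := by
    intro c hc
    have := hi c hc
    interval_cases (b ∩ c).card <;> decide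
  have hs := Finset.sum_congr rfl hid
  rw [Finset.sum_add_distrib, Finset.sum_add_distrib, Finset.sum_add_distrib, h1, h2, h3,
    sum_const, h0] at hs
  simp only [smul_eq_mul, mul_one] at hs
  have hz : ∑ c ∈ (blocksF B).erase b, (if (b ∩ c).card = 0 then 1 else 0) = 0 := by omega
  rw [Finset.sum_eq_zero_iff] at hz
  have hcE : c ∈ (blocksF B).erase b := mem_erase_blocksF.mpr ⟨Ne.symm hbc, hc⟩
  have hk : 3 * Nat.choose (b ∩ c).card 3 = Nat.choose (b ∩ c).card 2 := key2 c hcE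
  have hle := hi c hcE
  have h0' := hz c hcE
  have : (b ∩ c).card = 0 ∨ (b ∩ c).card = 1 ∨ (b ∩ c).card = 2 ∨ (b ∩ c).card = 3 := by omega
  rcases this with h | h | h | h
  · rw [h] at h0'; simp at h0'
  · exact Or.inl h
  · rw [h] at hk; norm_num [Nat.choose] at hk
  · exact Or.inr h

/-! ### S(5,8,24) -/

theorem sums_5_8_24 (hα : Fintype.card α = 24) {B : Set (Finset α)}
    (hB : IsSteinerSystem 5 8 B) {b : Finset α} (hb : b ∈ B) :
    ((blocksF B).erase b).card = 758 ∧
    (∑ c ∈ (blocksF B).erase b, (b ∩ c).card) = 2016 ∧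
    (∑ c ∈ (blocksF B).erase b, Nat.choose (b ∩ c).card 2) = 2128 ∧
    (∑ c ∈ (blocksF B).erase b, Nat.choose (b ∩ c).card 3) = 1120 ∧
    (∑ c ∈ (blocksF B).erase b, Nat.choose (b ∩ c).card 4) = 280 := by
  have h0 := moment_erase hB hb 0 (by norm_num)
  have h1 := moment_erase hB hb 1 (by norm_num)
  have h2 := moment_erase hB hb 2 (by norm_num)
  have h3 := moment_erase hB hb 3 (by norm_num)
  have h4 := moment_erase hB hb 4 (by norm_num)
  rw [hα] at h0 h1 h2 h3 h4
  norm_num [Nat.choose] at h0 h1 h2 h3 h4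
  refine ⟨?_, ?_, ?_, ?_, ?_⟩ <;> omega

theorem inter_le_5_8_24 {B : Set (Finset α)}
    (hB : IsSteinerSystem 5 8 B) {b : Finset α} (hb : b ∈ B) :
    ∀ c ∈ (blocksF B).erase b, (b ∩ c).card ≤ 4 := by
  intro c hc
  rw [mem_erase_blocksF] at hc
  have := card_inter_lt hB hb hc.2 (Ne.symm hc.1)
  omega

theorem inter_5_8_24 (hα : Fintype.card α = 24) {B : Set (Finset α)}
    (hB : IsSteinerSystem 5 8 B) {b c : Finset α} (hb : b ∈ B) (hc : c ∈ B) (hbc : b ≠ c) :
    (b ∩ c).card = 0 ∨ (b ∩ c).card = 2 ∨ (b ∩ c).card = 4 := by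
  obtain ⟨h0, h1, h2, h3, h4⟩ := sums_5_8_24 hα hB hb
  have hi := inter_le_5_8_24 hB hb
  -- exclude 3
  have key3 := termwise ((blocksF B).erase b) (fun c => (b ∩ c).card)
    (fun n => 4 * Nat.choose n 4) (fun n => Nat.choose n 3) 4 hi
    (by intro n hn; interval_cases n <;> decide)
    (by
      show ∑ c ∈ (blocksF B).erase b, 4 * Nat.choose (b ∩ c).card 4 =
        ∑ c ∈ (blocksF B).erase b, Nat.choose (b ∩ c).card 3
      rw [← Finset.mul_sum, h3, h4]; norm_num)
  -- exclude 1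
  have key1 := termwise ((blocksF B).erase b) (fun c => (b ∩ c).card)
    (fun n => 2 * Nat.choose n 2 + 4 * Nat.choose n 4) (fun n => n + 3 * Nat.choose n 3) 4 hi
    (by intro n hn; interval_cases n <;> decide)
    (by
      show ∑ c ∈ (blocksF B).erase b, (2 * Nat.choose (b ∩ c).card 2 + 4 * Nat.choose (b ∩ c).card 4) =
        ∑ c ∈ (blocksF B).erase b, ((b ∩ c).card + 3 * Nat.choose (b ∩ c).card 3)
      rw [Finset.sum_add_distrib, Finset.sum_add_distrib, ← Finset.mul_sum, ← Finset.mul_sum,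
        ← Finset.mul_sum, h1, h2, h3, h4]; norm_num)
  have hcE : c ∈ (blocksF B).erase b := mem_erase_blocksF.mpr ⟨Ne.symm hbc, hc⟩
  have hk3 : 4 * Nat.choose (b ∩ c).card 4 = Nat.choose (b ∩ c).card 3 := key3 c hcE
  have hk1 : 2 * Nat.choose (b ∩ c).card 2 + 4 * Nat.choose (b ∩ c).card 4 =
      (b ∩ c).card + 3 * Nat.choose (b ∩ c).card 3 := key1 c hcE
  have hle := hi c hcE
  have : (b ∩ c).card = 0 ∨ (b ∩ c).card = 1 ∨ (b ∩ c).card = 2 ∨ (b ∩ c).card = 3 ∨
      (b ∩ c).card = 4 := by omega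
  rcases this with h | h | h | h | h
  · exact Or.inl h
  · rw [h] at hk1; norm_num [Nat.choose] at hk1
  · exact Or.inr (Or.inl h)
  · rw [h] at hk3; norm_num [Nat.choose] at hk3
  · exact Or.inr (Or.inr h)

theorem disjoint_count_5_8_24 (hα : Fintype.card α = 24) {B : Set (Finset α)}
    (hB : IsSteinerSystem 5 8 B) {b : Finset α} (hb : b ∈ B) :
    ((blocksF B).filter (fun c => Disjoint b c)).card = 30 := by
  obtain ⟨h0, h1, h2, h3, h4⟩ := sums_5_8_24 hα hB hb
  have hbne : b.Nonempty := by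
    rw [← card_pos, hB.1 b hb]; norm_num
  rw [disjoint_filter_eq hbne, card_filter]
  have hi := inter_le_5_8_24 hB hb
  have hid : ∀ c ∈ (blocksF B).erase b,
      (if (b ∩ c).card = 0 then 1 else 0) + (b ∩ c).card + Nat.choose (b ∩ c).card 3 =
        1 + Nat.choose (b ∩ c).card 2 + Nat.choose (b ∩ c).card 4 := by
    intro c hc
    have := hi c hc
    interval_cases (b ∩ c).card <;> decide
  have hs := Finset.sum_congr rfl hid
  rw [Finset.sum_add_distrib, Finset.sum_add_distrib, Finset.sum_add_distrib,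
    Finset.sum_add_distrib, h1, h2, h3, h4, sum_const, h0] at hs
  simp only [smul_eq_mul, mul_one] at hs
  omega

/-! ### S(5,6,12) -/

theorem sums_5_6_12 (hα : Fintype.card α = 12) {B : Set (Finset α)}
    (hB : IsSteinerSystem 5 6 B) {b : Finset α} (hb : b ∈ B) :
    ((blocksF B).erase b).card = 131 ∧
    (∑ c ∈ (blocksF B).erase b, (b ∩ c).card) = 390 ∧
    (∑ c ∈ (blocksF B).erase b, Nat.choose (b ∩ c).card 2) = 435 ∧
    (∑ c ∈ (blocksF B).erase b, Nat.choose (b ∩ c).card 3) = 220 ∧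
    (∑ c ∈ (blocksF B).erase b, Nat.choose (b ∩ c).card 4) = 45 := by
  have h0 := moment_erase hB hb 0 (by norm_num)
  have h1 := moment_erase hB hb 1 (by norm_num)
  have h2 := moment_erase hB hb 2 (by norm_num)
  have h3 := moment_erase hB hb 3 (by norm_num)
  have h4 := moment_erase hB hb 4 (by norm_num)
  rw [hα] at h0 h1 h2 h3 h4
  norm_num [Nat.choose] at h0 h1 h2 h3 h4
  refine ⟨?_, ?_, ?_, ?_, ?_⟩ <;> omega

theorem disjoint_count_5_6_12 (hα : Fintype.card α = 12) {B : Set (Finset α)}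
    (hB : IsSteinerSystem 5 6 B) {b : Finset α} (hb : b ∈ B) :
    ((blocksF B).filter (fun c => Disjoint b c)).card = 1 := by
  obtain ⟨h0, h1, h2, h3, h4⟩ := sums_5_6_12 hα hB hb
  have hbne : b.Nonempty := by
    rw [← card_pos, hB.1 b hb]; norm_num
  rw [disjoint_filter_eq hbne, card_filter]
  have hi : ∀ c ∈ (blocksF B).erase b, (b ∩ c).card ≤ 4 := by
    intro c hc
    rw [mem_erase_blocksF] at hc
    have := card_inter_lt hB hb hc.2 (Ne.symm hc.1)
    omega
  have hid : ∀ c ∈ (blocksF B).erase b,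
      (if (b ∩ c).card = 0 then 1 else 0) + (b ∩ c).card + Nat.choose (b ∩ c).card 3 =
        1 + Nat.choose (b ∩ c).card 2 + Nat.choose (b ∩ c).card 4 := by
    intro c hc
    have := hi c hc
    interval_cases (b ∩ c).card <;> decide
  have hs := Finset.sum_congr rfl hid
  rw [Finset.sum_add_distrib, Finset.sum_add_distrib, Finset.sum_add_distrib,
    Finset.sum_add_distrib, h1, h2, h3, h4, sum_const, h0] at hs
  simp only [smul_eq_mul, mul_one] at hs
  omega

end Cfsg.Agent.Helper8
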