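import Cfsg.Agent.Lib.Helper8.Ext23

set_option autoImplicit false
set_option linter.unusedSectionVars false

/-! From an S(4,7,23) to its derived S(3,6,22) with heptads, and on to the plane of order 4. -/

namespace Cfsg.Agent.Helper8

open Cfsg Finset

/-- An S(3,6,22) together with the 176 heptads of an extension to an S(4,7,23). -/
structure W23Ext {X : Type*} [Fintype X] [DecidableEq X] (E : Set (Finset X))
    (Hept : Finset (Finset X)) : Prop where
  steiner : IsSteinerSystem 3 6 E
  card7 : ∀ h ∈ Hept, h.card = 7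
  interE : ∀ h ∈ Hept, ∀ c ∈ E, (c ∩ h).card = 1 ∨ (c ∩ h).card = 3
  interH : ∀ h ∈ Hept, ∀ h' ∈ Hept, h ≠ h' → (h ∩ h').card = 1 ∨ (h ∩ h').card = 3
  through : ∀ q, (Hept.filter (fun h => q ∈ h)).card = 56
  cover : ∀ F : Finset X, F.card = 4 → (∀ c ∈ E, ¬ F ⊆ c) → ∃ h ∈ Hept, F ⊆ h

section mapval

variable {α : Type*} [Fintype α] [DecidableEq α] (p : α)

/-- Points of the punctured set, viewed in the whole set. -/
def up (F : Finset {a : α // a ≠ p}) : Finset α := F.map (Function.Embedding.subtype _)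

theorem card_up (F : Finset {a : α // a ≠ p}) : (up p F).card = F.card := card_map _

theorem mem_up {F : Finset {a : α // a ≠ p}} {x : {a : α // a ≠ p}} (hx : x ∈ F) :
    (x : α) ∈ up p F := by
  rw [up, mem_map]
  exact ⟨x, hx, rfl⟩

theorem notMem_up (F : Finset {a : α // a ≠ p}) : p ∉ up p F := by
  intro h
  rw [up, mem_map] at h
  obtain ⟨x, -, hx⟩ := h
  exact x.2 hx

theorem subset_sub_of_up {F : Finset {a : α // a ≠ p}} {b : Finset α} (h : up p F ⊆ b) :
    F ⊆ sub p b := fun _ hx => (mem_sub p).mpr (h (mem_up p hx))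

theorem up_subset_of_sub {F : Finset {a : α // a ≠ p}} {b : Finset α} (h : F ⊆ sub p b) :
    up p F ⊆ b := by
  intro y hy
  rw [up, mem_map] at hy
  obtain ⟨x, hx, rfl⟩ := hy
  exact (mem_sub p).mp (h hx)

end mapval

section level1

variable {α : Type*} [Fintype α] [DecidableEq α] (hα : Fintype.card α = 23)
  {B : Set (Finset α)} (hB : IsSteinerSystem 4 7 B) (p : α)

include hα hB in
theorem card_through_4_7_23 (x : α) : ((blocksF B).filter (fun b => x ∈ b)).card = 77 := by
  have h := card_blocks_through hB {x} (by simp)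
  rw [hα] at h
  simp only [card_singleton, singleton_subset_iff] at h
  norm_num [Nat.choose] at h
  omega

include hα hB in
theorem card_through_pair_4_7_23 {x y : α} (hxy : x ≠ y) :
    ((blocksF B).filter (fun b => x ∈ b ∧ y ∈ b)).card = 21 := by
  have h := card_blocks_through hB {x, y} (by rw [card_pair hxy]; norm_num)
  rw [hα, card_pair hxy] at h
  norm_num [Nat.choose] at h
  have h2 : (blocksF B).filter (fun b => x ∈ b ∧ y ∈ b) =
      (blocksF B).filter (fun b => ({x, y} : Finset α) ⊆ b) := by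
    apply filter_congr
    intro b _
    rw [insert_subset_iff, singleton_subset_iff]
  rw [h2]
  omega

include hα hB in
theorem card_blocks_4_7_23 : (blocksF B).card = 253 := by
  have h := card_blocks hB
  rw [hα] at h
  norm_num [Nat.choose] at h
  omega

include hα hB in
theorem ext_of_steiner : W23Ext (dLines B p) (dOvals B p) := by
  refine ⟨Cfsg.Agent.S0351.result (t := 3) (k := 6) hB p, ?_, ?_, ?_, ?_, ?_⟩
  · intro h hh
    obtain ⟨b, hb, hpb, rfl⟩ := (mem_dOvals p).mp hh
    rw [card_sub_of_notMem p hpb, hB.1 b hb]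
  · intro h hh c hc
    obtain ⟨b, hb, hpb, rfl⟩ := (mem_dOvals p).mp hh
    obtain ⟨b', hb', hpb', rfl⟩ := hc
    have hne : b' ≠ b := by rintro rfl; exact hpb hpb'
    rw [sub_inter, card_sub_of_notMem p (fun h => hpb (mem_inter.mp h).2)]
    exact inter_4_7_23 hα hB hb' hb hne
  · intro h hh h' hh' hne
    obtain ⟨b, hb, hpb, rfl⟩ := (mem_dOvals p).mp hh
    obtain ⟨b', hb', hpb', rfl⟩ := (mem_dOvals p).mp hh'
    have hne' : b ≠ b' := by rintro rfl; exact hne rfl
    rw [sub_inter, card_sub_of_notMem p (fun h => hpb (mem_inter.mp h).1)]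
    exact inter_4_7_23 hα hB hb hb' hne'
  · intro q
    rw [dOvals, filter_image, card_image_of_injOn]
    · have h77 := card_through_4_7_23 hα hB (q : α)
      have h21 := card_through_pair_4_7_23 hα hB (x := (q : α)) (y := p) q.2
      have hsplit := Finset.card_filter_add_card_filter_not
        (s := (blocksF B).filter (fun b => (q : α) ∈ b)) (fun b => p ∈ b)
      rw [filter_filter, filter_filter, h77, h21] at hsplit
      have heq : ((blocksF B).filter (fun b => p ∉ b)).filter (fun b => q ∈ sub p b) =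
          (blocksF B).filter (fun b => (q : α) ∈ b ∧ p ∉ b) := by
        rw [filter_filter]
        apply filter_congr
        intro b _
        rw [mem_sub]
        tauto
      rw [heq]
      omega
    · intro b hb c hc hbc
      have hb' := (mem_filter.mp (mem_filter.mp hb).1).2
      have hc' := (mem_filter.mp (mem_filter.mp hc).1).2
      exact sub_injective p hbc (by simp only [hb', hc'])
  · intro F hF4 hFE
    obtain ⟨b, ⟨hb, hFb⟩, -⟩ := hB.2 (up p F) (by rw [card_up, hF4])
    have hpb : p ∉ b := by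
      intro hpb
      exact hFE (sub p b) ⟨b, hb, hpb, rfl⟩ (subset_sub_of_up p hFb)
    exact ⟨sub p b, (mem_dOvals p).mpr ⟨b, hb, hpb, rfl⟩, subset_sub_of_up p hFb⟩

end level1

section level2

variable {X : Type*} [Fintype X] [DecidableEq X] (hX : Fintype.card X = 22)
  {E : Set (Finset X)} {Hept : Finset (Finset X)} (Ext : W23Ext E Hept) (q : X)

/-- The heptads through `q`, as hyperovals of the derived plane. -/
def ovals2 (Hept : Finset (Finset X)) (q : X) : Finset (Finset {x : X // x ≠ q}) :=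
  (Hept.filter (fun h => q ∈ h)).image (sub q)

/-- The heptads off `q`, as Baer sets of the derived plane. -/
def baers (Hept : Finset (Finset X)) (q : X) : Finset (Finset {x : X // x ≠ q}) :=
  (Hept.filter (fun h => q ∉ h)).image (sub q)

theorem mem_ovals2 {O : Finset {x : X // x ≠ q}} :
    O ∈ ovals2 Hept q ↔ ∃ h ∈ Hept, q ∈ h ∧ sub q h = O := by
  simp only [ovals2, mem_image, mem_filter, and_assoc]

theorem mem_baers {O : Finset {x : X // x ≠ q}} :
    O ∈ baers Hept q ↔ ∃ h ∈ Hept, q ∉ h ∧ sub q h = O := by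
  simp only [baers, mem_image, mem_filter, and_assoc]

include hX Ext in
theorem W23Ext.plane : W23Plane (dLines E q) (dOvals E q) (ovals2 Hept q) (baers Hept q) := by
  have hE := Ext.steiner
  have h21 : Fintype.card {x : X // x ≠ q} = 21 := card_subtype_ne q 21 hX
  have hL := dLines_steiner hE q
  have harc2 : ∀ O ∈ ovals2 Hept q, O ∈ arcsF (dLines E q) 6 := by
    intro O hO
    obtain ⟨h, hh, hqh, rfl⟩ := (mem_ovals2 q).mp hO
    rw [mem_arcsF]
    refine ⟨?_, ?_⟩
    · have := card_sub_of_mem q hqh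
      rw [Ext.card7 h hh] at this
      omega
    · rintro l ⟨c, hc, hqc, rfl⟩
      rw [sub_inter]
      have := card_sub_of_mem q (mem_inter.mpr ⟨hqc, hqh⟩)
      rcases Ext.interE h hh c hc with h' | h' <;> omega
  have hcard2 : (ovals2 Hept q).card = 56 := by
    rw [ovals2, card_image_of_injOn, Ext.through q]
    intro b hb c hc hbc
    have hb' := (mem_filter.mp hb).2
    have hc' := (mem_filter.mp hc).2
    exact sub_injective q hbc (by simp only [hb', hc'])
  refine ⟨hL, ?_, ?_, ?_, ?_, ?_, ?_, ?_, ?_⟩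
  · rw [← card_pos, card_dOvals hX hE q]; norm_num
  · intro O hO
    exact ⟨dOvals_arc hX hE q hO, dOvals_eq hX hE q hO⟩
  · intro O hO
    refine ⟨harc2 O hO, ?_⟩
    apply eq_of_subset_of_card_le
    · intro O' hO'
      rw [mem_evenClass]
      by_cases hOO' : O' = O
      · exact Or.inl hOO'
      · refine Or.inr ⟨harc2 O' hO', ?_⟩
        obtain ⟨h, hh, hqh, rfl⟩ := (mem_ovals2 q).mp hO
        obtain ⟨h', hh', hqh', rfl⟩ := (mem_ovals2 q).mp hO'
        have hne : h ≠ h' := by rintro rfl; exact hOO' rfl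
        rw [sub_inter]
        have := card_sub_of_mem q (mem_inter.mpr ⟨hqh, hqh'⟩)
        rcases Ext.interH h hh h' hh' hne with h'' | h'' <;> omega
    · rw [card_evenClass h21 hL (harc2 O hO), hcard2]
  · intro O1 hO1 T hT hT3
    obtain ⟨c, hc, hqc, rfl⟩ := (mem_dOvals q).mp hO1
    have hup : up q T ⊆ c := up_subset_of_sub q hT
    have hF4 : (insert q (up q T)).card = 4 := by
      rw [card_insert_of_notMem (notMem_up q T), card_up, hT3]
    obtain ⟨h, hh, hFh⟩ := Ext.cover (insert q (up q T)) hF4 (by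
      intro c' hc' hFc'
      have hup' : up q T ⊆ c' := (subset_insert q _).trans hFc'
      obtain ⟨d, -, huniq⟩ := hE.2 (up q T) (by rw [card_up, hT3])
      have h1 := huniq c ⟨hc, hup⟩
      have h2 := huniq c' ⟨hc', hup'⟩
      apply hqc
      rw [h1, ← h2]
      exact hFc' (mem_insert_self q _))
    have hqh : q ∈ h := hFh (mem_insert_self q _)
    refine ⟨sub q h, (mem_ovals2 q).mpr ⟨h, hh, hqh, rfl⟩, ?_⟩
    exact subset_sub_of_up q ((subset_insert q _).trans hFh)
  · intro O1 hO1 O2 hO2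
    obtain ⟨c, hc, hqc, rfl⟩ := (mem_dOvals q).mp hO1
    obtain ⟨h, hh, hqh, rfl⟩ := (mem_ovals2 q).mp hO2
    rw [sub_inter, card_sub_of_notMem q (fun h' => hqc (mem_inter.mp h').1)]
    rcases Ext.interE h hh c hc with h' | h' <;> omega
  · intro b hb
    obtain ⟨h, hh, hqh, rfl⟩ := (mem_baers q).mp hb
    refine ⟨by rw [card_sub_of_notMem q hqh, Ext.card7 h hh], ?_⟩
    rintro l ⟨c, hc, hqc, rfl⟩
    rw [sub_inter, card_sub_of_notMem q (fun h' => hqh (mem_inter.mp h').2)]
    exact Ext.interE h hh c hc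
  · intro b hb O hO
    obtain ⟨h, hh, hqh, rfl⟩ := (mem_baers q).mp hb
    rcases hO with hO | hO
    · obtain ⟨c, hc, hqc, rfl⟩ := (mem_dOvals q).mp hO
      rw [sub_inter, card_sub_of_notMem q (fun h' => hqh (mem_inter.mp h').2)]
      rcases Ext.interE h hh c hc with h' | h' <;> omega
    · obtain ⟨h2, hh2, hqh2, rfl⟩ := (mem_ovals2 q).mp hO
      have hne : h2 ≠ h := by rintro rfl; exact hqh hqh2
      rw [sub_inter, card_sub_of_notMem q (fun h' => hqh (mem_inter.mp h').2)]
      rcases Ext.interH h2 hh2 h hh hne with h' | h' <;> omega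
  · intro F hF4 hFL hF1 hF2
    obtain ⟨h, hh, hFh⟩ := Ext.cover (up q F) (by rw [card_up, hF4]) (by
      intro c hc hFc
      by_cases hqc : q ∈ c
      · exact hFL (sub q c) ⟨c, hc, hqc, rfl⟩ (subset_sub_of_up q hFc)
      · exact hF1 (sub q c) ((mem_dOvals q).mpr ⟨c, hc, hqc, rfl⟩) (subset_sub_of_up q hFc))
    have hqh : q ∉ h := by
      intro hqh
      exact hF2 (sub q h) ((mem_ovals2 q).mpr ⟨h, hh, hqh, rfl⟩) (subset_sub_of_up q hFh)
    exact ⟨sub q h, (mem_baers q).mpr ⟨h, hh, hqh, rfl⟩, subset_sub_of_up q hFh⟩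

end level2

section lift

open Cfsg.Agent.S0410

variable {α β : Type*} [Fintype α] [DecidableEq α] [Fintype β] [DecidableEq β] (p : α) (p' : β)
  (e₀ : {a : α // a ≠ p} ≃ {b : β // b ≠ p'})

/-- The extension of `e₀` by `p ↦ p'`, as an equivalence. -/
noncomputable def extEquiv (hc : Fintype.card α = Fintype.card β) : α ≃ β :=
  Equiv.ofBijective (extFun p p' e₀)
    ((Fintype.bijective_iff_injective_and_card _).mpr ⟨extFun_injective p p' e₀, hc⟩)

theorem image_extEquiv (hc : Fintype.card α = Fintype.card β) (b : Finset α) :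
    b.image (extEquiv p p' e₀ hc) = b.image (extFun p p' e₀) := rfl

theorem lift_blocks {B : Set (Finset α)} {B' : Set (Finset β)}
    (h1 : ∀ l ∈ dLines B p, l.image e₀ ∈ dLines B' p')
    (h2 : ∀ O ∈ dOvals B p, O.image e₀ ∈ dOvals B' p') :
    ∀ b ∈ B, b.image (extFun p p' e₀) ∈ B' := by
  intro b hb
  by_cases hpb : p ∈ b
  · obtain ⟨b', hb', hpb', h3⟩ := h1 (sub p b) ⟨b, hb, hpb, rfl⟩
    have : b.image (extFun p p' e₀) = b' :=
      image_extFun_eq p p' e₀ (by simp only [hpb, hpb']) h3
    rw [this]; exact hb'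
  · obtain ⟨b', hb', hpb', h3⟩ :=
      (mem_dOvals p').mp (h2 (sub p b) ((mem_dOvals p).mpr ⟨b, hb, hpb, rfl⟩))
    have : b.image (extFun p p' e₀) = b' :=
      image_extFun_eq p p' e₀ (by simp only [hpb, hpb']) h3.symm
    rw [this]; exact hb'

theorem lift_hept {Hept : Finset (Finset α)} {Hept' : Finset (Finset β)}
    (h1 : ∀ O ∈ ovals2 Hept p, O.image e₀ ∈ ovals2 Hept' p')
    (h2 : ∀ O ∈ baers Hept p, O.image e₀ ∈ baers Hept' p') :
    ∀ h ∈ Hept, h.image (extFun p p' e₀) ∈ Hept' := by
  intro b hb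
  by_cases hpb : p ∈ b
  · obtain ⟨b', hb', hpb', h3⟩ :=
      (mem_ovals2 p').mp (h1 (sub p b) ((mem_ovals2 p).mpr ⟨b, hb, hpb, rfl⟩))
    have : b.image (extFun p p' e₀) = b' :=
      image_extFun_eq p p' e₀ (by simp only [hpb, hpb']) h3.symm
    rw [this]; exact hb'
  · obtain ⟨b', hb', hpb', h3⟩ :=
      (mem_baers p').mp (h2 (sub p b) ((mem_baers p).mpr ⟨b, hb, hpb, rfl⟩))
    have : b.image (extFun p p' e₀) = b' :=
      image_extFun_eq p p' e₀ (by simp only [hpb, hpb']) h3.symm
    rw [this]; exact hb'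

end lift

end Cfsg.Agent.Helper8
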