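import Cfsg.Agent.Lib.Helper8.DerivedAut

set_option autoImplicit false
set_option linter.unusedSectionVars false

/-! Rigidity and an upper bound for the automorphism group of an S(3,6,22). -/

open scoped Pointwise

namespace Cfsg.Agent.Helper8

open Cfsg Finset

section

variable {α : Type*} [Fintype α] [DecidableEq α] (hα : Fintype.card α = 22)
  {B : Set (Finset α)} (hB : IsSteinerSystem 3 6 B)

include hα hB in
/-- An automorphism of an S(3,6,22) fixing a point and, pointwise, a block off it is trivial. -/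
theorem rigid22 {g : Equiv.Perm α} (hg : g ∈ setSystemAut B) {q : α} {b₀ : Finset α}
    (hb₀ : b₀ ∈ B) (hq : q ∉ b₀) (hgq : g q = q) (hfix : ∀ x ∈ b₀, g x = x) : g = 1 := by
  have h21 : Fintype.card {a : α // a ≠ q} = 21 := card_subtype_ne q 21 hα
  have hL := dLines_steiner hB q
  have hO : sub q b₀ ∈ arcsF (dLines B q) 6 :=
    dOvals_arc hα hB q ((mem_dOvals q).mpr ⟨b₀, hb₀, hq, rfl⟩)
  have hres := res_mem_aut q hg hgq
  rw [Cfsg.Agent.S5628.mem_aut_iff] at hres
  have key := Cfsg.Agent.S5628.rigid h21 hL hO (resPerm q g hgq) hres (by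
    intro a ha
    apply Subtype.ext
    rw [resPerm_apply]
    exact hfix a ((Cfsg.Agent.Helper8.mem_sub q).mp ha))
  ext a
  by_cases ha : a = q
  · rw [ha, hgq]; rfl
  · have h1 := congrArg Subtype.val (key ⟨a, ha⟩)
    rw [resPerm_apply] at h1
    exact h1

include hα hB in
theorem card_off_point (q : α) : ((blocksF B).filter (fun b => q ∉ b)).card = 56 := by
  have h21 := through_point_3_6_22 hα hB q
  have h77 := card_blocks_3_6_22 hα hB
  have := Finset.card_filter_add_card_filter_not (s := blocksF B) (fun b => q ∈ b)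
  omega

include hα hB in
theorem card_aut_le : Nat.card (setSystemAut B) ≤ 887040 := by
  classical
  obtain ⟨q⟩ : Nonempty α := Fintype.card_pos_iff.mp (by rw [hα]; norm_num)
  obtain ⟨b₀, hb₀'⟩ : ((blocksF B).filter (fun b => q ∉ b)).Nonempty := by
    rw [← card_pos, card_off_point hα hB q]; norm_num
  obtain ⟨hb₀m, hq⟩ := mem_filter.mp hb₀'
  have hb₀ : b₀ ∈ B := mem_blocksF.mp hb₀m
  have h1 := Subgroup.card_mul_index (MulAction.stabilizer (setSystemAut B) ((q, b₀) : α × Finset α))
  rw [MulAction.index_stabilizer] at h1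
  -- orbit bound
  have horb : (MulAction.orbit (setSystemAut B) ((q, b₀) : α × Finset α)).ncard ≤ 1232 := by
    let S : Finset (α × Finset α) := Finset.univ.biUnion
      (fun q' => ((blocksF B).filter (fun b => q' ∉ b)).image (fun b => (q', b)))
    have hsub : MulAction.orbit (setSystemAut B) ((q, b₀) : α × Finset α) ⊆ (S : Set _) := by
      rintro _ ⟨g, rfl⟩
      have hgm := (Cfsg.Agent.S5628.mem_aut_iff B g.1).mp g.2
      rw [mem_coe, mem_biUnion]
      refine ⟨g.1 q, mem_univ _, ?_⟩
      rw [mem_image]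
      refine ⟨b₀.image g.1, ?_, ?_⟩
      · rw [mem_filter, mem_blocksF]
        refine ⟨hgm b₀ hb₀, ?_⟩
        intro h
        obtain ⟨x, hx, hxq⟩ := mem_image.mp h
        rw [g.1.injective hxq] at hx
        exact hq hx
      · show ((g.1 q, b₀.image g.1) : α × Finset α) = g • (q, b₀)
        rw [Prod.smul_mk]
        congr 1
    have hS : S.card ≤ 1232 := by
      refine (card_biUnion_le).trans ?_
      have : ∀ q' ∈ (univ : Finset α),
          (((blocksF B).filter (fun b => q' ∉ b)).image (fun b => (q', b))).card ≤ 56 := by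
        intro q' _
        exact card_image_le.trans (card_off_point hα hB q').le
      refine (sum_le_sum this).trans ?_
      rw [sum_const, card_univ, hα]
      norm_num
    calc (MulAction.orbit (setSystemAut B) ((q, b₀) : α × Finset α)).ncard
        ≤ (S : Set (α × Finset α)).ncard := Set.ncard_le_ncard hsub (Finset.finite_toSet S)
      _ = S.card := Set.ncard_coe_finset S
      _ ≤ 1232 := hS
  -- stabiliser bound
  have hstabmem : ∀ k : MulAction.stabilizer (setSystemAut B) ((q, b₀) : α × Finset α),
      (k.1.1 : Equiv.Perm α) q = q ∧ b₀.image (k.1.1 : Equiv.Perm α) = b₀ := by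
    intro k
    have hk := k.2
    rw [MulAction.mem_stabilizer_iff, Prod.smul_mk, Prod.mk.injEq] at hk
    refine ⟨hk.1, ?_⟩
    rw [← Cfsg.Agent.S5628.smul_finset_eq_image]
    exact hk.2
  have hmaps : ∀ k : MulAction.stabilizer (setSystemAut B) ((q, b₀) : α × Finset α),
      ∀ x, (k.1.1 : Equiv.Perm α) x ∈ b₀ ↔ x ∈ b₀ := by
    intro k x
    have h2 := (hstabmem k).2
    constructor
    · intro hx
      have hx' : (k.1.1 : Equiv.Perm α) x ∈ b₀.image (k.1.1 : Equiv.Perm α) := by
        rw [h2]; exact hx
      obtain ⟨y, hy, hyx⟩ := mem_image.mp hx'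
      rw [← k.1.1.injective hyx]; exact hy
    · intro hx
      have hx' : (k.1.1 : Equiv.Perm α) x ∈ b₀.image (k.1.1 : Equiv.Perm α) :=
        mem_image_of_mem _ hx
      rw [h2] at hx'
      exact hx'
  have hstab : Nat.card (MulAction.stabilizer (setSystemAut B) ((q, b₀) : α × Finset α)) ≤ 720 := by
    have hinj : Function.Injective
        (fun k : MulAction.stabilizer (setSystemAut B) ((q, b₀) : α × Finset α) =>
          (k.1.1 : Equiv.Perm α).subtypePerm (p := fun x => x ∈ b₀) (hmaps k)) := by
      intro k k' hkk'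
      have hagree : ∀ x ∈ b₀, (k.1.1 : Equiv.Perm α) x = (k'.1.1 : Equiv.Perm α) x := by
        intro x hx
        have := congrArg (fun σ : Equiv.Perm {x // x ∈ b₀} => ((σ ⟨x, hx⟩ : {x // x ∈ b₀}) : α)) hkk'
        simpa using this
      have hg : (k.1.1)⁻¹ * k'.1.1 ∈ setSystemAut B :=
        (setSystemAut B).mul_mem ((setSystemAut B).inv_mem k.1.2) k'.1.2
      have hone : (k.1.1)⁻¹ * k'.1.1 = 1 := by
        apply rigid22 hα hB hg hb₀ hq
        · rw [Equiv.Perm.mul_apply, (hstabmem k').1, Equiv.Perm.inv_eq_iff_eq, (hstabmem k).1]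
        · intro x hx
          rw [Equiv.Perm.mul_apply, ← hagree x hx]
          simp
      apply Subtype.ext
      apply Subtype.ext
      exact (inv_mul_eq_one.mp hone)
    have h3 := Nat.card_le_card_of_injective _ hinj
    have h720 : Nat.card (Equiv.Perm {x // x ∈ b₀}) = 720 := by
      rw [Nat.card_eq_fintype_card, Fintype.card_perm, Fintype.card_coe, hB.1 b₀ hb₀]
      rfl
    exact h3.trans h720.le
  calc Nat.card (setSystemAut B) = _ := h1.symm
    _ ≤ 720 * 1232 := Nat.mul_le_mul hstab horb
    _ = 887040 := by norm_num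

end

end Cfsg.Agent.Helper8
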