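import Cfsg.Agent.Lib.Helper8.Aut22

set_option autoImplicit false
set_option linter.unusedSectionVars false

/-! The automorphism group of the doubly derived design of an S(5,8,24), from the two-point
stabiliser of the automorphism group of the S(5,8,24). -/

open scoped Pointwise

namespace Cfsg.Agent.Helper8

open Cfsg Finset

section res2

variable {α : Type*} [Fintype α] [DecidableEq α] (p : α) (q : {a : α // a ≠ p})

/-- `s` fixes or swaps the two points `p`, `q`. -/
def FixSwap (s : Equiv.Perm α) : Prop :=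
  (s p = p ∧ s q = q) ∨ (s p = q ∧ s q = p)

variable {p q}

theorem FixSwap.ne {s : Equiv.Perm α} (hs : FixSwap p q s) {a : α} (hp : a ≠ p)
    (hq : a ≠ (q : α)) : s a ≠ p ∧ s a ≠ (q : α) := by
  rcases hs with ⟨h1, h2⟩ | ⟨h1, h2⟩
  · exact ⟨fun h => hp (s.injective (h.trans h1.symm)), fun h => hq (s.injective (h.trans h2.symm))⟩
  · exact ⟨fun h => hq (s.injective (h.trans h2.symm)), fun h => hp (s.injective (h.trans h1.symm))⟩

theorem FixSwap.inv {s : Equiv.Perm α} (hs : FixSwap p q s) : FixSwap p q s⁻¹ := by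
  rcases hs with ⟨h1, h2⟩ | ⟨h1, h2⟩
  · left
    exact ⟨by rw [Equiv.Perm.inv_eq_iff_eq, h1], by rw [Equiv.Perm.inv_eq_iff_eq, h2]⟩
  · right
    exact ⟨by rw [Equiv.Perm.inv_eq_iff_eq, h2], by rw [Equiv.Perm.inv_eq_iff_eq, h1]⟩

/-- The permutation induced on the points other than `p`, `q`. -/
def res2 (s : Equiv.Perm α) (hs : FixSwap p q s) :
    Equiv.Perm {x : {a : α // a ≠ p} // x ≠ q} where
  toFun y := ⟨⟨s y.1.1, (hs.ne y.1.2 (fun h => y.2 (Subtype.ext h))).1⟩,
    fun h => (hs.ne y.1.2 (fun h => y.2 (Subtype.ext h))).2 (congrArg Subtype.val h)⟩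
  invFun y := ⟨⟨s⁻¹ y.1.1, (hs.inv.ne y.1.2 (fun h => y.2 (Subtype.ext h))).1⟩,
    fun h => (hs.inv.ne y.1.2 (fun h => y.2 (Subtype.ext h))).2 (congrArg Subtype.val h)⟩
  left_inv y := by
    apply Subtype.ext
    apply Subtype.ext
    simp
  right_inv y := by
    apply Subtype.ext
    apply Subtype.ext
    simp

theorem res2_apply (s : Equiv.Perm α) (hs : FixSwap p q s)
    (y : {x : {a : α // a ≠ p} // x ≠ q}) : (((res2 s hs y).1 : {a : α // a ≠ p}) : α) = s y.1.1 :=
  rfl

theorem sub2_image_res2 (s : Equiv.Perm α) (hs : FixSwap p q s) (b : Finset α) :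
    (sub q (sub p b)).image (res2 s hs) = sub q (sub p (b.image s)) := by
  ext y
  rw [mem_image, Cfsg.Agent.Helper8.mem_sub, Cfsg.Agent.Helper8.mem_sub, mem_image]
  constructor
  · rintro ⟨y', hy', rfl⟩
    rw [Cfsg.Agent.Helper8.mem_sub, Cfsg.Agent.Helper8.mem_sub] at hy'
    exact ⟨y'.1.1, hy', rfl⟩
  · rintro ⟨a, ha, hay⟩
    have h1 : s⁻¹ (y.1.1) = a := by rw [Equiv.Perm.inv_eq_iff_eq, hay]
    have h2 := hs.inv.ne y.1.2 (fun h => y.2 (Subtype.ext h))
    rw [h1] at h2
    refine ⟨⟨⟨a, h2.1⟩, fun h => h2.2 (congrArg Subtype.val h)⟩, ?_, ?_⟩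
    · rw [Cfsg.Agent.Helper8.mem_sub, Cfsg.Agent.Helper8.mem_sub]
      exact ha
    · apply Subtype.ext
      apply Subtype.ext
      exact hay

theorem res2_mem_aut {B : Set (Finset α)} {s : Equiv.Perm α} (hsB : s ∈ setSystemAut B)
    (hs : FixSwap p q s) : res2 s hs ∈ setSystemAut (dLines (dLines B p) q) := by
  rw [Cfsg.Agent.S5628.mem_aut_iff] at hsB ⊢
  rintro l ⟨c, ⟨b, hb, hpb, rfl⟩, hqc, rfl⟩
  have hqb : (q : α) ∈ b := (Cfsg.Agent.Helper8.mem_sub p).mp hqc
  rw [sub2_image_res2]
  have hp' : p ∈ b.image s := by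
    rw [mem_image]
    rcases hs with ⟨h1, h2⟩ | ⟨h1, h2⟩
    · exact ⟨p, hpb, h1⟩
    · exact ⟨q, hqb, h2⟩
  have hq' : (q : α) ∈ b.image s := by
    rw [mem_image]
    rcases hs with ⟨h1, h2⟩ | ⟨h1, h2⟩
    · exact ⟨q, hqb, h2⟩
    · exact ⟨p, hpb, h1⟩
  exact ⟨sub p (b.image s), ⟨b.image s, hsB b hb, hp', rfl⟩,
    (Cfsg.Agent.Helper8.mem_sub p).mpr hq', rfl⟩

theorem res2_mul (s t : Equiv.Perm α) (hs : FixSwap p q s) (ht : FixSwap p q t)
    (hst : FixSwap p q (s * t)) : res2 (s * t) hst = res2 s hs * res2 t ht := by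
  ext y
  rfl

end res2

section main

variable {α : Type*} [Fintype α] [DecidableEq α] (hα : Fintype.card α = 24)
  {B : Set (Finset α)} (hB : IsSteinerSystem 5 8 B) (p : α) (q : {a : α // a ≠ p})

/-- The two-point stabiliser. -/
abbrev stab2 (B : Set (Finset α)) (p : α) (q : {a : α // a ≠ p}) :
    Subgroup (setSystemAut B) :=
  MulAction.stabilizer (setSystemAut B) p ⊓ MulAction.stabilizer (setSystemAut B) (q : α)

theorem stab2_fix (m : stab2 B p q) : FixSwap p q (m.1.1 : Equiv.Perm α) := by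
  have h := m.2
  rw [Subgroup.mem_inf, mem_stab_iff, mem_stab_iff] at h
  exact Or.inl h

/-- Restriction of the two-point stabiliser to the remaining points. -/
noncomputable def rho : stab2 B p q →* setSystemAut (dLines (dLines B p) q) where
  toFun m := ⟨res2 m.1.1 (stab2_fix p q m), res2_mem_aut m.1.2 (stab2_fix p q m)⟩
  map_one' := by
    apply Subtype.ext
    ext y
    rfl
  map_mul' m m' := by
    apply Subtype.ext
    exact res2_mul _ _ (stab2_fix p q m) (stab2_fix p q m') (stab2_fix p q (m * m'))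

theorem rho_injective : Function.Injective (rho (B := B) p q) := by
  intro m m' h
  apply Subtype.ext
  apply Subtype.ext
  ext a
  have hm := m.2
  have hm' := m'.2
  rw [Subgroup.mem_inf, mem_stab_iff, mem_stab_iff] at hm hm'
  by_cases hap : a = p
  · rw [hap, hm.1, hm'.1]
  by_cases haq : a = (q : α)
  · rw [haq, hm.2, hm'.2]
  have h1 := congrArg (fun σ : setSystemAut (dLines (dLines B p) q) =>
    ((((σ : Equiv.Perm _) ⟨⟨a, hap⟩, fun h => haq (congrArg Subtype.val h)⟩ :
      {x : {a : α // a ≠ p} // x ≠ q}).1 : {a : α // a ≠ p}) : α)) h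
  exact h1

include hα hB in
/-- There is a block through `p` missing `q`. -/
theorem exists_block_mem_notMem : ∃ b ∈ B, p ∈ b ∧ (q : α) ∉ b := by
  have hX : Fintype.card {a : α // a ≠ p} = 23 := card_subtype_ne p 23 hα
  have hE : IsSteinerSystem 4 7 (dLines B p) := Cfsg.Agent.S0351.result (t := 4) (k := 7) hB p
  have h253 := card_blocks_4_7_23 hX hE
  have h77 := card_through_4_7_23 hX hE q
  have hsplit := Finset.card_filter_add_card_filter_not (s := blocksF (dLines B p))
    (fun c => q ∈ c)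
  obtain ⟨c, hc⟩ : ((blocksF (dLines B p)).filter (fun c => ¬ q ∈ c)).Nonempty := by
    rw [← card_pos]; omega
  obtain ⟨hc1, hc2⟩ := mem_filter.mp hc
  obtain ⟨b, hb, hpb, rfl⟩ := mem_blocksF.mp hc1
  exact ⟨b, hb, hpb, fun h => hc2 ((Cfsg.Agent.Helper8.mem_sub p).mpr h)⟩

include hα hB in
/-- An automorphism swapping `p`, `q` induces an automorphism of the doubly derived design outside
the image of the two-point stabiliser. -/
theorem swap_notMem_range {s : Equiv.Perm α} (hsB : s ∈ setSystemAut B)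
    (hs : s p = q ∧ s q = p) :
    (⟨res2 s (Or.inr hs), res2_mem_aut hsB (Or.inr hs)⟩ :
      setSystemAut (dLines (dLines B p) q)) ∉ (rho (B := B) p q).range := by
  rintro ⟨m, hm⟩
  have hmfix := m.2
  rw [Subgroup.mem_inf, mem_stab_iff, mem_stab_iff] at hmfix
  have hagree : ∀ a, a ≠ p → a ≠ (q : α) → (m.1.1 : Equiv.Perm α) a = s a := by
    intro a hap haq
    have h1 := congrArg (fun σ : setSystemAut (dLines (dLines B p) q) =>
      ((((σ : Equiv.Perm _) ⟨⟨a, hap⟩, fun h => haq (congrArg Subtype.val h)⟩ :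
        {x : {a : α // a ≠ p} // x ≠ q}).1 : {a : α // a ≠ p}) : α)) hm
    exact h1
  obtain ⟨b, hb, hpb, hqb⟩ := exists_block_mem_notMem hα hB p q
  have hu : (m.1.1 : Equiv.Perm α)⁻¹ * s ∈ setSystemAut B :=
    (setSystemAut B).mul_mem ((setSystemAut B).inv_mem m.1.2) hsB
  have hub := (Cfsg.Agent.S5628.mem_aut_iff B _).mp hu b hb
  have hfixu : ∀ a, a ≠ p → a ≠ (q : α) → ((m.1.1 : Equiv.Perm α)⁻¹ * s) a = a := by
    intro a hap haq
    rw [Equiv.Perm.mul_apply, ← hagree a hap haq]
    simp
  have hup : ((m.1.1 : Equiv.Perm α)⁻¹ * s) p = q := by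
    rw [Equiv.Perm.mul_apply, hs.1, Equiv.Perm.inv_eq_iff_eq, hmfix.2]
  have hsub : b.erase p ⊆ b ∩ b.image ((m.1.1 : Equiv.Perm α)⁻¹ * s) := by
    intro a ha
    obtain ⟨hap, hab⟩ := mem_erase.mp ha
    have haq : a ≠ (q : α) := by rintro rfl; exact hqb hab
    rw [mem_inter, mem_image]
    exact ⟨hab, a, hab, hfixu a hap haq⟩
  have hcard : 5 ≤ (b ∩ b.image ((m.1.1 : Equiv.Perm α)⁻¹ * s)).card := by
    have := card_le_card hsub
    rw [card_erase_of_mem hpb, hB.1 b hb] at this
    omega
  have heq : b = b.image ((m.1.1 : Equiv.Perm α)⁻¹ * s) := by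
    by_contra hne
    have := card_inter_lt hB hb hub hne
    omega
  apply hqb
  rw [heq, mem_image]
  exact ⟨p, hpb, hup⟩

include hα hB in
/-- The automorphism group of the doubly derived design of an S(5,8,24), given the order and
simplicity of the two-point stabiliser and fivefold transitivity. -/
theorem aut22_of_golay (hcard : Nat.card (stab2 B p q) = 443520)
    (hsimple : IsSimpleGroup (stab2 B p q))
    (htrans : MulAction.IsMultiplyPretransitive (setSystemAut B) α 5) :
    Nat.card (setSystemAut (dLines (dLines B p) q)) = 887040 ∧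
    MulAction.IsMultiplyPretransitive (setSystemAut (dLines (dLines B p) q))
      {x : {a : α // a ≠ p} // x ≠ q} 3 ∧
    ∃ H : Subgroup (setSystemAut (dLines (dLines B p) q)), H.index = 2 ∧
      (IsSimpleGroup H ∧ Nat.card H = 443520) := by
  have hX : Fintype.card {a : α // a ≠ p} = 23 := card_subtype_ne p 23 hα
  have hY : Fintype.card {x : {a : α // a ≠ p} // x ≠ q} = 22 := card_subtype_ne q 22 hX
  have hE1 : IsSteinerSystem 4 7 (dLines B p) := Cfsg.Agent.S0351.result (t := 4) (k := 7) hB p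
  have hE2 : IsSteinerSystem 3 6 (dLines (dLines B p) q) :=
    Cfsg.Agent.S0351.result (t := 3) (k := 6) hE1 q
  have hinj := rho_injective (B := B) p q
  have hHcard : Nat.card (rho (B := B) p q).range = 443520 := by
    rw [← Nat.card_congr (MonoidHom.ofInjective hinj).toEquiv, hcard]
  have hHsimple : IsSimpleGroup (rho (B := B) p q).range :=
    (MonoidHom.ofInjective hinj).symm.isSimpleGroup
  have hupper := card_aut_le hY hE2
  -- an automorphism swapping p and q
  have h2 : MulAction.IsMultiplyPretransitive (setSystemAut B) α 2 :=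
    MulAction.isMultiplyPretransitive_of_le (G := setSystemAut B) (α := α) (m := 2) (n := 5)
      (by norm_num) (by rw [Nat.card_eq_fintype_card, hα]; norm_num)
  obtain ⟨s, hs1, hs2⟩ := MulAction.is_two_pretransitive_iff.mp h2 q.2.symm q.2
  have hnot := swap_notMem_range hα hB p q s.2 ⟨hs1, hs2⟩
  have hne_top : (rho (B := B) p q).range ≠ ⊤ := by
    intro h
    apply hnot
    rw [h]
    exact Subgroup.mem_top _
  have hidx1 : (rho (B := B) p q).range.index ≠ 1 := fun h => hne_top (Subgroup.index_eq_one.mp h)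
  have hidx0 : (rho (B := B) p q).range.index ≠ 0 := Subgroup.index_ne_zero_of_finite
  have hmul := Subgroup.card_mul_index (rho (B := B) p q).range
  rw [hHcard] at hmul
  have hidx2 : (rho (B := B) p q).range.index = 2 := by
    have : (rho (B := B) p q).range.index ≤ 2 := by
      by_contra h
      rw [not_le] at h
      have : 443520 * 3 ≤ 443520 * (rho (B := B) p q).range.index := Nat.mul_le_mul_left _ h
      omega
    omega
  refine ⟨by rw [← hmul, hidx2], ?_, (rho (B := B) p q).range, hidx2, hHsimple, hHcard⟩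
  -- threefold transitivity
  rw [MulAction.isMultiplyPretransitive_iff]
  intro x y
  have hx : q ∉ Set.range (x.trans (Function.Embedding.subtype _)) := by
    rintro ⟨i, hi⟩
    exact (x i).2 hi
  have hy : q ∉ Set.range (y.trans (Function.Embedding.subtype _)) := by
    rintro ⟨i, hi⟩
    exact (y i).2 hi
  obtain ⟨g, hgp, hg⟩ := exists_fixing_of_pretransitive (setSystemAut B) p 4 htrans
    (finSuccEquivLast.toEmbedding.trans
      (Function.Embedding.optionElim (x.trans (Function.Embedding.subtype _)) q hx))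
    (finSuccEquivLast.toEmbedding.trans
      (Function.Embedding.optionElim (y.trans (Function.Embedding.subtype _)) q hy))
  have hgq : (g : Equiv.Perm α) q = q := by
    have := hg (Fin.last 3)
    simp [Function.Embedding.optionElim] at this
    exact this
  have hgx : ∀ i, (g : Equiv.Perm α) (x i).1.1 = (y i).1.1 := by
    intro i
    have := hg (Fin.castSucc i)
    simp [Function.Embedding.optionElim] at this
    exact this
  have hm : g ∈ stab2 B p q := by
    rw [Subgroup.mem_inf, mem_stab_iff, mem_stab_iff]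
    exact ⟨hgp, hgq⟩
  refine ⟨rho (B := B) p q ⟨g, hm⟩, ?_⟩
  apply Function.Embedding.ext
  intro i
  rw [Function.Embedding.smul_apply]
  apply Subtype.ext
  apply Subtype.ext
  exact hgx i

end main

end Cfsg.Agent.Helper8
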