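import Mathlib
import Cfsg.Prelude.Def_KGroupFacts

set_option autoImplicit false

/-! Bounding the automorphism group of a finite group by counting an invariant set of generating
pairs, and a criterion for an automorphism of a central quotient to be outer. -/

namespace Cfsg.Agent.Helper8.AutB

section Count

variable {G : Type*} [Group G] [Finite G]

/-- An invariant set of pairs whose second members are all conjugate to `y0` is at most as large as
the class of `y0` times the fibre over `y0`. -/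
theorem card_pairs_le (Ω : Set (G × G))
    (hΩ : ∀ g : G, ∀ p ∈ Ω, (g * p.1 * g⁻¹, g * p.2 * g⁻¹) ∈ Ω)
    (y0 : G) (hconj : ∀ p ∈ Ω, IsConj y0 p.2) :
    Nat.card Ω ≤ (Subgroup.centralizer ({y0} : Set G)).index *
      Nat.card {x : G // (x, y0) ∈ Ω} := by
  classical
  let f : (G ⧸ Subgroup.centralizer ({y0} : Set G)) × {x : G // (x, y0) ∈ Ω} → G × G := fun q =>
    (q.1.out * q.2.1 * q.1.out⁻¹, q.1.out * y0 * q.1.out⁻¹)
  have hsub : Ω ⊆ Set.range f := by
    rintro ⟨x, y⟩ hp
    obtain ⟨h, hh⟩ := isConj_iff.mp (hconj _ hp)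
    have hh' : h * y0 * h⁻¹ = y := hh
    set q : G ⧸ Subgroup.centralizer ({y0} : Set G) := (h : G ⧸ Subgroup.centralizer ({y0} : Set G))
      with hq
    have hc : (q.out)⁻¹ * h ∈ Subgroup.centralizer ({y0} : Set G) :=
      QuotientGroup.eq.mp (QuotientGroup.out_eq' q)
    rw [Subgroup.mem_centralizer_singleton_iff] at hc
    have hy : q.out * y0 * q.out⁻¹ = y := by
      have e : h = q.out * ((q.out)⁻¹ * h) := by group
      rw [← hh']
      have e2 : h * y0 * h⁻¹ = q.out * (((q.out)⁻¹ * h) * y0) * (h⁻¹) := by group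
      rw [e2, hc]
      group
    have hx : (q.out⁻¹ * x * q.out, y0) ∈ Ω := by
      have := hΩ (q.out⁻¹) _ hp
      simp only [inv_inv] at this
      have e3 : q.out⁻¹ * y * q.out = y0 := by rw [← hy]; group
      rw [e3] at this
      exact this
    refine ⟨(q, ⟨q.out⁻¹ * x * q.out, hx⟩), ?_⟩
    show (q.out * (q.out⁻¹ * x * q.out) * q.out⁻¹, q.out * y0 * q.out⁻¹) = (x, y)
    rw [hy]
    congr 1
    group
  calc Nat.card Ω ≤ Nat.card (Set.range f) := Nat.card_mono (Set.toFinite _) hsub
    _ ≤ Nat.card ((G ⧸ Subgroup.centralizer ({y0} : Set G)) × {x : G // (x, y0) ∈ Ω}) :=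
        Finite.card_range_le f
    _ = _ := by rw [Nat.card_prod, Subgroup.index_eq_card]

/-- Automorphisms are determined by the image of a generating pair. -/
theorem card_aut_le (x0 y0 : G) (hgen : Subgroup.closure {x0, y0} = ⊤) (Ω : Set (G × G))
    (hΩ : ∀ φ : MulAut G, ∀ p ∈ Ω, (φ p.1, φ p.2) ∈ Ω) (h0 : (x0, y0) ∈ Ω) :
    Nat.card (MulAut G) ≤ Nat.card Ω := by
  have hinj : Function.Injective (fun φ : MulAut G => (⟨(φ x0, φ y0), hΩ φ _ h0⟩ : Ω)) := by
    intro φ ψ h
    have h1 := congrArg Subtype.val h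
    simp only [Prod.mk.injEq] at h1
    have h2 : φ.toMonoidHom = ψ.toMonoidHom := MonoidHom.eq_of_eqOn_dense hgen (by
      rintro z (rfl | hz)
      · exact h1.1
      · rw [Set.mem_singleton_iff] at hz; subst hz; exact h1.2)
    ext z
    exact DFunLike.congr_fun h2 z
  exact Nat.card_le_card_of_injective _ hinj

theorem card_out_eq_two (hc : Subgroup.center G = ⊥) (hA : Nat.card (MulAut G) ≤ 2 * Nat.card G)
    (α : MulAut G) (hα : α ∉ Cfsg.Inn G) : Nat.card (Cfsg.Out G) = 2 := by
  have hinj : Function.Injective (MulAut.conj : G →* MulAut G) := by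
    rw [injective_iff_map_eq_one]
    intro g hg
    have hgc : g ∈ Subgroup.center G := by
      rw [Subgroup.mem_center_iff]
      intro x
      have := DFunLike.congr_fun hg x
      simp only [MulAut.conj_apply, MulAut.one_apply] at this
      calc x * g = (g * x * g⁻¹) * g := by rw [this]
        _ = g * x := by group
    rw [hc, Subgroup.mem_bot] at hgc
    exact hgc
  have hinn : Nat.card (Cfsg.Inn G) = Nat.card G :=
    (Nat.card_congr (MonoidHom.ofInjective hinj).toEquiv).symm
  have hmul := Subgroup.card_eq_card_quotient_mul_card_subgroup (Cfsg.Inn G)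
  have hne : Nat.card (Cfsg.Out G) ≠ 1 := by
    intro h1
    have h2 : (Cfsg.Inn G).index = 1 := by rw [Subgroup.index_eq_card]; exact h1
    rw [Subgroup.index_eq_one] at h2
    exact hα (h2 ▸ Subgroup.mem_top α)
  have hpos : 0 < Nat.card (Cfsg.Out G) := Nat.card_pos
  have hG : 0 < Nat.card G := Nat.card_pos
  rw [hinn] at hmul
  have hle : Nat.card (Cfsg.Out G) * Nat.card G ≤ 2 * Nat.card G := by rw [← hmul]; exact hA
  have := Nat.le_of_mul_le_mul_right hle hG
  omega

end Count

section Outer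

open scoped commutatorElement

variable {X : Type*} [Group X]

theorem comm_mul_central_left {a z w : X} (hz : ∀ g : X, g * z = z * g) :
    ⁅a * z, w⁆ = ⁅a, w⁆ := by
  rw [commutatorElement_def, commutatorElement_def]
  calc a * z * w * (a * z)⁻¹ * w⁻¹ = a * (z * w) * z⁻¹ * a⁻¹ * w⁻¹ := by group
    _ = a * (w * z) * z⁻¹ * a⁻¹ * w⁻¹ := by rw [hz w]
    _ = a * w * a⁻¹ * w⁻¹ := by group

theorem comm_mul_central_right {a b z : X} (hz : ∀ g : X, g * z = z * g) :
    ⁅a, b * z⁆ = ⁅a, b⁆ := by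
  rw [commutatorElement_def, commutatorElement_def]
  calc a * (b * z) * a⁻¹ * (b * z)⁻¹ = a * b * (z * a⁻¹) * z⁻¹ * b⁻¹ := by group
    _ = a * b * (a⁻¹ * z) * z⁻¹ * b⁻¹ := by rw [hz a⁻¹]
    _ = a * b * a⁻¹ * b⁻¹ := by group

theorem eq_of_trivial_mod_center (hperf : commutator X = ⊤) (φ : X ≃* X)
    (h : ∀ x, x⁻¹ * φ x ∈ Subgroup.center X) : ∀ x, φ x = x := by
  have hcomm : ∀ a b : X, φ ⁅a, b⁆ = ⁅a, b⁆ := by
    intro a b
    have ha := Subgroup.mem_center_iff.mp (h a)
    have hb := Subgroup.mem_center_iff.mp (h b)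
    have ea : φ a = a * (a⁻¹ * φ a) := by group
    have eb : φ b = b * (b⁻¹ * φ b) := by group
    rw [map_commutatorElement, ea, eb, comm_mul_central_left ha, comm_mul_central_right hb]
  have hle : commutator X ≤ MonoidHom.eqLocus φ.toMonoidHom (MonoidHom.id X) := by
    rw [commutator_eq_closure, Subgroup.closure_le]
    rintro _ ⟨a, b, rfl⟩
    exact hcomm a b
  rw [hperf] at hle
  intro x
  exact hle (Subgroup.mem_top x)

/-- An automorphism of a perfect group moving a central element induces an outer automorphism of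
the central quotient. -/
theorem not_inner_of_moves_center (hperf : commutator X = ⊤) (a : X ≃* X)
    (he : (Subgroup.center X).map (a : X →* X) = Subgroup.center X)
    (z : X) (hz : z ∈ Subgroup.center X) (hza : a z ≠ z) :
    QuotientGroup.congr (Subgroup.center X) (Subgroup.center X) a he ∉
      Cfsg.Inn (X ⧸ Subgroup.center X) := by
  rintro ⟨gq, hg⟩
  obtain ⟨g, rfl⟩ := QuotientGroup.mk_surjective gq
  have key : ∀ x : X, x⁻¹ * ((MulAut.conj g)⁻¹ * a) x ∈ Subgroup.center X := by
    intro x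
    have h1 := DFunLike.congr_fun hg (x : X ⧸ Subgroup.center X)
    rw [QuotientGroup.congr_mk, MulAut.conj_apply] at h1
    have h2 : ((g * x * g⁻¹ : X) : X ⧸ Subgroup.center X) = ((a x : X) : X ⧸ Subgroup.center X) := by
      rw [← h1]; rfl
    have h3 : (g * x * g⁻¹)⁻¹ * a x ∈ Subgroup.center X := QuotientGroup.eq.mp h2
    have h4 := Subgroup.mem_center_iff.mp h3
    have e : x⁻¹ * ((MulAut.conj g)⁻¹ * a) x = g⁻¹ * ((g * x * g⁻¹)⁻¹ * a x) * g := by
      show x⁻¹ * ((MulAut.conj g)⁻¹ (a x)) = _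
      rw [← map_inv, MulAut.conj_apply]
      group
    have e2 : (g * x * g⁻¹)⁻¹ * a x * g⁻¹ * g = (g * x * g⁻¹)⁻¹ * a x := by group
    rw [e, h4 g⁻¹, e2]
    exact h3
  have hid := eq_of_trivial_mod_center hperf ((MulAut.conj g)⁻¹ * a) key z
  apply hza
  have h5 : ((MulAut.conj g)⁻¹ * a) z = g⁻¹ * a z * g := by
    show (MulAut.conj g)⁻¹ (a z) = _
    rw [← map_inv, MulAut.conj_apply, inv_inv]
  rw [h5] at hid
  have haz : a z ∈ Subgroup.center X := by
    rw [← he]
    exact ⟨z, hz, rfl⟩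
  have h6 := Subgroup.mem_center_iff.mp haz g⁻¹
  rw [h6, mul_assoc, inv_mul_cancel, mul_one] at hid
  exact hid

end Outer

end Cfsg.Agent.Helper8.AutB
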