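import Cfsg.Agent.Lib.Helper8.SteinerNumbers

set_option autoImplicit false
set_option linter.unusedSectionVars false

/-! Counting in a Steiner system S(3,6,22): the numbers behind the M22 graph (77,16,0,4) and the
Higman-Sims graph (100,22,0,6). -/

namespace Cfsg.Agent.Helper8

open Cfsg Finset

variable {α : Type*} [Fintype α] [DecidableEq α]

/-- All moment sums for an arbitrary point set `Z` in an S(3,6,22). -/
theorem sums_set_3_6_22 (hα : Fintype.card α = 22) {B : Set (Finset α)}
    (hB : IsSteinerSystem 3 6 B) (Z : Finset α) :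
    (blocksF B).card = 77 ∧
    ∑ d ∈ blocksF B, (Z ∩ d).card = 21 * Z.card ∧
    ∑ d ∈ blocksF B, Nat.choose (Z ∩ d).card 2 = 5 * Nat.choose Z.card 2 ∧
    ∑ d ∈ blocksF B, Nat.choose (Z ∩ d).card 3 = Nat.choose Z.card 3 := by
  have h0 := moment_set hB Z 0 (by norm_num)
  have h1 := moment_set hB Z 1 (by norm_num)
  have h2 := moment_set hB Z 2 (by norm_num)
  have h3 := moment_set hB Z 3 (by norm_num)
  rw [hα] at h0 h1 h2 h3
  norm_num [Nat.choose] at h0 h1 h2 h3
  refine ⟨?_, ?_, ?_, ?_⟩ <;> omega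

theorem card_blocks_3_6_22 (hα : Fintype.card α = 22) {B : Set (Finset α)}
    (hB : IsSteinerSystem 3 6 B) : (blocksF B).card = 77 :=
  (sums_set_3_6_22 hα hB ∅).1

theorem through_point_3_6_22 (hα : Fintype.card α = 22) {B : Set (Finset α)}
    (hB : IsSteinerSystem 3 6 B) (a : α) :
    ((blocksF B).filter (fun d => a ∈ d)).card = 21 := by
  have h := card_blocks_through hB {a} (by simp)
  rw [hα] at h
  simp only [card_singleton, singleton_subset_iff] at h
  norm_num [Nat.choose] at h
  omega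

theorem through_pair_3_6_22 (hα : Fintype.card α = 22) {B : Set (Finset α)}
    (hB : IsSteinerSystem 3 6 B) {a a' : α} (haa : a ≠ a') :
    ((blocksF B).filter (fun d => a ∈ d ∧ a' ∈ d)).card = 5 := by
  have hc : ({a, a'} : Finset α).card = 2 := card_pair haa
  have h := card_blocks_through hB {a, a'} (by rw [hc]; norm_num)
  rw [hα, hc] at h
  have hf : (blocksF B).filter (fun d => ({a, a'} : Finset α) ⊆ d) =
      (blocksF B).filter (fun d => a ∈ d ∧ a' ∈ d) := by
    ext d
    simp only [mem_filter, insert_subset_iff, singleton_subset_iff]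
  rw [hf] at h
  norm_num [Nat.choose] at h
  omega

theorem block_nonempty_3_6_22 {B : Set (Finset α)}
    (hB : IsSteinerSystem 3 6 B) {b : Finset α} (hb : b ∈ B) : b.Nonempty := by
  rw [← card_pos, hB.1 b hb]; norm_num

/-- The number of blocks disjoint from two distinct blocks `b`, `c`:
`4 n + 3 (21 |Z| - 12) + (C(|Z|,3) - 40) = 300 + 2 (5 C(|Z|,2) - 30)` for `Z = b ∪ c`. -/
theorem disjoint_both_aux (hα : Fintype.card α = 22) {B : Set (Finset α)}
    (hB : IsSteinerSystem 3 6 B) {b c : Finset α} (hb : b ∈ B) (hc : c ∈ B) (hbc : b ≠ c) :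
    4 * ((blocksF B).filter (fun d => Disjoint b d ∧ Disjoint c d)).card +
        3 * (21 * (b ∪ c).card) + Nat.choose (b ∪ c).card 3 + 60 =
      300 + 36 + 40 + 2 * (5 * Nat.choose (b ∪ c).card 2) := by
  obtain ⟨h0, h1, h2, h3⟩ := sums_set_3_6_22 hα hB (b ∪ c)
  have hbk : b.card = 6 := hB.1 b hb
  have hck : c.card = 6 := hB.1 c hc
  have hbE : b ∈ blocksF B := mem_blocksF.mpr hb
  have hcE : c ∈ (blocksF B).erase b := mem_erase.mpr ⟨Ne.symm hbc, mem_blocksF.mpr hc⟩
  have hZb : (b ∪ c) ∩ b = b := inter_eq_right.mpr subset_union_left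
  have hZc : (b ∪ c) ∩ c = c := inter_eq_right.mpr subset_union_right
  -- split off the terms of b and c
  rw [← Finset.add_sum_erase _ _ hbE, ← Finset.add_sum_erase _ _ hcE, hZb, hZc, hbk, hck] at h1 h2 h3
  rw [← Finset.card_erase_add_one hbE, ← Finset.card_erase_add_one hcE] at h0
  set E := ((blocksF B).erase b).erase c with hE
  have hmemE : ∀ d ∈ E, d ∈ B ∧ d ≠ b ∧ d ≠ c := by
    intro d hd
    rw [hE, mem_erase, mem_erase, mem_blocksF] at hd
    exact ⟨hd.2.2, hd.2.1, hd.1⟩
  -- the filter as a filter over E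
  have hfilt : (blocksF B).filter (fun d => Disjoint b d ∧ Disjoint c d) =
      E.filter (fun d => ((b ∪ c) ∩ d).card = 0) := by
    ext d
    simp only [mem_filter, hE, mem_erase, mem_blocksF, card_eq_zero,
      ← disjoint_iff_inter_eq_empty, disjoint_union_left]
    constructor
    · rintro ⟨hd, hdb, hdc⟩
      refine ⟨⟨?_, ?_, hd⟩, hdb, hdc⟩
      · rintro rfl
        exact (block_nonempty_3_6_22 hB hc).ne_empty (disjoint_self.mp hdc)
      · rintro rfl
        exact (block_nonempty_3_6_22 hB hb).ne_empty (disjoint_self.mp hdb)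
    · rintro ⟨⟨-, -, hd⟩, hdb, hdc⟩
      exact ⟨hd, hdb, hdc⟩
  rw [hfilt, card_filter]
  -- pointwise identity
  have hid : ∀ d ∈ E,
      (if ((b ∪ c) ∩ d).card = 0 then 4 else 0) + 3 * ((b ∪ c) ∩ d).card +
          Nat.choose ((b ∪ c) ∩ d).card 3 =
        4 + 2 * Nat.choose ((b ∪ c) ∩ d).card 2 := by
    intro d hd
    obtain ⟨hdB, hdb, hdc⟩ := hmemE d hd
    have hx := inter_3_6_22 hα hB hb hdB (Ne.symm hdb)
    have hy := inter_3_6_22 hα hB hc hdB (Ne.symm hdc)
    have hi := inter_3_6_22 hα hB hb hc hbc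
    have hu : (b ∪ c) ∩ d = (b ∩ d) ∪ (c ∩ d) := union_inter_distrib_right b c d
    have hie := card_union_add_card_inter (b ∩ d) (c ∩ d)
    have hw1 : ((b ∩ d) ∩ (c ∩ d)).card ≤ (b ∩ d).card := card_le_card inter_subset_left
    have hw2 : ((b ∩ d) ∩ (c ∩ d)).card ≤ (c ∩ d).card := card_le_card inter_subset_right
    have hw3 : ((b ∩ d) ∩ (c ∩ d)).card ≤ (b ∩ c).card := by
      apply card_le_card
      intro x hx
      simp only [mem_inter] at hx ⊢
      exact ⟨hx.1.1, hx.2.1⟩
    rw [hu]
    have hz : ((b ∩ d) ∪ (c ∩ d)).card = 0 ∨ ((b ∩ d) ∪ (c ∩ d)).card = 2 ∨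
        ((b ∩ d) ∪ (c ∩ d)).card = 3 ∨ ((b ∩ d) ∪ (c ∩ d)).card = 4 := by omega
    rcases hz with h | h | h | h <;> rw [h] <;> decide
  have hsum := Finset.sum_congr rfl hid
  rw [Finset.sum_add_distrib, Finset.sum_add_distrib, Finset.sum_add_distrib,
    ← Finset.mul_sum, ← Finset.mul_sum, sum_const, smul_eq_mul] at hsum
  have hite : ∑ d ∈ E, (if ((b ∪ c) ∩ d).card = 0 then 4 else 0) =
      4 * ∑ d ∈ E, (if ((b ∪ c) ∩ d).card = 0 then 1 else 0) := by
    rw [Finset.mul_sum]
    apply Finset.sum_congr rfl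
    intro d _
    split_ifs <;> rfl
  rw [hite] at hsum
  norm_num [Nat.choose] at h1 h2 h3
  omega

theorem disjoint_both_of_disjoint (hα : Fintype.card α = 22) {B : Set (Finset α)}
    (hB : IsSteinerSystem 3 6 B) {b c : Finset α} (hb : b ∈ B) (hc : c ∈ B)
    (hbc : Disjoint b c) :
    ((blocksF B).filter (fun d => Disjoint b d ∧ Disjoint c d)).card = 0 := by
  have hne : b ≠ c := by
    rintro rfl
    exact (block_nonempty_3_6_22 hB hb).ne_empty (disjoint_self.mp hbc)
  have h := disjoint_both_aux hα hB hb hc hne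
  have hZ : (b ∪ c).card = 12 := by
    rw [card_union_of_disjoint hbc, hB.1 b hb, hB.1 c hc]
  rw [hZ] at h
  have e3 : Nat.choose 12 3 = 220 := by decide
  have e2 : Nat.choose 12 2 = 66 := by decide
  rw [e3, e2] at h
  omega

theorem disjoint_both_of_not_disjoint (hα : Fintype.card α = 22) {B : Set (Finset α)}
    (hB : IsSteinerSystem 3 6 B) {b c : Finset α} (hb : b ∈ B) (hc : c ∈ B) (hne : b ≠ c)
    (hbc : ¬ Disjoint b c) :
    (b ∩ c).card = 2 ∧
    ((blocksF B).filter (fun d => Disjoint b d ∧ Disjoint c d)).card = 4 := by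
  have hi : (b ∩ c).card = 2 := by
    rcases inter_3_6_22 hα hB hb hc hne with h | h
    · exact absurd (disjoint_iff_inter_eq_empty.mpr (card_eq_zero.mp h)) hbc
    · exact h
  refine ⟨hi, ?_⟩
  have h := disjoint_both_aux hα hB hb hc hne
  have hZ : (b ∪ c).card = 10 := by
    have := card_union_add_card_inter b c
    rw [hB.1 b hb, hB.1 c hc, hi] at this
    omega
  rw [hZ] at h
  have e3 : Nat.choose 10 3 = 120 := by decide
  have e2 : Nat.choose 10 2 = 45 := by decide
  rw [e3, e2] at h
  omega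

/-- For a point `a` off a block `b`, exactly 6 blocks through `a` are disjoint from `b`. -/
theorem through_point_disjoint_3_6_22 (hα : Fintype.card α = 22) {B : Set (Finset α)}
    (hB : IsSteinerSystem 3 6 B) {b : Finset α} (hb : b ∈ B) {a : α} (ha : a ∉ b) :
    ((blocksF B).filter (fun d => a ∈ d ∧ Disjoint b d)).card = 6 := by
  obtain ⟨h0, h1, h2, h3⟩ := sums_set_3_6_22 hα hB (insert a b)
  have hbk : b.card = 6 := hB.1 b hb
  have hbE : b ∈ blocksF B := mem_blocksF.mpr hb
  have hZb : (insert a b) ∩ b = b := inter_eq_right.mpr (subset_insert a b)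
  have hZ : (insert a b).card = 7 := by rw [card_insert_of_notMem ha, hbk]
  rw [← Finset.add_sum_erase _ _ hbE, hZb, hbk, hZ] at h1 h2 h3
  rw [← Finset.card_erase_add_one hbE] at h0
  set E := (blocksF B).erase b with hE
  have hfilt : (blocksF B).filter (fun d => a ∈ d ∧ Disjoint b d) =
      E.filter (fun d => ((insert a b) ∩ d).card = 1) := by
    ext d
    simp only [mem_filter, hE, mem_erase, mem_blocksF]
    constructor
    · rintro ⟨hd, had, hdb⟩
      refine ⟨⟨?_, hd⟩, ?_⟩
      · rintro rfl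
        exact (block_nonempty_3_6_22 hB hb).ne_empty (disjoint_self.mp hdb)
      · rw [insert_inter_of_mem had, disjoint_iff_inter_eq_empty.mp hdb]
        rfl
    · rintro ⟨⟨hdb, hd⟩, hcard⟩
      have hx := inter_3_6_22 hα hB hb hd (Ne.symm hdb)
      by_cases had : a ∈ d
      · rw [insert_inter_of_mem had, card_insert_of_notMem
          (fun h => ha (mem_inter.mp h).1)] at hcard
        refine ⟨hd, had, ?_⟩
        rw [disjoint_iff_inter_eq_empty, ← card_eq_zero]
        omega
      · rw [insert_inter_of_notMem had] at hcard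
        omega
  rw [hfilt, card_filter]
  have hid : ∀ d ∈ E,
      (if ((insert a b) ∩ d).card = 1 then 1 else 0) +
          2 * Nat.choose ((insert a b) ∩ d).card 2 =
        ((insert a b) ∩ d).card + 3 * Nat.choose ((insert a b) ∩ d).card 3 := by
    intro d hd
    rw [hE, mem_erase, mem_blocksF] at hd
    have hx := inter_3_6_22 hα hB hb hd.2 (Ne.symm hd.1)
    have hz : ((insert a b) ∩ d).card ≤ 3 := by
      by_cases had : a ∈ d
      · rw [insert_inter_of_mem had, card_insert_of_notMem (fun h => ha (mem_inter.mp h).1)]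
        omega
      · rw [insert_inter_of_notMem had]
        omega
    interval_cases ((insert a b) ∩ d).card <;> decide
  have hsum := Finset.sum_congr rfl hid
  rw [Finset.sum_add_distrib, Finset.sum_add_distrib, ← Finset.mul_sum, ← Finset.mul_sum] at hsum
  norm_num [Nat.choose] at h1 h2 h3
  omega

end Cfsg.Agent.Helper8
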