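import Cfsg.Agent.Lib.Helper8.Plane4Hyp
import Cfsg.Agent.Lib.Helper8.Plane4Iso
import Cfsg.Agent.Lib.Helper8.Steiner22
import Cfsg.Agent.S0351

set_option autoImplicit false
set_option linter.unusedSectionVars false

/-! The Steiner system S(3,6,22) as the one-point extension of the plane of order 4. -/

namespace Cfsg.Agent.Helper8

open Cfsg Finset

section sub

variable {α : Type*} [Fintype α] [DecidableEq α] (p : α)

/-- Restriction of a set of points to the points other than `p`. -/
def sub (b : Finset α) : Finset {a : α // a ≠ p} := Finset.subtype (fun a => a ≠ p) b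

theorem mem_sub {b : Finset α} {x : {a : α // a ≠ p}} : x ∈ sub p b ↔ (x : α) ∈ b :=
  Finset.mem_subtype

theorem card_sub_of_mem {b : Finset α} (h : p ∈ b) : (sub p b).card + 1 = b.card := by
  rw [sub, Finset.card_subtype, Finset.filter_ne', Finset.card_erase_of_mem h]
  have : 0 < b.card := card_pos.mpr ⟨p, h⟩
  omega

theorem card_sub_of_notMem {b : Finset α} (h : p ∉ b) : (sub p b).card = b.card := by
  rw [sub, Finset.card_subtype, Finset.filter_ne', Finset.erase_eq_of_notMem h]

theorem sub_inter (b c : Finset α) : sub p b ∩ sub p c = sub p (b ∩ c) := by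
  ext x
  simp only [mem_inter, mem_sub]

theorem sub_injective {b c : Finset α} (h : sub p b = sub p c) (hp : p ∈ b ↔ p ∈ c) : b = c := by
  ext a
  by_cases ha : a = p
  · rw [ha]; exact hp
  · have h1 : (⟨a, ha⟩ : {a : α // a ≠ p}) ∈ sub p b ↔ (⟨a, ha⟩ : {a : α // a ≠ p}) ∈ sub p c := by
      rw [h]
    rw [mem_sub, mem_sub] at h1
    exact h1

theorem card_subtype_ne (n : ℕ) (hα : Fintype.card α = n + 1) :
    Fintype.card {a : α // a ≠ p} = n := by
  rw [Fintype.card_subtype, Finset.filter_ne', Finset.card_erase_of_mem (mem_univ p), card_univ,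
    hα]
  rfl

end sub

section derived

variable {α : Type*} [Fintype α] [DecidableEq α] (hα : Fintype.card α = 22)
  {B : Set (Finset α)} (hB : IsSteinerSystem 3 6 B) (p : α)

/-- The lines of the derived plane at `p`. -/
def dLines (B : Set (Finset α)) (p : α) : Set (Finset {a : α // a ≠ p}) :=
  {l | ∃ b ∈ B, p ∈ b ∧ l = sub p b}

include hB in
theorem dLines_steiner : IsSteinerSystem 2 5 (dLines B p) :=
  Cfsg.Agent.S0351.result (t := 2) (k := 5) hB p

/-- The blocks off `p`, as point sets of the derived plane. -/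
noncomputable def dOvals (B : Set (Finset α)) (p : α) : Finset (Finset {a : α // a ≠ p}) :=
  ((blocksF B).filter (fun b => p ∉ b)).image (sub p)

theorem mem_dOvals {O : Finset {a : α // a ≠ p}} :
    O ∈ dOvals B p ↔ ∃ b ∈ B, p ∉ b ∧ sub p b = O := by
  simp only [dOvals, mem_image, mem_filter, mem_blocksF, and_assoc]

include hα hB in
theorem dOvals_arc {O : Finset {a : α // a ≠ p}} (hO : O ∈ dOvals B p) :
    O ∈ arcsF (dLines B p) 6 := by
  obtain ⟨b, hb, hpb, rfl⟩ := (mem_dOvals p).mp hO
  rw [mem_arcsF]
  refine ⟨by rw [card_sub_of_notMem p hpb, hB.1 b hb], ?_⟩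
  rintro l ⟨c, hc, hpc, rfl⟩
  have hcb : c ≠ b := by rintro rfl; exact hpb hpc
  rw [sub_inter, card_sub_of_notMem p (fun h => hpb (mem_inter.mp h).2)]
  rcases inter_3_6_22 hα hB hc hb hcb with h | h <;> omega

include hα hB in
theorem card_dOvals : (dOvals B p).card = 56 := by
  rw [dOvals, card_image_of_injOn]
  · have h21 := through_point_3_6_22 hα hB p
    have h77 := card_blocks_3_6_22 hα hB
    have := Finset.card_filter_add_card_filter_not (s := blocksF B) (fun b => p ∈ b)
    omega
  · intro b hb c hc hbc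
    have hb' := (mem_filter.mp hb).2
    have hc' := (mem_filter.mp hc).2
    exact sub_injective p hbc (by simp only [hb', hc'])

include hα hB in
theorem dOvals_inter {O O' : Finset {a : α // a ≠ p}} (hO : O ∈ dOvals B p)
    (hO' : O' ∈ dOvals B p) (hne : O ≠ O') : (O ∩ O').card = 0 ∨ (O ∩ O').card = 2 := by
  obtain ⟨b, hb, hpb, rfl⟩ := (mem_dOvals p).mp hO
  obtain ⟨c, hc, hpc, rfl⟩ := (mem_dOvals p).mp hO'
  have hbc : b ≠ c := by rintro rfl; exact hne rfl
  rw [sub_inter, card_sub_of_notMem p (fun h => hpb (mem_inter.mp h).1)]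
  exact inter_3_6_22 hα hB hb hc hbc

/-- The hyperovals meeting `O` evenly, together with `O`. -/
noncomputable def evenClass {γ : Type*} [Fintype γ] [DecidableEq γ] (L : Set (Finset γ))
    (O : Finset γ) : Finset (Finset γ) := by
  classical
  exact insert O ((arcsF L 6).filter (fun O' => (O ∩ O').card = 0 ∨ (O ∩ O').card = 2))

theorem mem_evenClass {γ : Type*} [Fintype γ] [DecidableEq γ] {L : Set (Finset γ)}
    {O O' : Finset γ} : O' ∈ evenClass L O ↔
      O' = O ∨ (O' ∈ arcsF L 6 ∧ ((O ∩ O').card = 0 ∨ (O ∩ O').card = 2)) := by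
  classical
  simp [evenClass]

theorem card_evenClass {γ : Type*} [Fintype γ] [DecidableEq γ] (hγ : Fintype.card γ = 21)
    {L : Set (Finset γ)} (hL : IsSteinerSystem 2 5 L) {O : Finset γ} (hO : O ∈ arcsF L 6) :
    (evenClass L O).card = 56 := by
  classical
  rw [evenClass, card_insert_of_notMem, card_even_hyperovals hγ hL hO]
  intro h
  have := (mem_filter.mp h).2
  rw [inter_self, (mem_arcsF.mp hO).1] at this
  omega

include hα hB in
/-- The blocks off `p` are exactly one even class of hyperovals of the derived plane. -/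
theorem dOvals_eq {O : Finset {a : α // a ≠ p}} (hO : O ∈ dOvals B p) :
    dOvals B p = evenClass (dLines B p) O := by
  have h21 : Fintype.card {a : α // a ≠ p} = 21 := card_subtype_ne p 21 hα
  apply eq_of_subset_of_card_le
  · intro O' hO'
    rw [mem_evenClass]
    by_cases h : O' = O
    · exact Or.inl h
    · exact Or.inr ⟨dOvals_arc hα hB p hO', dOvals_inter hα hB p hO hO' (Ne.symm h)⟩
  · rw [card_evenClass h21 (dLines_steiner hB p) (dOvals_arc hα hB p hO), card_dOvals hα hB p]

end derived

end Cfsg.Agent.Helper8
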