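import Cfsg.Agent.Lib.Helper8.Baer
import Cfsg.Agent.Lib.Helper8.Ext22
import Cfsg.Agent.S0410
import Cfsg.Agent.S5628
import Cfsg.Agent.S5626

set_option autoImplicit false
set_option linter.unusedSectionVars false

/-! The plane of order 4 with two classes of hyperovals and a class of Baer subplanes
(the doubly derived structure of S(4,7,23)): uniqueness up to isomorphism. -/

namespace Cfsg.Agent.Helper8

open Cfsg Finset

section general

variable {α β γ : Type*} [DecidableEq α] [DecidableEq β] [DecidableEq γ]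

theorem image_symm_image (t : α ≃ β) (S : Finset α) : (S.image t).image t.symm = S := by
  rw [image_image]
  simp

theorem image_trans' (e : α ≃ β) (e' : β ≃ γ) (S : Finset α) :
    S.image (e.trans e') = (S.image e).image e' := by
  rw [image_image]
  rfl

theorem iso_mem {L : Set (Finset α)} {L' : Set (Finset β)} (e : α ≃ β)
    (he : (fun b : Finset α => b.image e) '' L = L') {l : Finset α} (hl : l ∈ L) :
    l.image e ∈ L' := by
  rw [← he]; exact ⟨l, hl, rfl⟩

theorem iso_symm {L : Set (Finset α)} {L' : Set (Finset β)} (e : α ≃ β)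
    (he : (fun b : Finset α => b.image e) '' L = L') :
    (fun b : Finset β => b.image e.symm) '' L' = L := by
  ext l
  constructor
  · rintro ⟨l', hl', rfl⟩
    rw [← he] at hl'
    obtain ⟨l0, hl0, rfl⟩ := hl'
    show (l0.image e).image e.symm ∈ L
    rw [image_symm_image]
    exact hl0
  · intro hl
    refine ⟨l.image e, iso_mem e he hl, ?_⟩
    show (l.image e).image e.symm = l
    rw [image_symm_image]

theorem iso_trans {L : Set (Finset α)} {L' : Set (Finset β)} {L'' : Set (Finset γ)}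
    (e : α ≃ β) (e' : β ≃ γ) (he : (fun b : Finset α => b.image e) '' L = L')
    (he' : (fun b : Finset β => b.image e') '' L' = L'') :
    (fun b : Finset α => b.image (e.trans e')) '' L = L'' := by
  rw [← he', ← he, Set.image_image]
  congr 1
  ext1 b
  exact image_trans' e e' b

theorem exists_fixed_of_invol {W : Finset α} (hW : W.card = 3) (t : α → α)
    (hinv : ∀ x, t (t x) = x) (hmaps : ∀ x ∈ W, t x ∈ W) : ∃ x ∈ W, t x = x := by
  by_contra hno
  have hno' : ∀ x ∈ W, t x ≠ x := fun x hx h => hno ⟨x, hx, h⟩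
  obtain ⟨w1, w2, w3, h12, h13, h23, rfl⟩ := card_eq_three.mp hW
  have hinj : Function.Injective t := fun x y h => by rw [← hinv x, ← hinv y, h]
  have m1 : w1 ∈ ({w1, w2, w3} : Finset α) := by simp
  have m2 : w2 ∈ ({w1, w2, w3} : Finset α) := by simp
  have m3 : w3 ∈ ({w1, w2, w3} : Finset α) := by simp
  have e1 := hmaps w1 m1
  have e2 := hmaps w2 m2
  have e3 := hmaps w3 m3
  simp only [mem_insert, mem_singleton] at e1 e2 e3
  have n1 := hno' w1 m1
  have n2 := hno' w2 m2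
  have n3 := hno' w3 m3
  rcases e1 with e1 | e1 | e1
  · exact n1 e1
  · have h21 : t w2 = w1 := by rw [← e1, hinv]
    rcases e3 with e3 | e3 | e3
    · exact h23 (hinj (h21.trans e3.symm))
    · exact h13 (hinj (e1.trans e3.symm))
    · exact n3 e3
  · have h31 : t w3 = w1 := by rw [← e1, hinv]
    rcases e2 with e2 | e2 | e2
    · exact h23 (hinj (e2.trans h31.symm))
    · exact n2 e2
    · exact h12 (hinj (e1.trans e2.symm))

theorem swap_mem {O : Finset α} {a b : α} (ha : a ∈ O) (hb : b ∈ O) :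
    ∀ x ∈ O, Equiv.swap a b x ∈ O := by
  intro x hx
  by_cases h1 : x = a
  · rw [h1, Equiv.swap_apply_left]; exact hb
  by_cases h2 : x = b
  · rw [h2, Equiv.swap_apply_right]; exact ha
  rw [Equiv.swap_apply_of_ne_of_ne h1 h2]; exact hx

end general

section swap

variable {α : Type*} [Fintype α] [DecidableEq α]
variable (hα : Fintype.card α = 21) {L : Set (Finset α)} (hL : IsSteinerSystem 2 5 L)

include hα hL in
/-- Two distinct hyperovals share at most three points. -/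
theorem hyperoval_inter_le_three {A B : Finset α} (hA : A ∈ arcsF L 6) (hB : B ∈ arcsF L 6)
    (hAB : A ≠ B) : (A ∩ B).card ≤ 3 := by
  by_contra h
  rw [not_le] at h
  obtain ⟨F, hF, hF4⟩ := exists_subset_card_eq (show 4 ≤ (A ∩ B).card by omega)
  have hFA : F ⊆ A := hF.trans inter_subset_left
  have hFB : F ⊆ B := hF.trans inter_subset_right
  have hFarc : Arc L F := (mem_arcsF.mp hA).2.mono hFA
  have h1 := (card_hyperovals_above hα hL hFarc).1 hF4
  have hAm : A ∈ arcsAbove L F 6 := mem_arcsAbove.mpr ⟨mem_arcsF.mp hA, hFA⟩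
  have hBm : B ∈ arcsAbove L F 6 := mem_arcsAbove.mpr ⟨mem_arcsF.mp hB, hFB⟩
  exact hAB (card_le_one.mp h1.le A hAm B hBm)

include hα hL in
theorem eq_of_three_above {T : Finset α} (hT : T.card = 3) {A B C W : Finset α}
    (hA : A ∈ arcsF L 6) (hB : B ∈ arcsF L 6) (hC : C ∈ arcsF L 6) (hW : W ∈ arcsF L 6)
    (hTA : T ⊆ A) (hTB : T ⊆ B) (hTC : T ⊆ C) (hTW : T ⊆ W) (hAB : A ≠ B) (hAC : A ≠ C)
    (hBC : B ≠ C) (hWA : W ≠ A) (hWB : W ≠ B) : W = C := by
  have hTarc : Arc L T := (mem_arcsF.mp hA).2.mono hTA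
  have h3 := (card_hyperovals_above hα hL hTarc).2.1 hT
  have hsub : ({A, B, C} : Finset (Finset α)) ⊆ arcsAbove L T 6 := by
    intro X hX
    simp only [mem_insert, mem_singleton] at hX
    rcases hX with rfl | rfl | rfl
    · exact mem_arcsAbove.mpr ⟨mem_arcsF.mp hA, hTA⟩
    · exact mem_arcsAbove.mpr ⟨mem_arcsF.mp hB, hTB⟩
    · exact mem_arcsAbove.mpr ⟨mem_arcsF.mp hC, hTC⟩
  have hc : ({A, B, C} : Finset (Finset α)).card = 3 :=
    card_eq_three.mpr ⟨A, B, C, hAB, hAC, hBC, rfl⟩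
  have heq : ({A, B, C} : Finset (Finset α)) = arcsAbove L T 6 :=
    eq_of_subset_of_card_le hsub (by rw [h3, hc])
  have hWm : W ∈ arcsAbove L T 6 := mem_arcsAbove.mpr ⟨mem_arcsF.mp hW, hTW⟩
  rw [← heq] at hWm
  simp only [mem_insert, mem_singleton] at hWm
  rcases hWm with h | h | h
  · exact absurd h hWA
  · exact absurd h hWB
  · exact h

variable {O : Finset α} (hO : O ∈ arcsF L 6) {a b : α} (ha : a ∈ O) (hb : b ∈ O)

include hα hL hO ha hb in
/-- The collineation inducing a transposition on a hyperoval. -/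
theorem exists_swapAut :
    ∃ t : α ≃ α, (∀ x ∈ O, t x = Equiv.swap a b x) ∧
      (fun l : Finset α => l.image t) '' L = L := by
  have hf : O.image (Equiv.swap a b) = O := by
    apply eq_of_subset_of_card_le
    · intro y hy
      obtain ⟨x, hx, rfl⟩ := mem_image.mp hy
      exact swap_mem ha hb x hx
    · rw [card_image_of_injective _ (Equiv.swap a b).injective]
  exact exists_iso_extending hα hα hL hL hO hO (Equiv.swap a b) hf

variable (t : α ≃ α) (ht : ∀ x ∈ O, t x = Equiv.swap a b x)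
  (htL : (fun l : Finset α => l.image t) '' L = L)

include hα hL hO ha hb ht htL in
theorem swapAut_invol (x : α) : t (t x) = x := by
  have h := Cfsg.Agent.S5628.rigid hα hL hO (t.trans t) ?_ ?_ x
  · exact h
  · intro l hl
    rw [image_trans']
    exact iso_mem t htL (iso_mem t htL hl)
  · intro y hy
    rw [Equiv.trans_apply, ht y hy, ht _ (swap_mem ha hb y hy), Equiv.swap_apply_self]

include ha hb ht in
theorem swapAut_image_self : O.image t = O := by
  apply eq_of_subset_of_card_le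
  · intro y hy
    obtain ⟨x, hx, rfl⟩ := mem_image.mp hy
    rw [ht x hx]
    exact swap_mem ha hb x hx
  · rw [card_image_of_injective _ t.injective]

include hα hL hO ha hb ht htL in
/-- The transposition collineation moves every hyperoval that meets `O` in three points, none of
them swapped. -/
theorem swapAut_moves {O2 : Finset α} (hO2 : O2 ∈ arcsF L 6) (h3 : (O ∩ O2).card = 3)
    (ha2 : a ∉ O2) (hb2 : b ∉ O2) (hab : a ≠ b) : O2.image t ≠ O2 := by
  intro heq
  obtain ⟨hO1c, hO1a⟩ := mem_arcsF.mp hO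
  obtain ⟨hO2c, hO2a⟩ := mem_arcsF.mp hO2
  have hinv := swapAut_invol hα hL hO ha hb t ht htL
  have htO1 : ∀ x, x ∈ O → t x ∈ O := fun x hx => by
    rw [ht x hx]; exact swap_mem ha hb x hx
  have htO1' : ∀ x, t x ∈ O → x ∈ O := by
    intro x hx
    have := htO1 _ hx
    rwa [hinv] at this
  have htO2 : ∀ x, x ∈ O2 → t x ∈ O2 := fun x hx => by
    rw [← heq]; exact mem_image_of_mem _ hx
  have hfixT : ∀ x, x ∈ O → x ∈ O2 → t x = x := by
    intro x h1 h2
    rw [ht x h1, Equiv.swap_apply_of_ne_of_ne]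
    · rintro rfl; exact ha2 h2
    · rintro rfl; exact hb2 h2
  have hfix_ne : ∀ y, y ∈ O → t y = y → y ≠ a ∧ y ≠ b := by
    intro y hy hty
    constructor
    · rintro rfl
      rw [ht _ ha, Equiv.swap_apply_left] at hty
      exact hab hty.symm
    · rintro rfl
      rw [ht _ hb, Equiv.swap_apply_right] at hty
      exact hab hty
  have hW : (O2 \ O).card = 3 := by
    have := card_sdiff_add_card_inter O2 O
    rw [inter_comm, h3, hO2c] at this
    omega
  have hWmaps : ∀ x ∈ O2 \ O, t x ∈ O2 \ O := by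
    intro x hx
    rw [mem_sdiff] at hx ⊢
    exact ⟨htO2 x hx.1, fun h => hx.2 (htO1' x h)⟩
  obtain ⟨x, hxW, htx⟩ := exists_fixed_of_invol hW (fun x => t x) hinv hWmaps
  obtain ⟨hx2, hx1⟩ := mem_sdiff.mp hxW
  have hrest : ∀ y1 y2, y1 ∈ O → y1 ∉ O2 → y1 ≠ a → y1 ≠ b → y2 ∈ O → y2 ∉ O2 → y2 ≠ a →
      y2 ≠ b → y1 = y2 := by
    have h3' : (O \ O2).card = 3 := by
      have := card_sdiff_add_card_inter O O2
      rw [h3, hO1c] at this
      omega
    have hc : (((O \ O2).erase a).erase b).card = 1 := by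
      rw [card_erase_of_mem, card_erase_of_mem, h3']
      · exact mem_sdiff.mpr ⟨ha, ha2⟩
      · exact mem_erase.mpr ⟨hab.symm, mem_sdiff.mpr ⟨hb, hb2⟩⟩
    intro y1 y2 h1 h2 h3 h4 h5 h6 h7 h8
    apply card_le_one.mp hc.le
    · exact mem_erase.mpr ⟨h4, mem_erase.mpr ⟨h3, mem_sdiff.mpr ⟨h1, h2⟩⟩⟩
    · exact mem_erase.mpr ⟨h8, mem_erase.mpr ⟨h7, mem_sdiff.mpr ⟨h5, h6⟩⟩⟩
  have key : ∀ c, c ∈ O → c ∈ O2 →
      ∃ y, y ∈ O ∧ y ∉ O2 ∧ y ≠ a ∧ y ≠ b ∧ y ∈ lineOf L {x, c} := by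
    intro c hc1 hc2
    have hxc : x ≠ c := by rintro rfl; exact hx1 hc1
    obtain ⟨hm, hxm, hcm⟩ := join_spec hL hxc
    have h2 : (lineOf L {x, c} ∩ O).card = 2 := by
      rcases hyperoval_inter hα hL hO hm with h | h
      · exact absurd (card_eq_zero.mp h) (ne_empty_of_mem (mem_inter.mpr ⟨hcm, hc1⟩))
      · exact h
    obtain ⟨y, hy, hyc⟩ :=
      exists_mem_ne (by rw [h2]; norm_num : 1 < (lineOf L {x, c} ∩ O).card) c
    obtain ⟨hym, hy1⟩ := mem_inter.mp hy
    have htm : (lineOf L {x, c}).image t = lineOf L {x, c} := by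
      apply line_eq_of_two hL (iso_mem t htL hm) hm hxc
      · rw [mem_image]; exact ⟨x, hxm, htx⟩
      · rw [mem_image]; exact ⟨c, hcm, hfixT c hc1 hc2⟩
      · exact hxm
      · exact hcm
    have hty_mem : t y ∈ lineOf L {x, c} ∩ O := by
      rw [mem_inter]
      refine ⟨?_, htO1 y hy1⟩
      rw [← htm]; exact mem_image_of_mem _ hym
    have hty : t y = y := by
      by_contra hne
      have htyc : t y ≠ c := by
        intro h
        have : t y = t c := by rw [h, hfixT c hc1 hc2]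
        exact hyc (t.injective this)
      have hsub : ({c, y, t y} : Finset α) ⊆ lineOf L {x, c} ∩ O := by
        intro w hw
        simp only [mem_insert, mem_singleton] at hw
        rcases hw with rfl | rfl | rfl
        · exact mem_inter.mpr ⟨hcm, hc1⟩
        · exact hy
        · exact hty_mem
      have h3' : ({c, y, t y} : Finset α).card = 3 :=
        card_eq_three.mpr ⟨c, y, t y, hyc.symm, htyc.symm, fun h => hne h.symm, rfl⟩
      have := card_le_card hsub
      omega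
    obtain ⟨hya, hyb⟩ := hfix_ne y hy1 hty
    refine ⟨y, hy1, ?_, hya, hyb, hym⟩
    intro hy2
    have hxy : x ≠ y := by rintro rfl; exact hx1 hy1
    have hsub : ({x, c, y} : Finset α) ⊆ lineOf L {x, c} ∩ O2 := by
      intro w hw
      simp only [mem_insert, mem_singleton] at hw
      rcases hw with rfl | rfl | rfl
      · exact mem_inter.mpr ⟨hxm, hx2⟩
      · exact mem_inter.mpr ⟨hcm, hc2⟩
      · exact mem_inter.mpr ⟨hym, hy2⟩
    have h3' : ({x, c, y} : Finset α).card = 3 :=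
      card_eq_three.mpr ⟨x, c, y, hxc, hxy, hyc.symm, rfl⟩
    have := (card_le_card hsub).trans (hO2a _ hm)
    omega
  obtain ⟨c1, hc1, c2, hc2, hc12⟩ := one_lt_card.mp (by rw [h3]; norm_num : 1 < (O ∩ O2).card)
  obtain ⟨hc1O, hc1O2⟩ := mem_inter.mp hc1
  obtain ⟨hc2O, hc2O2⟩ := mem_inter.mp hc2
  obtain ⟨y1, hy1O, hy1O2, hy1a, hy1b, hy1m⟩ := key c1 hc1O hc1O2
  obtain ⟨y2, hy2O, hy2O2, hy2a, hy2b, hy2m⟩ := key c2 hc2O hc2O2
  have hy : y1 = y2 := hrest y1 y2 hy1O hy1O2 hy1a hy1b hy2O hy2O2 hy2a hy2b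
  subst hy
  have hxy : x ≠ y1 := by rintro rfl; exact hx1 hy1O
  have hxc1 : x ≠ c1 := by rintro rfl; exact hx1 hc1O
  have hxc2 : x ≠ c2 := by rintro rfl; exact hx1 hc2O
  obtain ⟨hm1, hxm1, hcm1⟩ := join_spec hL hxc1
  obtain ⟨hm2, hxm2, hcm2⟩ := join_spec hL hxc2
  have hmm : lineOf L {x, c1} = lineOf L {x, c2} :=
    line_eq_of_two hL hm1 hm2 hxy hxm1 hy1m hxm2 hy2m
  rw [← hmm] at hcm2
  have hsub : ({c1, c2, y1} : Finset α) ⊆ lineOf L {x, c1} ∩ O := by
    intro w hw
    simp only [mem_insert, mem_singleton] at hw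
    rcases hw with rfl | rfl | rfl
    · exact mem_inter.mpr ⟨hcm1, hc1O⟩
    · exact mem_inter.mpr ⟨hcm2, hc2O⟩
    · exact mem_inter.mpr ⟨hy1m, hy1O⟩
  have h3' : ({c1, c2, y1} : Finset α).card = 3 :=
    card_eq_three.mpr ⟨c1, c2, y1, hc12, fun h => hy1O2 (h ▸ hc1O2), fun h => hy1O2 (h ▸ hc2O2),
      rfl⟩
  have := (card_le_card hsub).trans (hO1a _ hm1)
  omega

end swap


section two

variable {α β : Type*} [Fintype α] [DecidableEq α] [Fintype β] [DecidableEq β]
variable (hα : Fintype.card α = 21) (hβ : Fintype.card β = 21) {L : Set (Finset α)}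
  {L' : Set (Finset β)} (hL : IsSteinerSystem 2 5 L) (hL' : IsSteinerSystem 2 5 L')

include hα hβ hL hL' in
/-- Adjusting a collineation by a transposition so that a second pair of hyperovals
corresponds. -/
theorem exists_iso_two_ovals {O1 O2 : Finset α} (hO1 : O1 ∈ arcsF L 6) (hO2 : O2 ∈ arcsF L 6)
    (h3 : (O1 ∩ O2).card = 3) {O1' O2' : Finset β} (hO1' : O1' ∈ arcsF L' 6)
    (hO2' : O2' ∈ arcsF L' 6) (e₀ : α ≃ β)
    (he₀ : (fun b : Finset α => b.image e₀) '' L = L') (he₀O : O1.image e₀ = O1')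
    (hT : (O1 ∩ O2).image e₀ ⊆ O2') (hne : O2' ≠ O1') :
    ∃ e : α ≃ β, (fun b : Finset α => b.image e) '' L = L' ∧ O1.image e = O1' ∧
      O2.image e = O2' := by
  have hR : O2.image e₀ ∈ arcsF L' 6 := Cfsg.Agent.S0410.image_arc e₀ he₀ hO2
  by_cases hR2 : O2.image e₀ = O2'
  · exact ⟨e₀, he₀, he₀O, hR2⟩
  have hTc : ((O1 ∩ O2).image e₀).card = 3 := by
    rw [card_image_of_injective _ e₀.injective, h3]
  have hT1 : (O1 ∩ O2).image e₀ ⊆ O1' := by
    rw [← he₀O]; exact image_subset_image inter_subset_left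
  have hTR : (O1 ∩ O2).image e₀ ⊆ O2.image e₀ := image_subset_image inter_subset_right
  have hle := hyperoval_inter_le_three hβ hL' hO1' hO2' (Ne.symm hne)
  have hTeq : (O1 ∩ O2).image e₀ = O1' ∩ O2' :=
    eq_of_subset_of_card_le (subset_inter hT1 hT) (by rw [hTc]; exact hle)
  have h3' : (O1' ∩ O2').card = 3 := by rw [← hTeq, hTc]
  obtain ⟨hO1c', -⟩ := mem_arcsF.mp hO1'
  have hd : (O1' \ O2').card = 3 := by
    have := card_sdiff_add_card_inter O1' O2'
    rw [h3', hO1c'] at this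
    omega
  obtain ⟨a, ha, b, hb, hab⟩ := one_lt_card.mp (by rw [hd]; norm_num : 1 < (O1' \ O2').card)
  obtain ⟨ha1, ha2⟩ := mem_sdiff.mp ha
  obtain ⟨hb1, hb2⟩ := mem_sdiff.mp hb
  obtain ⟨t, ht, htL⟩ := exists_swapAut hβ hL' hO1' ha1 hb1
  have hmoves := swapAut_moves hβ hL' hO1' ha1 hb1 t ht htL hO2' h3' ha2 hb2 hab
  have hW : O2'.image t ∈ arcsF L' 6 := Cfsg.Agent.S0410.image_arc t htL hO2'
  have hself := swapAut_image_self (O := O1') ha1 hb1 t ht
  have hTW : (O1 ∩ O2).image e₀ ⊆ O2'.image t := by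
    intro x hx
    have hx1 := hT1 hx
    have hx2 := hT hx
    have : t x = x := by
      rw [ht x hx1, Equiv.swap_apply_of_ne_of_ne]
      · rintro rfl; exact ha2 hx2
      · rintro rfl; exact hb2 hx2
    rw [mem_image]
    exact ⟨x, hx2, this⟩
  have hW1 : O2'.image t ≠ O1' := by
    intro h
    rw [← hself] at h
    exact hne (Finset.image_injective t.injective h)
  have hR1 : O1' ≠ O2.image e₀ := by
    intro h
    rw [← he₀O] at h
    have h12 : O1 = O2 := Finset.image_injective e₀.injective h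
    rw [h12, inter_self, (mem_arcsF.mp hO2).1] at h3
    omega
  have hWR : O2'.image t = O2.image e₀ :=
    eq_of_three_above hβ hL' hTc hO1' hO2' hR hW hT1 hT hTR hTW (Ne.symm hne) hR1
      (Ne.symm hR2) hW1 hmoves
  refine ⟨e₀.trans t.symm, iso_trans e₀ t.symm he₀ (iso_symm t htL), ?_, ?_⟩
  · rw [image_trans', he₀O]
    conv_lhs => rw [← hself]
    exact image_symm_image t O1'
  · rw [image_trans', ← hWR]
    exact image_symm_image t O2'

end two

/-- The doubly derived structure of an S(4,7,23): a plane of order 4 with two classes of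
hyperovals and a family of Baer sets. -/
structure W23Plane {γ : Type*} [Fintype γ] [DecidableEq γ] (L : Set (Finset γ))
    (H1 H2 Bs : Finset (Finset γ)) : Prop where
  lines : IsSteinerSystem 2 5 L
  ne1 : H1.Nonempty
  h1 : ∀ O ∈ H1, O ∈ arcsF L 6 ∧ H1 = evenClass L O
  h2 : ∀ O ∈ H2, O ∈ arcsF L 6 ∧ H2 = evenClass L O
  h12 : ∀ O1 ∈ H1, ∀ T, T ⊆ O1 → T.card = 3 → ∃ O2 ∈ H2, T ⊆ O2
  odd : ∀ O1 ∈ H1, ∀ O2 ∈ H2, (O1 ∩ O2).card ≤ 3
  baer : ∀ b ∈ Bs, IsBaer L b
  small : ∀ b ∈ Bs, ∀ O, (O ∈ H1 ∨ O ∈ H2) → (O ∩ b).card ≤ 3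
  cover : ∀ F : Finset γ, F.card = 4 → (∀ l ∈ L, ¬ F ⊆ l) → (∀ O ∈ H1, ¬ F ⊆ O) →
    (∀ O ∈ H2, ¬ F ⊆ O) → ∃ b ∈ Bs, F ⊆ b

section main

variable {γ δ : Type*} [Fintype γ] [DecidableEq γ] [Fintype δ] [DecidableEq δ]
variable (hγ : Fintype.card γ = 21) (hδ : Fintype.card δ = 21) {L : Set (Finset γ)}
  {L' : Set (Finset δ)} {H1 H2 Bs : Finset (Finset γ)} {H1' H2' Bs' : Finset (Finset δ)}

include hγ hδ in
theorem W23Plane.exists_iso (P : W23Plane L H1 H2 Bs) (P' : W23Plane L' H1' H2' Bs') :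
    ∃ e : γ ≃ δ, (fun b : Finset γ => b.image e) '' L = L' ∧
      H1.image (fun b => b.image e) = H1' ∧ H2.image (fun b => b.image e) = H2' ∧
      ∀ b ∈ Bs, b.image e ∈ Bs' := by
  have hL := P.lines
  have hL' := P'.lines
  obtain ⟨O1, hO1⟩ := P.ne1
  obtain ⟨O1', hO1'⟩ := P'.ne1
  obtain ⟨hO1a, hH1⟩ := P.h1 O1 hO1
  obtain ⟨hO1a', hH1'⟩ := P'.h1 O1' hO1'
  obtain ⟨hO1c, -⟩ := mem_arcsF.mp hO1a
  obtain ⟨hO1c', -⟩ := mem_arcsF.mp hO1a'
  obtain ⟨T, hT, hTc⟩ := exists_subset_card_eq (show 3 ≤ O1.card by omega)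
  obtain ⟨O2, hO2, hTO2⟩ := P.h12 O1 hO1 T hT hTc
  obtain ⟨hO2a, hH2⟩ := P.h2 O2 hO2
  have h3 : (O1 ∩ O2).card = 3 := by
    have h1 := P.odd O1 hO1 O2 hO2
    have h2 := card_le_card (subset_inter hT hTO2)
    omega
  obtain ⟨f, hf⟩ := Cfsg.Agent.S5626.exists_equiv_image_eq (hγ.trans hδ.symm) O1 O1'
    (hO1c.trans hO1c'.symm)
  obtain ⟨e₀, he₀O, he₀L⟩ := exists_iso_extending hγ hδ hL hL' hO1a hO1a' f hf
  have himO : O1.image e₀ = O1' := by
    rw [← hf]
    apply image_congr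
    intro a ha
    exact he₀O a ha
  have hT'1 : (O1 ∩ O2).image e₀ ⊆ O1' := by
    rw [← himO]; exact image_subset_image inter_subset_left
  obtain ⟨O2', hO2', hTO2'⟩ := P'.h12 O1' hO1' _ hT'1
    (by rw [card_image_of_injective _ e₀.injective, h3])
  obtain ⟨hO2a', hH2'⟩ := P'.h2 O2' hO2'
  have hne' : O2' ≠ O1' := by
    intro h
    have := P'.odd O1' hO1' O2' hO2'
    rw [h, inter_self, hO1c'] at this
    omega
  obtain ⟨e, heL, heO1, heO2⟩ := exists_iso_two_ovals hγ hδ hL hL' hO1a hO2a h3 hO1a' hO2a' e₀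
    he₀L himO hTO2' hne'
  have hc1 : H1.image (fun b => b.image e) = H1' := by
    rw [hH1, hH1', Cfsg.Agent.S0410.image_evenClass hγ hδ hL hL' e heL hO1a, heO1]
  have hc2 : H2.image (fun b => b.image e) = H2' := by
    rw [hH2, hH2', Cfsg.Agent.S0410.image_evenClass hγ hδ hL hL' e heL hO2a, heO2]
  refine ⟨e, heL, hc1, hc2, ?_⟩
  intro b hb
  have hbB := P.baer b hb
  have hS' : IsBaer L' (b.image e) := by
    refine ⟨by rw [card_image_of_injective _ e.injective, hbB.1], ?_⟩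
    intro l' hl'
    rw [← heL] at hl'
    obtain ⟨l, hl, rfl⟩ := hl'
    show (l.image e ∩ b.image e).card = 1 ∨ (l.image e ∩ b.image e).card = 3
    rw [← image_inter _ _ e.injective, card_image_of_injective _ e.injective]
    exact hbB.2 l hl
  obtain ⟨F, hFS, hF4, hFarc⟩ := hS'.exists_quadrangle hδ hL'
  have hsmall : ∀ (H : Finset (Finset γ)) (H' : Finset (Finset δ)),
      H.image (fun b => b.image e) = H' → (∀ O ∈ H, (O ∩ b).card ≤ 3) →
      ∀ O' ∈ H', ¬ F ⊆ O' := by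
    intro H H' hHH' hsm O' hO' hFO'
    rw [← hHH'] at hO'
    obtain ⟨O, hO, rfl⟩ := mem_image.mp hO'
    have h1 : F ⊆ O.image e ∩ b.image e := subset_inter hFO' hFS
    rw [← image_inter _ _ e.injective] at h1
    have h2 := card_le_card h1
    rw [card_image_of_injective _ e.injective, hF4] at h2
    have := hsm O hO
    omega
  obtain ⟨b', hb', hFb'⟩ := P'.cover F hF4
    (by
      intro l' hl' hFl'
      have h1 : F ⊆ l' ∩ F := subset_inter hFl' (Subset.refl F)
      have := (card_le_card h1).trans (hFarc l' hl')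
      omega)
    (hsmall H1 H1' hc1 (fun O hO => P.small b hb O (Or.inl hO)))
    (hsmall H2 H2' hc2 (fun O hO => P.small b hb O (Or.inr hO)))
  rw [hS'.eq_of_quadrangle hδ hL' (P'.baer b' hb') hFS hFb' hF4 hFarc]
  exact hb'

end main

end Cfsg.Agent.Helper8
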