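import Cfsg.Agent.S5628
import Cfsg.Agent.Lib.Helper8.Ext23

set_option autoImplicit false
set_option linter.unusedSectionVars false

/-! Transport of automorphism groups of set systems along isomorphisms. -/

open scoped Pointwise

namespace Cfsg.Agent.Helper8

open Cfsg Finset

variable {α β : Type*} [Fintype α] [DecidableEq α] [Fintype β] [DecidableEq β]

theorem permCongr_mem (e : α ≃ β) {B : Set (Finset α)} {B' : Set (Finset β)}
    (he : (fun b : Finset α => b.image e) '' B = B') {g : Equiv.Perm α}
    (hg : g ∈ setSystemAut B) : e.permCongr g ∈ setSystemAut B' := by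
  rw [Cfsg.Agent.S5628.mem_aut_iff] at hg ⊢
  intro l' hl'
  rw [← he] at hl'
  obtain ⟨l, hl, rfl⟩ := hl'
  have : (l.image e).image (e.permCongr g) = (l.image g).image e := by
    rw [image_image, image_image]
    apply image_congr
    intro a _
    simp [Equiv.permCongr_apply]
  show (l.image e).image (e.permCongr g) ∈ B'
  rw [this]
  exact iso_mem e he (hg l hl)

/-- The automorphism groups of isomorphic set systems are isomorphic. -/
noncomputable def autCongr (e : α ≃ β) {B : Set (Finset α)} {B' : Set (Finset β)}
    (he : (fun b : Finset α => b.image e) '' B = B') : setSystemAut B ≃* setSystemAut B' where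
  toFun g := ⟨e.permCongr g.1, permCongr_mem e he g.2⟩
  invFun g := ⟨e.symm.permCongr g.1, permCongr_mem e.symm (iso_symm e he) g.2⟩
  left_inv g := by
    apply Subtype.ext
    ext a
    simp [Equiv.permCongr_apply]
  right_inv g := by
    apply Subtype.ext
    ext a
    simp [Equiv.permCongr_apply]
  map_mul' g h := by
    apply Subtype.ext
    exact e.permCongr_mul g.1 h.1

theorem autCongr_apply (e : α ≃ β) {B : Set (Finset α)} {B' : Set (Finset β)}
    (he : (fun b : Finset α => b.image e) '' B = B') (g : setSystemAut B) (a : α) :
    ((autCongr e he g : setSystemAut B') : Equiv.Perm β) (e a) = e ((g : Equiv.Perm α) a) := by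
  simp [autCongr, Equiv.permCongr_apply]

theorem autCongr_symm_apply (e : α ≃ β) {B : Set (Finset α)} {B' : Set (Finset β)}
    (he : (fun b : Finset α => b.image e) '' B = B') (g : setSystemAut B') (a : α) :
    (((autCongr e he).symm g : setSystemAut B) : Equiv.Perm α) a =
      e.symm ((g : Equiv.Perm β) (e a)) := by
  simp [autCongr, Equiv.permCongr_apply]

/-- Multiple transitivity transfers along an isomorphism of set systems. -/
theorem pretransitive_of_iso (e : α ≃ β) {B : Set (Finset α)} {B' : Set (Finset β)}
    (he : (fun b : Finset α => b.image e) '' B = B') (n : ℕ)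
    (h : MulAction.IsMultiplyPretransitive (setSystemAut B') β n) :
    MulAction.IsMultiplyPretransitive (setSystemAut B) α n := by
  rw [MulAction.isMultiplyPretransitive_iff] at h ⊢
  intro x y
  obtain ⟨g', hg'⟩ := h (x.trans e.toEmbedding) (y.trans e.toEmbedding)
  refine ⟨(autCongr e he).symm g', ?_⟩
  ext i
  have h1 := DFunLike.congr_fun hg' i
  simp only [Function.Embedding.smul_apply, Function.Embedding.trans_apply,
    Equiv.coe_toEmbedding] at h1
  rw [Function.Embedding.smul_apply]
  show (((autCongr e he).symm g' : setSystemAut B) : Equiv.Perm α) (x i) = y i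
  rw [autCongr_symm_apply]
  have h2 : (g' : Equiv.Perm β) (e (x i)) = e (y i) := h1
  rw [h2, Equiv.symm_apply_apply]

end Cfsg.Agent.Helper8
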