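import Mathlib

set_option autoImplicit false
set_option linter.unusedSectionVars false
set_option linter.unusedVariables false

/-! Verified base-and-strong-generating-set steps, a maximality criterion from double cosets, and
Iwasawa's criterion relative to a maximal subgroup. -/

open scoped Pointwise commutatorElement

namespace Cfsg.Agent.Helper8.BSGS

variable {Γ : Type*} [Group Γ]

/-- A finite set stable under left multiplication by `x` is stable under `x⁻¹`. -/
theorem inv_mul_mem_of_finite {T : Set Γ} (hT : T.Finite) {x : Γ} (hx : ∀ t ∈ T, x * t ∈ T)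
    {t : Γ} (ht : t ∈ T) : x⁻¹ * t ∈ T := by
  have hinj : Set.InjOn (fun t => x * t) T := fun a _ b _ h => mul_left_cancel h
  have hmaps : Set.MapsTo (fun t => x * t) T T := hx
  have hbij := (hT.injOn_iff_bijOn_of_mapsTo hmaps).mp hinj
  obtain ⟨s, hs, hst⟩ := hbij.surjOn ht
  have : x⁻¹ * t = s := by rw [← hst]; simp
  rw [this]; exact hs

/-- A finite set containing `1` and stable under left multiplication by the generators contains the
generated subgroup. -/
theorem closure_subset_of_left_closed (S T : Set Γ) (hT : T.Finite) (h1 : (1 : Γ) ∈ T)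
    (hS : ∀ s ∈ S, ∀ t ∈ T, s * t ∈ T) : ((Subgroup.closure S : Subgroup Γ) : Set Γ) ⊆ T := by
  have key : ∀ x ∈ Subgroup.closure S, ∀ t ∈ T, x * t ∈ T := by
    intro x hx
    induction hx using Subgroup.closure_induction with
    | mem x hx => exact hS x hx
    | one => intro t ht; simpa using ht
    | mul x y _ _ ihx ihy =>
      intro t ht
      rw [mul_assoc]; exact ihx _ (ihy t ht)
    | inv x _ ih =>
      intro t ht
      exact inv_mul_mem_of_finite hT ih ht
  intro x hx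
  have := key x hx 1 h1
  simpa using this

/-- One level of a verified stabiliser chain. -/
theorem level (H K P : Subgroup Γ) (S : Set Γ) (hH : H = Subgroup.closure S) (hKH : K ≤ H)
    (hKP : K ≤ P) [Finite K] (U : Finset Γ) (h1 : (1 : Γ) ∈ U) (hUH : ∀ u ∈ U, u ∈ H)
    (hinj : ∀ u ∈ U, ∀ u' ∈ U, u⁻¹ * u' ∈ P → u = u')
    (hcl : ∀ s ∈ S, ∀ u ∈ U, ∃ u' ∈ U, u'⁻¹ * (s * u) ∈ K) :
    Nat.card H = U.card * Nat.card K ∧ H ⊓ P = K ∧ ∀ h ∈ H, ∃ u ∈ U, u⁻¹ * h ∈ K := by
  classical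
  have hcover : ∀ h ∈ H, ∃ u ∈ U, u⁻¹ * h ∈ K := by
    let T : Set Γ := {x | ∃ u ∈ U, u⁻¹ * x ∈ K}
    have hTfin : T.Finite := by
      have : T ⊆ (fun p : Γ × Γ => p.1 * p.2) '' ((U : Set Γ) ×ˢ (K : Set Γ)) := by
        rintro x ⟨u, hu, hk⟩
        exact ⟨(u, u⁻¹ * x), ⟨hu, hk⟩, by simp⟩
      exact Set.Finite.subset (Set.Finite.image _ (Set.Finite.prod U.finite_toSet
        (Set.toFinite _))) this
    have h1T : (1 : Γ) ∈ T := ⟨1, h1, by simp⟩
    have hcl' : ∀ s ∈ S, ∀ t ∈ T, s * t ∈ T := by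
      rintro s hs t ⟨u, hu, hk⟩
      obtain ⟨u', hu', hk'⟩ := hcl s hs u hu
      refine ⟨u', hu', ?_⟩
      have : u'⁻¹ * (s * t) = (u'⁻¹ * (s * u)) * (u⁻¹ * t) := by group
      rw [this]; exact K.mul_mem hk' hk
    intro h hh
    rw [hH] at hh
    exact closure_subset_of_left_closed S T hTfin h1T hcl' hh
  have hmeet : H ⊓ P = K := by
    apply le_antisymm
    · rintro h ⟨hh, hp⟩
      obtain ⟨u, hu, hk⟩ := hcover h hh
      have hup : (1 : Γ)⁻¹ * u ∈ P := by
        have : (1 : Γ)⁻¹ * u = h * (u⁻¹ * h)⁻¹ := by group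
        rw [this]; exact P.mul_mem hp (P.inv_mem (hKP hk))
      have := hinj 1 h1 u hu hup
      subst this
      simpa using hk
    · exact le_inf hKH hKP
  refine ⟨?_, hmeet, hcover⟩
  have hbij : Function.Bijective (fun p : U × K => (⟨(p.1 : Γ) * (p.2 : Γ),
      H.mul_mem (hUH _ p.1.2) (hKH p.2.2)⟩ : H)) := by
    constructor
    · rintro ⟨⟨u, hu⟩, ⟨k, hk⟩⟩ ⟨⟨u', hu'⟩, ⟨k', hk'⟩⟩ h
      have h' : u * k = u' * k' := congrArg Subtype.val h
      have : u⁻¹ * u' = k * k'⁻¹ := by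
        have : u' = u * k * k'⁻¹ := by rw [h']; group
        rw [this]; group
      have huu : u = u' := hinj u hu u' hu' (by rw [this]; exact hKP (K.mul_mem hk (K.inv_mem hk')))
      subst huu
      have : k = k' := mul_left_cancel h'
      subst this
      rfl
    · rintro ⟨h, hh⟩
      obtain ⟨u, hu, hk⟩ := hcover h hh
      exact ⟨(⟨u, hu⟩, ⟨u⁻¹ * h, hk⟩), Subtype.ext (by simp)⟩
  rw [← Nat.card_congr (Equiv.ofBijective _ hbij), Nat.card_prod, Nat.card_eq_fintype_card,
    Fintype.card_coe]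


/-- Maximality of a subgroup from a double coset cover. -/
theorem maximal_of_cover (K : Subgroup Γ) (c : Γ)
    (hgen : Subgroup.closure ((K : Set Γ) ∪ {c}) = ⊤) (reps : Set Γ)
    (hcover : ∀ g : Γ, g ∉ K → ∃ r ∈ reps, ∃ k ∈ K, ∃ k' ∈ K, g = k * r * k')
    (hrep : ∀ r ∈ reps, c ∈ Subgroup.closure ((K : Set Γ) ∪ {r})) :
    ∀ M : Subgroup Γ, K ≤ M → M = K ∨ M = ⊤ := by
  intro M hKM
  by_cases hMK : M ≤ K
  · left; exact le_antisymm hMK hKM
  · right
    obtain ⟨g, hgM, hgK⟩ := SetLike.not_le_iff_exists.mp hMK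
    obtain ⟨r, hr, k, hk, k', hk', rfl⟩ := hcover g hgK
    have hrM : r ∈ M := by
      have : r = k⁻¹ * (k * r * k') * k'⁻¹ := by group
      rw [this]
      exact M.mul_mem (M.mul_mem (M.inv_mem (hKM hk)) hgM) (M.inv_mem (hKM hk'))
    have h1 : Subgroup.closure ((K : Set Γ) ∪ {r}) ≤ M := by
      rw [Subgroup.closure_le]
      rintro x (hx | hx)
      · exact hKM hx
      · rw [Set.mem_singleton_iff] at hx; subst hx; exact hrM
    have hcM : c ∈ M := h1 (hrep r hr)
    rw [eq_top_iff, ← hgen, Subgroup.closure_le]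
    rintro x (hx | hx)
    · exact hKM hx
    · rw [Set.mem_singleton_iff] at hx; subst hx; exact hcM

/-- Iwasawa's criterion relative to a maximal subgroup `K` with an abelian normal subgroup `A`
whose conjugates generate the (perfect) group: a normal subgroup lies in `K` or is everything. -/
theorem iwasawa_dichotomy (K A : Subgroup Γ)
    (hmax : ∀ M : Subgroup Γ, K ≤ M → M = K ∨ M = ⊤) (hAK : A ≤ K)
    (hAn : ∀ k ∈ K, ∀ a ∈ A, k * a * k⁻¹ ∈ A) (hcomm : ∀ a ∈ A, ∀ b ∈ A, a * b = b * a)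
    (hgen : Subgroup.normalClosure (A : Set Γ) = ⊤) (hperf : commutator Γ = ⊤)
    (N : Subgroup Γ) [hN : N.Normal] : N ≤ K ∨ N = ⊤ := by
  rcases hmax (N ⊔ K) le_sup_right with h | h
  · left
    rw [← h]; exact le_sup_left
  · right
    -- every element is `n * k`
    have hdecomp : ∀ g : Γ, ∃ n ∈ N, ∃ k ∈ K, g = n * k := by
      intro g
      have hg : g ∈ N ⊔ K := by rw [h]; exact Subgroup.mem_top g
      rw [← SetLike.mem_coe, Subgroup.normal_mul, Set.mem_mul] at hg
      obtain ⟨n, hn, k, hk, rfl⟩ := hg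
      exact ⟨n, hn, k, hk, rfl⟩
    -- `N ⊔ A` contains all conjugates of `A`
    have hconj : ∀ g : Γ, ∀ a ∈ A, g * a * g⁻¹ ∈ N ⊔ A := by
      intro g a ha
      obtain ⟨n, hn, k, hk, rfl⟩ := hdecomp g
      have ha' := hAn k hk a ha
      have e : n * k * a * (n * k)⁻¹ = (n * ((k * a * k⁻¹) * n⁻¹ * (k * a * k⁻¹)⁻¹)) * (k * a * k⁻¹) := by
        group
      rw [e]
      refine Subgroup.mul_mem_sup (N.mul_mem hn ?_) ha'
      exact hN.conj_mem _ (N.inv_mem hn) _
    have hsplit : ∀ x ∈ N ⊔ A, ∃ n ∈ N, ∃ a ∈ A, x = n * a := by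
      intro x hx
      rw [← SetLike.mem_coe, Subgroup.normal_mul, Set.mem_mul] at hx
      obtain ⟨n, hn, a, ha, rfl⟩ := hx
      exact ⟨n, hn, a, ha, rfl⟩
    have hnorm : (N ⊔ A).Normal := by
      refine ⟨fun x hx g => ?_⟩
      obtain ⟨n, hn, a, ha, rfl⟩ := hsplit x hx
      have e : g * (n * a) * g⁻¹ = (g * n * g⁻¹) * (g * a * g⁻¹) := by group
      rw [e]
      exact (N ⊔ A).mul_mem (Subgroup.mem_sup_left (hN.conj_mem n hn g)) (hconj g a ha)
    have hNA : N ⊔ A = ⊤ := by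
      rw [eq_top_iff, ← hgen]
      exact Subgroup.normalClosure_le_normal (N := N ⊔ A) (fun x hx => Subgroup.mem_sup_right hx)
    -- the quotient by `N` is commutative
    rw [eq_top_iff, ← hperf, commutator_def, Subgroup.commutator_le]
    intro x _ y _
    have hx : x ∈ N ⊔ A := by rw [hNA]; exact Subgroup.mem_top x
    have hy : y ∈ N ⊔ A := by rw [hNA]; exact Subgroup.mem_top y
    obtain ⟨n, hn, a, ha, rfl⟩ := hsplit x hx
    obtain ⟨m, hm, b, hb, rfl⟩ := hsplit y hy
    rw [← QuotientGroup.eq_one_iff, commutatorElement_def]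
    have hn' : ((n : Γ) : Γ ⧸ N) = 1 := (QuotientGroup.eq_one_iff n).mpr hn
    have hm' : ((m : Γ) : Γ ⧸ N) = 1 := (QuotientGroup.eq_one_iff m).mpr hm
    simp only [QuotientGroup.mk_mul, QuotientGroup.mk_inv, hn', hm', one_mul]
    rw [← QuotientGroup.mk_mul, hcomm a ha b hb, QuotientGroup.mk_mul]
    group

/-- Simplicity of the central quotient. -/
theorem simple_central_quotient (K : Subgroup Γ)
    (hdich : ∀ N : Subgroup Γ, N.Normal → N ≤ K ∨ N = ⊤)
    (hcore : ∀ N : Subgroup Γ, N.Normal → N ≤ K → N ≤ Subgroup.center Γ)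
    (hne : Subgroup.center Γ ≠ ⊤) : IsSimpleGroup (Γ ⧸ Subgroup.center Γ) := by
  have hnt : Nontrivial (Γ ⧸ Subgroup.center Γ) := by
    by_contra hcon
    rw [not_nontrivial_iff_subsingleton] at hcon
    apply hne
    rw [eq_top_iff]
    intro x _
    rw [← QuotientGroup.eq_one_iff]
    exact Subsingleton.elim _ _
  refine { exists_pair_ne := hnt.exists_pair_ne, eq_bot_or_eq_top_of_normal := ?_ }
  intro Nb hNb
  have hNn : (Nb.comap (QuotientGroup.mk' (Subgroup.center Γ))).Normal := hNb.comap _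
  rcases hdich _ hNn with h | h
  · left
    have h2 := hcore _ hNn h
    rw [eq_bot_iff]
    intro x hx
    obtain ⟨g, rfl⟩ := QuotientGroup.mk_surjective x
    have : g ∈ Nb.comap (QuotientGroup.mk' (Subgroup.center Γ)) := hx
    rw [Subgroup.mem_bot]
    exact (QuotientGroup.eq_one_iff g).mpr (h2 this)
  · right
    rw [eq_top_iff]
    intro x _
    obtain ⟨g, rfl⟩ := QuotientGroup.mk_surjective x
    have : g ∈ Nb.comap (QuotientGroup.mk' (Subgroup.center Γ)) := by rw [h]; exact Subgroup.mem_top g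
    exact this

end Cfsg.Agent.Helper8.BSGS
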