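import Cfsg.Agent.Lib.Helper8.Plane4Hyp
import Cfsg.Agent.Lib.Helper8.Plane4Iso

set_option autoImplicit false
set_option linter.unusedSectionVars false

/-! Baer subplanes of the plane of order 4, as 7-sets met by every line in 1 or 3 points. -/

namespace Cfsg.Agent.Helper8

open Cfsg Finset

section baer

variable {α : Type*} [Fintype α] [DecidableEq α]

/-- A Baer set: 7 points, every line meets it in 1 or 3 points. -/
def IsBaer (L : Set (Finset α)) (S : Finset α) : Prop :=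
  S.card = 7 ∧ ∀ l ∈ L, (l ∩ S).card = 1 ∨ (l ∩ S).card = 3

variable (hα : Fintype.card α = 21) {L : Set (Finset α)} (hL : IsSteinerSystem 2 5 L)

theorem IsBaer.three {S : Finset α} (hS : IsBaer L S) {l : Finset α} (hl : l ∈ L) {x y : α}
    (hxy : x ≠ y) (hx : x ∈ l) (hxS : x ∈ S) (hy : y ∈ l) (hyS : y ∈ S) :
    (l ∩ S).card = 3 := by
  rcases hS.2 l hl with h | h
  · exact absurd
      (card_le_one.mp h.le x (mem_inter.mpr ⟨hx, hxS⟩) y (mem_inter.mpr ⟨hy, hyS⟩)) hxy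
  · exact h

include hL in
theorem inter_point_unique {l m : Finset α} (hl : l ∈ L) (hm : m ∈ L) (hlm : l ≠ m) {x y : α}
    (hxl : x ∈ l) (hxm : x ∈ m) (hyl : y ∈ l) (hym : y ∈ m) : x = y := by
  by_contra hxy
  exact hlm (line_eq_of_two hL hl hm hxy hxl hyl hxm hym)

include hL in
/-- Two lines meeting a Baer set in three points each meet inside the Baer set. -/
theorem IsBaer.closed {S : Finset α} (hS : IsBaer L S) {l m : Finset α} (hl : l ∈ L)
    (hm : m ∈ L) (hlm : l ≠ m) (h3l : (l ∩ S).card = 3) (h3m : (m ∩ S).card = 3) {c : α}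
    (hcl : c ∈ l) (hcm : c ∈ m) : c ∈ S := by
  by_contra hc
  have huniq : ∀ z, z ∈ l → z ∈ m → z = c := fun z hzl hzm =>
    inter_point_unique hL hl hm hlm hzl hzm hcl hcm
  have hnotboth : ∀ z, z ∈ S → z ∈ l → z ∈ m → False := by
    intro z hzS hzl hzm
    rw [huniq z hzl hzm] at hzS
    exact hc hzS
  have hdisj : Disjoint (l ∩ S) (m ∩ S) := by
    rw [disjoint_left]
    intro z hz hz'
    exact hnotboth z (mem_inter.mp hz).2 (mem_inter.mp hz).1 (mem_inter.mp hz').1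
  have hsub : (l ∩ S) ∪ (m ∩ S) ⊆ S := union_subset inter_subset_right inter_subset_right
  have hcard : ((l ∩ S) ∪ (m ∩ S)).card = 6 := by
    rw [card_union_of_disjoint hdisj, h3l, h3m]
  have hrest : (S \ ((l ∩ S) ∪ (m ∩ S))).card = 1 := by
    rw [card_sdiff_of_subset hsub, hS.1, hcard]
  obtain ⟨u, hu⟩ := card_eq_one.mp hrest
  have huS : ∀ z ∈ S, z ∈ l ∨ z ∈ m ∨ z = u := by
    intro z hz
    by_cases h1 : z ∈ l
    · exact Or.inl h1
    by_cases h2 : z ∈ m
    · exact Or.inr (Or.inl h2)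
    right; right
    have : z ∈ S \ ((l ∩ S) ∪ (m ∩ S)) := by
      rw [mem_sdiff, mem_union, mem_inter, mem_inter]
      exact ⟨hz, by tauto⟩
    rw [hu] at this
    exact mem_singleton.mp this
  have hul : u ∉ l := by
    have : u ∈ S \ ((l ∩ S) ∪ (m ∩ S)) := by rw [hu]; exact mem_singleton_self u
    rw [mem_sdiff, mem_union, mem_inter, mem_inter] at this
    tauto
  obtain ⟨x, hx⟩ : (l ∩ S).Nonempty := by rw [← card_pos, h3l]; norm_num
  obtain ⟨hxl, hxS⟩ := mem_inter.mp hx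
  have hxm : x ∉ m := fun h => hnotboth x hxS hxl h
  obtain ⟨y1, hy1, y2, hy2, hy12⟩ := one_lt_card.mp (by rw [h3m]; norm_num : 1 < (m ∩ S).card)
  obtain ⟨hy1m, hy1S⟩ := mem_inter.mp hy1
  obtain ⟨hy2m, hy2S⟩ := mem_inter.mp hy2
  have key : ∀ y, y ∈ m → y ∈ S → u ∈ lineOf L {x, y} := by
    intro y hym hyS
    have hxy : x ≠ y := by rintro rfl; exact hxm hym
    have hyl : y ∉ l := fun h => hnotboth y hyS h hym
    obtain ⟨hn, hxn, hyn⟩ := join_spec hL hxy
    by_contra hun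
    have h3 := hS.three hn hxy hxn hxS hyn hyS
    have hsub2 : lineOf L {x, y} ∩ S ⊆ {x, y} := by
      intro z hz
      obtain ⟨hzn, hzS⟩ := mem_inter.mp hz
      rw [mem_insert, mem_singleton]
      rcases huS z hzS with h | h | h
      · left
        by_contra hzx
        have h' : lineOf L {x, y} = l := line_eq_of_two hL hn hl hzx hzn hxn h hxl
        rw [h'] at hyn
        exact hyl hyn
      · right
        by_contra hzy
        have h' : lineOf L {x, y} = m := line_eq_of_two hL hn hm hzy hzn hyn h hym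
        rw [h'] at hxn
        exact hxm hxn
      · rw [h] at hzn; exact absurd hzn hun
    have := card_le_card hsub2
    rw [h3, card_pair hxy] at this
    omega
  have hu1 := key y1 hy1m hy1S
  have hu2 := key y2 hy2m hy2S
  have hxy1 : x ≠ y1 := by rintro rfl; exact hxm hy1m
  have hxy2 : x ≠ y2 := by rintro rfl; exact hxm hy2m
  obtain ⟨hn1, hxn1, hyn1⟩ := join_spec hL hxy1
  obtain ⟨hn2, hxn2, hyn2⟩ := join_spec hL hxy2
  have hxu : x ≠ u := by rintro rfl; exact hul hxl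
  have h12 : lineOf L {x, y1} = lineOf L {x, y2} :=
    line_eq_of_two hL hn1 hn2 hxu hxn1 hu1 hxn2 hu2
  rw [← h12] at hyn2
  have h1m : lineOf L {x, y1} = m := line_eq_of_two hL hn1 hm hy12 hyn1 hyn2 hy1m hy2m
  rw [h1m] at hxn1
  exact hxm hxn1

include hα hL in
/-- A Baer set contains a quadrangle. -/
theorem IsBaer.exists_quadrangle {S : Finset α} (hS : IsBaer L S) :
    ∃ F, F ⊆ S ∧ F.card = 4 ∧ Arc L F := by
  obtain ⟨x1, hx1, x2, hx2, h12⟩ := one_lt_card.mp (by rw [hS.1]; norm_num : 1 < S.card)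
  obtain ⟨hl, h1l, h2l⟩ := join_spec hL h12
  have h3 := hS.three hl h12 h1l hx1 h2l hx2
  refine ⟨S \ lineOf L {x1, x2}, sdiff_subset, ?_, ?_⟩
  · have := card_sdiff_add_card_inter S (lineOf L {x1, x2})
    rw [inter_comm, h3, hS.1] at this
    omega
  · intro n hn
    by_contra hgt
    rw [not_le] at hgt
    have hsub : n ∩ (S \ lineOf L {x1, x2}) ⊆ n ∩ S := inter_subset_inter_left sdiff_subset
    have h3n : (n ∩ S).card = 3 := by
      rcases hS.2 n hn with h | h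
      · have := card_le_card hsub; omega
      · exact h
    have heq : n ∩ (S \ lineOf L {x1, x2}) = n ∩ S := eq_of_subset_of_card_le hsub (by omega)
    have hnl : n ≠ lineOf L {x1, x2} := by
      intro h
      have h0 : n ∩ (S \ lineOf L {x1, x2}) = ∅ := by
        rw [← h]
        ext z
        simp only [mem_inter, mem_sdiff, notMem_empty, iff_false]
        tauto
      rw [h0] at hgt
      simp at hgt
    obtain ⟨c, hc⟩ : (n ∩ lineOf L {x1, x2}).Nonempty := by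
      rw [← card_pos, line_inter hα hL hn hl hnl]; norm_num
    obtain ⟨hcn, hcl⟩ := mem_inter.mp hc
    have hcS := hS.closed hL hn hl hnl h3n h3 hcn hcl
    have : c ∈ n ∩ (S \ lineOf L {x1, x2}) := by rw [heq]; exact mem_inter.mpr ⟨hcn, hcS⟩
    exact (mem_sdiff.mp (mem_inter.mp this).2).2 hcl

include hL in
theorem arc_noncollinear {F : Finset α} (hF : Arc L F) {x y z : α} (hx : x ∈ F) (hy : y ∈ F)
    (hz : z ∈ F) (hxy : x ≠ y) (hxz : x ≠ z) (hyz : y ≠ z) : z ∉ lineOf L {x, y} := by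
  intro hzl
  obtain ⟨hl, hxl, hyl⟩ := join_spec hL hxy
  have hsub : ({x, y, z} : Finset α) ⊆ lineOf L {x, y} ∩ F := by
    intro w hw
    simp only [mem_insert, mem_singleton] at hw
    rcases hw with rfl | rfl | rfl
    · exact mem_inter.mpr ⟨hxl, hx⟩
    · exact mem_inter.mpr ⟨hyl, hy⟩
    · exact mem_inter.mpr ⟨hzl, hz⟩
  have h3 : ({x, y, z} : Finset α).card = 3 := card_eq_three.mpr ⟨x, y, z, hxy, hxz, hyz, rfl⟩
  have := (card_le_card hsub).trans (hF _ hl)
  omega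

include hL in
/-- The diagonal point of a quadrangle inside a Baer set lies in the Baer set, off the
quadrangle. -/
theorem IsBaer.diag {S : Finset α} (hS : IsBaer L S) {F : Finset α} (hFS : F ⊆ S)
    (hF : Arc L F) {a b c d : α} (ha : a ∈ F) (hb : b ∈ F) (hc : c ∈ F) (hd : d ∈ F)
    (hab : a ≠ b) (hcd : c ≠ d) (hac : a ≠ c) (had : a ≠ d) (hbc : b ≠ c) (hbd : b ≠ d)
    {z : α} (hz1 : z ∈ lineOf L {a, b}) (hz2 : z ∈ lineOf L {c, d}) :
    z ∈ S ∧ z ≠ a ∧ z ≠ b ∧ z ≠ c ∧ z ≠ d := by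
  obtain ⟨hl1, hal, hbl⟩ := join_spec hL hab
  obtain ⟨hl2, hcl, hdl⟩ := join_spec hL hcd
  have hne : lineOf L {a, b} ≠ lineOf L {c, d} := by
    intro h
    rw [← h] at hcl
    exact arc_noncollinear hL hF ha hb hc hab hac hbc hcl
  have h3a := hS.three hl1 hab hal (hFS ha) hbl (hFS hb)
  have h3c := hS.three hl2 hcd hcl (hFS hc) hdl (hFS hd)
  refine ⟨hS.closed hL hl1 hl2 hne h3a h3c hz1 hz2, ?_, ?_, ?_, ?_⟩
  · rintro rfl
    exact arc_noncollinear hL hF hc hd ha hcd hac.symm had.symm hz2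
  · rintro rfl
    exact arc_noncollinear hL hF hc hd hb hcd hbc.symm hbd.symm hz2
  · rintro rfl
    exact arc_noncollinear hL hF ha hb hc hab hac hbc hz1
  · rintro rfl
    exact arc_noncollinear hL hF ha hb hd hab had hbd hz1

include hL in
/-- Diagonal points on two different sides through `a` are different. -/
theorem diag_ne {F : Finset α} (hF : Arc L F) {a b c : α} (ha : a ∈ F) (hb : b ∈ F)
    (hc : c ∈ F) (hab : a ≠ b) (hac : a ≠ c) (hbc : b ≠ c) {z z' : α} (hza : z ≠ a)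
    (hz : z ∈ lineOf L {a, b}) (hz' : z' ∈ lineOf L {a, c}) : z ≠ z' := by
  rintro rfl
  obtain ⟨hl1, hal, hbl⟩ := join_spec hL hab
  obtain ⟨hl2, hal2, hcl⟩ := join_spec hL hac
  have h : lineOf L {a, b} = lineOf L {a, c} := line_eq_of_two hL hl1 hl2 hza hz hal hz' hal2
  rw [← h] at hcl
  exact arc_noncollinear hL hF ha hb hc hab hac hbc hcl

include hL in
theorem IsBaer.eq_aux {S : Finset α} (hS : IsBaer L S) {x1 x2 x3 x4 : α}
    (hFS : ({x1, x2, x3, x4} : Finset α) ⊆ S) (hF : Arc L ({x1, x2, x3, x4} : Finset α))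
    (h12 : x1 ≠ x2) (h13 : x1 ≠ x3) (h14 : x1 ≠ x4) (h23 : x2 ≠ x3) (h24 : x2 ≠ x4)
    (h34 : x3 ≠ x4) {z1 z2 z3 : α}
    (hz1 : z1 ∈ lineOf L {x1, x2}) (hz1' : z1 ∈ lineOf L {x3, x4})
    (hz2 : z2 ∈ lineOf L {x1, x3}) (hz2' : z2 ∈ lineOf L {x2, x4})
    (hz3 : z3 ∈ lineOf L {x1, x4}) (hz3' : z3 ∈ lineOf L {x2, x3}) :
    S = {x1, x2, x3, x4, z1, z2, z3} := by
  have m1 : x1 ∈ ({x1, x2, x3, x4} : Finset α) := by simp
  have m2 : x2 ∈ ({x1, x2, x3, x4} : Finset α) := by simp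
  have m3 : x3 ∈ ({x1, x2, x3, x4} : Finset α) := by simp
  have m4 : x4 ∈ ({x1, x2, x3, x4} : Finset α) := by simp
  obtain ⟨hz1S, a1, a2, a3, a4⟩ :=
    hS.diag hL hFS hF m1 m2 m3 m4 h12 h34 h13 h14 h23 h24 hz1 hz1'
  obtain ⟨hz2S, b1, b3, b2, b4⟩ :=
    hS.diag hL hFS hF m1 m3 m2 m4 h13 h24 h12 h14 h23.symm h34 hz2 hz2'
  obtain ⟨hz3S, c1, c4, c2, c3⟩ :=
    hS.diag hL hFS hF m1 m4 m2 m3 h14 h23 h12 h13 h24.symm h34.symm hz3 hz3'
  have d12 : z1 ≠ z2 := diag_ne hL hF m1 m2 m3 h12 h13 h23 a1 hz1 hz2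
  have d13 : z1 ≠ z3 := diag_ne hL hF m1 m2 m4 h12 h14 h24 a1 hz1 hz3
  have d23 : z2 ≠ z3 := diag_ne hL hF m1 m3 m4 h13 h14 h34 b1 hz2 hz3
  symm
  apply eq_of_subset_of_card_le
  · intro w hw
    simp only [mem_insert, mem_singleton] at hw
    rcases hw with rfl | rfl | rfl | rfl | rfl | rfl | rfl
    · exact hFS m1
    · exact hFS m2
    · exact hFS m3
    · exact hFS m4
    · exact hz1S
    · exact hz2S
    · exact hz3S
  · rw [hS.1]
    have : ({x1, x2, x3, x4, z1, z2, z3} : Finset α).card = 7 := by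
      rw [card_insert_of_notMem, card_insert_of_notMem, card_insert_of_notMem,
        card_insert_of_notMem, card_insert_of_notMem, card_insert_of_notMem, card_singleton]
      · simp only [mem_singleton]; exact d23
      · simp only [mem_insert, mem_singleton, not_or]; exact ⟨d12, d13⟩
      · simp only [mem_insert, mem_singleton, not_or]; exact ⟨a4.symm, b4.symm, c4.symm⟩
      · simp only [mem_insert, mem_singleton, not_or]
        exact ⟨h34, a3.symm, b3.symm, c3.symm⟩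
      · simp only [mem_insert, mem_singleton, not_or]
        exact ⟨h23, h24, a2.symm, b2.symm, c2.symm⟩
      · simp only [mem_insert, mem_singleton, not_or]
        exact ⟨h12, h13, h14, a1.symm, b1.symm, c1.symm⟩
    omega

include hα hL in
/-- Two Baer sets sharing a quadrangle are equal. -/
theorem IsBaer.eq_of_quadrangle {S S' F : Finset α} (hS : IsBaer L S) (hS' : IsBaer L S')
    (hFS : F ⊆ S) (hFS' : F ⊆ S') (hF4 : F.card = 4) (hF : Arc L F) : S = S' := by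
  obtain ⟨x1, x2, x3, x4, h12, h13, h14, h23, h24, h34, rfl⟩ := card_eq_four.mp hF4
  have m1 : x1 ∈ ({x1, x2, x3, x4} : Finset α) := by simp
  have m2 : x2 ∈ ({x1, x2, x3, x4} : Finset α) := by simp
  have m3 : x3 ∈ ({x1, x2, x3, x4} : Finset α) := by simp
  have m4 : x4 ∈ ({x1, x2, x3, x4} : Finset α) := by simp
  have hpt : ∀ a b c d : α, a ∈ ({x1, x2, x3, x4} : Finset α) →
      b ∈ ({x1, x2, x3, x4} : Finset α) → c ∈ ({x1, x2, x3, x4} : Finset α) → a ≠ b → c ≠ d →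
      a ≠ c → b ≠ c → ∃ z, z ∈ lineOf L {a, b} ∧ z ∈ lineOf L {c, d} := by
    intro a b c d ha hb hc hab hcd hac hbc
    obtain ⟨hl1, hal, hbl⟩ := join_spec hL hab
    obtain ⟨hl2, hcl, hdl⟩ := join_spec hL hcd
    have hne : lineOf L {a, b} ≠ lineOf L {c, d} := by
      intro h
      rw [← h] at hcl
      exact arc_noncollinear hL hF ha hb hc hab hac hbc hcl
    obtain ⟨z, hz⟩ : (lineOf L {a, b} ∩ lineOf L {c, d}).Nonempty := by
      rw [← card_pos, line_inter hα hL hl1 hl2 hne]; norm_num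
    exact ⟨z, (mem_inter.mp hz).1, (mem_inter.mp hz).2⟩
  obtain ⟨z1, hz1, hz1'⟩ := hpt x1 x2 x3 x4 m1 m2 m3 h12 h34 h13 h23
  obtain ⟨z2, hz2, hz2'⟩ := hpt x1 x3 x2 x4 m1 m3 m2 h13 h24 h12 h23.symm
  obtain ⟨z3, hz3, hz3'⟩ := hpt x1 x4 x2 x3 m1 m4 m2 h14 h23 h12 h24.symm
  rw [hS.eq_aux hL hFS hF h12 h13 h14 h23 h24 h34 hz1 hz1' hz2 hz2' hz3 hz3',
    hS'.eq_aux hL hFS' hF h12 h13 h14 h23 h24 h34 hz1 hz1' hz2 hz2' hz3 hz3']

end baer

end Cfsg.Agent.Helper8
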