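import Mathlib
import Cfsg.Agent.Lib.Helper32.C3Defs
import Cfsg.Agent.Lib.Helper9.C3M3Defs

set_option autoImplicit false

namespace Cfsg.Agent.Helper8.C3M3

open Cfsg.Agent.Helper32.C3 Cfsg.Agent.Helper9.C3M3

universe u v

theorem h8_unit3_cube : ∀ u : (ZMod 3)ˣ, ((u : ZMod 3)) ^ 3 = 1 → u = 1 := by decide

section Mono

variable {G : Type u} [Group G] [Finite G] {V : Type v} [AddCommGroup V] [Module (ZMod 3) V]
  [Finite V] (ρ : Representation (ZMod 3) G V) (R Q : Subgroup G) (b : G)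
  (e : Module.Basis (Fin 4) (ZMod 3) V) (π : G →* Equiv.Perm (Fin 4))
  (s : G → Fin 4 → (ZMod 3)ˣ)

/-- (C) `π b ≠ 1`. -/
theorem pi_b_ne_one (h : Cfg ρ R Q b)
    (hmono : ∀ g i, ρ g (e i) = ((s g i : (ZMod 3)ˣ) : ZMod 3) • e (π g i)) : π b ≠ 1 := by
  intro hb
  have h1 : ∀ i, ρ b (e i) = ((s b i : (ZMod 3)ˣ) : ZMod 3) • e i := by
    intro i
    rw [hmono, hb, Equiv.Perm.one_apply]
  have h3 : ρ b * ρ b * ρ b = 1 := by
    rw [← map_mul, ← map_mul, ← pow_three', h.b3, map_one]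
  have hs : ∀ i, s b i = 1 := by
    intro i
    apply h8_unit3_cube
    have h4 : (ρ b * ρ b * ρ b) (e i) = (((s b i : (ZMod 3)ˣ) : ZMod 3) ^ 3) • e i := by
      rw [Module.End.mul_apply, Module.End.mul_apply, h1, map_smul, h1, map_smul, map_smul, h1,
        smul_smul, smul_smul]
      congr 1
      ring
    rw [h3, Module.End.one_apply] at h4
    have h5 : e.repr (e i) i = e.repr ((((s b i : (ZMod 3)ˣ) : ZMod 3) ^ 3) • e i) i := by
      rw [← h4]
    rw [map_smul, Finsupp.smul_apply, e.repr_self, Finsupp.single_eq_same, smul_eq_mul,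
      mul_one] at h5
    exact h5.symm
  have hρ : ρ b = 1 := by
    apply e.ext
    intro i
    rw [h1, hs i, Units.val_one, one_smul, Module.End.one_apply]
  have hdl : dl ρ b = 0 := by
    unfold dl
    rw [hρ, sub_self]
  have hc := h.cubic.1
  rw [hdl, LinearMap.range_zero, finrank_bot] at hc
  exact absurd hc (by norm_num)

end Mono

end Cfsg.Agent.Helper8.C3M3
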