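import Mathlib
import Cfsg.Agent.Lib.Helper32.C3Defs
import Cfsg.Agent.Lib.Helper9.C3M3Defs

set_option autoImplicit false

namespace Cfsg.Agent.Helper8.C3M3

open Cfsg.Agent.Helper32.C3 Cfsg.Agent.Helper9.C3M3

universe u v

theorem h8_unit3_sq : ∀ u : (ZMod 3)ˣ, u * u = 1 := by decide

section Mono

variable {G : Type u} [Group G] [Finite G] {V : Type v} [AddCommGroup V] [Module (ZMod 3) V]
  [Finite V] (ρ : Representation (ZMod 3) G V) (R Q : Subgroup G) (b : G)
  (e : Module.Basis (Fin 4) (ZMod 3) V) (π : G →* Equiv.Perm (Fin 4))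
  (s : G → Fin 4 → (ZMod 3)ˣ)

/-- (H2) diagonal elements: `d * d = 1` and they commute. -/
theorem diag_facts (hsm : ∀ g h i, s (g * h) i = s h i * s g (π h i)) (hs1 : ∀ i, s 1 i = 1)
    (hinj : ∀ g h : G, π g = π h → (∀ i, s g i = s h i) → g = h) :
    (∀ d ∈ π.ker, d * d = 1) ∧ ∀ d ∈ π.ker, ∀ d' ∈ π.ker, d * d' = d' * d := by
  constructor
  · intro d hd
    have hd' : π d = 1 := MonoidHom.mem_ker.1 hd
    apply hinj
    · rw [map_mul, hd', map_one, mul_one]
    · intro i
      rw [hsm, hd', hs1, Equiv.Perm.one_apply]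
      exact h8_unit3_sq _
  · intro d hd d' hd'
    have h1 : π d = 1 := MonoidHom.mem_ker.1 hd
    have h2 : π d' = 1 := MonoidHom.mem_ker.1 hd'
    apply hinj
    · rw [map_mul, map_mul, h1, h2]
    · intro i
      rw [hsm, hsm, h1, h2, Equiv.Perm.one_apply]
      exact mul_comm _ _

end Mono

end Cfsg.Agent.Helper8.C3M3
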