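import Mathlib
import Cfsg.Agent.Lib.Helper32.C3Defs
import Cfsg.Agent.Lib.Helper9.C3M3Defs

set_option autoImplicit false

namespace Cfsg.Agent.Helper8.C3M3

open Cfsg.Agent.Helper32.C3 Cfsg.Agent.Helper9.C3M3

universe u v

section Mono

variable {G : Type u} [Group G] [Finite G] {V : Type v} [AddCommGroup V] [Module (ZMod 3) V]
  [Finite V] (ρ : Representation (ZMod 3) G V) (R Q : Subgroup G) (b : G)
  (e : Module.Basis (Fin 4) (ZMod 3) V) (π : G →* Equiv.Perm (Fin 4))
  (s : G → Fin 4 → (ZMod 3)ˣ)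

/-- (INJ) `Φ g = (s g, π g)` is injective. -/
theorem phi_inj (hf : Function.Injective ρ)
    (hmono : ∀ g i, ρ g (e i) = ((s g i : (ZMod 3)ˣ) : ZMod 3) • e (π g i)) (g h : G)
    (hπ : π g = π h) (hs : ∀ i, s g i = s h i) : g = h := by
  apply hf
  apply e.ext
  intro i
  rw [hmono, hmono, hπ, hs]

end Mono

end Cfsg.Agent.Helper8.C3M3
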