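import Mathlib
import Cfsg.Agent.Lib.Helper32.C3Defs
import Cfsg.Agent.Lib.Helper9.C3M3Defs

set_option autoImplicit false

namespace Cfsg.Agent.Helper8.C3M3

open Cfsg.Agent.Helper32.C3 Cfsg.Agent.Helper9.C3M3

universe u v

section Mono2

variable {G : Type u} [Group G] [Finite G] {V : Type v} [AddCommGroup V] [Module (ZMod 3) V]
  [Finite V] (ρ : Representation (ZMod 3) G V) (R Q : Subgroup G) (b : G)
  (e : Module.Basis (Fin 4) (ZMod 3) V) (π : G →* Equiv.Perm (Fin 4))
  (s : G → Fin 4 → (ZMod 3)ˣ)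

/-- (J1) `D = 1` is impossible. -/
theorem not_card_four (h : Cfg ρ R Q b) (hdim : Module.finrank (ZMod 3) V = 4)
    (hQW : ∃ (q₁ q₂ q₃ : G) (v₁ v₂ v₃ : V), QWeights ρ Q b q₁ q₂ q₃ v₁ v₂ v₃)
    (hcard : Nat.card ↥R = 4) : False := by
  classical
  obtain ⟨q₁, q₂, q₃, v₁, v₂, v₃, hW⟩ := hQW
  -- `R = Q`
  have hQR : Q = R := by
    apply Subgroup.eq_of_le_of_card_ge h.QR
    rw [hcard, h.four.1]
  -- `fixS ρ Q ≠ ⊥`
  have hne : fixS ρ Q ≠ ⊥ := by
    intro h0
    have h1 : comS ρ Q = ⊤ := by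
      have := hW.dec.2
      rw [h0, bot_sup_eq] at this
      exact this
    have h2 : Module.finrank (ZMod 3) (comS ρ Q) ≤ 3 := by
      rw [hW.com]
      have h3 := finrank_span_finset_le_card (R := ZMod 3) ({v₁, v₂, v₃} : Finset V)
      have h4 : (({v₁, v₂, v₃} : Finset V) : Set V) = {v₁, v₂, v₃} := by
        simp
      rw [h4] at h3
      exact h3.trans Finset.card_le_three
    rw [h1, finrank_top, hdim] at h2
    omega
  -- `G` fixes `fixS ρ Q` pointwise
  have hbpow : ∀ (i : ℕ) (v : V), v ∈ fixS ρ Q → ρ (b ^ i) v = v := by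
    intro i
    induction i with
    | zero =>
      intro v _
      rw [pow_zero, map_one, Module.End.one_apply]
    | succ n ih =>
      intro v hv
      rw [pow_succ, map_mul, Module.End.mul_apply, hW.fixb v hv, ih v hv]
  have hfix : ∀ (g : G) (v : V), v ∈ fixS ρ Q → ρ g v = v := by
    intro g v hv
    obtain ⟨r, hr, i, rfl⟩ := h.RB g
    rw [map_mul, Module.End.mul_apply, hbpow i v hv]
    rw [← hQR] at hr
    exact (mem_fixS ρ Q v).1 hv r hr
  have hinv : Inv ρ ⊤ (fixS ρ Q) := by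
    intro g _ v hv
    rw [hfix g v hv]
    exact hv
  rcases h.irred _ hinv with h0 | h0
  · exact hne h0
  · obtain ⟨q, hq, hqb⟩ := h.four.2.2.2
    apply hqb
    have hq1 : q = 1 := by
      apply h.faith
      apply LinearMap.ext
      intro v
      have hv : v ∈ fixS ρ Q := by
        rw [h0]
        exact Submodule.mem_top
      rw [map_one, Module.End.one_apply]
      exact (mem_fixS ρ Q v).1 hv q hq
    rw [hq1, mul_one, mul_inv_cancel]

end Mono2

end Cfsg.Agent.Helper8.C3M3
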