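import Mathlib
import Cfsg.Agent.Lib.Helper32.C3Defs
import Cfsg.Agent.Lib.Helper63.HeisES

/-!
# C3 (TR) `transfer` (helper8, for helper32's C3 server, S4415)
-/

set_option autoImplicit false

namespace Cfsg.Agent.Helper8.C3

open Cfsg.Agent.Helper32.C3

universe u v

/-- **TR.** Transfer between `S`/`E` and the abstract configuration `Cfg`. -/
theorem transfer {S : Type u} [Group S] [Finite S] {E : Type v} [AddCommGroup E]
    [Module (ZMod 3) E] [Finite E] (ρ : Representation (ZMod 3) S E) (R Q : Subgroup S) (b : S)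
    (F₀ : Submodule (ZMod 3) E) (hsolv : Group.IsSolvable S)
    (hfaith : ∀ g ∈ R ⊔ Subgroup.zpowers b, (∀ v ∈ F₀, ρ g v = v) → g = 1)
    (hinv : Inv ρ (R ⊔ Subgroup.zpowers b) F₀)
    (hirr : ∀ N : Submodule (ZMod 3) E, N ≤ F₀ → Inv ρ (R ⊔ Subgroup.zpowers b) N →
      N = ⊥ ∨ N = F₀)
    (hbR : b ∈ Subgroup.normalizer (R : Set S)) (hRc : (Nat.card ↥R).Coprime 3)
    (hb3 : b ^ 3 = 1) (hcomm : ⁅R, Subgroup.zpowers b⁆ = R)
    (hcub : Module.finrank (ZMod 3) ↥(F₀.map (dl ρ b)) = 2 ∧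
      Module.finrank (ZMod 3) ↥(F₀.map (dl ρ b * dl ρ b)) = 1)
    (hQR : Q ≤ R) (hQ : Four Q b)
    (hII : ∀ {G : Type u} [Group G] [Finite G] {V : Type v} [AddCommGroup V] [Module (ZMod 3) V]
      [Finite V] (ρ' : Representation (ZMod 3) G V) (R' Q' : Subgroup G) (b' : G),
      Cfg ρ' R' Q' b' → Concl R') :
    Concl R := by
  classical
  have hRK : R ≤ R ⊔ Subgroup.zpowers b := le_sup_left
  have hbK : b ∈ R ⊔ Subgroup.zpowers b :=
    (le_sup_right : Subgroup.zpowers b ≤ R ⊔ Subgroup.zpowers b) (Subgroup.mem_zpowers b)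
  have hQK : Q ≤ R ⊔ Subgroup.zpowers b := hQR.trans hRK
  have hzn : Subgroup.zpowers b ≤ Subgroup.normalizer (R : Set S) :=
    (Subgroup.zpowers_le).mpr hbR
  have hKn : R ⊔ Subgroup.zpowers b ≤ Subgroup.normalizer (R : Set S) :=
    sup_le Subgroup.le_normalizer hzn
  -- the restricted representation
  let ρ' : Representation (ZMod 3) ↥(R ⊔ Subgroup.zpowers b) ↥F₀ :=
    { toFun := fun g => (ρ (g : S)).restrict (fun v hv => hinv g g.2 v hv)
      map_one' := by
        apply LinearMap.ext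
        intro v
        apply Subtype.ext
        simp
      map_mul' := fun g h => by
        apply LinearMap.ext
        intro v
        apply Subtype.ext
        simp }
  have hρ' : ∀ (g : ↥(R ⊔ Subgroup.zpowers b)) (v : ↥F₀), ((ρ' g v : ↥F₀) : E) = ρ (g : S) (v : E) :=
    fun g v => rfl
  have hdl : ∀ (g : ↥(R ⊔ Subgroup.zpowers b)) (v : ↥F₀),
      ((dl ρ' g v : ↥F₀) : E) = dl ρ (g : S) (v : E) := by
    intro g v
    rw [dl_apply, dl_apply, Submodule.coe_sub, hρ']
  have hcfg : Cfg ρ' (R.subgroupOf (R ⊔ Subgroup.zpowers b)) (Q.subgroupOf (R ⊔ Subgroup.zpowers b))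
      (⟨b, hbK⟩ : ↥(R ⊔ Subgroup.zpowers b)) := by
    refine
      { faith := ?_, irred := ?_, solv := ?_, Rn := ?_, Rcop := ?_, b3 := ?_, RB := ?_, comm := ?_,
        cubic := ?_, QR := ?_, four := ?_ }
    · -- faith
      intro g g' hgg'
      have h1 : ρ' (g * g'⁻¹) = 1 := by
        rw [map_mul, hgg', ← map_mul, mul_inv_cancel, map_one]
      have h2 : ((g * g'⁻¹ : ↥(R ⊔ Subgroup.zpowers b)) : S) = 1 := by
        apply hfaith _ (g * g'⁻¹).2
        intro v hv
        have h3 := congrArg (fun f : Module.End (ZMod 3) ↥F₀ => ((f ⟨v, hv⟩ : ↥F₀) : E)) h1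
        simpa [hρ'] using h3
      exact mul_inv_eq_one.mp (Subtype.ext h2)
    · -- irred
      intro N hN
      have h1 : N.map F₀.subtype ≤ F₀ := by
        rintro _ ⟨v, _, rfl⟩
        exact v.2
      have h2 : Inv ρ (R ⊔ Subgroup.zpowers b) (N.map F₀.subtype) := by
        rintro g hg _ ⟨v, hv, rfl⟩
        exact ⟨ρ' ⟨g, hg⟩ v, hN ⟨g, hg⟩ (Subgroup.mem_top _) v hv, rfl⟩
      rcases hirr _ h1 h2 with h | h
      · left
        rw [Submodule.eq_bot_iff]
        intro v hv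
        have h3 : (v : E) ∈ N.map F₀.subtype := ⟨v, hv, rfl⟩
        rw [h] at h3
        exact Subtype.ext ((Submodule.mem_bot _).mp h3)
      · right
        rw [Submodule.eq_top_iff']
        intro v
        have h3 : (v : E) ∈ N.map F₀.subtype := by
          rw [h]
          exact v.2
        obtain ⟨w, hw, hwv⟩ := h3
        have h4 : w = v := Subtype.ext hwv
        rw [← h4]
        exact hw
    · -- solv
      have := hsolv
      infer_instance
    · -- Rn
      exact Subgroup.normal_subgroupOf_of_le_normalizer hKn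
    · -- Rcop
      rw [Nat.card_congr (Subgroup.subgroupOfEquivOfLe hRK).toEquiv]
      exact hRc
    · -- b3
      apply Subtype.ext
      simpa using hb3
    · -- RB
      intro g
      have hg : (g : S) ∈ ((R ⊔ Subgroup.zpowers b : Subgroup S) : Set S) := g.2
      rw [Subgroup.coe_mul_of_right_le_normalizer_left R (Subgroup.zpowers b) hzn] at hg
      obtain ⟨r, hr, y, hy, hry⟩ := hg
      have hy' : y ∈ Submonoid.powers b := (mem_powers_iff_mem_zpowers).mpr hy
      obtain ⟨i, hi⟩ := (Submonoid.mem_powers_iff _ _).mp hy'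
      refine ⟨⟨r, hRK hr⟩, hr, i, ?_⟩
      apply Subtype.ext
      simp only [Subgroup.coe_mul, SubmonoidClass.coe_pow]
      rw [hi]
      exact hry.symm
    · -- comm
      apply Subgroup.map_injective (R ⊔ Subgroup.zpowers b).subtype_injective
      rw [Subgroup.map_commutator, Subgroup.map_subgroupOf_eq_of_le hRK, MonoidHom.map_zpowers]
      exact hcomm
    · -- cubic
      have e1 : (LinearMap.range (dl ρ' (⟨b, hbK⟩ : ↥(R ⊔ Subgroup.zpowers b)))).map F₀.subtype =
          F₀.map (dl ρ b) := by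
        ext w
        constructor
        · rintro ⟨_, ⟨v, rfl⟩, rfl⟩
          exact ⟨v, v.2, (hdl ⟨b, hbK⟩ v).symm⟩
        · rintro ⟨v, hv, rfl⟩
          exact ⟨_, ⟨⟨v, hv⟩, rfl⟩, hdl ⟨b, hbK⟩ ⟨v, hv⟩⟩
      have e2 : (LinearMap.range (dl ρ' (⟨b, hbK⟩ : ↥(R ⊔ Subgroup.zpowers b)) *
          dl ρ' (⟨b, hbK⟩ : ↥(R ⊔ Subgroup.zpowers b)))).map F₀.subtype =
          F₀.map (dl ρ b * dl ρ b) := by
        ext w
        constructor
        · rintro ⟨_, ⟨v, rfl⟩, rfl⟩
          refine ⟨v, v.2, ?_⟩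
          rw [Module.End.mul_apply, Module.End.mul_apply]
          exact ((hdl _ _).trans (by rw [hdl])).symm
        · rintro ⟨v, hv, rfl⟩
          refine ⟨_, ⟨⟨v, hv⟩, rfl⟩, ?_⟩
          rw [Module.End.mul_apply, Module.End.mul_apply]
          exact (hdl _ _).trans (by rw [hdl])
      constructor
      · rw [← hcub.1, ← e1]
        exact (LinearEquiv.finrank_eq
          (Submodule.equivMapOfInjective F₀.subtype F₀.injective_subtype _))
      · rw [← hcub.2, ← e2]
        exact (LinearEquiv.finrank_eq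
          (Submodule.equivMapOfInjective F₀.subtype F₀.injective_subtype _))
    · -- QR
      intro x hx
      exact hQR hx
    · -- four
      obtain ⟨h4, hsq, hcj, q, hqQ, hne⟩ := hQ
      refine ⟨?_, ?_, ?_, ?_⟩
      · rw [Nat.card_congr (Subgroup.subgroupOfEquivOfLe hQK).toEquiv]
        exact h4
      · intro x hx
        apply Subtype.ext
        exact hsq x hx
      · intro x hx
        exact hcj x hx
      · exact ⟨⟨q, hQK hqQ⟩, hqQ, fun h => hne (congrArg Subtype.val h)⟩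
  have hC := hII ρ' _ _ _ hcfg
  -- transfer back
  rcases hC with ⟨⟨hcm, hex⟩, hc4⟩ | ⟨hes, hc32, A, hAR, ⟨hAcm, hAex⟩, hA8⟩
  · left
    refine ⟨⟨⟨⟨fun x y => ?_⟩⟩, fun a ha => ?_⟩, ?_⟩
    · have h1 := hcm.is_comm.comm
        (⟨⟨x, hRK x.2⟩, x.2⟩ : ↥(R.subgroupOf (R ⊔ Subgroup.zpowers b)))
        (⟨⟨y, hRK y.2⟩, y.2⟩ : ↥(R.subgroupOf (R ⊔ Subgroup.zpowers b)))
      apply Subtype.ext
      exact congrArg (fun z : ↥(R.subgroupOf (R ⊔ Subgroup.zpowers b)) =>
        ((z : ↥(R ⊔ Subgroup.zpowers b)) : S)) h1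
    · have h1 := hex (⟨a, hRK ha⟩ : ↥(R ⊔ Subgroup.zpowers b)) ha
      exact congrArg Subtype.val h1
    · rw [← hc4]
      exact (Nat.card_congr (Subgroup.subgroupOfEquivOfLe hRK).toEquiv).symm
  · right
    refine ⟨Cfsg.Agent.Helper63.isExtraspecial_of_mulEquiv (Subgroup.subgroupOfEquivOfLe hRK) hes,
      ?_, A.map (R ⊔ Subgroup.zpowers b).subtype, ?_, ⟨⟨⟨fun x y => ?_⟩⟩, ?_⟩, ?_⟩
    · rw [← hc32]
      exact (Nat.card_congr (Subgroup.subgroupOfEquivOfLe hRK).toEquiv).symm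
    · rintro _ ⟨a, ha, rfl⟩
      exact hAR ha
    · obtain ⟨x, a, ha, rfl⟩ := x
      obtain ⟨y, c, hc, rfl⟩ := y
      have h1 := hAcm.is_comm.comm (⟨a, ha⟩ : ↥A) (⟨c, hc⟩ : ↥A)
      apply Subtype.ext
      exact congrArg (fun z : ↥A => ((z : ↥(R ⊔ Subgroup.zpowers b)) : S)) h1
    · rintro _ ⟨a, ha, rfl⟩
      have h1 := hAex a ha
      exact congrArg Subtype.val h1
    · rw [← hA8]
      exact (Nat.card_congr (A.equivMapOfInjective _
        (R ⊔ Subgroup.zpowers b).subtype_injective).toEquiv).symm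
end Cfsg.Agent.Helper8.C3
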