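import Mathlib
import Cfsg.Agent.Lib.Helper53.CD3ADefs
import Cfsg.Agent.Lib.Helper81.CharClifford
import Cfsg.Agent.Lib.Helper81.CharProd
import Cfsg.Agent.Lib.Helper80.ConjIrr

/-!
# CD3A (XI) `closed_eq_univ` (helper8, for helper53's CD3A server, S4460)

A nonempty set `T ⊆ Irr(N)` closed under constituents of products and under duals, with trivial common
kernel, is all of `Irr(N)`.
-/

set_option autoImplicit false

namespace Cfsg.Agent.Helper8.CD3A

open Cfsg Cfsg.Agent.Helper53.CD3A Cfsg.Agent.Helper81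
open scoped ComplexConjugate commutatorElement

universe u

/-- (XI) a nonempty set `T ⊆ Irr(N)` closed under constituents of products and duals with trivial common kernel is everything:
`ξ := Σ_{φ∈T} φ(1) φ` satisfies `ξ φ = φ(1) ξ` (`φ ∈ T`), so `ξ` vanishes off the common kernel `1`, `ξ = c ρ_N`, `c ≠ 0`. -/
theorem closed_eq_univ {N : Type u} [Group N] [Fintype N] (T : Set (IrrCharacter N))
    (hne : T.Nonempty)
    (hprod : ∀ φ ∈ T, ∀ φ' ∈ T, ∀ ξ : IrrCharacter N,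
      classInner ((φ : N → ℂ) * (φ' : N → ℂ)) (ξ : N → ℂ) ≠ 0 → ξ ∈ T)
    (hconj : ∀ φ ∈ T, ∀ ξ : IrrCharacter N, ((ξ : N → ℂ) = fun x => conj ((φ : N → ℂ) x)) → ξ ∈ T)
    (hker : ∀ x : N, (∀ φ ∈ T, (φ : N → ℂ) x = (φ : N → ℂ) 1) → x = 1) : T = Set.univ := by
  classical
  have : Fintype (IrrCharacter N) := @Fintype.ofFinite _ irr_finite
  set d : IrrCharacter N → ℂ := fun φ => (φ : N → ℂ) 1 with hd
  set Tf : Finset (IrrCharacter N) := Finset.univ.filter (· ∈ T) with hTf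
  have memTf : ∀ φ, φ ∈ Tf ↔ φ ∈ T := by
    intro φ
    simp [hTf]
  set ξ : N → ℂ := ∑ φ' ∈ Tf, d φ' • (φ' : N → ℂ) with hξ
  have hξx : ∀ x : N, ξ x = ∑ φ' ∈ Tf, d φ' * (φ' : N → ℂ) x := by
    intro x
    simp only [hξ, Finset.sum_apply, Pi.smul_apply, smul_eq_mul]
  -- expansion of products
  have hexp : ∀ φ ∈ T, ∀ φ' ∈ T, ∀ x : N, (φ : N → ℂ) x * (φ' : N → ℂ) x =
      ∑ σ ∈ Tf, classInner ((φ : N → ℂ) * (φ' : N → ℂ)) (σ : N → ℂ) * (σ : N → ℂ) x := by
    intro φ hφ φ' hφ' x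
    have hcf : IsClassFunction N ((φ : N → ℂ) * (φ' : N → ℂ)) :=
      isClassFunction_of_isCharacter (isCharacter_mul (IsIrrCharacter.isCharacter φ.2) (IsIrrCharacter.isCharacter φ'.2))
    have h1 := congrFun (class_function_expansion hcf) x
    simp only [Pi.mul_apply, Finset.sum_apply, Pi.smul_apply, smul_eq_mul] at h1
    rw [h1, hTf, Finset.sum_filter]
    apply Finset.sum_congr rfl
    intro σ _
    by_cases hσ : σ ∈ T
    · rw [if_pos hσ]
    · rw [if_neg hσ]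
      have h0 : classInner ((φ : N → ℂ) * (φ' : N → ℂ)) (σ : N → ℂ) = 0 := by
        by_contra h
        exact hσ (hprod φ hφ φ' hφ' σ h)
      rw [h0, zero_mul]
  have hdreal : ∀ φ : IrrCharacter N, conj (d φ) = d φ := by
    intro φ
    simp only [hd]
    rw [Cfsg.Agent.Helper80.irr_one]
    simp
  -- (A)
  have hA : ∀ φ ∈ T, ∀ σ ∈ T,
      ∑ φ' ∈ Tf, d φ' * classInner ((φ : N → ℂ) * (φ' : N → ℂ)) (σ : N → ℂ) = d φ * d σ := by
    intro φ hφ σ hσ
    have hφb : Cfsg.Agent.Helper80.cconjIrr φ ∈ T :=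
      hconj φ hφ (Cfsg.Agent.Helper80.cconjIrr φ) rfl
    have h1 := hexp _ hφb σ hσ 1
    have h2 := congrArg conj h1
    simp only [map_mul, map_sum, Cfsg.Agent.Helper80.cconjIrr_apply, Complex.conj_conj] at h2
    have e1 : (φ : N → ℂ) 1 = d φ := rfl
    have e2 : conj ((σ : N → ℂ) 1) = d σ := hdreal σ
    rw [e1, e2] at h2
    rw [h2]
    apply Finset.sum_congr rfl
    intro φ' _
    have e3 : conj ((φ' : N → ℂ) 1) = d φ' := hdreal φ'
    rw [e3, mul_comm]
    congr 1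
    simp only [classInner, map_mul, map_inv₀, map_natCast, map_sum, Complex.conj_conj,
      Pi.mul_apply, Cfsg.Agent.Helper80.cconjIrr_apply]
    congr 1
    apply Finset.sum_congr rfl
    intro g _
    ring
  -- (B)
  have hB : ∀ φ ∈ T, ∀ x : N, (φ : N → ℂ) x * ξ x = d φ * ξ x := by
    intro φ hφ x
    rw [hξx x, Finset.mul_sum]
    have h1 : ∀ φ' ∈ Tf, (φ : N → ℂ) x * (d φ' * (φ' : N → ℂ) x) =
        ∑ σ ∈ Tf, d φ' * classInner ((φ : N → ℂ) * (φ' : N → ℂ)) (σ : N → ℂ) * (σ : N → ℂ) x := by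
      intro φ' hφ'
      have := hexp φ hφ φ' ((memTf φ').1 hφ') x
      rw [mul_left_comm, this, Finset.mul_sum]
      apply Finset.sum_congr rfl
      intro σ _
      ring
    rw [Finset.sum_congr rfl h1, Finset.sum_comm, Finset.mul_sum]
    apply Finset.sum_congr rfl
    intro σ hσ
    rw [← Finset.sum_mul, hA φ hφ σ ((memTf σ).1 hσ)]
    ring
  -- (C)
  have hC : ∀ x : N, x ≠ 1 → ξ x = 0 := by
    intro x hx
    by_contra h
    apply hx
    apply hker
    intro φ hφ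
    exact mul_right_cancel₀ h (hB φ hφ x)
  -- (D)
  have hD : ξ 1 ≠ 0 := by
    obtain ⟨φ0, hφ0⟩ := hne
    have h1 : ξ 1 = ((∑ φ' ∈ Tf, charDegree (φ' : N → ℂ) * charDegree (φ' : N → ℂ) : ℕ) : ℂ) := by
      rw [hξx 1]
      push_cast
      apply Finset.sum_congr rfl
      intro φ' _
      simp only [hd]
      rw [Cfsg.Agent.Helper80.irr_one]
    rw [h1]
    have hpos : 0 < ∑ φ' ∈ Tf, charDegree (φ' : N → ℂ) * charDegree (φ' : N → ℂ) := by
      apply Finset.sum_pos'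
      · intro i _
        exact Nat.zero_le _
      · exact ⟨φ0, (memTf φ0).2 hφ0,
          Nat.mul_pos (Cfsg.Agent.Helper80.charDegree_pos φ0) (Cfsg.Agent.Helper80.charDegree_pos φ0)⟩
    exact_mod_cast hpos.ne'
  -- (E)
  apply Set.eq_univ_of_forall
  intro χ
  by_contra hχ
  have hcard : (Nat.card N : ℂ) ≠ 0 := by exact_mod_cast (Nat.card_pos (α := N)).ne'
  have h1 : classInner ξ (χ : N → ℂ) = (Nat.card N : ℂ)⁻¹ * (ξ 1 * conj ((χ : N → ℂ) 1)) := by
    unfold classInner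
    congr 1
    rw [Finset.sum_eq_single (1 : N)]
    · intro x _ hx
      rw [hC x hx, zero_mul]
    · intro h
      exact absurd (Finset.mem_univ _) h
  have h2 : classInner ξ (χ : N → ℂ) = 0 := by
    rw [hξ, classInner_sum_left]
    apply Finset.sum_eq_zero
    intro φ' hφ'
    rw [classInner_smul_left, irr_orthonormal φ'.2 χ.2, if_neg, mul_zero]
    intro h
    apply hχ
    have : φ' = χ := Subtype.ext h
    rw [← this]
    exact (memTf φ').1 hφ'
  rw [h2] at h1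
  have h3 : conj ((χ : N → ℂ) 1) ≠ 0 := by
    rw [hdreal χ]
    exact Cfsg.Agent.Helper80.irr_one_ne_zero χ
  exact (mul_ne_zero (inv_ne_zero hcard) (mul_ne_zero hD h3)) h1.symm

end Cfsg.Agent.Helper8.CD3A
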