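import Mathlib

set_option autoImplicit false

/-! The permutation representation on the cosets of a subgroup, as a subgroup of `Perm (Fin n)`. -/

namespace Cfsg.Agent.Helper8.BSGS

/-- If the only normal subgroups inside `L` are central and the centre lies in `L`, then the action
on the `n` cosets of `L` realises the central quotient as a transitive subgroup of `Perm (Fin n)`,
with point stabilisers of index `n`. -/
theorem exists_coset_perm {G : Type*} [Group G] [Finite G] (L : Subgroup G) (n : ℕ)
    (hn : L.index = n) (hZ : Subgroup.center G ≤ L)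
    (hcore : ∀ N : Subgroup G, N.Normal → N ≤ L → N ≤ Subgroup.center G) :
    ∃ H : Subgroup (Equiv.Perm (Fin n)), Nonempty (G ⧸ Subgroup.center G ≃* H) ∧
      MulAction.IsPretransitive H (Fin n) ∧
      ∀ a : Fin n, Nat.card (MulAction.stabilizer H a) * n = Nat.card H := by
  classical
  have hcardX : Nat.card (G ⧸ L) = n := hn
  have hfin : Finite (G ⧸ L) := inferInstance
  let σ : (G ⧸ L) ≃ Fin n := Finite.equivFinOfCardEq hcardX
  let ρ0 : G →* Equiv.Perm (G ⧸ L) := MulAction.toPermHom G (G ⧸ L)
  let ρ : G →* Equiv.Perm (Fin n) := (σ.permCongrHom : _ →* _).comp ρ0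
  have hρ : ∀ (g : G) (a : Fin n), ρ g a = σ (g • σ.symm a) := by
    intro g a
    rfl
  have hker : ρ.ker = Subgroup.center G := by
    have h1 : ρ.ker = ρ0.ker := by
      ext g
      rw [MonoidHom.mem_ker, MonoidHom.mem_ker]
      show σ.permCongrHom (ρ0 g) = 1 ↔ ρ0 g = 1
      exact (MulEquiv.map_eq_one_iff σ.permCongrHom)
    have h2 : ρ0.ker = L.normalCore := (Subgroup.normalCore_eq_ker L).symm
    rw [h1, h2]
    apply le_antisymm
    · exact hcore _ inferInstance (Subgroup.normalCore_le L)
    · exact Subgroup.normal_le_normalCore.mpr hZ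
  refine ⟨ρ.range, ⟨?_⟩, ?_, ?_⟩
  · exact (QuotientGroup.quotientMulEquivOfEq hker.symm).trans
      (QuotientGroup.quotientKerEquivRange ρ)
  · have hpre : MulAction.IsPretransitive ρ.range (Fin n) := by
      constructor
      intro a b
      obtain ⟨g, hg⟩ := MulAction.exists_smul_eq G (σ.symm a) (σ.symm b)
      refine ⟨⟨ρ g, ⟨g, rfl⟩⟩, ?_⟩
      show ρ g a = b
      rw [hρ, hg, Equiv.apply_symm_apply]
    exact hpre
  · intro a
    have hpre : MulAction.IsPretransitive ρ.range (Fin n) := by
      constructor
      intro a b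
      obtain ⟨g, hg⟩ := MulAction.exists_smul_eq G (σ.symm a) (σ.symm b)
      refine ⟨⟨ρ g, ⟨g, rfl⟩⟩, ?_⟩
      show ρ g a = b
      rw [hρ, hg, Equiv.apply_symm_apply]
    have h1 := MulAction.index_stabilizer_of_transitive ρ.range a
    have h2 := Subgroup.card_mul_index (MulAction.stabilizer ρ.range a)
    rw [h1, Nat.card_fin] at h2
    exact h2

end Cfsg.Agent.Helper8.BSGS
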