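import Cfsg.Agent.S0407
import Cfsg.Agent.Lib.Helper8.AutTransport

set_option autoImplicit false
set_option linter.unusedSectionVars false

/-! The stabiliser of a point in the automorphism group of an S(5,8,24) is the automorphism group
of the derived design. -/

open scoped Pointwise

namespace Cfsg.Agent.Helper8

open Cfsg Finset Cfsg.Agent.S0410

section res

variable {α : Type*} [Fintype α] [DecidableEq α] (r : α)

/-- Restriction of a permutation fixing `r` to the other points. -/
def resPerm (g : Equiv.Perm α) (hg : g r = r) : Equiv.Perm {a : α // a ≠ r} :=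
  g.subtypePerm (fun a => by
    constructor
    · intro h ha; rw [ha] at h; exact h hg
    · intro h ha
      apply h
      apply g.injective
      rw [ha, hg])

theorem resPerm_apply (g : Equiv.Perm α) (hg : g r = r) (x : {a : α // a ≠ r}) :
    ((resPerm r g hg x : {a : α // a ≠ r}) : α) = g x := rfl

theorem sub_image_res (g : Equiv.Perm α) (hg : g r = r) (b : Finset α) :
    (sub r b).image (resPerm r g hg) = sub r (b.image g) := by
  ext x
  rw [mem_image, Cfsg.Agent.Helper8.mem_sub, mem_image]
  constructor
  · rintro ⟨y, hy, rfl⟩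
    exact ⟨y, (Cfsg.Agent.Helper8.mem_sub r).mp hy, rfl⟩
  · rintro ⟨a, ha, hax⟩
    have har : a ≠ r := by
      rintro rfl
      rw [hg] at hax
      exact x.2 hax.symm
    refine ⟨⟨a, har⟩, (Cfsg.Agent.Helper8.mem_sub r).mpr ha, ?_⟩
    apply Subtype.ext
    exact hax

theorem res_mem_aut {B : Set (Finset α)} {g : Equiv.Perm α} (hgB : g ∈ setSystemAut B)
    (hg : g r = r) : resPerm r g hg ∈ setSystemAut (dLines B r) := by
  rw [Cfsg.Agent.S5628.mem_aut_iff] at hgB ⊢
  rintro l ⟨b, hb, hrb, rfl⟩
  rw [sub_image_res]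
  refine ⟨b.image g, hgB b hb, ?_, rfl⟩
  rw [mem_image]
  exact ⟨r, hrb, hg⟩

/-- The extension by `r ↦ r` of a permutation of the other points. -/
noncomputable def extPerm (h : Equiv.Perm {a : α // a ≠ r}) : Equiv.Perm α :=
  extEquiv r r h rfl

theorem extPerm_self (h : Equiv.Perm {a : α // a ≠ r}) : extPerm r h r = r :=
  extFun_self r r h

theorem extPerm_of_ne (h : Equiv.Perm {a : α // a ≠ r}) (x : {a : α // a ≠ r}) :
    extPerm r h x = (h x : α) := by
  show extFun r r h x = _
  rw [extFun_of_ne r r h x.2]

theorem res_ext (h : Equiv.Perm {a : α // a ≠ r}) :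
    resPerm r (extPerm r h) (extPerm_self r h) = h := by
  ext x
  rw [resPerm_apply, extPerm_of_ne]

theorem ext_res (g : Equiv.Perm α) (hg : g r = r) : extPerm r (resPerm r g hg) = g := by
  ext a
  by_cases ha : a = r
  · rw [ha, extPerm_self, hg]
  · rw [extPerm_of_ne r _ ⟨a, ha⟩, resPerm_apply]

theorem resPerm_mul (g g' : Equiv.Perm α) (hg : g r = r) (hg' : g' r = r) :
    resPerm r (g * g') (by rw [Equiv.Perm.mul_apply, hg', hg]) =
      resPerm r g hg * resPerm r g' hg' := by
  ext x
  rfl

end res

section golay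

variable {α : Type*} [Fintype α] [DecidableEq α] (hα : Fintype.card α = 24)
  {B : Set (Finset α)} (hB : IsSteinerSystem 5 8 B) (r : α)

include hα hB in
theorem ext_mem_aut {h : Equiv.Perm {a : α // a ≠ r}} (hh : h ∈ setSystemAut (dLines B r)) :
    extPerm r h ∈ setSystemAut B := by
  rw [Cfsg.Agent.S5628.mem_aut_iff] at hh ⊢
  have h2 : ∀ O ∈ dOvals B r, O.image h ∈ dOvals B r := by
    intro O hO
    obtain ⟨k1, hk1, k2, hk2, h3, rfl⟩ := (Cfsg.Agent.S0407.mem_dOvals_iff hα hB r).mp hO
    rw [Cfsg.Agent.S0407.mem_dOvals_iff hα hB r]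
    refine ⟨k1.image h, hh k1 hk1, k2.image h, hh k2 hk2, ?_, ?_⟩
    · rw [← image_inter _ _ h.injective, card_image_of_injective _ h.injective, h3]
    · exact image_symmDiff k1 k2 h.injective
  exact lift_blocks r r h hh h2

theorem mem_stab_iff {G : Subgroup (Equiv.Perm α)} (g : G) :
    g ∈ MulAction.stabilizer G r ↔ (g : Equiv.Perm α) r = r := by
  rw [MulAction.mem_stabilizer_iff]
  rfl

include hα hB in
/-- The point stabiliser in the automorphism group is the automorphism group of the derived
design. -/
noncomputable def stabEquiv :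
    MulAction.stabilizer (setSystemAut B) r ≃* setSystemAut (dLines B r) where
  toFun g := ⟨resPerm r g.1.1 ((mem_stab_iff r g.1).mp g.2),
    res_mem_aut r g.1.2 ((mem_stab_iff r g.1).mp g.2)⟩
  invFun h := ⟨⟨extPerm r h.1, ext_mem_aut hα hB r h.2⟩,
    (mem_stab_iff r _).mpr (extPerm_self r h.1)⟩
  left_inv g := by
    apply Subtype.ext
    apply Subtype.ext
    exact ext_res r g.1.1 ((mem_stab_iff r g.1).mp g.2)
  right_inv h := by
    apply Subtype.ext
    exact res_ext r h.1
  map_mul' g g' := by
    apply Subtype.ext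
    exact resPerm_mul r g.1.1 g'.1.1 ((mem_stab_iff r g.1).mp g.2) ((mem_stab_iff r g'.1).mp g'.2)

end golay

section trans

variable {α : Type*} [Fintype α] [DecidableEq α]

/-- A point stabiliser of an `(n+1)`-fold transitive group is `n`-fold transitive on the other
points. -/
theorem exists_fixing_of_pretransitive (G : Subgroup (Equiv.Perm α)) (r : α) (n : ℕ)
    (h : MulAction.IsMultiplyPretransitive G α (n + 1)) (x y : Fin n ↪ {a : α // a ≠ r}) :
    ∃ g : G, (g : Equiv.Perm α) r = r ∧ ∀ i, (g : Equiv.Perm α) (x i) = y i := by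
  rw [MulAction.isMultiplyPretransitive_iff] at h
  have hx : r ∉ Set.range (x.trans (Function.Embedding.subtype _)) := by
    rintro ⟨i, hi⟩
    exact (x i).2 hi
  have hy : r ∉ Set.range (y.trans (Function.Embedding.subtype _)) := by
    rintro ⟨i, hi⟩
    exact (y i).2 hi
  obtain ⟨g, hg⟩ := h
    (finSuccEquivLast.toEmbedding.trans
      (Function.Embedding.optionElim (x.trans (Function.Embedding.subtype _)) r hx))
    (finSuccEquivLast.toEmbedding.trans
      (Function.Embedding.optionElim (y.trans (Function.Embedding.subtype _)) r hy))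
  refine ⟨g, ?_, ?_⟩
  · have := DFunLike.congr_fun hg (Fin.last n)
    simp [Function.Embedding.smul_apply, Function.Embedding.optionElim] at this
    exact this
  · intro i
    have := DFunLike.congr_fun hg (Fin.castSucc i)
    simp [Function.Embedding.smul_apply, Function.Embedding.optionElim] at this
    exact this

end trans

end Cfsg.Agent.Helper8
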