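import Mathlib

set_option autoImplicit false
set_option linter.unusedSectionVars false

/-! Packed arithmetic for `9 × 9` matrices over the field with four elements.

A column vector of `F₄⁹` is a natural number below `2 ^ 18`: bit `i < 9` is the coefficient of `1` at
coordinate `i`, bit `i + 9` the coefficient of `ω`. A matrix is a number below `2 ^ 162`, column `k`
in bits `18 k, …, 18 k + 17`. -/

namespace Cfsg.Agent.Helper8.F4P

/-- Force the evaluation of a number before continuing (keeps kernel reduction shared). -/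
def force {α : Sort*} (n : ℕ) (k : ℕ → α) : α :=
  match n with
  | 0 => k 0
  | m + 1 => k (m + 1)

theorem force_eq {α : Sort*} (n : ℕ) (k : ℕ → α) : force n k = k n := by
  cases n <;> rfl

/-- Bits at the multiples of `18` below `162`. -/
def MASK : ℕ := 22300830269446873167754772512960987242168321

/-- Multiplication of a packed vector by `ω`. -/
def sw (c : ℕ) : ℕ :=
  Nat.lor (Nat.shiftRight c 9) (Nat.shiftLeft (Nat.xor (Nat.land c 511) (Nat.shiftRight c 9)) 9)

/-- Column `j` of a packed matrix. -/
def col (A j : ℕ) : ℕ := Nat.mod (Nat.shiftRight A (18 * j)) 262144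

/-- The contribution of column `j` of `A` to the product `A * B`. -/
def term (A B j : ℕ) : ℕ :=
  Nat.xor (Nat.mul (col A j) (Nat.land (Nat.shiftRight B j) MASK))
    (Nat.mul (sw (col A j)) (Nat.land (Nat.shiftRight B (j + 9)) MASK))

/-- The packed matrix product. -/
def mmulRaw (A B : ℕ) : ℕ :=
  (Nat.xor (term A B 0) (Nat.xor (term A B 1) (Nat.xor (term A B 2) (Nat.xor (term A B 3) (Nat.xor (term A B 4) (Nat.xor (term A B 5) (Nat.xor (term A B 6) (Nat.xor (term A B 7) (term A B 8)))))))))

/-- The packed matrix product, forcing its arguments first. -/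
def mmul (A B : ℕ) : ℕ := force A fun A => force B fun B => mmulRaw A B

theorem mmul_eq (A B : ℕ) : mmul A B = mmulRaw A B := by
  rw [mmul, force_eq, force_eq]

/-! ### Bit lemmas -/

theorem mask_bits : ∀ i, i < 162 → MASK.testBit i = true → 18 ∣ i := by decide +kernel

theorem mask_lt : MASK < 2 ^ 145 := by decide +kernel

theorem mask_dvd (i : ℕ) (h : MASK.testBit i = true) : 18 ∣ i := by
  by_cases hi : i < 162
  · exact mask_bits i hi h
  · exfalso
    have : MASK < 2 ^ i := lt_of_lt_of_le mask_lt (Nat.pow_le_pow_right (by norm_num) (by omega))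
    rw [Nat.testBit_lt_two_pow this] at h
    cases h

theorem mask_true : ∀ k, k < 9 → MASK.testBit (18 * k) = true := by decide +kernel

/-- Multiplying a number below `2 ^ 18` by a number whose bits sit at multiples of `18`. -/
theorem mul_sparse (c : ℕ) (hc : c < 2 ^ 18) : ∀ m : ℕ, (∀ i, m.testBit i = true → 18 ∣ i) →
    ∀ i, (c * m).testBit i = (m.testBit (18 * (i / 18)) && c.testBit (i % 18)) := by
  intro m
  induction m using Nat.strong_induction_on with
  | _ m ih =>
    intro hm i
    rcases Nat.eq_zero_or_pos m with rfl | hpos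
    · simp
    · have hlt : m / 2 ^ 18 < m := Nat.div_lt_self hpos (by norm_num)
      have hm' : ∀ i, (m / 2 ^ 18).testBit i = true → 18 ∣ i := by
        intro i hi
        rw [Nat.testBit_div_two_pow] at hi
        have := hm _ hi
        omega
      have hm0 : m % 2 ^ 18 = if m.testBit 0 then 1 else 0 := by
        apply Nat.eq_of_testBit_eq
        intro j
        rw [Nat.testBit_mod_two_pow]
        by_cases hj : j < 18
        · rcases Nat.eq_zero_or_pos j with rfl | hj0
          · by_cases h0 : m.testBit 0 <;> simp [h0]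
          · have h1 : m.testBit j = false := by
              by_contra hne
              rw [Bool.not_eq_false] at hne
              have := hm j hne
              omega
            have h2 : (if m.testBit 0 = true then 1 else 0 : ℕ).testBit j = false := by
              split_ifs
              · rw [show (1 : ℕ) = 2 ^ 0 by norm_num, Nat.testBit_two_pow]
                simp; omega
              · simp
            rw [h1, h2]; simp
        · have h2 : (if m.testBit 0 = true then 1 else 0 : ℕ).testBit j = false := by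
            split_ifs
            · rw [show (1 : ℕ) = 2 ^ 0 by norm_num, Nat.testBit_two_pow]
              simp; omega
            · simp
          rw [h2]; simp [hj]
      have hdecomp : c * m = 2 ^ 18 * (c * (m / 2 ^ 18)) + c * (m % 2 ^ 18) := by
        have := Nat.div_add_mod m (2 ^ 18)
        nlinarith [this]
      have hsmall : c * (m % 2 ^ 18) < 2 ^ 18 := by
        rw [hm0]; split_ifs <;> omega
      rw [hdecomp, Nat.testBit_two_pow_mul_add _ hsmall]
      by_cases hi : i < 18
      · rw [if_pos hi, hm0, Nat.div_eq_of_lt hi, Nat.mod_eq_of_lt hi]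
        by_cases h0 : m.testBit 0 <;> simp [h0]
      · rw [if_neg hi, ih _ hlt hm', Nat.testBit_div_two_pow]
        have e1 : 18 * ((i - 18) / 18) + 18 = 18 * (i / 18) := by omega
        have e2 : (i - 18) % 18 = i % 18 := by omega
        rw [e1, e2]


/-! ### Columns -/

theorem col_lt (A k : ℕ) : col A k < 2 ^ 18 := by
  unfold col
  exact Nat.mod_lt _ (by norm_num)

theorem testBit_col (A k r : ℕ) :
    (col A k).testBit r = (decide (r < 18) && A.testBit (18 * k + r)) := by
  unfold col
  show ((A >>> (18 * k)) % 262144).testBit r = _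
  rw [show (262144 : ℕ) = 2 ^ 18 by norm_num, Nat.testBit_mod_two_pow, Nat.testBit_shiftRight]

theorem col_xor (x y k : ℕ) : col (Nat.xor x y) k = Nat.xor (col x k) (col y k) := by
  unfold col
  show ((x ^^^ y) >>> (18 * k)) % 262144 = (x >>> (18 * k)) % 262144 ^^^ (y >>> (18 * k)) % 262144
  rw [show (262144 : ℕ) = 2 ^ 18 by norm_num, Nat.shiftRight_xor_distrib, Nat.xor_mod_two_pow]

/-- A bit as a number. -/
def bitN (B i : ℕ) : ℕ := if B.testBit i then 1 else 0

theorem testBit_lt18 {c : ℕ} (hc : c < 2 ^ 18) {r : ℕ} (hr : 18 ≤ r) : c.testBit r = false :=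
  Nat.testBit_lt_two_pow (lt_of_lt_of_le hc (Nat.pow_le_pow_right (by norm_num) hr))

theorem col_mul_mask (c : ℕ) (hc : c < 2 ^ 18) (B j k : ℕ) (hk : k < 9) :
    col (Nat.mul c (Nat.land (Nat.shiftRight B j) MASK)) k = c * bitN B (18 * k + j) := by
  apply Nat.eq_of_testBit_eq
  intro r
  rw [testBit_col]
  show (decide (r < 18) && (c * ((B >>> j) &&& MASK)).testBit (18 * k + r)) = _
  have hsp : ∀ i, ((B >>> j) &&& MASK).testBit i = true → 18 ∣ i := by
    intro i hi
    rw [Nat.testBit_and, Bool.and_eq_true] at hi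
    exact mask_dvd i hi.2
  by_cases hr : r < 18
  · rw [mul_sparse c hc _ hsp]
    have e1 : (18 * k + r) / 18 = k := by omega
    have e2 : (18 * k + r) % 18 = r := by omega
    rw [e1, e2, Nat.testBit_and, Nat.testBit_shiftRight, mask_true k hk]
    unfold bitN
    have e3 : j + 18 * k = 18 * k + j := by omega
    rw [e3]
    by_cases hb : B.testBit (18 * k + j) <;> simp [hb, hr]
  · have h2 : (c * bitN B (18 * k + j)).testBit r = false := by
      unfold bitN
      split_ifs
      · rw [Nat.mul_one]; exact testBit_lt18 hc (by omega)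
      · simp
    rw [h2]; simp [hr]

theorem sw_lt (c : ℕ) (hc : c < 2 ^ 18) : sw c < 2 ^ 18 := by
  unfold sw
  show (c >>> 9) ||| (((c &&& 511) ^^^ (c >>> 9)) <<< 9) < 2 ^ 18
  apply Nat.or_lt_two_pow
  · rw [Nat.shiftRight_eq_div_pow]
    have : c / 2 ^ 9 < 2 ^ 9 := by
      rw [Nat.div_lt_iff_lt_mul (by norm_num)]; norm_num at hc ⊢; omega
    exact lt_of_lt_of_le this (by norm_num)
  · rw [Nat.shiftLeft_eq]
    have h1 : c &&& 511 < 2 ^ 9 := by
      have := @Nat.and_le_right c 511
      omega
    have h2 : c >>> 9 < 2 ^ 9 := by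
      rw [Nat.shiftRight_eq_div_pow, Nat.div_lt_iff_lt_mul (by norm_num)]; norm_num at hc ⊢; omega
    have := Nat.xor_lt_two_pow h1 h2
    calc ((c &&& 511) ^^^ (c >>> 9)) * 2 ^ 9 < 2 ^ 9 * 2 ^ 9 := by
          exact Nat.mul_lt_mul_of_pos_right this (by norm_num)
      _ = 2 ^ 18 := by norm_num

theorem testBit_sw (c : ℕ) (hc : c < 2 ^ 18) (i : ℕ) :
    (sw c).testBit i = if i < 9 then c.testBit (i + 9)
      else if i < 18 then (c.testBit (i - 9) ^^ c.testBit i) else false := by
  unfold sw
  show ((c >>> 9) ||| (((c &&& 511) ^^^ (c >>> 9)) <<< 9)).testBit i = _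
  rw [Nat.testBit_or, Nat.testBit_shiftLeft, Nat.testBit_shiftRight, Nat.testBit_xor,
    Nat.testBit_and, Nat.testBit_shiftRight, show (511 : ℕ) = 2 ^ 9 - 1 by norm_num,
    Nat.testBit_two_pow_sub_one]
  by_cases h9 : i < 9
  · rw [if_pos h9]
    have : ¬ (i ≥ 9) := by omega
    simp [this, Nat.add_comm]
  · rw [if_neg h9]
    by_cases h18 : i < 18
    · rw [if_pos h18]
      have e1 : 9 + i ≥ 18 := by omega
      rw [testBit_lt18 hc e1]
      have e2 : i - 9 < 9 := by omega
      have e3 : 9 + (i - 9) = i := by omega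
      simp [e2, e3, (by omega : i ≥ 9)]
    · rw [if_neg h18]
      have e1 : 9 + i ≥ 18 := by omega
      rw [testBit_lt18 hc e1]
      have e2 : ¬ (i - 9 < 9) := by omega
      have e3 : 9 + (i - 9) = i := by omega
      rw [e3, testBit_lt18 hc (by omega : 18 ≤ i)]
      simp [e2]

/-- Column `k` of the contribution of column `j`. -/
def cterm (A B j k : ℕ) : ℕ :=
  Nat.xor (col A j * bitN B (18 * k + j)) (sw (col A j) * bitN B (18 * k + (j + 9)))

theorem col_term (A B j k : ℕ) (hk : k < 9) : col (term A B j) k = cterm A B j k := by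
  unfold term cterm
  rw [col_xor, col_mul_mask _ (col_lt A j) B j k hk,
    col_mul_mask _ (sw_lt _ (col_lt A j)) B (j + 9) k hk]

theorem col_mmulRaw (A B k : ℕ) (hk : k < 9) : col (mmulRaw A B) k =
    (Nat.xor (cterm A B 0 k) (Nat.xor (cterm A B 1 k) (Nat.xor (cterm A B 2 k) (Nat.xor (cterm A B 3 k) (Nat.xor (cterm A B 4 k) (Nat.xor (cterm A B 5 k) (Nat.xor (cterm A B 6 k) (Nat.xor (cterm A B 7 k) (cterm A B 8 k))))))))) := by
  unfold mmulRaw
  simp only [col_xor, col_term _ _ _ _ hk]


/-! ### Semantics -/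

/-- The index type: the field with nine elements as pairs. -/
abbrev I9 : Type := ZMod 3 × ZMod 3

/-- The position of a coordinate. -/
def ix (z : I9) : ℕ := 3 * z.1.val + z.2.val

theorem ix_lt (z : I9) : ix z < 9 := by
  have h1 := ZMod.val_lt z.1
  have h2 := ZMod.val_lt z.2
  unfold ix; omega

theorem ix_injective : Function.Injective ix := by decide

theorem sum9 {M : Type*} [AddCommMonoid M] (f : I9 → M) :
    ∑ y : I9, f y = f (0, 0) + f (0, 1) + f (0, 2) + f (1, 0) + f (1, 1) + f (1, 2) + f (2, 0) + f (2, 1) + f (2, 2) := by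
  rw [Fintype.sum_prod_type]
  simp only [show (∀ g : ZMod 3 → M, ∑ x : ZMod 3, g x = g 0 + g 1 + g 2) from
    fun g => Fin.sum_univ_three g]
  abel

section Sem

variable {F : Type*} [Field F] [CharP F 2] (ω : F)

/-- A bit as a field element. -/
def bF (b : Bool) : F := if b then 1 else 0

/-- The vector coded by a number. -/
def dec (c : ℕ) : I9 → F := fun w => bF (c.testBit (ix w)) + bF (c.testBit (ix w + 9)) * ω

/-- The matrix coded by a number. -/
def semM (A : ℕ) : Matrix I9 I9 F := Matrix.of fun w z => dec ω (col A (ix z)) w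

theorem bF_xor (a b : Bool) : (bF (a ^^ b) : F) = bF a + bF b := by
  cases a <;> cases b <;> simp [bF, CharTwo.add_self_eq_zero]

theorem dec_xor (x y : ℕ) : dec ω (Nat.xor x y) = dec ω x + dec ω y := by
  funext w
  show bF ((x ^^^ y).testBit (ix w)) + bF ((x ^^^ y).testBit (ix w + 9)) * ω = _
  rw [Nat.testBit_xor, Nat.testBit_xor, bF_xor, bF_xor]
  simp only [dec, Pi.add_apply]
  ring

theorem dec_mul_bit (c B i : ℕ) : dec ω (c * bitN B i) = (bF (B.testBit i) : F) • dec ω c := by
  unfold bitN
  by_cases h : B.testBit i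
  · simp [h, bF]
  · funext w
    simp [h, bF, dec]

theorem dec_sw (hω : ω ^ 2 = ω + 1) (c : ℕ) (hc : c < 2 ^ 18) : dec ω (sw c) = ω • dec ω c := by
  funext w
  have hw := ix_lt w
  simp only [dec, Pi.smul_apply, smul_eq_mul]
  rw [testBit_sw c hc, testBit_sw c hc, if_pos (by omega), if_neg (by omega), if_pos (by omega),
    bF_xor]
  have e : ix w + 9 - 9 = ix w := by omega
  rw [e]
  generalize (bF (c.testBit (ix w)) : F) = a
  generalize (bF (c.testBit (ix w + 9)) : F) = b
  have : ω * (a + b * ω) = a * ω + b * ω ^ 2 := by ring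
  rw [this, hω]
  ring


theorem ix_vals : ix (0, 0) = 0 ∧ ix (0, 1) = 1 ∧ ix (0, 2) = 2 ∧ ix (1, 0) = 3 ∧ ix (1, 1) = 4 ∧
    ix (1, 2) = 5 ∧ ix (2, 0) = 6 ∧ ix (2, 1) = 7 ∧ ix (2, 2) = 8 := by decide

theorem dec_col_apply (B k : ℕ) (y : I9) :
    dec ω (col B k) y = bF (B.testBit (18 * k + ix y)) + bF (B.testBit (18 * k + (ix y + 9))) * ω := by
  have hy := ix_lt y
  simp only [dec]
  rw [testBit_col, testBit_col]
  simp [(by omega : ix y < 18), (by omega : ix y + 9 < 18)]

theorem semM_mmul (hω : ω ^ 2 = ω + 1) (A B : ℕ) : semM ω (mmul A B) = semM ω A * semM ω B := by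
  ext w z
  obtain ⟨h0, h1, h2, h3, h4, h5, h6, h7, h8⟩ := ix_vals
  rw [Matrix.mul_apply, sum9]
  simp only [semM, Matrix.of_apply]
  rw [mmul_eq, col_mmulRaw _ _ _ (ix_lt z)]
  simp only [cterm, dec_xor, dec_mul_bit, dec_sw ω hω _ (col_lt _ _), Pi.add_apply, Pi.smul_apply,
    smul_eq_mul, dec_col_apply, h0, h1, h2, h3, h4, h5, h6, h7, h8]
  ring


/-! ### Injectivity and lines -/

variable (hω : ω ^ 2 = ω + 1)
include hω

theorem omega_ne_zero : ω ≠ 0 := by
  intro h
  rw [h] at hω
  simp at hω

theorem omega_ne_one : ω ≠ 1 := by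
  intro h
  rw [h] at hω
  have h2 : (1 : F) + 1 = 0 := CharTwo.add_self_eq_zero 1
  rw [h2] at hω
  simp at hω

theorem omega_add_one_ne_zero : ω + 1 ≠ 0 := by
  intro h
  have h2 : (1 : F) + 1 = 0 := CharTwo.add_self_eq_zero 1
  apply omega_ne_one ω hω
  linear_combination h - h2

theorem bits_eq_of_eq {a b a' b' : Bool} (h : (bF a : F) + bF b * ω = bF a' + bF b' * ω) :
    a = a' ∧ b = b' := by
  have h0 := omega_ne_zero ω hω
  have h1 := omega_ne_one ω hω
  have h2 := omega_add_one_ne_zero ω hω
  have h11 : (1 : F) + 1 = 0 := CharTwo.add_self_eq_zero 1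
  cases a <;> cases b <;> cases a' <;> cases b' <;> simp [bF] at h ⊢
  all_goals first
    | exact absurd h h0
    | exact absurd h.symm h0
    | exact absurd h h1
    | exact absurd h.symm h1
    | (exfalso; apply h2; linear_combination h)
    | (exfalso; apply h2; linear_combination -h)

theorem dec_inj {c c' : ℕ} (hc : c < 2 ^ 18) (hc' : c' < 2 ^ 18) (h : dec ω c = dec ω c') :
    c = c' := by
  apply Nat.eq_of_testBit_eq
  intro i
  by_cases hi : i < 18
  · by_cases h9 : i < 9
    · obtain ⟨w, hw⟩ : ∃ w : I9, ix w = i := by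
        revert i; decide
      have := (bits_eq_of_eq ω hω (congrFun h w)).1
      rw [hw] at this; exact this
    · obtain ⟨w, hw⟩ : ∃ w : I9, ix w = i - 9 := by
        have : i - 9 < 9 := by omega
        generalize i - 9 = j at this
        revert j; decide
      have := (bits_eq_of_eq ω hω (congrFun h w)).2
      rw [hw, show i - 9 + 9 = i by omega] at this; exact this
  · rw [testBit_lt18 hc (by omega), testBit_lt18 hc' (by omega)]


omit hω in
theorem sw_lo (c : ℕ) (hc : c < 2 ^ 18) (i : ℕ) (hi : i < 9) :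
    (sw c).testBit i = c.testBit (i + 9) := by
  rw [testBit_sw c hc, if_pos hi]

omit hω in
theorem sw_hi (c : ℕ) (hc : c < 2 ^ 18) (i : ℕ) (h1 : 9 ≤ i) (h2 : i < 18) :
    (sw c).testBit i = (c.testBit (i - 9) ^^ c.testBit i) := by
  rw [testBit_sw c hc, if_neg (by omega), if_pos h2]

omit hω in
theorem sw3 (c : ℕ) (hc : c < 2 ^ 18) : sw (sw (sw c)) = c := by
  have h1 := sw_lt c hc
  have h2 := sw_lt _ h1
  have h3 := sw_lt _ h2
  apply Nat.eq_of_testBit_eq
  intro i
  by_cases h9 : i < 9
  · rw [sw_lo _ h2 i h9, sw_hi _ h1 (i + 9) (by omega) (by omega), sw_lo _ hc (i + 9 - 9) (by omega),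
      sw_hi _ hc (i + 9) (by omega) (by omega)]
    have e : i + 9 - 9 = i := by omega
    rw [e]
    cases c.testBit i <;> cases c.testBit (i + 9) <;> rfl
  · by_cases h18 : i < 18
    · rw [sw_hi _ h2 i (by omega) h18, sw_lo _ h1 (i - 9) (by omega),
        sw_hi _ h1 i (by omega) h18, sw_lo _ hc (i - 9) (by omega)]
      have e : i - 9 + 9 = i := by omega
      rw [e, sw_hi _ hc i (by omega) h18]
      cases c.testBit i <;> cases c.testBit (i - 9) <;> rfl
    · rw [testBit_lt18 h3 (by omega), testBit_lt18 hc (by omega)]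

/-- The canonical multiple of a vector: the least code among its three nonzero multiples. -/
def key (c : ℕ) : ℕ :=
  force c fun c => force (sw c) fun c1 => force (sw c1) fun c2 =>
    cond (Nat.ble c c1) (cond (Nat.ble c c2) c c2) (cond (Nat.ble c1 c2) c1 c2)

omit hω in
theorem cond_ble {α : Type*} (a b : ℕ) (x y : α) :
    cond (Nat.ble a b) x y = if a ≤ b then x else y := by
  by_cases h : a ≤ b
  · rw [if_pos h, Nat.ble_eq_true_of_le h]; rfl
  · rw [if_neg h]
    have : Nat.ble a b = false := by
      rw [← Bool.not_eq_true, Nat.ble_eq]; exact h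
    rw [this]; rfl

omit hω in
theorem key_eq (c : ℕ) : key c = min c (min (sw c) (sw (sw c))) := by
  rw [key, force_eq, force_eq, force_eq, cond_ble, cond_ble, cond_ble]
  split_ifs <;> omega

omit hω in
theorem key_sw (c : ℕ) (hc : c < 2 ^ 18) : key (sw c) = key c := by
  rw [key_eq, key_eq, sw3 c hc]
  omega

/-- Proportional nonzero vectors have the same key. -/
theorem key_of_smul {c c' : ℕ} (hc : c < 2 ^ 18) (hc' : c' < 2 ^ 18) (hne : c' ≠ 0) (l : F)
    (h : dec ω c' = l • dec ω c) : key c' = key c := by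
  have h0 := omega_ne_zero ω hω
  have h2 := omega_add_one_ne_zero ω hω
  -- a nonzero coordinate
  obtain ⟨w, hw⟩ : ∃ w : I9, dec ω c' w ≠ 0 := by
    by_contra hcon
    push Not at hcon
    apply hne
    apply dec_inj ω hω hc' (by norm_num)
    funext w
    rw [hcon w]
    simp [dec, bF]
  have hvals : ∀ (d : ℕ) (w : I9), dec ω d w = 0 ∨ dec ω d w = 1 ∨ dec ω d w = ω ∨
      dec ω d w = ω + 1 := by
    intro d w
    simp only [dec, bF]
    cases d.testBit (ix w) <;> cases d.testBit (ix w + 9) <;> simp [add_comm]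
  have hlw : dec ω c' w = l * dec ω c w := by rw [h]; rfl
  have hl : l = 1 ∨ l = ω ∨ l = ω + 1 := by
    have hx : dec ω c w ≠ 0 := by
      intro hx; rw [hx, mul_zero] at hlw; exact hw hlw
    have e1 : ω * (ω + 1) = 1 := by
      have h11 : (1 : F) + 1 = 0 := CharTwo.add_self_eq_zero 1
      linear_combination hω + ω * h11
    rcases hvals c w with hx0 | hx1 | hx2 | hx3
    · exact absurd hx0 hx
    · rw [hx1, mul_one] at hlw
      rcases hvals c' w with hy | hy | hy | hy
      · exact absurd hy hw
      · left; rw [← hlw, hy]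
      · right; left; rw [← hlw, hy]
      · right; right; rw [← hlw, hy]
    · rw [hx2] at hlw
      have hl' : l = dec ω c' w * (ω + 1) := by
        rw [hlw, mul_assoc, e1, mul_one]
      rcases hvals c' w with hy | hy | hy | hy
      · exact absurd hy hw
      · right; right; rw [hl', hy, one_mul]
      · left; rw [hl', hy, e1]
      · right; left
        rw [hl', hy]
        have h11 : (1 : F) + 1 = 0 := CharTwo.add_self_eq_zero 1
        linear_combination hω + (ω + 1) * h11
    · rw [hx3] at hlw
      have hl' : l = dec ω c' w * ω := by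
        rw [hlw, mul_assoc, mul_comm (ω + 1) ω, e1, mul_one]
      rcases hvals c' w with hy | hy | hy | hy
      · exact absurd hy hw
      · right; left; rw [hl', hy, one_mul]
      · right; right; rw [hl', hy, ← pow_two, hω]
      · left; rw [hl', hy, mul_comm, e1]
  rcases hl with hl1 | hl1 | hl1 <;> rw [hl1] at h
  · rw [one_smul] at h
    rw [dec_inj ω hω hc' hc h]
  · rw [← dec_sw ω hω c hc] at h
    rw [dec_inj ω hω hc' (sw_lt c hc) h, key_sw c hc]
  · have e : (ω + 1) • dec ω c = dec ω (sw (sw c)) := by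
      rw [dec_sw ω hω _ (sw_lt c hc), dec_sw ω hω c hc, smul_smul, ← pow_two, hω]
    rw [e] at h
    rw [dec_inj ω hω hc' (sw_lt _ (sw_lt c hc)) h, key_sw _ (sw_lt c hc), key_sw c hc]

end Sem

end Cfsg.Agent.Helper8.F4P
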