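import Mathlib
import Cfsg.Agent.Lib.Helper97.FXDefs
import Cfsg.Agent.Lib.Helper97.FXDefs2
import Cfsg.Agent.Lib.Helper48.SympRep

/-!
# FX server wave-2 piece (CLBASE): `Clean` passes to extension of scalars
-/

set_option autoImplicit false

namespace Cfsg.Agent.Helper8.FX

open Cfsg.Agent.Helper97.FX Cfsg.Agent.Helper48.SympRep
open scoped TensorProduct

universe u

section DS
variable {K : Type*} [Field K] {G : Type*} [Group G] [Finite G]
variable {V : Type u} [AddCommGroup V] [Module K V] [FiniteDimensional K V]

/-- **(CLBASE) [S-M]** -/
theorem clean_base (L : Type*) [Field L] [Algebra K L] (ρ : G →* Module.End K V) (hc : Clean ρ) :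
    Clean (baseRep L ρ) := by
  classical
  intro N₀ hN hne hmin
  obtain ⟨h1, h2⟩ := hc N₀ hN hne hmin
  constructor
  · intro h0
    apply h1
    apply (algebraMap K L).injective
    rw [map_natCast, map_zero]
    exact h0
  · intro t
    have hfin : Fintype N₀ := Fintype.ofFinite _
    rw [finsum_eq_sum_of_fintype]
    simp only [baseRep_apply]
    induction t using TensorProduct.induction_on with
    | zero => simp
    | tmul l v =>
      have h3 := h2 v
      rw [finsum_eq_sum_of_fintype] at h3
      simp only [LinearMap.baseChange_tmul]
      rw [← TensorProduct.tmul_sum, h3, TensorProduct.tmul_zero]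
    | add a b ha hb =>
      simp only [map_add]
      rw [Finset.sum_add_distrib, ha, hb, add_zero]

end DS

end Cfsg.Agent.Helper8.FX
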