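import Mathlib
import Cfsg.Agent.Lib.Helper97.FXDefs
import Cfsg.Agent.Lib.Helper97.FXDefs2
import Cfsg.Agent.Lib.Helper48.SympRep

/-!
# FX server wave-2 piece (CLFAITH): a `Clean` representation on a nonzero space is faithful
-/

set_option autoImplicit false

namespace Cfsg.Agent.Helper8.FX

open Cfsg.Agent.Helper97.FX Cfsg.Agent.Helper48.SympRep
open scoped TensorProduct

universe u

section DS
variable {K : Type*} [Field K] {G : Type*} [Group G] [Finite G]
variable {V : Type u} [AddCommGroup V] [Module K V] [FiniteDimensional K V]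

omit [FiniteDimensional K V] in
/-- local copy of (MINSUB): a minimal normal subgroup inside a nontrivial normal subgroup -/
theorem h8_exists_minimal_normal_le (N : Subgroup G) (hN : N.Normal) (hne : N ≠ ⊥) :
    ∃ N₀ : Subgroup G, N₀.Normal ∧ N₀ ≠ ⊥ ∧ N₀ ≤ N ∧
      ∀ M : Subgroup G, M.Normal → M ≤ N₀ → M = ⊥ ∨ M = N₀ := by
  classical
  obtain ⟨N₀, ⟨hN₀n, hN₀ne, hN₀le⟩, hmin⟩ :=
    exists_minimal_of_wellFoundedLT (fun M : Subgroup G => M.Normal ∧ M ≠ ⊥ ∧ M ≤ N)
      ⟨N, hN, hne, le_rfl⟩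
  refine ⟨N₀, hN₀n, hN₀ne, hN₀le, ?_⟩
  intro M hMn hMle
  by_cases hM : M = ⊥
  · exact Or.inl hM
  · right
    exact le_antisymm hMle (hmin ⟨hMn, hM, hMle.trans hN₀le⟩ hMle)

/-- **(CLFAITH) [S-M]** -/
theorem clean_faithful [Nontrivial V] (ρ : G →* Module.End K V) (hc : Clean ρ) :
    Function.Injective ρ := by
  classical
  rw [← MonoidHom.ker_eq_bot_iff]
  by_contra hker
  obtain ⟨N₀, hN₀n, hN₀ne, hN₀le, hmin⟩ :=
    h8_exists_minimal_normal_le ρ.ker (MonoidHom.normal_ker ρ) hker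
  obtain ⟨h1, h2⟩ := hc N₀ hN₀n hN₀ne hmin
  obtain ⟨v, hv⟩ := exists_ne (0 : V)
  have hfin : Fintype N₀ := Fintype.ofFinite _
  have h3 := h2 v
  rw [finsum_eq_sum_of_fintype] at h3
  have h4 : ∀ n : N₀, ρ (n : G) v = v := by
    intro n
    have : ρ (n : G) = 1 := MonoidHom.mem_ker.mp (hN₀le n.2)
    rw [this, Module.End.one_apply]
  simp only [h4, Finset.sum_const, Finset.card_univ] at h3
  rw [← Nat.card_eq_fintype_card, ← Nat.cast_smul_eq_nsmul K] at h3
  rcases smul_eq_zero.mp h3 with h5 | h5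
  · exact h1 h5
  · exact hv h5

end DS

end Cfsg.Agent.Helper8.FX
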