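import Cfsg.Agent.Lib.Helper8.Steiner

set_option autoImplicit false
set_option linter.unusedSectionVars false

/-! A verified checker for "forcing certificates": derivations showing that a Steiner system
`S(t, t+1, v)` with restricted block intersection sizes is determined up to relabelling. Subsets of
`ℕ` are coded by bitmasks so that the kernel evaluates the checker quickly. -/

namespace Cfsg.Agent.Helper8.Forcing

open Cfsg Finset

/-- The set of positions of the binary digits `1` of `m`. -/
def bits (m : ℕ) : Finset ℕ := (Finset.range (m + 1)).filter (fun i => m.testBit i = true)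

theorem mem_bits {m i : ℕ} : i ∈ bits m ↔ m.testBit i = true := by
  unfold bits
  rw [mem_filter, mem_range]
  constructor
  · exact fun h => h.2
  · intro h
    refine ⟨?_, h⟩
    have h1 := Nat.ge_two_pow_of_testBit h
    have h2 := Nat.lt_two_pow_self (n := i)
    omega

theorem lt_of_mem_bits {m n i : ℕ} (hm : m < 2 ^ n) (hi : i ∈ bits m) : i < n := by
  rw [mem_bits] at hi
  by_contra hge
  rw [not_lt] at hge
  have := Nat.testBit_lt_two_pow (x := m) (i := i)
    (lt_of_lt_of_le hm (Nat.pow_le_pow_right (by norm_num) hge))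
  rw [this] at hi
  exact Bool.false_ne_true hi

/-- Number of binary digits `1` among the lowest `n`. -/
def pc (n m : ℕ) : ℕ := ((List.range n).filter (fun i => m.testBit i)).length

theorem pc_eq_card {n m : ℕ} (hm : m < 2 ^ n) : pc n m = (bits m).card := by
  unfold pc
  have : bits m = ((List.range n).filter (fun i => m.testBit i)).toFinset := by
    ext i
    rw [mem_bits, List.mem_toFinset, List.mem_filter, List.mem_range]
    constructor
    · intro h; exact ⟨lt_of_mem_bits hm (mem_bits.mpr h), h⟩
    · exact fun h => h.2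
  rw [this, List.toFinset_card_of_nodup (List.nodup_range.filter _)]

theorem bits_and (a b : ℕ) : bits (a &&& b) = bits a ∩ bits b := by
  ext i
  simp only [mem_bits, mem_inter, Nat.testBit_and, Bool.and_eq_true]

theorem bits_or_pow (a j : ℕ) : bits (a ||| 2 ^ j) = insert j (bits a) := by
  ext i
  simp only [mem_bits, mem_insert, Nat.testBit_or, Nat.testBit_two_pow, Bool.or_eq_true,
    decide_eq_true_eq]
  constructor
  · rintro (h | h)
    · exact Or.inr h
    · exact Or.inl h.symm
  · rintro (h | h)
    · exact Or.inr h.symm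
    · exact Or.inl h

theorem or_pow_lt {a j n : ℕ} (ha : a < 2 ^ n) (hj : j < n) : a ||| 2 ^ j < 2 ^ n :=
  Nat.or_lt_two_pow ha (Nat.pow_lt_pow_right (by norm_num) hj)

theorem lt_pow_succ {a n : ℕ} (ha : a < 2 ^ n) : a < 2 ^ (n + 1) :=
  lt_of_lt_of_le ha (Nat.pow_le_pow_right (by norm_num) (Nat.le_succ n))

/-- Certificates. The constructors `alt`, `altNew`, `altEnd` form the chain of alternatives
following a `pick`. -/
inductive Cert : Type
  | free (next : Cert)
  | pick (I : ℕ) (wit : List ℕ) (cov : ℕ) (alts : Cert)
  | alt (j : ℕ) (sub : Cert) (rest : Cert)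
  | altNew (sub : Cert)
  | altEnd
  | done (σ : List ℕ)

/-- Bounded universal quantifier evaluated as a Boolean. -/
def allLt (n : ℕ) (p : ℕ → Bool) : Bool := (List.range n).all p

theorem allLt_iff {n : ℕ} {p : ℕ → Bool} : allLt n p = true ↔ ∀ i < n, p i = true := by
  unfold allLt
  rw [List.all_eq_true]
  constructor
  · intro h i hi; exact h i (List.mem_range.mpr hi)
  · intro h i hi; exact h i (List.mem_range.mp hi)

/-- Point `j` is excluded from the block through `I` by the known block number `w`. -/
def excl (bad : ℕ → Bool) (n : ℕ) (Ks : List ℕ) (I j w : ℕ) : Bool :=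
  match Ks[w]? with
  | some K => bad (pc n (K &&& (I ||| 2 ^ j)))
  | none => false

/-- The checker. -/
def check (t v : ℕ) (bad : ℕ → Bool) (std : List ℕ) :
    Cert → Option (ℕ × ℕ) → ℕ → List ℕ → Bool
  | .free next, none, n, Ks =>
      decide (t ≤ n) && (decide (n < v) && check t v bad std next none (n + 1) Ks)
  | .pick I wit cov alts, none, n, Ks =>
      decide (I < 2 ^ n) && (decide (pc n I = t) &&
        (allLt n (fun j => !cov.testBit j || (I.testBit j || excl bad n Ks I j (wit.getD j 0))) &&
          check t v bad std alts (some (I, cov)) n Ks))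
  | .alt j sub rest, some (I, cov), n, Ks =>
      decide (j < n) && (check t v bad std sub none n ((I ||| 2 ^ j) :: Ks) &&
        check t v bad std rest (some (I, cov ||| 2 ^ j)) n Ks)
  | .altNew sub, some (I, cov), n, Ks =>
      decide (t ≤ n) && (decide (n < v) && (allLt n (fun j => cov.testBit j) &&
        check t v bad std sub none (n + 1) ((I ||| 2 ^ n) :: Ks)))
  | .altEnd, some (_, cov), n, _ =>
      decide (n = v) && allLt n (fun j => cov.testBit j)
  | .done σ, none, n, Ks =>
      decide (n = v) && (allLt v (fun i => decide (σ.getD i 0 < v)) &&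
        (allLt v (fun i => allLt v (fun j => decide (i = j) || !(σ.getD i 0 == σ.getD j 0))) &&
          (allLt t (fun i => σ.getD i 0 == i) &&
            std.all (fun S => Ks.any (fun K =>
              allLt v (fun i => !S.testBit i || K.testBit (σ.getD i 0)))))))
  | _, _, _, _ => false

section Sound

variable {α : Type*} [Fintype α] [DecidableEq α]

/-- The labelling `x` is injective below `n` and all listed blocks are blocks of `B`. -/
def Valid (B : Set (Finset α)) (x : ℕ → α) (n : ℕ) (Ks : List ℕ) : Prop :=
  Set.InjOn x (Set.Iio n) ∧ ∀ K ∈ Ks, K < 2 ^ n ∧ (bits K).image x ∈ B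

/-- The normal form to be reached. -/
def Goal (B : Set (Finset α)) (t v : ℕ) (std : List ℕ) (x : ℕ → α) : Prop :=
  ∃ y : ℕ → α, Set.InjOn y (Set.Iio v) ∧ (∀ i < t, y i = x i) ∧
    ∀ S ∈ std, (bits S).image y ∈ B

theorem injOn_bits {x : ℕ → α} {n K : ℕ} (hx : Set.InjOn x (Set.Iio n)) (hK : K < 2 ^ n) :
    Set.InjOn x (bits K : Set ℕ) :=
  hx.mono (fun i hi => lt_of_mem_bits hK (Finset.mem_coe.mp hi))

theorem injOn_bits_union {x : ℕ → α} {n K L : ℕ} (hx : Set.InjOn x (Set.Iio n))
    (hK : K < 2 ^ n) (hL : L < 2 ^ n) : Set.InjOn x ((bits K : Set ℕ) ∪ (bits L : Set ℕ)) := by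
  apply hx.mono
  intro i hi
  rcases hi with hi | hi
  · exact lt_of_mem_bits hK (Finset.mem_coe.mp hi)
  · exact lt_of_mem_bits hL (Finset.mem_coe.mp hi)

theorem exists_fresh {x : ℕ → α} {n : ℕ} (hn : n < Fintype.card α) :
    ∃ z, ∀ j < n, z ≠ x j := by
  by_contra hcon
  push Not at hcon
  have : (univ : Finset α) ⊆ (range n).image x := by
    intro z _
    obtain ⟨j, hj, hz⟩ := hcon z
    exact mem_image.mpr ⟨j, mem_range.mpr hj, hz.symm⟩
  have h1 := card_le_card this
  have h2 : ((range n).image x).card ≤ n := by
    calc ((range n).image x).card ≤ (range n).card := card_image_le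
      _ = n := card_range n
  rw [card_univ] at h1
  omega

theorem exists_label {x : ℕ → α} {v : ℕ} (hα : Fintype.card α = v)
    (hx : Set.InjOn x (Set.Iio v)) (z : α) : ∃ j < v, x j = z := by
  have hinj : Set.InjOn x ((range v : Finset ℕ) : Set ℕ) := by
    apply hx.mono
    intro i hi
    exact mem_range.mp (Finset.mem_coe.mp hi)
  have hc : ((range v).image x).card = Fintype.card α := by
    rw [card_image_of_injOn hinj, card_range, hα]
  have := (Finset.card_eq_iff_eq_univ _).mp hc
  have hz : z ∈ (range v).image x := by rw [this]; exact mem_univ z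
  obtain ⟨j, hj, hjz⟩ := mem_image.mp hz
  exact ⟨j, mem_range.mp hj, hjz⟩

theorem valid_update {B : Set (Finset α)} {x : ℕ → α} {n : ℕ} {Ks : List ℕ}
    (hV : Valid B x n Ks) (z : α) (hz : ∀ j < n, z ≠ x j) :
    Valid B (Function.update x n z) (n + 1) Ks ∧
      ∀ K, K < 2 ^ n → (bits K).image (Function.update x n z) = (bits K).image x := by
  have himg : ∀ K, K < 2 ^ n → (bits K).image (Function.update x n z) = (bits K).image x := by
    intro K hK
    apply image_congr
    intro i hi
    have : i < n := lt_of_mem_bits hK (Finset.mem_coe.mp hi)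
    exact Function.update_of_ne (by omega) _ _
  refine ⟨⟨?_, ?_⟩, himg⟩
  · intro i hi j hj hij
    rw [Set.mem_Iio] at hi hj
    by_cases hin : i = n
    · by_cases hjn : j = n
      · rw [hin, hjn]
      · exfalso
        rw [hin, Function.update_self, Function.update_of_ne hjn] at hij
        exact hz j (by omega) hij
    · by_cases hjn : j = n
      · exfalso
        rw [hjn, Function.update_self, Function.update_of_ne hin] at hij
        exact hz i (by omega) hij.symm
      · rw [Function.update_of_ne hin, Function.update_of_ne hjn] at hij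
        exact hV.1 (Set.mem_Iio.mpr (by omega)) (Set.mem_Iio.mpr (by omega)) hij
  · intro K hK
    obtain ⟨h1, h2⟩ := hV.2 K hK
    refine ⟨lt_pow_succ h1, ?_⟩
    rw [himg K h1]; exact h2

theorem goal_of_update {B : Set (Finset α)} {t v : ℕ} {std : List ℕ} {x : ℕ → α} {n : ℕ} (z : α)
    (htn : t ≤ n) (h : Goal B t v std (Function.update x n z)) : Goal B t v std x := by
  obtain ⟨y, hy, hy0, hyS⟩ := h
  refine ⟨y, hy, ?_, hyS⟩
  intro i hi
  rw [hy0 i hi]
  exact Function.update_of_ne (by omega) _ _

/-- Key exclusion lemma. -/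
theorem excl_sound {B : Set (Finset α)} {t : ℕ} {bad : ℕ → Bool} (hB : IsSteinerSystem t (t + 1) B)
    (hbad : ∀ b ∈ B, ∀ c ∈ B, b ≠ c → bad (b ∩ c).card = false) (hbadk : bad (t + 1) = false)
    {x : ℕ → α} {n : ℕ} {Ks : List ℕ} (hV : Valid B x n Ks) {I : ℕ} (hI : I < 2 ^ n)
    {z : α} (hblock : insert z ((bits I).image x) ∈ B)
    {j w : ℕ} (hj : j < n) (he : excl bad n Ks I j w = true) : z ≠ x j := by
  intro hzj
  unfold excl at he
  cases hK : Ks[w]? with
  | none => rw [hK] at he; exact Bool.false_ne_true he
  | some K =>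
    rw [hK] at he
    simp only at he
    have hKmem : K ∈ Ks := List.mem_of_getElem? hK
    obtain ⟨hKlt, hKB⟩ := hV.2 K hKmem
    have hM : I ||| 2 ^ j < 2 ^ n := or_pow_lt hI hj
    have hand : K &&& (I ||| 2 ^ j) < 2 ^ n := lt_of_le_of_lt Nat.and_le_left hKlt
    rw [pc_eq_card hand, bits_and] at he
    have himg : (bits (I ||| 2 ^ j)).image x = insert z ((bits I).image x) := by
      rw [bits_or_pow, image_insert, hzj]
    have hinter : ((bits K).image x ∩ (bits (I ||| 2 ^ j)).image x).card =
        (bits K ∩ bits (I ||| 2 ^ j)).card := by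
      rw [← image_inter_of_injOn _ _ (injOn_bits_union hV.1 hKlt hM)]
      apply card_image_of_injOn
      apply (injOn_bits hV.1 hKlt).mono
      intro i hi
      exact Finset.mem_coe.mpr (mem_of_mem_inter_left (Finset.mem_coe.mp hi))
    rw [← hinter, himg] at he
    by_cases heq : (bits K).image x = insert z ((bits I).image x)
    · rw [heq, inter_self, hB.1 _ hblock, hbadk] at he
      exact Bool.false_ne_true he
    · rw [hbad _ hKB _ hblock heq] at he
      exact Bool.false_ne_true he

/-- Soundness of the checker. -/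
theorem sound {B : Set (Finset α)} {t v : ℕ} {bad : ℕ → Bool} {std : List ℕ}
    (hα : Fintype.card α = v) (hB : IsSteinerSystem t (t + 1) B)
    (hbad : ∀ b ∈ B, ∀ c ∈ B, b ≠ c → bad (b ∩ c).card = false) (hbadk : bad (t + 1) = false)
    (hstd : ∀ S ∈ std, S < 2 ^ v ∧ pc v S = t + 1) (c : Cert) :
    ∀ (mode : Option (ℕ × ℕ)) (n : ℕ) (Ks : List ℕ) (x : ℕ → α),
      check t v bad std c mode n Ks = true → Valid B x n Ks →
      (mode = none → Goal B t v std x) ∧
      (∀ I cov, mode = some (I, cov) → I < 2 ^ n → (bits I).card = t →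
        ∀ z, z ∉ (bits I).image x → insert z ((bits I).image x) ∈ B →
          (∀ j < n, cov.testBit j = true → z ≠ x j) → Goal B t v std x) := by
  induction c with
  | free next ih =>
    intro mode n Ks x hc hV
    rcases mode with _ | ⟨I, cov⟩
    · refine ⟨fun _ => ?_, fun I cov h => by cases h⟩
      simp only [check, Bool.and_eq_true, decide_eq_true_eq] at hc
      obtain ⟨htn, hnv, hnext⟩ := hc
      obtain ⟨z, hz⟩ := exists_fresh (x := x) (n := n) (by rw [hα]; exact hnv)
      obtain ⟨hV', -⟩ := valid_update hV z hz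
      exact goal_of_update z htn ((ih none (n + 1) Ks _ hnext hV').1 rfl)
    · simp [check] at hc
  | pick I wit cov alts ih =>
    intro mode n Ks x hc hV
    rcases mode with _ | ⟨I', cov'⟩
    · refine ⟨fun _ => ?_, fun I cov h => by cases h⟩
      simp only [check, Bool.and_eq_true, decide_eq_true_eq] at hc
      obtain ⟨hI, hpc, hall, halts⟩ := hc
      rw [pc_eq_card hI] at hpc
      have hcardimg : ((bits I).image x).card = t := by
        rw [card_image_of_injOn (injOn_bits hV.1 hI), hpc]
      obtain ⟨b, ⟨hbB, hsub⟩, -⟩ := hB.2 _ hcardimg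
      have hbcard := hB.1 b hbB
      have hsd : (b \ (bits I).image x).card = 1 := by
        rw [card_sdiff_of_subset hsub, hbcard, hcardimg]; omega
      obtain ⟨z, hz⟩ := card_eq_one.mp hsd
      have hzmem : z ∈ b \ (bits I).image x := by rw [hz]; exact mem_singleton_self z
      rw [mem_sdiff] at hzmem
      have hbeq : insert z ((bits I).image x) = b := by
        rw [← Finset.sdiff_union_of_subset hsub, hz]
        rfl
      have hblock : insert z ((bits I).image x) ∈ B := by rw [hbeq]; exact hbB
      rw [allLt_iff] at hall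
      refine (ih (some (I, cov)) n Ks x halts hV).2 I cov rfl hI hpc z hzmem.2 hblock ?_
      intro j hj hcov
      have := hall j hj
      rw [hcov] at this
      simp only [Bool.not_true, Bool.false_or, Bool.or_eq_true] at this
      rcases this with h | h
      · intro hzj
        apply hzmem.2
        rw [hzj]
        exact mem_image_of_mem x (mem_bits.mpr h)
      · exact excl_sound hB hbad hbadk hV hI hblock hj h
    · simp [check] at hc
  | alt j sub rest ihsub ihrest =>
    intro mode n Ks x hc hV
    rcases mode with _ | ⟨I, cov⟩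
    · simp [check] at hc
    · refine ⟨fun h => (by cases h), ?_⟩
      intro I' cov' hmode hI hcard z hz hblock hcov
      cases hmode
      simp only [check, Bool.and_eq_true, decide_eq_true_eq] at hc
      obtain ⟨hj, hsub, hrest⟩ := hc
      by_cases hzj : z = x j
      · have hV' : Valid B x n ((I ||| 2 ^ j) :: Ks) := by
          refine ⟨hV.1, ?_⟩
          intro K hK
          rw [List.mem_cons] at hK
          rcases hK with rfl | hK
          · refine ⟨or_pow_lt hI hj, ?_⟩
            rw [bits_or_pow, image_insert, ← hzj]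
            exact hblock
          · exact hV.2 K hK
        exact (ihsub none n _ x hsub hV').1 rfl
      · refine (ihrest (some (I, cov ||| 2 ^ j)) n Ks x hrest hV).2 I _ rfl hI hcard z hz hblock ?_
        intro i hi hbit
        rw [Nat.testBit_or, Nat.testBit_two_pow, Bool.or_eq_true, decide_eq_true_eq] at hbit
        rcases hbit with h | h
        · exact hcov i hi h
        · rw [← h]; exact hzj
  | altNew sub ih =>
    intro mode n Ks x hc hV
    rcases mode with _ | ⟨I, cov⟩
    · simp [check] at hc
    · refine ⟨fun h => (by cases h), ?_⟩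
      intro I' cov' hmode hI hcard z hz hblock hcov
      cases hmode
      simp only [check, Bool.and_eq_true, decide_eq_true_eq] at hc
      obtain ⟨htn, hnv, hall, hsub⟩ := hc
      rw [allLt_iff] at hall
      have hfresh : ∀ j < n, z ≠ x j := fun j hj => hcov j hj (hall j hj)
      obtain ⟨hV', himg⟩ := valid_update hV z hfresh
      have hV'' : Valid B (Function.update x n z) (n + 1) ((I ||| 2 ^ n) :: Ks) := by
        refine ⟨hV'.1, ?_⟩
        intro K hK
        rw [List.mem_cons] at hK
        rcases hK with rfl | hK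
        · refine ⟨or_pow_lt (lt_pow_succ hI) (Nat.lt_succ_self n), ?_⟩
          rw [bits_or_pow, image_insert, Function.update_self, himg I hI]
          exact hblock
        · exact hV'.2 K hK
      exact goal_of_update z htn ((ih none (n + 1) _ _ hsub hV'').1 rfl)
  | altEnd =>
    intro mode n Ks x hc hV
    rcases mode with _ | ⟨I, cov⟩
    · simp [check] at hc
    · refine ⟨fun h => (by cases h), ?_⟩
      intro I' cov' hmode hI hcard z hz hblock hcov
      cases hmode
      simp only [check, Bool.and_eq_true, decide_eq_true_eq] at hc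
      obtain ⟨hnv, hall⟩ := hc
      rw [allLt_iff] at hall
      exfalso
      subst hnv
      obtain ⟨j, hj, hjz⟩ := exists_label hα hV.1 z
      exact hcov j hj (hall j hj) hjz.symm
  | done σ =>
    intro mode n Ks x hc hV
    rcases mode with _ | ⟨I, cov⟩
    · refine ⟨fun _ => ?_, fun I cov h => by cases h⟩
      simp only [check, Bool.and_eq_true, decide_eq_true_eq] at hc
      obtain ⟨hnv, hlt, hinj, hfix, hall⟩ := hc
      subst hnv
      rw [allLt_iff] at hlt hinj hfix
      have hσlt : ∀ i < n, σ.getD i 0 < n := fun i hi => by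
        have := hlt i hi
        rwa [decide_eq_true_eq] at this
      have hσinj : ∀ i < n, ∀ j < n, σ.getD i 0 = σ.getD j 0 → i = j := by
        intro i hi j hj hij
        have := allLt_iff.mp (hinj i hi) j hj
        rw [Bool.or_eq_true, decide_eq_true_eq, Bool.not_eq_true', beq_eq_false_iff_ne] at this
        rcases this with h | h
        · exact h
        · exact absurd hij h
      have hσfix : ∀ i < t, σ.getD i 0 = i := fun i hi => by
        have := hfix i hi
        rwa [beq_iff_eq] at this
      have hyinj : Set.InjOn (fun i => x (σ.getD i 0)) (Set.Iio n) := by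
        intro i hi j hj hij
        rw [Set.mem_Iio] at hi hj
        exact hσinj i hi j hj (hV.1 (Set.mem_Iio.mpr (hσlt i hi)) (Set.mem_Iio.mpr (hσlt j hj)) hij)
      refine ⟨fun i => x (σ.getD i 0), hyinj, ?_, ?_⟩
      · intro i hi
        show x (σ.getD i 0) = x i
        rw [hσfix i hi]
      · intro S hS
        rw [List.all_eq_true] at hall
        have h1 := hall S hS
        rw [List.any_eq_true] at h1
        obtain ⟨K, hK, hKS⟩ := h1
        rw [allLt_iff] at hKS
        obtain ⟨hSlt, hSpc⟩ := hstd S hS
        rw [pc_eq_card hSlt] at hSpc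
        obtain ⟨hKlt, hKB⟩ := hV.2 K hK
        have hKcard : (bits K).card = t + 1 := by
          rw [← card_image_of_injOn (injOn_bits hV.1 hKlt)]
          exact hB.1 _ hKB
        have hsub : (bits S).image (fun i => σ.getD i 0) ⊆ bits K := by
          intro m hm
          obtain ⟨i, hi, rfl⟩ := mem_image.mp hm
          have hilt := lt_of_mem_bits hSlt hi
          have := hKS i hilt
          rw [mem_bits] at hi
          rw [hi] at this
          simpa using mem_bits.mpr this
        have hcard : ((bits S).image (fun i => σ.getD i 0)).card = t + 1 := by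
          rw [card_image_of_injOn, hSpc]
          intro i hi j hj hij
          exact hσinj i (lt_of_mem_bits hSlt (Finset.mem_coe.mp hi)) j
            (lt_of_mem_bits hSlt (Finset.mem_coe.mp hj)) hij
        have heq : (bits S).image (fun i => σ.getD i 0) = bits K :=
          eq_of_subset_of_card_le hsub (by rw [hcard, hKcard])
        have : (bits S).image (fun i => x (σ.getD i 0)) = (bits K).image x := by
          rw [← heq, image_image]
          rfl
        rw [this]
        exact hKB
    · simp [check] at hc

end Sound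

section NormalForm

variable {α : Type*} [Fintype α] [DecidableEq α]

theorem bits_injective : Function.Injective bits := by
  intro a b h
  apply Nat.eq_of_testBit_eq
  intro i
  rw [Bool.eq_iff_iff, ← mem_bits, ← mem_bits, h]

/-- From a successful check: every ordered `t`-tuple of points extends to a labelling under which
all the standard blocks are blocks. -/
theorem normal_form {B : Set (Finset α)} {t v : ℕ} {bad : ℕ → Bool} {std : List ℕ} (c : Cert)
    (ht : 0 < t) (hcheck : check t v bad std c none t [] = true) (hbadk : bad (t + 1) = false)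
    (hstd : ∀ S ∈ std, S < 2 ^ v ∧ pc v S = t + 1)
    (hα : Fintype.card α = v) (hB : IsSteinerSystem t (t + 1) B)
    (hbad : ∀ b ∈ B, ∀ c ∈ B, b ≠ c → bad (b ∩ c).card = false) (x₀ : Fin t ↪ α) :
    ∃ y : ℕ → α, Set.InjOn y (Set.Iio v) ∧ (∀ i : Fin t, y i = x₀ i) ∧
      ∀ S ∈ std, (bits S).image y ∈ B := by
  let x : ℕ → α := fun i => if h : i < t then x₀ ⟨i, h⟩ else x₀ ⟨0, ht⟩
  have hV : Valid B x t [] := by
    refine ⟨?_, fun K hK => absurd hK List.not_mem_nil⟩
    intro i hi j hj hij
    rw [Set.mem_Iio] at hi hj
    simp only [x, dif_pos hi, dif_pos hj] at hij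
    exact Fin.mk.inj_iff.mp (x₀.injective hij)
  obtain ⟨y, hy, hy0, hyS⟩ := (sound hα hB hbad hbadk hstd c none t [] x hcheck hV).1 rfl
  refine ⟨y, hy, ?_, hyS⟩
  intro i
  rw [hy0 i i.2]
  simp only [x, dif_pos i.2]

/-- A labelling under which the blocks are exactly the standard ones. -/
def IsNF (B : Set (Finset α)) (v : ℕ) (std : List ℕ) (y : ℕ → α) : Prop :=
  Set.InjOn y (Set.Iio v) ∧ ∀ b, b ∈ B ↔ ∃ S ∈ std, (bits S).image y = b

theorem isNF_of_subset {B : Set (Finset α)} {v : ℕ} {std : List ℕ} {y : ℕ → α}
    (hy : Set.InjOn y (Set.Iio v)) (hstd : ∀ S ∈ std, S < 2 ^ v) (hnd : std.Nodup)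
    (hN : (blocksF B).card = std.length) (hyS : ∀ S ∈ std, (bits S).image y ∈ B) :
    IsNF B v std y := by
  refine ⟨hy, ?_⟩
  have hinj : Set.InjOn (fun S => (bits S).image y) (std.toFinset : Set ℕ) := by
    intro S hS S' hS' h
    rw [Finset.mem_coe, List.mem_toFinset] at hS hS'
    apply bits_injective
    have key : ∀ T T', T < 2 ^ v → T' < 2 ^ v → (bits T).image y = (bits T').image y →
        bits T ⊆ bits T' := by
      intro T T' hT hT' hTT i hi
      have : y i ∈ (bits T').image y := by rw [← hTT]; exact mem_image_of_mem y hi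
      obtain ⟨j, hj, hji⟩ := mem_image.mp this
      have := hy (Set.mem_Iio.mpr (lt_of_mem_bits hT' hj)) (Set.mem_Iio.mpr (lt_of_mem_bits hT hi)) hji
      rw [← this]; exact hj
    exact Finset.Subset.antisymm (key S S' (hstd S hS) (hstd S' hS') h)
      (key S' S (hstd S' hS') (hstd S hS) h.symm)
  have hsub : std.toFinset.image (fun S => (bits S).image y) ⊆ blocksF B := by
    intro b hb
    obtain ⟨S, hS, rfl⟩ := mem_image.mp hb
    exact mem_blocksF.mpr (hyS S (List.mem_toFinset.mp hS))
  have hcard : (std.toFinset.image (fun S => (bits S).image y)).card = std.length := by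
    rw [card_image_of_injOn hinj, List.toFinset_card_of_nodup hnd]
  have heq := eq_of_subset_of_card_le hsub (by rw [hcard, hN])
  intro b
  rw [← mem_blocksF, ← heq, mem_image]
  constructor
  · rintro ⟨S, hS, h⟩; exact ⟨S, List.mem_toFinset.mp hS, h⟩
  · rintro ⟨S, hS, h⟩; exact ⟨S, List.mem_toFinset.mpr hS, h⟩

/-- The bijection `Fin v ≃ α` given by a labelling. -/
noncomputable def labelEquiv {v : ℕ} (hα : Fintype.card α = v) (y : ℕ → α)
    (hy : Set.InjOn y (Set.Iio v)) : Fin v ≃ α :=
  Equiv.ofBijective (fun i : Fin v => y i) (by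
    rw [Fintype.bijective_iff_injective_and_card]
    refine ⟨?_, by rw [Fintype.card_fin, hα]⟩
    intro i j hij
    exact Fin.ext (hy (Set.mem_Iio.mpr i.2) (Set.mem_Iio.mpr j.2) hij))

theorem labelEquiv_apply {v : ℕ} (hα : Fintype.card α = v) (y : ℕ → α)
    (hy : Set.InjOn y (Set.Iio v)) (i : Fin v) : labelEquiv hα y hy i = y i := rfl

variable {β : Type*} [Fintype β] [DecidableEq β]

/-- Two systems with the same normal form are isomorphic, by a bijection matching the labels. -/
theorem iso_of_isNF {B : Set (Finset α)} {B' : Set (Finset β)} {v : ℕ} {std : List ℕ}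
    (hα : Fintype.card α = v) (hβ : Fintype.card β = v) (hstd : ∀ S ∈ std, S < 2 ^ v)
    {y : ℕ → α} {y' : ℕ → β} (h : IsNF B v std y) (h' : IsNF B' v std y') :
    ∃ e : α ≃ β, (∀ i < v, e (y i) = y' i) ∧ (fun b : Finset α => b.image e) '' B = B' := by
  let e : α ≃ β := (labelEquiv hα y h.1).symm.trans (labelEquiv hβ y' h'.1)
  have he : ∀ i < v, e (y i) = y' i := by
    intro i hi
    have : y i = labelEquiv hα y h.1 ⟨i, hi⟩ := rfl
    simp only [e, Equiv.trans_apply]
    rw [this, Equiv.symm_apply_apply]
    rfl
  have himg : ∀ S ∈ std, ((bits S).image y).image e = (bits S).image y' := by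
    intro S hS
    rw [image_image]
    apply image_congr
    intro i hi
    exact he i (lt_of_mem_bits (hstd S hS) (Finset.mem_coe.mp hi))
  refine ⟨e, he, ?_⟩
  ext b'
  constructor
  · rintro ⟨b, hb, rfl⟩
    obtain ⟨S, hS, rfl⟩ := (h.2 b).mp hb
    show ((bits S).image y).image e ∈ B'
    rw [himg S hS]
    exact (h'.2 _).mpr ⟨S, hS, rfl⟩
  · intro hb'
    obtain ⟨S, hS, rfl⟩ := (h'.2 b').mp hb'
    exact ⟨(bits S).image y, (h.2 _).mpr ⟨S, hS, rfl⟩, himg S hS⟩

end NormalForm

end Cfsg.Agent.Helper8.Forcing
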