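import Mathlib
import Cfsg.Agent.Lib.Helper84.PslCrit

set_option autoImplicit false

/-! A simplicity criterion for the `2`-fusion system of a group with one class of involutions whose
Sylow `2`-subgroups are generated by involutions and have a centre of order two (groups of `J₃`
type), stated through data that can be transported along isomorphisms. -/

namespace Cfsg.Agent.Helper8.FusC

open Cfsg Cfsg.FusionSystem

/-- The data on a Sylow `2`-subgroup `P`, a central involution `t` of `P` and a subgroup `Q` of `P`
normal in the centraliser of `t` and containing its own centraliser. -/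
structure FusData {G : Type*} [Group G] (P Q : Subgroup G) (t : G) : Prop where
  conj : ∀ x y : G, orderOf x = 2 → orderOf y = 2 → IsConj x y
  pgroup : IsPGroup 2 P
  index : ¬ 2 ∣ P.index
  gen : P ≤ Subgroup.closure {x | x ∈ P ∧ orderOf x = 2}
  t_mem : t ∈ P
  t_ord : orderOf t = 2
  t_central : ∀ y ∈ P, t * y = y * t
  center : ∀ x ∈ P, (∀ y ∈ P, x * y = y * x) → x = 1 ∨ x = t
  QP : Q ≤ P
  Qnorm : ∀ c : G, c * t = t * c → ∀ q ∈ Q, c * q * c⁻¹ ∈ Q
  Qcent : ∀ c : G, (∀ q ∈ Q, c * q = q * c) → c ∈ Q
  gen2 : ∀ c : G, c * t = t * c →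
    c ∈ Subgroup.closure {g : G | g * t = t * g ∧ ∃ m : ℕ, orderOf g = 2 ^ m}

section Transport

variable {G G' : Type*} [Group G] [Group G']

theorem FusData.comap (e : G ≃* G') {P Q : Subgroup G'} {t : G'} (h : FusData P Q t) :
    FusData (P.comap e.toMonoidHom) (Q.comap e.toMonoidHom) (e.symm t) := by
  have hmem : ∀ (H : Subgroup G') (x : G), x ∈ H.comap e.toMonoidHom ↔ e x ∈ H := fun H x => Iff.rfl
  have hord : ∀ x : G, orderOf (e x) = orderOf x := fun x => MulEquiv.orderOf_eq e x
  have het : e (e.symm t) = t := e.apply_symm_apply t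
  have hcomm : ∀ c : G, c * e.symm t = e.symm t * c → e c * t = t * e c := by
    intro c hc
    have := congrArg e hc
    rw [map_mul, map_mul, het] at this
    exact this
  refine ⟨?_, ?_, ?_, ?_, ?_, ?_, ?_, ?_, ?_, ?_, ?_, ?_⟩
  · intro x y hx hy
    have := h.conj (e x) (e y) (by rw [hord, hx]) (by rw [hord, hy])
    obtain ⟨c, hc⟩ := isConj_iff.mp this
    rw [isConj_iff]
    refine ⟨e.symm c, ?_⟩
    apply e.injective
    rw [map_mul, map_mul, map_inv, e.apply_symm_apply, hc]
  · intro x
    obtain ⟨k, hk⟩ := h.pgroup ⟨e x, x.2⟩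
    refine ⟨k, ?_⟩
    apply Subtype.ext
    apply e.injective
    have h1 : (e (x : G)) ^ 2 ^ k = 1 := by simpa using congrArg Subtype.val hk
    rw [Subgroup.coe_pow, map_pow, Subgroup.coe_one, map_one]
    exact h1
  · rw [Subgroup.index_comap_of_surjective _ e.surjective]
    exact h.index
  · intro x hx
    have h1 : e x ∈ Subgroup.closure {y | y ∈ P ∧ orderOf y = 2} := h.gen hx
    have key : ∀ y ∈ Subgroup.closure {y | y ∈ P ∧ orderOf y = 2},
        e.symm y ∈ Subgroup.closure {x | x ∈ P.comap e.toMonoidHom ∧ orderOf x = 2} := by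
      intro y hy
      induction hy using Subgroup.closure_induction with
      | mem y hy =>
        apply Subgroup.subset_closure
        refine ⟨?_, ?_⟩
        · show e (e.symm y) ∈ P
          rw [e.apply_symm_apply]; exact hy.1
        · rw [← hord, e.apply_symm_apply]; exact hy.2
      | one => rw [map_one]; exact Subgroup.one_mem _
      | mul a b _ _ ha hb => rw [map_mul]; exact Subgroup.mul_mem _ ha hb
      | inv a _ ha => rw [map_inv]; exact Subgroup.inv_mem _ ha
    have := key _ h1
    rw [e.symm_apply_apply] at this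
    exact this
  · show e (e.symm t) ∈ P
    rw [het]; exact h.t_mem
  · rw [← hord, het]; exact h.t_ord
  · intro y hy
    apply e.injective
    rw [map_mul, map_mul, het]
    exact h.t_central _ hy
  · intro x hx hc
    have := h.center (e x) hx (by
      intro y hy
      have := hc (e.symm y) (by show e (e.symm y) ∈ P; rw [e.apply_symm_apply]; exact hy)
      have := congrArg e this
      rw [map_mul, map_mul, e.apply_symm_apply] at this
      exact this)
    rcases this with h1 | h1
    · left
      apply e.injective
      rw [h1, map_one]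
    · right
      apply e.injective
      rw [h1, het]
  · intro x hx
    exact h.QP hx
  · intro c hc q hq
    show e (c * q * c⁻¹) ∈ Q
    rw [map_mul, map_mul, map_inv]
    exact h.Qnorm (e c) (hcomm c hc) (e q) hq
  · intro c hc
    show e c ∈ Q
    apply h.Qcent
    intro q hq
    have := hc (e.symm q) (by show e (e.symm q) ∈ Q; rw [e.apply_symm_apply]; exact hq)
    have := congrArg e this
    rw [map_mul, map_mul, e.apply_symm_apply] at this
    exact this
  · intro c hc
    have h1 := h.gen2 (e c) (hcomm c hc)
    have key : ∀ y ∈ Subgroup.closure {g : G' | g * t = t * g ∧ ∃ m : ℕ, orderOf g = 2 ^ m},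
        e.symm y ∈ Subgroup.closure
          {g : G | g * e.symm t = e.symm t * g ∧ ∃ m : ℕ, orderOf g = 2 ^ m} := by
      intro y hy
      induction hy using Subgroup.closure_induction with
      | mem y hy =>
        apply Subgroup.subset_closure
        refine ⟨?_, ?_⟩
        · rw [← map_mul, ← map_mul, hy.1]
        · obtain ⟨m, hm⟩ := hy.2
          exact ⟨m, by rw [← hord, e.apply_symm_apply, hm]⟩
      | one => rw [map_one]; exact Subgroup.one_mem _
      | mul a b _ _ ha hb => rw [map_mul]; exact Subgroup.mul_mem _ ha hb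
      | inv a _ ha => rw [map_inv]; exact Subgroup.inv_mem _ ha
    have := key _ h1
    rw [e.symm_apply_apply] at this
    exact this

end Transport

section Core

variable {G : Type*} [Group G] [Finite G]

omit [Finite G] in
/-- Elements commuting with `t` normalise `Q`. -/
theorem FusData.mem_normalizer {P Q : Subgroup G} {t : G} (h : FusData P Q t) {c : G}
    (hc : c * t = t * c) : c ∈ Subgroup.normalizer (Q : Set G) := by
  rw [Subgroup.mem_normalizer_iff]
  intro q
  constructor
  · exact h.Qnorm c hc q
  · intro hq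
    have hc' : c⁻¹ * t = t * c⁻¹ := by
      calc c⁻¹ * t = c⁻¹ * (t * c) * c⁻¹ := by group
        _ = c⁻¹ * (c * t) * c⁻¹ := by rw [hc]
        _ = t * c⁻¹ := by group
    have := h.Qnorm c⁻¹ hc' _ hq
    have e : c⁻¹ * (c * q * c⁻¹) * c⁻¹⁻¹ = q := by group
    rw [e] at this
    exact this

/-- The criterion, for the Sylow subgroup `P` itself. -/
theorem FusData.simple_of_eq {P Q : Subgroup G} {t : G} (h : FusData P Q t) (S : Sylow 2 G)
    (hS : (S : Subgroup G) = P) : (groupFusionSystem (S : Subgroup G)).IsSimple 2 := by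
  have : Fact (Nat.Prime 2) := ⟨Nat.prime_two⟩
  have ht1 : t ≠ 1 := by
    intro h1
    have := h.t_ord
    rw [h1, orderOf_one] at this
    omega
  apply Cfsg.Agent.Helper84.PslCrit.simple_crit S
  · -- nontrivial
    rw [hS]
    intro hbot
    have := h.t_mem
    rw [hbot, Subgroup.mem_bot] at this
    exact ht1 this
  · -- strongly closed subgroups
    intro T hT
    by_cases hTb : T = ⊥
    · left; exact hTb
    right
    obtain ⟨hTS, hcl⟩ := hT
    apply le_antisymm hTS
    rw [hS]
    -- an involution of `T`
    have hTp : IsPGroup 2 T := (hS ▸ S.isPGroup' : IsPGroup 2 (S : Subgroup G)).to_le hTS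
    have hTnt : Nontrivial T := (Subgroup.nontrivial_iff_ne_bot T).mpr hTb
    obtain ⟨n, hn⟩ := hTp.exists_card_eq
    have hn0 : n ≠ 0 := by
      intro h0
      rw [h0, pow_zero] at hn
      have := (Nat.card_eq_one_iff_unique.mp hn).1
      exact not_subsingleton T this
    have h2 : 2 ∣ Nat.card T := by rw [hn]; exact dvd_pow_self 2 hn0
    obtain ⟨x, hx⟩ := exists_prime_orderOf_dvd_card' 2 h2
    have hx2 : orderOf (x : G) = 2 := by rw [Subgroup.orderOf_coe]; exact hx
    have hxS : (x : G) ∈ (S : Subgroup G) := hTS x.2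
    -- all involutions of `P` lie in `T`
    have hinv : ∀ y : G, y ∈ P → orderOf y = 2 → y ∈ T := by
      intro y hyP hy2
      obtain ⟨g, hg⟩ := isConj_iff.mp (h.conj (x : G) y hx2 hy2)
      set R : Subgroup G := Subgroup.zpowers (x : G) with hR
      have hRT : R ≤ T := by
        rw [hR, Subgroup.zpowers_le]; exact x.2
      have hRcases : ∀ r : R, (r : G) = 1 ∨ (r : G) = x := by
        intro r
        obtain ⟨k, hk⟩ := Subgroup.mem_zpowers_iff.mp r.2
        have hx2' : (x : G) ^ (2 : ℤ) = 1 := by
          have := pow_orderOf_eq_one (x : G)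
          rw [hx2] at this
          rw [zpow_ofNat]; exact this
        rcases Int.even_or_odd' k with ⟨i, rfl | rfl⟩
        · left
          rw [← hk, zpow_mul, hx2', one_zpow]
        · right
          rw [← hk, zpow_add_one, zpow_mul, hx2', one_zpow, one_mul]
      let φ : R →* G := (MulAut.conj g).toMonoidHom.comp R.subtype
      have hφ : φ ∈ (groupFusionSystem (S : Subgroup G)).Hom R := by
        refine ⟨le_trans hRT hTS, ?_, g, fun r => rfl⟩
        intro r
        show g * (r : G) * g⁻¹ ∈ (S : Subgroup G)
        rcases hRcases r with h1 | h1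
        · rw [h1]; simp
        · rw [h1, hg, hS]; exact hyP
      have := hcl R hRT φ hφ ⟨x, Subgroup.mem_zpowers _⟩
      have e : φ ⟨x, Subgroup.mem_zpowers _⟩ = y := hg
      rw [e] at this
      exact this
    refine le_trans h.gen ?_
    rw [Subgroup.closure_le]
    intro y hy
    exact hinv y hy.1 hy.2
  · -- the normaliser
    intro g hg
    apply Subgroup.subset_closure
    refine ⟨hg, Q, ?_, ?_, ?_⟩
    · -- fully normalised
      refine ⟨hS ▸ h.QP, ?_⟩
      intro Q' _
      have e : normalizerIn (S : Subgroup G) Q = (S : Subgroup G) := by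
        unfold normalizerIn
        apply inf_eq_left.mpr
        intro y hy
        rw [hS] at hy
        exact h.mem_normalizer (h.t_central y hy).symm
      rw [e]
      exact Subgroup.card_le_of_le inf_le_left
    · -- centric
      refine ⟨hS ▸ h.QP, ?_⟩
      intro Q' hQ'
      obtain ⟨φ, ⟨-, -, g', hg'⟩, hrange⟩ := hQ'
      intro x hx
      obtain ⟨-, hxc⟩ := Subgroup.mem_inf.mp hx
      rw [Subgroup.mem_centralizer_iff] at hxc
      have hmem : g'⁻¹ * x * g' ∈ Q := by
        apply h.Qcent
        intro q hq
        have h1 : φ ⟨q, hq⟩ ∈ (Q' : Set G) := by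
          rw [← hrange]; exact ⟨⟨q, hq⟩, rfl⟩
        have h2 := hxc _ h1
        rw [hg'] at h2
        simp only at h2
        calc g'⁻¹ * x * g' * q = g'⁻¹ * (x * (g' * q * g'⁻¹)) * g' := by group
          _ = g'⁻¹ * ((g' * q * g'⁻¹) * x) * g' := by rw [h2]
          _ = q * (g'⁻¹ * x * g') := by group
      rw [← hrange]
      refine ⟨⟨_, hmem⟩, ?_⟩
      rw [hg']
      simp only
      group
    · -- generation by `2`-elements
      have hgt : g * t = t * g := by
        have hgP : g ∈ Subgroup.normalizer ((P : Subgroup G) : Set G) := hS ▸ hg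
        have hmemP : g * t * g⁻¹ ∈ P := (Subgroup.mem_normalizer_iff.mp hgP t).mp h.t_mem
        have hcen : ∀ y ∈ P, g * t * g⁻¹ * y = y * (g * t * g⁻¹) := by
          intro y hy
          have hy' : g⁻¹ * y * g ∈ P := by
            have := (Subgroup.mem_normalizer_iff.mp (Subgroup.inv_mem _ hgP) y).mp hy
            simpa using this
          have := h.t_central _ hy'
          calc g * t * g⁻¹ * y = g * (t * (g⁻¹ * y * g)) * g⁻¹ := by group
            _ = g * ((g⁻¹ * y * g) * t) * g⁻¹ := by rw [this]
            _ = y * (g * t * g⁻¹) := by group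
        rcases h.center _ hmemP hcen with h1 | h1
        · exfalso
          apply ht1
          calc t = g⁻¹ * (g * t * g⁻¹) * g := by group
            _ = 1 := by rw [h1]; group
        · calc g * t = (g * t * g⁻¹) * g := by group
            _ = t * g := by rw [h1]
      refine Subgroup.closure_mono ?_ (h.gen2 g hgt)
      rintro k ⟨hk, hm⟩
      exact ⟨h.mem_normalizer hk, hm⟩

/-- The criterion, for every Sylow `2`-subgroup. -/
theorem FusData.simple {P Q : Subgroup G} {t : G} (h : FusData P Q t) (S : Sylow 2 G) :
    (groupFusionSystem (S : Subgroup G)).IsSimple 2 := by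
  have : Fact (Nat.Prime 2) := ⟨Nat.prime_two⟩
  let P₁ : Sylow 2 G := h.pgroup.toSylow h.index
  obtain ⟨g, hg⟩ := MulAction.exists_smul_eq G P₁ S
  let e : G ≃* G := MulAut.conj g⁻¹
  have hd := h.comap e
  apply hd.simple_of_eq S
  ext x
  rw [← hg, Sylow.coe_subgroup_smul, Subgroup.mem_pointwise_smul_iff_inv_smul_mem]
  show (MulAut.conj g)⁻¹ • x ∈ (P₁ : Subgroup G) ↔ e x ∈ P
  rw [← map_inv, MulAut.smul_def]
  rfl

end Core

end Cfsg.Agent.Helper8.FusC
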