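import Mathlib
import Cfsg.Agent.Lib.Helper31.G2Defs
import Cfsg.Agent.Lib.Helper31.SGAll
import Cfsg.Agent.Lib.Helper57.SGCRIT

/-!
# G2 lemma server (helper31, S3795): piece (CRIT2) `g2_crit`

Eigenvalue version of `Helper57.SG.sg_crit` (same hypotheses): every `P`-th root of unity `≠ 1`
(`P = p ^ n'`) is an eigenvalue of `ψ y`.  The first part of the proof is the proof of
`Helper57.SG.sg_crit` (Lib/Helper57/SGCRIT.lean), the end is new.
-/

set_option autoImplicit false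

namespace Cfsg.Agent.Helper8.G2

open Module Subgroup Cfsg.Agent.Helper31.SG Cfsg.Agent.Helper31.G2
open Cfsg.Agent.Helper48.SympRep Cfsg.Agent.Helper57.SG

/-- the additional arithmetic: `N = d` and hence `d ≤ e`. -/
lemma h8_arith2 {d N P e c : ℕ} (hd : 1 < d) (hdP : d + 1 = P) (hN : N * P = d * d + (P - 1))
    (h3 : d * d ≤ e * c) (h2 : c ≤ N) : d ≤ e := by
  subst hdP
  have h5 : N * (d + 1) = d * (d + 1) := by
    rw [hN, Nat.add_sub_cancel]
    ring
  have h6 : N = d := Nat.eq_of_mul_eq_mul_right (by omega) h5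
  subst h6
  have h7 : N * N ≤ e * N := h3.trans (Nat.mul_le_mul_left _ h2)
  exact Nat.le_of_mul_le_mul_right h7 (by omega)

theorem g2_crit {K : Type*} [Field K] [IsAlgClosed K] {M : Type*} [AddCommGroup M] [Module K M]
    [FiniteDimensional K M] {Γ : Type*} [Group Γ] (ψ : Γ →* Module.End K M) (Qs : Subgroup Γ)
    [Finite Qs] (y : Γ) {p n' : ℕ} (hp : p.Prime) (hQK : (Nat.card Qs : K) ≠ 0)
    (hpK : (p : K) ≠ 0) (hy : y ^ p ^ n' = 1) (hyQ : ∀ u ∈ Qs, y * u * y⁻¹ ∈ Qs)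
    (hirr : ∀ N : Submodule K M, (∀ u ∈ Qs, ∀ v ∈ N, ψ u v ∈ N) → N = ⊥ ∨ N = ⊤)
    (hcs : ∀ u ∈ Qs, ∀ w ∈ Qs, ∃ l : K, ψ (u * w * u⁻¹ * w⁻¹) = l • 1)
    (hsemi : ∀ k, 0 < k → k < p ^ n' → ∀ u ∈ Qs,
      (∃ l : K, ψ (y ^ k * u * (y ^ k)⁻¹ * u⁻¹) = l • 1) → ∃ l : K, ψ u = l • 1)
    (hfix : ∀ m : M, ψ y m = m → m = 0) (hd : 1 < finrank K M)
    (S : Subgroup Γ) (hSQ : S ≤ Qs) (hS : ∀ u ∈ Qs, u ∈ S ↔ ∃ l : K, ψ u = l • 1) :
    ∀ ζ : K, ζ ^ p ^ n' = 1 → ζ ≠ 1 → ∃ m : M, m ≠ 0 ∧ ψ y m = ζ • m := by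
  classical
  have : Fintype Qs := Fintype.ofFinite _
  have hMnt : Nontrivial M := Module.nontrivial_of_finrank_pos (R := K) (by omega)
  have hQ : (Fintype.card Qs : K) ≠ 0 := by
    rw [← Nat.card_eq_fintype_card]; exact hQK
  set P : ℕ := p ^ n' with hPdef
  have hPpos : 0 < P := pow_pos hp.pos _
  have hPK : ((P : ℕ) : K) ≠ 0 := by
    rw [hPdef, Nat.cast_pow]
    exact pow_ne_zero _ hpK
  -- the representation of `Qs`
  let ρ : ↥Qs →* Module.End K M := ψ.comp Qs.subtype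
  have hρ : ∀ u : Qs, ρ u = ψ u.1 := fun _ => rfl
  have hirr' : Irr ρ := by
    intro N hN
    exact hirr N (fun u hu v hv => hN ⟨u, hu⟩ v hv)
  have hcs' : ∀ u w : Qs, ∃ l : K, ρ u * ρ w = l • (ρ w * ρ u) := by
    intro u w
    obtain ⟨l, hl⟩ := hcs u.1 u.2 w.1 w.2
    refine ⟨l, ?_⟩
    rw [hρ, hρ, ← map_mul, ← map_mul]
    have e1 : u.1 * w.1 = (u.1 * w.1 * u.1⁻¹ * w.1⁻¹) * (w.1 * u.1) := by group
    rw [e1, map_mul, hl, smul_mul_assoc, one_mul]
  have hsymp : Symp ρ :=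
    { comm_scalar := hcs'
      nondeg := fun u hu => schur hirr' (ρ u) (fun γ => hu γ) }
  have hcomm : ∀ C ∈ commutant ρ, IsScalar C := fun C hC => schur hirr' C hC
  have hSs : scalarSubgroup ρ = S.subgroupOf Qs := by
    ext u
    rw [Subgroup.mem_subgroupOf, mem_scalarSubgroup]
    exact (hS u.1 u.2).symm
  -- the automorphism induced by `y`
  let g : Module.End K M := ψ y
  let g' : Module.End K M := ψ y⁻¹
  let aHom : ↥Qs →* ↥Qs :=
    { toFun := fun u => ⟨y * u.1 * y⁻¹, hyQ u.1 u.2⟩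
      map_one' := by apply Subtype.ext; simp
      map_mul' := by intro u w; apply Subtype.ext; simp [mul_assoc] }
  have haInj : Function.Injective aHom := by
    intro u w huw
    have h1 : y * u.1 * y⁻¹ = y * w.1 * y⁻¹ := congrArg Subtype.val huw
    apply Subtype.ext
    simpa using h1
  let a : ↥Qs ≃* ↥Qs := MulEquiv.ofBijective aHom (Finite.injective_iff_bijective.mp haInj)
  have ha : ∀ u : Qs, ((a u : ↥Qs) : Γ) = y * u.1 * y⁻¹ := fun u => rfl
  have haiter : ∀ (k : ℕ) (u : Qs), ((a^[k] u : ↥Qs) : Γ) = y ^ k * u.1 * (y ^ k)⁻¹ := by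
    intro k u
    induction k with
    | zero => simp
    | succ k ih =>
      rw [Function.iterate_succ_apply', ha, ih, pow_succ', mul_inv_rev]
      simp only [mul_assoc]
  have hnorm : Normalises ρ a g g' :=
    { mul_inv := by
        show ψ y * ψ y⁻¹ = 1
        rw [← map_mul, mul_inv_cancel, map_one]
      inv_mul := by
        show ψ y⁻¹ * ψ y = 1
        rw [← map_mul, inv_mul_cancel, map_one]
      conj := by
        intro u
        show ψ y * ψ u.1 = ψ (a u).1 * ψ y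
        rw [← map_mul, ← map_mul, ha]
        congr 1
        group }
  have hgP : g ^ P = 1 := by
    show ψ y ^ P = 1
    rw [← map_pow, hPdef, hy, map_one]
  -- eigenbasis of `g`
  obtain ⟨ι, _, b, η, hb⟩ := exists_eigenbasis g P hPK hgP
  have hη : ∀ i, η i ≠ 1 := by
    intro i h1
    have h2 : g (b i) = b i := by rw [(hb i).1, h1, one_smul]
    exact b.ne_zero i (hfix _ h2)
  let E : Finset K := (Polynomial.nthRootsFinset P (1 : K)).erase 1
  have hE : ∀ i, η i ∈ E := by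
    intro i
    rw [Finset.mem_erase]
    exact ⟨hη i, (Polynomial.mem_nthRootsFinset hPpos 1).mpr (hb i).2⟩
  have hEcard : E.card ≤ P - 1 := by
    have h1 : (1 : K) ∈ Polynomial.nthRootsFinset P (1 : K) :=
      (Polynomial.mem_nthRootsFinset hPpos 1).mpr (one_pow P)
    rw [Finset.card_erase_of_mem h1]
    have h2 : (Polynomial.nthRootsFinset P (1 : K)).card ≤ P := by
      unfold Polynomial.nthRootsFinset
      exact (Multiset.toFinset_card_le _).trans (Polynomial.card_nthRoots P 1)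
    omega
  -- the permutation of `Qs / S`
  have hσP : sigma hnorm ^ P = 1 := sigma_pow_eq_one hnorm hgP
  have hσ1 : sigma hnorm (1 : ↥Qs ⧸ scalarSubgroup ρ) = 1 := by
    have h1 := sigma_mk hnorm (1 : ↥Qs)
    rw [map_one] at h1
    exact h1
  have hσfix : ∀ k, 0 < k → k < P → ∀ w : ↥Qs ⧸ scalarSubgroup ρ,
      (sigma hnorm ^ k) w = w → w = 1 := by
    intro k hk0 hkP w hw
    obtain ⟨w, rfl⟩ := QuotientGroup.mk_surjective w
    rw [sigma_pow_mk] at hw
    have h1 : w⁻¹ * a^[k] w ∈ scalarSubgroup ρ := QuotientGroup.eq.mp hw.symm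
    have h2 : w * (w⁻¹ * a^[k] w) * w⁻¹ ∈ scalarSubgroup ρ :=
      (scalarSubgroup_normal ρ).conj_mem _ h1 w
    have h3 : w * (w⁻¹ * a^[k] w) * w⁻¹ = a^[k] w * w⁻¹ := by group
    rw [h3, mem_scalarSubgroup] at h2
    obtain ⟨l, hl⟩ := h2
    have h4 : ψ (y ^ k * w.1 * (y ^ k)⁻¹ * w.1⁻¹) = l • 1 := by
      rw [← hl, hρ]
      congr 1
      rw [Subgroup.coe_mul, haiter, Subgroup.coe_inv]
    have h5 := hsemi k hk0 hkP w.1 w.2 ⟨l, h4⟩
    apply (QuotientGroup.eq_one_iff w).mpr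
    rw [mem_scalarSubgroup]
    exact h5
  have hN := helper57_card_orbits (sigma hnorm) P hPpos hσP 1 hσ1 hσfix
  -- the inequalities
  have h1 := card_mul_finrank_le hsymp hQ
  have h1' := finrank_sq_le hsymp hQ hcomm
  have h2 := finrank_centr_le hsymp hQ hnorm
  have h3 := sq_le_card_mul_finrank_centr b (fun i => (hb i).1) E hE
  have hDpos : 0 < finrank K (commutant ρ) := finrank_commutant_pos ρ
  have hDle : finrank K (commutant ρ) ≤ 1 := by
    apply finrank_le_one (⟨1, one_mem_commutant ρ⟩ : commutant ρ)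
    rintro ⟨C, hC⟩
    obtain ⟨l, hl⟩ := hcomm C hC
    exact ⟨l, Subtype.ext hl.symm⟩
  have hD : finrank K (commutant ρ) = 1 := le_antisymm hDle hDpos
  rw [hD, mul_one] at h1 h2
  have hn : Nat.card (↥Qs ⧸ scalarSubgroup ρ) = finrank K M * finrank K M := le_antisymm h1 h1'
  -- lower bound for the centraliser of `g`
  have h4 : finrank K M ≤ finrank K (centr g) := by
    let f : ι → centr g := fun i =>
      ⟨unitEnd b i i, unitEnd_mem_centr b (fun i => (hb i).1) rfl⟩
    have hf : LinearIndependent K f := by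
      apply LinearIndependent.of_comp (centr g).subtype
      exact (unitEnd_linearIndependent b).comp (fun i : ι => (i, i))
        (fun i j hij => (Prod.ext_iff.mp hij).1)
    have h5 := hf.fintype_card_le_finrank
    rw [Module.finrank_eq_card_basis b]
    exact h5
  rw [hn] at hN
  have hdP : finrank K M + 1 = P := helper57_arith hd hPpos hN h3 hEcard h2 h4
  -- the set of actual eigenvalues
  let E' : Finset K := Finset.univ.image η
  have hE'E : E' ⊆ E := by
    intro z hz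
    obtain ⟨i, _, rfl⟩ := Finset.mem_image.1 hz
    exact hE i
  have h3' := sq_le_card_mul_finrank_centr b (fun i => (hb i).1) E'
    (fun i => Finset.mem_image_of_mem _ (Finset.mem_univ i))
  have hdE' : finrank K M ≤ E'.card := h8_arith2 hd hdP hN h3' h2
  have hE'eq : E' = E := Finset.eq_of_subset_of_card_le hE'E (by omega)
  intro ζ hζP hζ1
  have hζE : ζ ∈ E := by
    rw [Finset.mem_erase]
    exact ⟨hζ1, (Polynomial.mem_nthRootsFinset hPpos 1).mpr hζP⟩
  rw [← hE'eq] at hζE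
  obtain ⟨i, _, hi⟩ := Finset.mem_image.1 hζE
  refine ⟨b i, b.ne_zero i, ?_⟩
  rw [← hi]
  exact (hb i).1

end Cfsg.Agent.Helper8.G2
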