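import Mathlib
import Cfsg.Agent.Lib.Helper14.GLIDefs
import Cfsg.Agent.Lib.Helper42.SemiConj5
import Cfsg.Agent.Lib.Helper42.SemiConj6

set_option autoImplicit false

namespace Cfsg.Agent.Helper8.GLI

open Module Polynomial Cfsg.Agent.Helper14.GLI

/-- no non-trivial `r`-th roots of unity when `r ∤ q - 1` -/
theorem h8_root_eq_one {F : Type*} [Field F] [Fintype F] (r : ℕ) (hr : r.Prime)
    (hndvd : ¬ r ∣ Fintype.card F - 1) (μ : F) (hμ : μ ^ r = 1) : μ = 1 := by
  classical
  have hμ0 : μ ≠ 0 := by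
    rintro rfl
    rw [zero_pow hr.ne_zero] at hμ
    exact zero_ne_one hμ
  obtain ⟨u, hu0⟩ : ∃ u : Fˣ, u = Units.mk0 μ hμ0 := ⟨_, rfl⟩
  have hu : u ^ r = 1 := by
    apply Units.ext
    rw [Units.val_pow_eq_pow_val, Units.val_one, hu0, Units.val_mk0]
    exact hμ
  have h1 : orderOf u ∣ r := orderOf_dvd_of_pow_eq_one hu
  have h2 : orderOf u ∣ Fintype.card F - 1 := by
    rw [← Fintype.card_units]
    exact orderOf_dvd_card
  rcases (Nat.dvd_prime hr).mp h1 with h | h
  · have h4 : u = 1 := orderOf_eq_one_iff.mp h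
    have h3 := congrArg Units.val h4
    rw [hu0, Units.val_mk0, Units.val_one] at h3
    exact h3
  · rw [h] at h2
    exact absurd h2 hndvd

open Cfsg.Agent.Helper42.SemiConj in
/-- (GBLK) an element of order dividing `r` of `SL_n(F)` with `m` blocks of dimension `c`. -/
theorem exists_sl_block {F : Type*} [Field F] [Fintype F] {p : ℕ} [Fact p.Prime] [CharP F p]
    (n r : ℕ) [Fact r.Prime] (hrp : r ≠ p)
    (hc1 : 1 < orderOf ((Fintype.card F : ℕ) : ZMod r)) (m : ℕ)
    (hm : m * orderOf ((Fintype.card F : ℕ) : ZMod r) ≤ n) :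
    ∃ A : Matrix.SpecialLinearGroup (Fin n) F, A ^ r = 1 ∧
      finrank F (LinearMap.ker (Matrix.toLin' (A : Matrix (Fin n) (Fin n) F) - 1))
        + m * orderOf ((Fintype.card F : ℕ) : ZMod r) = n := by
  classical
  have hr : r.Prime := Fact.out
  obtain ⟨e, he⟩ : ∃ e : ℕ, e = orderOf ((Fintype.card F : ℕ) : ZMod r) := ⟨_, rfl⟩
  rw [← he] at hc1 hm ⊢
  have hq1 : 1 ≤ Fintype.card F := Fintype.card_pos
  have hr1 : ¬ r ∣ Fintype.card F - 1 := by
    intro hdvd
    have h1 : ((Fintype.card F : ℕ) : ZMod r) = 1 := by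
      have h2 : ((Fintype.card F - 1 : ℕ) : ZMod r) = 0 := (ZMod.natCast_eq_zero_iff _ _).2 hdvd
      rw [Nat.cast_sub hq1, Nat.cast_one, sub_eq_zero] at h2
      exact h2
    rw [h1, orderOf_one] at he
    omega
  have hcard := cyc_card (F := F) r hr hrp
  rw [← he] at hcard
  have hne : (cycFactors F r).Nonempty := by
    rw [← Finset.card_pos]
    by_contra h0
    have h0' : (cycFactors F r).card = 0 := by omega
    rw [h0', zero_mul] at hcard
    have := hr.two_le
    omega
  obtain ⟨f₀, hf₀⟩ := hne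
  have hdeg : f₀.natDegree = e := by
    rw [he]
    exact cyc_natDegree r hr hrp f₀ hf₀
  have hX1 : (X - 1 : F[X]) = X - C 1 := by rw [map_one]
  have hXmem : (X - 1 : F[X]) ∈ powFactors F r := by
    unfold powFactors
    exact Finset.mem_insert_self _ _
  have hf₀ne : f₀ ≠ X - 1 := fun h => X_sub_one_notMem_cyc r hr hrp (h ▸ hf₀)
  let mu : F[X] → ℕ := fun f => if f = X - 1 then n - m * e else if f = f₀ then m else 0
  have hsum : ∑ f ∈ powFactors F r, f.natDegree * mu f = n := by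
    unfold powFactors
    rw [Finset.sum_insert (X_sub_one_notMem_cyc r hr hrp),
      Finset.sum_eq_single_of_mem f₀ hf₀]
    · simp only [mu, if_pos, hf₀ne, if_false, hdeg]
      rw [hX1, Polynomial.natDegree_X_sub_C, one_mul]
      have : e * m = m * e := mul_comm _ _
      omega
    · intro f hf hne
      have h1 : f ≠ X - 1 := fun h => X_sub_one_notMem_cyc r hr hrp (h ▸ hf)
      simp only [mu, h1, hne, if_false, mul_zero]
  obtain ⟨A, hA0, hAkd⟩ := exists_matrix_of_kd (powFactors F r) (powFactors_irr r)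
    (powFactors_coprime r hr hrp) mu hsum
  have hAr : A ^ r = 1 := by
    rw [powFactors_prod r hr hrp, aeval_pow_sub_one, sub_eq_zero] at hA0
    exact hA0
  have hkd1 : finrank F (LinearMap.ker (aeval (Matrix.toLin' A) (X - 1 : F[X]))) = n - m * e := by
    have h3 := hAkd _ hXmem
    unfold kd at h3
    rw [h3]
    simp only [mu, if_pos]
    rw [hX1, Polynomial.natDegree_X_sub_C, one_mul]
  have hdet : A.det = 1 := by
    apply h8_root_eq_one r hr hr1
    rw [← Matrix.det_pow, hAr, Matrix.det_one]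
  obtain ⟨As, hAs⟩ : ∃ As : Matrix.SpecialLinearGroup (Fin n) F,
      (As : Matrix (Fin n) (Fin n) F) = A := ⟨⟨A, hdet⟩, rfl⟩
  refine ⟨As, ?_, ?_⟩
  · have h5 : ((As ^ r : Matrix.SpecialLinearGroup (Fin n) F) : Matrix (Fin n) (Fin n) F) =
        ((1 : Matrix.SpecialLinearGroup (Fin n) F) : Matrix (Fin n) (Fin n) F) := by
      rw [Matrix.SpecialLinearGroup.coe_pow, Matrix.SpecialLinearGroup.coe_one, hAs, hAr]
    exact Subtype.ext h5
  · have h4 : aeval (Matrix.toLin' A) (X - 1 : F[X]) = Matrix.toLin' A - 1 := by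
      rw [map_sub, aeval_X, map_one]
    rw [h4] at hkd1
    rw [hAs, hkd1]
    omega

end Cfsg.Agent.Helper8.GLI
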