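import Mathlib

/-!
# GS4 (V) `exists_complement` (helper8, for helper87's GS4 server, S2608)
-/

set_option autoImplicit false

namespace Cfsg.Agent.Helper8.GS4

/-- if `t` fixes `v = k⁻¹ (t k t⁻¹)` and `t ^ 3 = 1` then `v ^ 3 = 1` -/
theorem h8_cube_eq_one {G : Type*} [Group G] (t k : G) (ht3 : t ^ 3 = 1)
    (h : t * (k⁻¹ * (t * k * t⁻¹)) = (k⁻¹ * (t * k * t⁻¹)) * t) :
    (k⁻¹ * (t * k * t⁻¹)) ^ 3 = 1 := by
  obtain ⟨v, hv⟩ : ∃ v, v = k⁻¹ * (t * k * t⁻¹) := ⟨_, rfl⟩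
  rw [← hv] at h ⊢
  have e1 : t * k * t⁻¹ = k * v := by rw [hv]; group
  have e2 : t * v * t⁻¹ = v := by rw [h]; group
  have h2 : t * (k * v) * t⁻¹ = k * v * v := by
    rw [show t * (k * v) * t⁻¹ = (t * k * t⁻¹) * (t * v * t⁻¹) by group, e1, e2]
  have h3 : t * (k * v * v) * t⁻¹ = k * v * v * v := by
    rw [show t * (k * v * v) * t⁻¹ = (t * (k * v) * t⁻¹) * (t * v * t⁻¹) by group, h2, e2]
  have ht : t ^ 3 = t * t * t := by rw [pow_succ, pow_two]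
  have h4 : (t * t * t) * k * (t * t * t)⁻¹ = k * v * v * v := by
    rw [show (t * t * t) * k * (t * t * t)⁻¹ = t * (t * (t * k * t⁻¹) * t⁻¹) * t⁻¹ by group,
      e1, h2, h3]
  rw [← ht, ht3] at h4
  simp only [one_mul, inv_one, mul_one] at h4
  have h5 : k * (v * v * v) = k * 1 := by
    rw [mul_one, ← mul_assoc, ← mul_assoc]
    exact h4.symm
  have h6 := mul_left_cancel h5
  rw [pow_succ, pow_two]
  exact h6

/-- (V) the `t`-invariant complement `V = [K, t]` of `⟨c⟩` in `K`. -/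
theorem exists_complement {G : Type*} [Group G] [Finite G] (f : ℕ) (hf : 1 ≤ f) (K : Subgroup G)
    [K.Normal] (hK : Nat.card K = 4 * f) (hab : ∀ a ∈ K, ∀ b ∈ K, a * b = b * a)
    (c : G) (hcK : c ∈ K) (hcz : ∀ g : G, c * g = g * c) (hcf : c ^ f = 1)
    (hcord : ∀ j : ℕ, c ^ j = 1 → f ∣ j)
    (hdec : ∀ k ∈ K, ∃ v ∈ K, ∃ i : ℕ, k = v * c ^ i ∧ v ^ 4 = 1)
    (t : G) (ht3 : t ^ 3 = 1)
    (hconj : ∀ g : G, ∃ k ∈ K, g * t * g⁻¹ = k * t ∨ g * t * g⁻¹ = k * t⁻¹)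
    (z : G) (hzK : z ∈ K) (hz2 : z * z = 1) (htz : t * z ≠ z * t) :
    ∃ V : Subgroup G, V.Normal ∧ V ≤ K ∧ Nat.card V = 4 ∧
      (∀ v ∈ V, ∀ j : ℕ, v = c ^ j → v = 1) ∧ (∀ v ∈ V, t * v = v * t → v = 1) ∧
      (∀ k ∈ K, ∃ v ∈ V, ∃ j : ℕ, k = v * c ^ j) := by
  classical
  have hKn : K.Normal := inferInstance
  have hcj : ∀ k ∈ K, t * k * t⁻¹ ∈ K := fun k hk => hKn.conj_mem k hk t
  have hcj' : ∀ k ∈ K, t⁻¹ * k * t ∈ K := fun k hk => by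
    have := hKn.conj_mem k hk t⁻¹
    rwa [inv_inv] at this
  -- the homomorphism `κ`
  let κ : ↥K →* G := MonoidHom.mk' (fun k => (k : G)⁻¹ * (t * k * t⁻¹)) (fun a b => by
    have hu : (a : G)⁻¹ * (t * a * t⁻¹) ∈ K := K.mul_mem (K.inv_mem a.2) (hcj a a.2)
    have hc := hab _ (K.inv_mem b.2) _ hu
    show ((a : G) * b)⁻¹ * (t * ((a : G) * b) * t⁻¹) =
      (a : G)⁻¹ * (t * a * t⁻¹) * ((b : G)⁻¹ * (t * b * t⁻¹))
    calc ((a : G) * b)⁻¹ * (t * ((a : G) * b) * t⁻¹)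
        = (b : G)⁻¹ * ((a : G)⁻¹ * (t * a * t⁻¹)) * (t * b * t⁻¹) := by group
      _ = ((a : G)⁻¹ * (t * a * t⁻¹)) * (b : G)⁻¹ * (t * b * t⁻¹) := by rw [hc]
      _ = (a : G)⁻¹ * (t * a * t⁻¹) * ((b : G)⁻¹ * (t * b * t⁻¹)) := by group)
  have hκ : ∀ k : ↥K, κ k = (k : G)⁻¹ * (t * k * t⁻¹) := fun k => rfl
  have hκK : ∀ k : ↥K, κ k ∈ K := fun k => K.mul_mem (K.inv_mem k.2) (hcj k k.2)
  have hVK : κ.range ≤ K := by
    rintro _ ⟨k, rfl⟩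
    exact hκK k
  -- `t`-invariance
  have hVt : ∀ v ∈ κ.range, t * v * t⁻¹ ∈ κ.range := by
    rintro _ ⟨k, rfl⟩
    refine ⟨⟨t * k * t⁻¹, hcj k k.2⟩, ?_⟩
    rw [hκ, hκ]
    show (t * (k : G) * t⁻¹)⁻¹ * (t * (t * (k : G) * t⁻¹) * t⁻¹) = t * ((k : G)⁻¹ * (t * k * t⁻¹)) * t⁻¹
    group
  -- fixed points in `V` have order dividing 3
  have hfix3 : ∀ v ∈ κ.range, t * v = v * t → v ^ 3 = 1 := by
    rintro _ ⟨k, rfl⟩ h
    rw [hκ] at h ⊢
    exact h8_cube_eq_one t k ht3 h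
  -- cardinalities
  have hcard : Nat.card κ.ker * Nat.card κ.range = 4 * f := by
    rw [← hK, ← Subgroup.card_mul_index κ.ker, Subgroup.index_ker]
  have hcker : Subgroup.zpowers (⟨c, hcK⟩ : ↥K) ≤ κ.ker := by
    rw [Subgroup.zpowers_le, MonoidHom.mem_ker, hκ]
    show c⁻¹ * (t * c * t⁻¹) = 1
    rw [← hcz t]
    group
  have hordc : orderOf c = f :=
    Nat.dvd_antisymm (orderOf_dvd_of_pow_eq_one hcf) (hcord _ (pow_orderOf_eq_one c))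
  have hzc : Nat.card (Subgroup.zpowers (⟨c, hcK⟩ : ↥K)) = f := by
    rw [Nat.card_zpowers, ← hordc]
    exact Subgroup.orderOf_mk c hcK
  have hfdvd : f ∣ Nat.card κ.ker := by
    rw [← hzc]
    exact Subgroup.card_dvd_of_le hcker
  obtain ⟨m, hm⟩ := hfdvd
  have hf0 : 0 < f := hf
  have hmV : m * Nat.card κ.range = 4 := by
    rw [hm, mul_assoc] at hcard
    have h1 : f * (m * Nat.card κ.range) = f * 4 := by rw [hcard, mul_comm]
    exact Nat.eq_of_mul_eq_mul_left hf0 h1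
  -- two nontrivial elements of `V`
  set w₁ : G := z⁻¹ * (t * z * t⁻¹) with hw₁
  have hw1V : w₁ ∈ κ.range := ⟨⟨z, hzK⟩, rfl⟩
  have hw2V : t * w₁ * t⁻¹ ∈ κ.range := hVt w₁ hw1V
  have hw1 : w₁ ≠ 1 := by
    intro h
    apply htz
    have h1 : t * z * t⁻¹ = z := by
      have := congrArg (fun x => z * x) h
      simpa [hw₁, mul_assoc] using this
    calc t * z = t * z * t⁻¹ * t := by group
      _ = z * t := by rw [h1]
  have hw2 : t * w₁ * t⁻¹ ≠ 1 := by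
    intro h
    apply hw1
    have := congrArg (fun x => t⁻¹ * x * t) h
    simpa [mul_assoc] using this
  have hw12 : t * w₁ * t⁻¹ ≠ w₁ := by
    intro h
    apply hw1
    have hcomm : t * w₁ = w₁ * t := by
      calc t * w₁ = t * w₁ * t⁻¹ * t := by group
        _ = w₁ * t := by rw [h]
    have h3 : w₁ ^ 3 = 1 := hfix3 w₁ hw1V hcomm
    have h2 : w₁ ^ 2 = 1 := by
      have ha : t * z * t⁻¹ ∈ K := hcj z hzK
      have hc := hab _ ha _ (K.inv_mem hzK)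
      have hzi : z⁻¹ = z := by
        rw [inv_eq_iff_mul_eq_one]
        exact hz2
      have ha2 : (t * z * t⁻¹) * (t * z * t⁻¹) = 1 := by
        rw [show (t * z * t⁻¹) * (t * z * t⁻¹) = t * (z * z) * t⁻¹ by group, hz2]
        group
      rw [pow_two, hw₁]
      calc z⁻¹ * (t * z * t⁻¹) * (z⁻¹ * (t * z * t⁻¹))
          = z⁻¹ * ((t * z * t⁻¹) * z⁻¹) * (t * z * t⁻¹) := by group
        _ = z⁻¹ * (z⁻¹ * (t * z * t⁻¹)) * (t * z * t⁻¹) := by rw [hc]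
        _ = (z⁻¹ * z⁻¹) * ((t * z * t⁻¹) * (t * z * t⁻¹)) := by group
        _ = 1 := by rw [ha2, hzi, hz2, one_mul]
    calc w₁ = w₁ ^ 3 * (w₁ ^ 2)⁻¹ := by group
      _ = 1 := by rw [h3, h2]; simp
  -- `|V| = 4`
  have hV4 : Nat.card κ.range = 4 := by
    have hdvd : Nat.card κ.range ∣ 4 := ⟨m, by rw [mul_comm]; exact hmV.symm⟩
    have hle : Nat.card κ.range ≤ 4 := Nat.le_of_dvd (by norm_num) hdvd
    obtain ⟨n, hn⟩ : ∃ n, Nat.card κ.range = n := ⟨_, rfl⟩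
    rw [hn] at hdvd hle ⊢
    interval_cases n
    · simp at hdvd
    · exfalso
      have hbot : κ.range = ⊥ := Subgroup.card_eq_one.mp hn
      rw [hbot, Subgroup.mem_bot] at hw1V
      exact hw1 hw1V
    · exfalso
      obtain ⟨y, _, hy⟩ := (Nat.card_eq_two_iff' (1 : ↥κ.range)).mp hn
      have e1 := hy ⟨w₁, hw1V⟩ (fun h => hw1 (congrArg Subtype.val h))
      have e2 := hy ⟨t * w₁ * t⁻¹, hw2V⟩ (fun h => hw2 (congrArg Subtype.val h))
      exact hw12 (congrArg Subtype.val (e2.trans e1.symm))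
    · norm_num at hdvd
    · rfl
  have hm1 : m = 1 := by
    rw [hV4] at hmV
    omega
  have hkercard : Nat.card κ.ker = f := by rw [hm, hm1, mul_one]
  have hkereq : Subgroup.zpowers (⟨c, hcK⟩ : ↥K) = κ.ker :=
    Subgroup.eq_of_le_of_card_ge hcker (by rw [hkercard, hzc])
  -- fixed points in `V` are trivial
  have hfix : ∀ v ∈ κ.range, t * v = v * t → v = 1 := by
    intro v hv h
    have h3 := hfix3 v hv h
    have h4 : v ^ 4 = 1 := by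
      have := pow_card_eq_one' (G := ↥κ.range) (x := ⟨v, hv⟩)
      rw [hV4] at this
      exact congrArg Subtype.val this
    calc v = v ^ 4 * (v ^ 3)⁻¹ := by group
      _ = 1 := by rw [h3, h4]; simp
  refine ⟨κ.range, ?_, hVK, hV4, ?_, hfix, ?_⟩
  · -- normality
    constructor
    rintro _ ⟨k, rfl⟩ g
    have hk' : g * (k : G) * g⁻¹ ∈ K := hKn.conj_mem k k.2 g
    obtain ⟨k₀, hk₀, hs | hs⟩ := hconj g
    · -- `g t g⁻¹ = k₀ t`
      refine ⟨⟨g * k * g⁻¹, hk'⟩, ?_⟩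
      rw [hκ, hκ]
      show (g * (k : G) * g⁻¹)⁻¹ * (t * (g * (k : G) * g⁻¹) * t⁻¹) =
        g * ((k : G)⁻¹ * (t * k * t⁻¹)) * g⁻¹
      have ha : t * (g * (k : G) * g⁻¹) * t⁻¹ ∈ K := hcj _ hk'
      have hc := hab _ hk₀ _ ha
      have e : g * ((k : G)⁻¹ * (t * k * t⁻¹)) * g⁻¹ =
          (g * (k : G) * g⁻¹)⁻¹ * ((g * t * g⁻¹) * (g * (k : G) * g⁻¹) * (g * t * g⁻¹)⁻¹) := by
        group
      rw [e, hs]
      congr 1
      calc t * (g * (k : G) * g⁻¹) * t⁻¹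
          = (t * (g * (k : G) * g⁻¹) * t⁻¹) * k₀ * k₀⁻¹ := by group
        _ = k₀ * (t * (g * (k : G) * g⁻¹) * t⁻¹) * k₀⁻¹ := by rw [hc]
        _ = k₀ * t * (g * (k : G) * g⁻¹) * (k₀ * t)⁻¹ := by group
    · -- `g t g⁻¹ = k₀ t⁻¹`
      have hk'' : t⁻¹ * (g * (k : G) * g⁻¹) * t ∈ K := hcj' _ hk'
      have hmem : κ ⟨t⁻¹ * (g * (k : G) * g⁻¹) * t, hk''⟩ ∈ κ.range := ⟨_, rfl⟩
      have hinv := κ.range.inv_mem hmem
      have e2 : (κ ⟨t⁻¹ * (g * (k : G) * g⁻¹) * t, hk''⟩)⁻¹ =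
          g * κ k * g⁻¹ := by
        rw [hκ, hκ]
        show ((t⁻¹ * (g * (k : G) * g⁻¹) * t)⁻¹ *
          (t * (t⁻¹ * (g * (k : G) * g⁻¹) * t) * t⁻¹))⁻¹ = g * ((k : G)⁻¹ * (t * k * t⁻¹)) * g⁻¹
        have hc := hab _ hk₀ _ hk''
        have e : g * ((k : G)⁻¹ * (t * k * t⁻¹)) * g⁻¹ =
            (g * (k : G) * g⁻¹)⁻¹ * ((g * t * g⁻¹) * (g * (k : G) * g⁻¹) * (g * t * g⁻¹)⁻¹) := by
          group
        rw [e, hs]
        have e3 : k₀ * t⁻¹ * (g * (k : G) * g⁻¹) * (k₀ * t⁻¹)⁻¹ =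
            t⁻¹ * (g * (k : G) * g⁻¹) * t := by
          calc k₀ * t⁻¹ * (g * (k : G) * g⁻¹) * (k₀ * t⁻¹)⁻¹
              = k₀ * (t⁻¹ * (g * (k : G) * g⁻¹) * t) * k₀⁻¹ := by group
            _ = (t⁻¹ * (g * (k : G) * g⁻¹) * t) * k₀ * k₀⁻¹ := by rw [hc]
            _ = t⁻¹ * (g * (k : G) * g⁻¹) * t := by group
        rw [e3]
        group
      rw [← e2]
      exact hinv
  · -- `V ∩ ⟨c⟩ = 1`
    intro v hv j hj
    apply hfix v hv
    rw [hj]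
    have : Commute c t := hcz t
    exact ((this.pow_left j).eq).symm
  · -- `K = V ⟨c⟩`
    intro k hk
    -- `κ` restricted to `V` is injective, hence surjective
    let g : ↥κ.range → ↥κ.range := fun v => ⟨κ ⟨v, hVK v.2⟩, ⟨_, rfl⟩⟩
    have hginj : Function.Injective g := by
      intro v v' hvv'
      have h1 : κ ⟨v, hVK v.2⟩ = κ ⟨v', hVK v'.2⟩ := congrArg Subtype.val hvv'
      have h2 : κ (⟨v, hVK v.2⟩ * ⟨v', hVK v'.2⟩⁻¹) = 1 := by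
        rw [map_mul, map_inv, h1, mul_inv_cancel]
      have hu : (v : G) * (v' : G)⁻¹ ∈ κ.range := κ.range.mul_mem v.2 (κ.range.inv_mem v'.2)
      have h3 : t * ((v : G) * (v' : G)⁻¹) = ((v : G) * (v' : G)⁻¹) * t := by
        rw [hκ] at h2
        have h2' : ((v : G) * (v' : G)⁻¹)⁻¹ * (t * ((v : G) * (v' : G)⁻¹) * t⁻¹) = 1 := h2
        have h4 : t * ((v : G) * (v' : G)⁻¹) * t⁻¹ = (v : G) * (v' : G)⁻¹ := by
          have := congrArg (fun x => ((v : G) * (v' : G)⁻¹) * x) h2'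
          simpa [mul_assoc] using this
        calc t * ((v : G) * (v' : G)⁻¹) = t * ((v : G) * (v' : G)⁻¹) * t⁻¹ * t := by group
          _ = ((v : G) * (v' : G)⁻¹) * t := by rw [h4]
      have h5 := hfix _ hu h3
      apply Subtype.ext
      exact mul_inv_eq_one.mp h5
    have hgsurj : Function.Surjective g := Finite.surjective_of_injective hginj
    obtain ⟨v, hv⟩ := hgsurj ⟨κ ⟨k, hk⟩, ⟨_, rfl⟩⟩
    have h1 : κ ⟨v, hVK v.2⟩ = κ ⟨k, hk⟩ := congrArg Subtype.val hv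
    have h2 : (⟨k, hk⟩ : ↥K) * (⟨v, hVK v.2⟩ : ↥K)⁻¹ ∈ κ.ker := by
      rw [MonoidHom.mem_ker, map_mul, map_inv, h1, mul_inv_cancel]
    rw [← hkereq, ← mem_powers_iff_mem_zpowers, Submonoid.mem_powers_iff] at h2
    obtain ⟨j, hj⟩ := h2
    refine ⟨v, v.2, j, ?_⟩
    have h3 : c ^ j = k * (v : G)⁻¹ := congrArg Subtype.val hj
    have : Commute c (v : G) := hcz v
    rw [← (this.pow_left j).eq, h3]
    group

end Cfsg.Agent.Helper8.GS4
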