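import Cfsg.Prelude.Def_Sporadic_a
import Mathlib

set_option autoImplicit false

namespace Cfsg.Agent.Helper8

open Cfsg

/-! Basic facts on the length-24 code: self-orthogonal and doubly even. -/

set_option maxRecDepth 100000 in
theorem qr_orth : ∀ s t : ZMod 23, ∑ p : GolayPt, qrWord s p * qrWord t p = 0 := by
  decide

set_option maxRecDepth 100000 in
theorem qr_orth_one : ∀ s : ZMod 23, ∑ p : GolayPt, qrWord s p * (1 : GolayPt → ZMod 2) p = 0 := by
  decide

set_option maxRecDepth 100000 in
theorem qr_weight : ∀ s : ZMod 23, (support₂ (qrWord s)).card = 12 := by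
  decide

theorem one_weight : (support₂ (1 : GolayPt → ZMod 2)).card = 24 := by
  decide

/-- The dot product of two binary words. -/
def dot (w w' : GolayPt → ZMod 2) : ZMod 2 := ∑ p : GolayPt, w p * w' p

theorem dot_comm (w w' : GolayPt → ZMod 2) : dot w w' = dot w' w := by
  unfold dot; exact Finset.sum_congr rfl fun p _ => mul_comm _ _

theorem dot_add_left (w₁ w₂ w' : GolayPt → ZMod 2) : dot (w₁ + w₂) w' = dot w₁ w' + dot w₂ w' := by
  unfold dot; rw [← Finset.sum_add_distrib]
  exact Finset.sum_congr rfl fun p _ => by simp [add_mul]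

theorem dot_smul_left (a : ZMod 2) (w w' : GolayPt → ZMod 2) : dot (a • w) w' = a * dot w w' := by
  unfold dot; rw [Finset.mul_sum]
  exact Finset.sum_congr rfl fun p _ => by simp [mul_assoc]

theorem dot_zero_left (w' : GolayPt → ZMod 2) : dot 0 w' = 0 := by
  unfold dot; simp

theorem dot_one_one : dot (1 : GolayPt → ZMod 2) 1 = 0 := by decide

/-- A word orthogonal to all generators is orthogonal to the code. -/
theorem dot_eq_zero_of_gens (w' : GolayPt → ZMod 2)
    (h : ∀ g ∈ (Set.range qrWord ∪ {1} : Set (GolayPt → ZMod 2)), dot g w' = 0)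
    (w : GolayPt → ZMod 2) (hw : w ∈ golayCode) : dot w w' = 0 := by
  unfold golayCode at hw
  induction hw using Submodule.span_induction with
  | mem x hx => exact h x hx
  | zero => exact dot_zero_left _
  | add x y _ _ hx hy => rw [dot_add_left, hx, hy, add_zero]
  | smul a x _ hx => rw [dot_smul_left, hx, mul_zero]

theorem gens_orth (g g' : GolayPt → ZMod 2)
    (hg : g ∈ (Set.range qrWord ∪ {1} : Set (GolayPt → ZMod 2)))
    (hg' : g' ∈ (Set.range qrWord ∪ {1} : Set (GolayPt → ZMod 2))) : dot g g' = 0 := by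
  rcases hg with ⟨s, rfl⟩ | hg
  · rcases hg' with ⟨t, rfl⟩ | hg'
    · exact qr_orth s t
    · rw [Set.mem_singleton_iff] at hg'; subst hg'; exact qr_orth_one s
  · rw [Set.mem_singleton_iff] at hg; subst hg
    rcases hg' with ⟨t, rfl⟩ | hg'
    · rw [dot_comm]; exact qr_orth_one t
    · rw [Set.mem_singleton_iff] at hg'; subst hg'; exact dot_one_one

/-- The code is self-orthogonal. -/
theorem golay_orth (w w' : GolayPt → ZMod 2) (hw : w ∈ golayCode) (hw' : w' ∈ golayCode) :
    dot w w' = 0 := by
  apply dot_eq_zero_of_gens w' _ w hw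
  intro g hg
  rw [dot_comm]
  apply dot_eq_zero_of_gens g _ w' hw'
  intro g' hg'
  exact gens_orth g' g hg' hg

theorem support₂_add (w w' : GolayPt → ZMod 2) :
    support₂ (w + w') = symmDiff (support₂ w) (support₂ w') := by
  ext a
  have key : ∀ u v : ZMod 2, (u + v ≠ 0 ↔ (u ≠ 0 ∧ ¬ v ≠ 0) ∨ (v ≠ 0 ∧ ¬ u ≠ 0)) := by decide
  simp only [support₂, Finset.mem_symmDiff, Finset.mem_filter, Finset.mem_univ, true_and,
    Pi.add_apply]
  exact key _ _

theorem support₂_zero : support₂ (0 : GolayPt → ZMod 2) = ∅ := by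
  ext a; simp [support₂]

theorem support₂_one : support₂ (1 : GolayPt → ZMod 2) = Finset.univ := by
  ext a; simp [support₂]

theorem card_inter_cast (w w' : GolayPt → ZMod 2) :
    (((support₂ w ∩ support₂ w').card : ℕ) : ZMod 2) = dot w w' := by
  unfold dot
  have key : ∀ u v : ZMod 2, u * v = if (u ≠ 0 ∧ v ≠ 0) then 1 else 0 := by decide
  have : ∀ p : GolayPt, w p * w' p = if p ∈ support₂ w ∩ support₂ w' then (1 : ZMod 2) else 0 := by
    intro p
    rw [key]
    simp [support₂]
  simp_rw [this]
  rw [Finset.sum_boole]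
  congr 2
  ext p; simp

theorem card_symmDiff_add {α : Type*} [DecidableEq α] (A B : Finset α) :
    (symmDiff A B).card + 2 * (A ∩ B).card = A.card + B.card := by
  have h1 : (symmDiff A B).card = (A \ B).card + (B \ A).card := by
    rw [symmDiff_def, Finset.sup_eq_union, Finset.card_union_of_disjoint]
    exact disjoint_sdiff_sdiff
  have h2 := Finset.card_sdiff_add_card_inter A B
  have h3 := Finset.card_sdiff_add_card_inter B A
  rw [Finset.inter_comm B A] at h3
  omega

/-- The code is doubly even. -/
theorem golay_doubly_even (w : GolayPt → ZMod 2) (hw : w ∈ golayCode) :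
    4 ∣ (support₂ w).card := by
  have hw' := hw
  unfold golayCode at hw'
  induction hw' using Submodule.span_induction with
  | mem x hx =>
    rcases hx with ⟨s, rfl⟩ | hx
    · rw [qr_weight]; decide
    · rw [Set.mem_singleton_iff] at hx; subst hx; rw [one_weight]; decide
  | zero => rw [support₂_zero]; simp
  | add x y hx hy ihx ihy =>
    have hxC : x ∈ golayCode := hx
    have hyC : y ∈ golayCode := hy
    have h1 := ihx hxC
    have h2 := ihy hyC
    have h3 : 2 ∣ (support₂ x ∩ support₂ y).card := by
      rw [← ZMod.natCast_eq_zero_iff, card_inter_cast]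
      exact golay_orth x y hxC hyC
    rw [support₂_add]
    have := card_symmDiff_add (support₂ x) (support₂ y)
    omega
  | smul a x hx ih =>
    have hxC : x ∈ golayCode := hx
    have hall : ∀ b : ZMod 2, b = 0 ∨ b = 1 := by decide
    have : a = 0 ∨ a = 1 := hall a
    rcases this with rfl | rfl
    · rw [zero_smul, support₂_zero]; simp
    · rw [one_smul]; exact ih hxC

/-! Facts in terms of supports. -/

theorem supports_symmDiff {c c' : Finset GolayPt}
    (hc : c ∈ supports (golayCode : Set (GolayPt → ZMod 2)))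
    (hc' : c' ∈ supports (golayCode : Set (GolayPt → ZMod 2))) :
    symmDiff c c' ∈ supports (golayCode : Set (GolayPt → ZMod 2)) := by
  obtain ⟨w, hw, rfl⟩ := hc
  obtain ⟨w', hw', rfl⟩ := hc'
  exact ⟨w + w', golayCode.add_mem hw hw', support₂_add w w'⟩

theorem supports_empty : (∅ : Finset GolayPt) ∈ supports (golayCode : Set (GolayPt → ZMod 2)) :=
  ⟨0, golayCode.zero_mem, support₂_zero⟩

theorem one_mem_golay : (1 : GolayPt → ZMod 2) ∈ golayCode :=
  Submodule.subset_span (Or.inr rfl)

theorem supports_univ : (Finset.univ : Finset GolayPt) ∈ supports (golayCode : Set (GolayPt → ZMod 2)) :=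
  ⟨1, one_mem_golay, support₂_one⟩

theorem supports_compl {c : Finset GolayPt}
    (hc : c ∈ supports (golayCode : Set (GolayPt → ZMod 2))) :
    cᶜ ∈ supports (golayCode : Set (GolayPt → ZMod 2)) := by
  have := supports_symmDiff hc supports_univ
  have h2 : symmDiff c Finset.univ = cᶜ := by
    ext a; simp [Finset.mem_symmDiff]
  rwa [h2] at this

theorem supports_card {c : Finset GolayPt}
    (hc : c ∈ supports (golayCode : Set (GolayPt → ZMod 2))) : 4 ∣ c.card := by
  obtain ⟨w, hw, rfl⟩ := hc
  exact golay_doubly_even w hw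

theorem supports_inter_card {c c' : Finset GolayPt}
    (hc : c ∈ supports (golayCode : Set (GolayPt → ZMod 2)))
    (hc' : c' ∈ supports (golayCode : Set (GolayPt → ZMod 2))) : 2 ∣ (c ∩ c').card := by
  obtain ⟨w, hw, rfl⟩ := hc
  obtain ⟨w', hw', rfl⟩ := hc'
  rw [← ZMod.natCast_eq_zero_iff, card_inter_cast]
  exact golay_orth w w' hw hw'

end Cfsg.Agent.Helper8
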