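import Mathlib
import Cfsg.Agent.Lib.Helper31.H2Defs

set_option autoImplicit false

/-!
# H2 server piece (ALG): `(ρ h - 1)^(2p^n - 1)` applied to `cls u` is the class of a commutator
-/

namespace Cfsg.Agent.Helper8.H2

open Cfsg Cfsg.Agent.Helper31.H2 Cfsg.Agent.Helper31.HHB Cfsg.Agent.Helper48.Wreath

/-- (ALG) `(ρ h - 1)^(2p^n - 1) = (ρ (h^(p^n)) - 1) * ∑_{j<p^n} (ρ h)^j` in characteristic `p`. -/
theorem comm_ne_one {G : Type*} [Group G] {p : ℕ} [Fact p.Prime] {W : Type*} [CommGroup W]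
    [Module (ZMod p) (Additive W)] (P : Subgroup G) (hPn : P.Normal) (φ : G →* MulAut W) (cls : ↥P →* W)
    (heq : ∀ (g : G) (v : ↥P), φ g (cls v) = cls ⟨g * v * g⁻¹, hPn.conj_mem _ v.2 g⟩)
    (h : G) (n : ℕ) (u : ↥P)
    (hne : ((linRep p φ h - 1) ^ (2 * p ^ n - 1)) (Additive.ofMul (cls u)) ≠ 0) :
    cmt (h ^ p ^ n) (((u : G) * h) ^ p ^ n) ≠ 1 := by
  intro hcm
  apply hne
  have hpos : 0 < p ^ n := pow_pos (Fact.out : p.Prime).pos n
  set ρ := linRep p φ h with hρ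
  have hpoly : ((Polynomial.X : Polynomial (ZMod p)) - 1) ^ (p ^ n) = Polynomial.X ^ (p ^ n) - 1 := by
    rw [sub_pow_char_pow, one_pow]
  have hchar : (ρ - 1) ^ (p ^ n) = ρ ^ (p ^ n) - 1 := by
    have := congrArg (Polynomial.aeval ρ) hpoly
    simpa using this
  have h1 : (ρ - 1) ^ (2 * p ^ n - 1) = (ρ ^ p ^ n - 1) * ∑ j ∈ Finset.range (p ^ n), ρ ^ j := by
    rw [Cfsg.Agent.Helper31.HH.alg_geom_eq (K := ZMod p) p n ρ, ← hchar, ← pow_add]
    congr 1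
    omega
  -- the sum
  have hsum : ∀ m : ℕ, ∃ v : ↥P, (v : G) = ((u : G) * h) ^ m * (h ^ m)⁻¹ ∧
      ∏ j ∈ Finset.range m, ((φ h) ^ j) (cls u) = cls v := by
    intro m
    induction m with
    | zero => exact ⟨1, by simp, by simp⟩
    | succ m ih =>
      obtain ⟨v, hv, hprod⟩ := ih
      refine ⟨v * ⟨h ^ m * u * (h ^ m)⁻¹, hPn.conj_mem _ u.2 _⟩, ?_, ?_⟩
      · rw [Subgroup.coe_mul, hv]
        show _ * (h ^ m * u * (h ^ m)⁻¹) = _
        rw [pow_succ, pow_succ]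
        group
      · rw [Finset.prod_range_succ, hprod, map_mul, ← map_pow, heq]
  obtain ⟨v, hv, hprod⟩ := hsum (p ^ n)
  have h2 : (∑ j ∈ Finset.range (p ^ n), ρ ^ j) (Additive.ofMul (cls u)) = Additive.ofMul (cls v) := by
    apply Additive.toMul.injective
    rw [hρ, linRep_sum_apply, hprod]
    rfl
  have h3 : (ρ ^ p ^ n - 1) (Additive.ofMul (cls v)) = 0 := by
    rw [hρ, ← map_pow, LinearMap.sub_apply, Module.End.one_apply, sub_eq_zero]
    apply Additive.toMul.injective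
    rw [linRep_apply, toMul_ofMul, heq]
    congr 1
    apply Subtype.ext
    show h ^ p ^ n * (v : G) * (h ^ p ^ n)⁻¹ = v
    rw [hv]
    have h4 : h ^ p ^ n * ((u : G) * h) ^ p ^ n * (h ^ p ^ n)⁻¹ = ((u : G) * h) ^ p ^ n :=
      mul_inv_eq_one.mp hcm
    calc h ^ p ^ n * (((u : G) * h) ^ p ^ n * (h ^ p ^ n)⁻¹) * (h ^ p ^ n)⁻¹
        = (h ^ p ^ n * ((u : G) * h) ^ p ^ n * (h ^ p ^ n)⁻¹) * (h ^ p ^ n)⁻¹ := by group
      _ = _ := by rw [h4]
  rw [h1, Module.End.mul_apply, h2, h3]
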