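import Cfsg.Agent.Lib.Helper8.PBGCongr
import Cfsg.Agent.S0428
import Cfsg.Agent.S0410
import Cfsg.Agent.S5628

set_option autoImplicit false
set_option linter.unusedSectionVars false
set_option linter.unusedVariables false

/-! The automorphism group of the Higman–Sims graph: vertex-transitive with point stabilizer the
automorphism group of the Steiner system `S(3, 6, 22)`. -/

namespace Cfsg.Agent.Helper8

open Cfsg Finset

/-- The automorphisms of a graph, as a subgroup of the permutations of its vertices. -/
def graphAut {X : Type*} (Γ : SimpleGraph X) : Subgroup (Equiv.Perm X) where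
  carrier := {σ | ∀ a b, Γ.Adj (σ a) (σ b) ↔ Γ.Adj a b}
  mul_mem' := by
    intro σ τ hσ hτ a b
    show Γ.Adj (σ (τ a)) (σ (τ b)) ↔ _
    rw [hσ, hτ]
  one_mem' := by
    intro a b
    rfl
  inv_mem' := by
    intro σ hσ a b
    have := hσ (σ⁻¹ a) (σ⁻¹ b)
    rw [show σ (σ⁻¹ a) = a from σ.apply_symm_apply a,
      show σ (σ⁻¹ b) = b from σ.apply_symm_apply b] at this
    exact this.symm

theorem mem_graphAut {X : Type*} (Γ : SimpleGraph X) (σ : Equiv.Perm X) :
    σ ∈ graphAut Γ ↔ ∀ a b, Γ.Adj (σ a) (σ b) ↔ Γ.Adj a b := Iff.rfl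

/-- Graph isomorphisms of `Γ` with itself correspond to elements of `graphAut Γ`. -/
def graphAutEquiv {X : Type*} (Γ : SimpleGraph X) : (Γ ≃g Γ) ≃ graphAut Γ where
  toFun f := ⟨f.toEquiv, fun a b => f.map_rel_iff⟩
  invFun σ := ⟨σ.1, fun {a b} => σ.2 a b⟩
  left_inv f := by
    apply RelIso.ext
    intro x
    rfl
  right_inv σ := by
    apply Subtype.ext
    rfl

section

variable {α : Type*} [Fintype α] [DecidableEq α] {B : Set (Finset α)}

theorem aut_image_eq {g : Equiv.Perm α} (hg : g ∈ setSystemAut B) :
    (fun b : Finset α => b.image g) '' B = B := by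
  ext b
  constructor
  · rintro ⟨l, hl, rfl⟩
    exact (Cfsg.Agent.S5628.mem_aut_iff B g).mp hg l hl
  · intro hb
    refine ⟨b.image (g⁻¹ : Equiv.Perm α),
      (Cfsg.Agent.S5628.mem_aut_iff B g⁻¹).mp (inv_mem hg) b hb, ?_⟩
    show (b.image (g⁻¹ : Equiv.Perm α)).image g = b
    rw [image_image]
    simp

/-- The automorphism of the point-block graph induced by an automorphism of the set system. -/
def liftAut (g : setSystemAut B) : MulAction.stabilizer (graphAut (pointBlockGraph B))
    (none : Option (α ⊕ B)) :=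
  ⟨⟨pbgEquiv g.1 (aut_image_eq g.2), fun a b => pbgEquiv_adj g.1 (aut_image_eq g.2) a b⟩, rfl⟩

theorem liftAut_pt (g : setSystemAut B) (p : α) :
    ((liftAut g : graphAut (pointBlockGraph B)) : Equiv.Perm (Option (α ⊕ B)))
      (some (Sum.inl p)) = some (Sum.inl ((g : Equiv.Perm α) p)) := rfl

theorem liftAut_blk (g : setSystemAut B) (b : B) :
    ((liftAut g : graphAut (pointBlockGraph B)) : Equiv.Perm (Option (α ⊕ B)))
      (some (Sum.inr b)) = some (Sum.inr (blockCongr g.1 (aut_image_eq g.2) b)) := rfl

theorem liftAut_injective : Function.Injective (liftAut (B := B)) := by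
  intro g g' h
  apply Subtype.ext
  apply Equiv.ext
  intro p
  have h1 := liftAut_pt g p
  rw [h] at h1
  rw [liftAut_pt g' p] at h1
  exact (Sum.inl_injective (Option.some_injective _ h1)).symm

theorem liftAut_surjective : Function.Surjective (liftAut (B := B)) := by
  intro σ
  have hσ : ∀ a b, (pointBlockGraph B).Adj ((σ : graphAut (pointBlockGraph B)).1 a)
      ((σ : graphAut (pointBlockGraph B)).1 b) ↔ (pointBlockGraph B).Adj a b := σ.1.2
  have hnone : (σ : graphAut (pointBlockGraph B)).1 none = none := σ.2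
  set s : Equiv.Perm (Option (α ⊕ B)) := (σ : graphAut (pointBlockGraph B)).1 with hs
  -- points go to points
  have hpt : ∀ p : α, ∃ q : α, s (some (Sum.inl p)) = some (Sum.inl q) := by
    intro p
    have h1 : (pointBlockGraph B).Adj (s none) (s (some (Sum.inl p))) :=
      (hσ _ _).mpr (pbg_adj_none_pt B p)
    rw [hnone] at h1
    rcases hx : s (some (Sum.inl p)) with _ | (q | b)
    · rw [hx] at h1; exact absurd h1 (SimpleGraph.irrefl _)
    · exact ⟨q, rfl⟩
    · rw [hx] at h1; exact absurd h1 (pbg_not_adj_none_blk B b)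
  -- blocks go to blocks
  have hblk : ∀ b : B, ∃ b' : B, s (some (Sum.inr b)) = some (Sum.inr b') := by
    intro b
    have h1 : ¬ (pointBlockGraph B).Adj (s none) (s (some (Sum.inr b))) :=
      fun h => pbg_not_adj_none_blk B b ((hσ _ _).mp h)
    rw [hnone] at h1
    rcases hx : s (some (Sum.inr b)) with _ | (q | b')
    · exfalso
      rw [← hnone] at hx
      exact absurd (s.injective hx) (by simp)
    · rw [hx] at h1; exact absurd (pbg_adj_none_pt B q) h1
    · exact ⟨b', rfl⟩
  choose gf hgf using hpt
  choose bf hbf using hblk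
  have hginj : Function.Injective gf := by
    intro p p' h
    have : s (some (Sum.inl p)) = s (some (Sum.inl p')) := by rw [hgf, hgf, h]
    exact Sum.inl_injective (Option.some_injective _ (s.injective this))
  let g : Equiv.Perm α := Equiv.ofBijective gf (Finite.injective_iff_bijective.mp hginj)
  have hgapp : ∀ p, g p = gf p := fun p => rfl
  have hbimg : ∀ b : B, (bf b : Finset α) = (b : Finset α).image g := by
    intro b
    ext q
    obtain ⟨p, rfl⟩ := g.surjective q
    rw [g.injective.mem_finset_image, ← pbg_adj_pt_blk B (g p) (bf b), hgapp, ← hgf, ← hbf, hσ,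
      pbg_adj_pt_blk]
  have hgmem : g ∈ setSystemAut B := by
    rw [Cfsg.Agent.S5628.mem_aut_iff]
    intro l hl
    have := hbimg ⟨l, hl⟩
    rw [← this]
    exact (bf ⟨l, hl⟩).2
  refine ⟨⟨g, hgmem⟩, ?_⟩
  apply Subtype.ext
  apply Subtype.ext
  apply Equiv.ext
  intro x
  rcases x with _ | (p | b)
  · exact hnone.symm
  · show some (Sum.inl (g p)) = s (some (Sum.inl p))
    rw [hgf, hgapp]
  · show some (Sum.inr (blockCongr g (aut_image_eq hgmem) b)) = s (some (Sum.inr b))
    rw [hbf]
    congr 2
    apply Subtype.ext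
    exact (hbimg b).symm

/-- The stabilizer of the extra vertex is the automorphism group of the set system. -/
noncomputable def liftAutEquiv : setSystemAut B ≃ MulAction.stabilizer
    (graphAut (pointBlockGraph B)) (none : Option (α ⊕ B)) :=
  Equiv.ofBijective liftAut ⟨liftAut_injective, liftAut_surjective⟩

end

section Order

variable {α : Type*} [Fintype α] [DecidableEq α] {B : Set (Finset α)}

/-- The Higman–Sims graph is vertex-transitive. -/
theorem exists_aut_to_none (hα : Fintype.card α = 22) (hB : IsSteinerSystem 3 6 B)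
    (v : Option (α ⊕ B)) :
    ∃ σ ∈ graphAut (pointBlockGraph B), σ v = none := by
  classical
  have : Fintype B := Fintype.ofFinite B
  have hsrg := Cfsg.Agent.S0428.result hα hB
  have hΓ := isHSG_of_srg _ hsrg
  obtain ⟨e, he⟩ := Cfsg.Agent.S0410.result (card_HPt hΓ v) hα (hsys_steiner hΓ v) hB
  let f : pointBlockGraph B ≃g pointBlockGraph B := (toPBG hΓ v).trans (pbgCongr e he)
  refine ⟨f.toEquiv, fun a b => f.map_rel_iff, ?_⟩
  show pbgCongr e he (toPBG hΓ v v) = none
  rw [toPBG_base]
  rfl

theorem card_vertices (hα : Fintype.card α = 22) (hB : IsSteinerSystem 3 6 B) :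
    Nat.card (Option (α ⊕ B)) = 100 := by
  classical
  have : Fintype B := Fintype.ofFinite B
  have hsrg := Cfsg.Agent.S0428.result hα hB
  rw [Nat.card_eq_fintype_card]
  exact hsrg.card

theorem card_graphAut (hα : Fintype.card α = 22) (hB : IsSteinerSystem 3 6 B)
    (hcard : Nat.card (setSystemAut B) = 887040) :
    Nat.card (graphAut (pointBlockGraph B)) = 88704000 := by
  have h1 := Subgroup.card_mul_index
    (MulAction.stabilizer (graphAut (pointBlockGraph B)) (none : Option (α ⊕ B)))
  rw [MulAction.index_stabilizer, ← Nat.card_congr liftAutEquiv, hcard] at h1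
  have horb : MulAction.orbit (graphAut (pointBlockGraph B)) (none : Option (α ⊕ B)) =
      Set.univ := by
    rw [Set.eq_univ_iff_forall]
    intro v
    obtain ⟨σ, hσ, hv⟩ := exists_aut_to_none hα hB v
    refine ⟨(⟨σ, hσ⟩ : graphAut (pointBlockGraph B))⁻¹, ?_⟩
    rw [← hv]
    show σ⁻¹ (σ v) = v
    exact σ.symm_apply_apply v
  rw [horb, Set.ncard_univ, card_vertices hα hB] at h1
  rw [← h1]

end Order

end Cfsg.Agent.Helper8
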