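import Cfsg.Agent.Lib.Helper8.SteinerNumbers

set_option autoImplicit false
set_option linter.unusedSectionVars false
set_option linter.unusedVariables false

/-! Strongly regular graphs with parameters `(100, 22, 0, 6)`: the neighbours of a vertex and the
neighbourhoods of its non-neighbours form a Steiner system `S(3, 6, 22)`. -/

namespace Cfsg.Agent.Helper8

open Cfsg Finset

variable {V : Type*} [Fintype V] [DecidableEq V]

/-- The counting form of the `(100, 22, 0, 6)` conditions. -/
structure IsHSG (G : SimpleGraph V) [DecidableRel G.Adj] : Prop where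
  card : Fintype.card V = 100
  deg : ∀ v, (G.neighborFinset v).card = 22
  adj : ∀ v w u, G.Adj v w → G.Adj v u → G.Adj w u → False
  nadj : ∀ v w, v ≠ w → ¬ G.Adj v w → (G.neighborFinset v ∩ G.neighborFinset w).card = 6

theorem isHSG_of_srg (G : SimpleGraph V) [DecidableRel G.Adj] (hG : G.IsSRGWith 100 22 0 6) :
    IsHSG G := by
  have hcn : ∀ v w, Fintype.card (G.commonNeighbors v w) =
      (G.neighborFinset v ∩ G.neighborFinset w).card := by
    intro v w
    rw [← Nat.card_eq_fintype_card, Nat.card_coe_set_eq, ← Set.ncard_coe_finset]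
    congr 1
    ext u
    simp [SimpleGraph.commonNeighbors]
  refine ⟨hG.card, fun v => hG.regular.degree_eq v, ?_, ?_⟩
  · intro v w u hvw hvu hwu
    have h := hG.of_adj v w hvw
    rw [hcn, card_eq_zero] at h
    have : u ∈ G.neighborFinset v ∩ G.neighborFinset w := by
      rw [mem_inter, SimpleGraph.mem_neighborFinset, SimpleGraph.mem_neighborFinset]
      exact ⟨hvu, hwu⟩
    rw [h] at this
    exact absurd this (notMem_empty u)
  · intro v w hvw hnadj
    rw [← hcn]
    exact hG.of_not_adj hvw hnadj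

section Counting

variable {G : SimpleGraph V} [DecidableRel G.Adj] (hG : IsHSG G) (v₀ : V)

/-- The neighbours of the base vertex. -/
abbrev ptsF (G : SimpleGraph V) [DecidableRel G.Adj] (v₀ : V) : Finset V := G.neighborFinset v₀

/-- The other vertices. -/
def blkF (G : SimpleGraph V) [DecidableRel G.Adj] (v₀ : V) : Finset V :=
  univ.filter (fun w => w ≠ v₀ ∧ ¬ G.Adj v₀ w)

theorem mem_blkF {w : V} : w ∈ blkF G v₀ ↔ w ≠ v₀ ∧ ¬ G.Adj v₀ w := by
  unfold blkF; rw [mem_filter]; exact ⟨fun h => h.2, fun h => ⟨mem_univ _, h⟩⟩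

/-- The block of a vertex: its neighbours among the points. -/
def blkOf (G : SimpleGraph V) [DecidableRel G.Adj] (v₀ w : V) : Finset V :=
  G.neighborFinset v₀ ∩ G.neighborFinset w

theorem mem_blkOf {w p : V} : p ∈ blkOf G v₀ w ↔ G.Adj v₀ p ∧ G.Adj w p := by
  unfold blkOf
  rw [mem_inter, SimpleGraph.mem_neighborFinset, SimpleGraph.mem_neighborFinset]

include hG

theorem card_blkF : (blkF G v₀).card = 77 := by
  have h1 : (univ : Finset V) = insert v₀ (G.neighborFinset v₀ ∪ blkF G v₀) := by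
    ext u
    simp only [mem_univ, mem_insert, mem_union, SimpleGraph.mem_neighborFinset, mem_blkF, true_iff]
    by_cases h : u = v₀
    · exact Or.inl h
    · by_cases h' : G.Adj v₀ u
      · exact Or.inr (Or.inl h')
      · exact Or.inr (Or.inr ⟨h, h'⟩)
  have h2 : Disjoint (G.neighborFinset v₀) (blkF G v₀) := by
    rw [disjoint_left]
    intro u hu hu'
    rw [SimpleGraph.mem_neighborFinset] at hu
    exact ((mem_blkF v₀).mp hu').2 hu
  have h3 : v₀ ∉ G.neighborFinset v₀ ∪ blkF G v₀ := by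
    rw [mem_union, SimpleGraph.mem_neighborFinset, mem_blkF]
    rintro (h | h)
    · exact G.loopless.irrefl v₀ h
    · exact h.1 rfl
  have := congrArg Finset.card h1
  rw [card_univ, hG.card, card_insert_of_notMem h3, card_union_of_disjoint h2, hG.deg] at this
  omega

theorem pts_not_adj {p q : V} (hp : G.Adj v₀ p) (hq : G.Adj v₀ q) : ¬ G.Adj p q :=
  fun h => hG.adj v₀ p q hp hq h

theorem nbr_of_pt {p u : V} (hp : G.Adj v₀ p) (hu : G.Adj p u) : u = v₀ ∨ u ∈ blkF G v₀ := by
  by_cases h : u = v₀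
  · exact Or.inl h
  · refine Or.inr ((mem_blkF v₀).mpr ⟨h, fun h' => hG.adj v₀ p u hp h' hu⟩)

theorem card_blkOf {w : V} (hw : w ∈ blkF G v₀) : (blkOf G v₀ w).card = 6 := by
  rw [mem_blkF] at hw
  exact hG.nadj v₀ w (fun h => hw.1 h.symm) hw.2

/-- Each point has exactly 21 neighbours among the block vertices. -/
theorem card_blk_nbrs_of_pt {p : V} (hp : G.Adj v₀ p) :
    ((blkF G v₀).filter (fun w => G.Adj w p)).card = 21 := by
  have h1 : G.neighborFinset p = insert v₀ ((blkF G v₀).filter (fun w => G.Adj w p)) := by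
    ext u
    rw [SimpleGraph.mem_neighborFinset, mem_insert, mem_filter]
    constructor
    · intro h
      rcases nbr_of_pt hG v₀ hp h with h' | h'
      · exact Or.inl h'
      · exact Or.inr ⟨h', h.symm⟩
    · rintro (h | h)
      · rw [h]; exact hp.symm
      · exact h.2.symm
  have h2 : v₀ ∉ (blkF G v₀).filter (fun w => G.Adj w p) := by
    rw [mem_filter, mem_blkF]
    exact fun h => h.1.1 rfl
  have := congrArg Finset.card h1
  rw [hG.deg, card_insert_of_notMem h2] at this
  omega

/-- Two points have exactly 5 common neighbours among the block vertices. -/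
theorem card_blk_nbrs_of_pair {p q : V} (hp : G.Adj v₀ p) (hq : G.Adj v₀ q) (hpq : p ≠ q) :
    ((blkF G v₀).filter (fun w => G.Adj w p ∧ G.Adj w q)).card = 5 := by
  have h0 := hG.nadj p q hpq (pts_not_adj hG v₀ hp hq)
  have h1 : G.neighborFinset p ∩ G.neighborFinset q =
      insert v₀ ((blkF G v₀).filter (fun w => G.Adj w p ∧ G.Adj w q)) := by
    ext u
    rw [mem_inter, SimpleGraph.mem_neighborFinset, SimpleGraph.mem_neighborFinset, mem_insert,
      mem_filter]
    constructor
    · rintro ⟨h, h'⟩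
      rcases nbr_of_pt hG v₀ hp h with h'' | h''
      · exact Or.inl h''
      · exact Or.inr ⟨h'', h.symm, h'.symm⟩
    · rintro (h | h)
      · rw [h]; exact ⟨hp.symm, hq.symm⟩
      · exact ⟨h.2.1.symm, h.2.2.symm⟩
  have h2 : v₀ ∉ (blkF G v₀).filter (fun w => G.Adj w p ∧ G.Adj w q) := by
    rw [mem_filter, mem_blkF]
    exact fun h => h.1.1 rfl
  rw [h1, card_insert_of_notMem h2] at h0
  omega

/-- A block vertex has exactly 16 neighbours among the block vertices. -/
theorem card_blk_nbrs_of_blk {w : V} (hw : w ∈ blkF G v₀) :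
    ((blkF G v₀).filter (fun w' => G.Adj w w')).card = 16 := by
  have hw' := (mem_blkF v₀).mp hw
  have h1 : G.neighborFinset w = blkOf G v₀ w ∪ (blkF G v₀).filter (fun w' => G.Adj w w') := by
    ext u
    rw [SimpleGraph.mem_neighborFinset, mem_union, mem_blkOf, mem_filter, mem_blkF]
    constructor
    · intro h
      by_cases hu : G.Adj v₀ u
      · exact Or.inl ⟨hu, h⟩
      · refine Or.inr ⟨⟨?_, hu⟩, h⟩
        rintro rfl
        exact hw'.2 h.symm
    · rintro (h | h)
      · exact h.2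
      · exact h.2
  have h2 : Disjoint (blkOf G v₀ w) ((blkF G v₀).filter (fun w' => G.Adj w w')) := by
    rw [disjoint_left]
    intro u hu hu'
    rw [mem_blkOf] at hu
    rw [mem_filter, mem_blkF] at hu'
    exact hu'.1.2 hu.1
  have := congrArg Finset.card h1
  rw [hG.deg, card_union_of_disjoint h2, card_blkOf hG v₀ hw] at this
  omega

theorem blkOf_inter_of_adj {w w' : V} (h : G.Adj w w') :
    blkOf G v₀ w ∩ blkOf G v₀ w' = ∅ := by
  rw [eq_empty_iff_forall_notMem]
  intro p hp
  rw [mem_inter, mem_blkOf, mem_blkOf] at hp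
  exact hG.adj w w' p h hp.1.2 hp.2.2

/-- First moment. -/
theorem sum_inter_blk {w : V} (hw : w ∈ blkF G v₀) :
    ∑ w' ∈ (blkF G v₀).erase w, (blkOf G v₀ w ∩ blkOf G v₀ w').card = 120 := by
  have h1 : ∀ w' ∈ (blkF G v₀).erase w, (blkOf G v₀ w ∩ blkOf G v₀ w').card =
      ∑ p ∈ blkOf G v₀ w, (if G.Adj w' p then 1 else 0) := by
    intro w' _
    rw [← card_filter]
    congr 1
    ext p
    rw [mem_inter, mem_filter, mem_blkOf, mem_blkOf]
    tauto
  rw [Finset.sum_congr rfl h1, Finset.sum_comm]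
  have h2 : ∀ p ∈ blkOf G v₀ w, ∑ w' ∈ (blkF G v₀).erase w, (if G.Adj w' p then 1 else 0) = 20 := by
    intro p hp
    rw [mem_blkOf] at hp
    rw [← card_filter, Finset.filter_erase, card_erase_of_mem, card_blk_nbrs_of_pt hG v₀ hp.1]
    rw [mem_filter]
    exact ⟨hw, hp.2⟩
  rw [Finset.sum_congr rfl h2, sum_const, card_blkOf hG v₀ hw]
  rfl

/-- Second moment. -/
theorem sum_choose_inter_blk {w : V} (hw : w ∈ blkF G v₀) :
    ∑ w' ∈ (blkF G v₀).erase w, Nat.choose (blkOf G v₀ w ∩ blkOf G v₀ w').card 2 = 60 := by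
  have h1 := Finset.sum_card_bipartiteAbove_eq_sum_card_bipartiteBelow
    (s := powersetCard 2 (blkOf G v₀ w)) (t := (blkF G v₀).erase w)
    (r := fun U w' => U ⊆ blkOf G v₀ w')
  have hright : ∀ w' ∈ (blkF G v₀).erase w,
      ((powersetCard 2 (blkOf G v₀ w)).bipartiteBelow (fun U w' => U ⊆ blkOf G v₀ w') w').card =
        Nat.choose (blkOf G v₀ w ∩ blkOf G v₀ w').card 2 := by
    intro w' _
    rw [← card_powersetCard]
    congr 1
    ext S
    simp only [bipartiteBelow, mem_filter, mem_powersetCard, subset_inter_iff]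
    tauto
  rw [Finset.sum_congr rfl hright] at h1
  rw [← h1]
  have hleft : ∀ U ∈ powersetCard 2 (blkOf G v₀ w),
      (((blkF G v₀).erase w).bipartiteAbove (fun U w' => U ⊆ blkOf G v₀ w') U).card = 4 := by
    intro U hU
    rw [mem_powersetCard] at hU
    obtain ⟨p, q, hpq, rfl⟩ := card_eq_two.mp hU.2
    have hp : p ∈ blkOf G v₀ w := hU.1 (mem_insert_self p _)
    have hq : q ∈ blkOf G v₀ w := hU.1 (mem_insert_of_mem (mem_singleton_self q))
    rw [mem_blkOf] at hp hq
    have h5 := card_blk_nbrs_of_pair hG v₀ hp.1 hq.1 hpq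
    have : ((blkF G v₀).erase w).bipartiteAbove (fun U w' => U ⊆ blkOf G v₀ w') {p, q} =
        ((blkF G v₀).filter (fun w => G.Adj w p ∧ G.Adj w q)).erase w := by
      ext w'
      simp only [bipartiteAbove, mem_filter, mem_erase, insert_subset_iff, singleton_subset_iff,
        mem_blkOf]
      tauto
    rw [this, card_erase_of_mem, h5]
    rw [mem_filter]
    exact ⟨hw, hp.2, hq.2⟩
  rw [Finset.sum_congr rfl hleft, sum_const, card_powersetCard, card_blkOf hG v₀ hw]
  rfl

/-- Two distinct non-adjacent block vertices share exactly two points. -/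
theorem blkOf_inter_of_not_adj {w w' : V} (hw : w ∈ blkF G v₀) (hw' : w' ∈ blkF G v₀)
    (hne : w ≠ w') (hnadj : ¬ G.Adj w w') : (blkOf G v₀ w ∩ blkOf G v₀ w').card = 2 := by
  set E := ((blkF G v₀).erase w).filter (fun w' => ¬ G.Adj w w') with hE
  have hEcard : E.card = 60 := by
    have h1 := Finset.card_filter_add_card_filter_not (s := (blkF G v₀).erase w)
      (fun w' => G.Adj w w')
    have h2 : ((blkF G v₀).erase w).filter (fun w' => G.Adj w w') =
        (blkF G v₀).filter (fun w' => G.Adj w w') := by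
      ext u
      rw [mem_filter, mem_filter, mem_erase]
      constructor
      · exact fun h => ⟨h.1.2, h.2⟩
      · intro h
        refine ⟨⟨?_, h.1⟩, h.2⟩
        rintro rfl
        exact G.loopless.irrefl u h.2
    rw [h2, card_blk_nbrs_of_blk hG v₀ hw, card_erase_of_mem hw, card_blkF hG v₀] at h1
    have h1' : 16 + E.card = 77 - 1 := by
      rw [hE]; convert h1
    omega
  have hzero : ∀ u ∈ (blkF G v₀).erase w, (blkOf G v₀ w ∩ blkOf G v₀ u).card ≠ 0 →
      ¬ G.Adj w u := by
    intro u _ h hadj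
    rw [blkOf_inter_of_adj hG v₀ hadj] at h
    exact h rfl
  have hs1 : ∑ u ∈ E, (blkOf G v₀ w ∩ blkOf G v₀ u).card = 120 := by
    rw [hE, Finset.sum_filter_of_ne hzero, sum_inter_blk hG v₀ hw]
  have hzero2 : ∀ u ∈ (blkF G v₀).erase w, Nat.choose (blkOf G v₀ w ∩ blkOf G v₀ u).card 2 ≠ 0 →
      ¬ G.Adj w u := by
    intro u _ h hadj
    rw [blkOf_inter_of_adj hG v₀ hadj] at h
    exact h rfl
  have hs2 : ∑ u ∈ E, Nat.choose (blkOf G v₀ w ∩ blkOf G v₀ u).card 2 = 60 := by
    rw [hE, Finset.sum_filter_of_ne hzero2, sum_choose_inter_blk hG v₀ hw]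
  have hle : ∀ u ∈ E, (blkOf G v₀ w ∩ blkOf G v₀ u).card ≤ 6 := by
    intro u _
    calc (blkOf G v₀ w ∩ blkOf G v₀ u).card ≤ (blkOf G v₀ w).card := card_le_card inter_subset_left
      _ = 6 := card_blkOf hG v₀ hw
  have key := termwise E (fun u => (blkOf G v₀ w ∩ blkOf G v₀ u).card)
    (fun n => 3 * n) (fun n => 2 * Nat.choose n 2 + 4) 6 hle
    (by intro n hn; interval_cases n <;> decide)
    (by
      show ∑ u ∈ E, 3 * (blkOf G v₀ w ∩ blkOf G v₀ u).card =
        ∑ u ∈ E, (2 * Nat.choose (blkOf G v₀ w ∩ blkOf G v₀ u).card 2 + 4)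
      rw [← Finset.mul_sum, Finset.sum_add_distrib, ← Finset.mul_sum, hs1, hs2, sum_const, hEcard]
      rfl)
  have hmem : w' ∈ E := by
    rw [hE, mem_filter, mem_erase]
    exact ⟨⟨hne.symm, hw'⟩, hnadj⟩
  have h3 : 3 * (blkOf G v₀ w ∩ blkOf G v₀ w').card =
      2 * Nat.choose (blkOf G v₀ w ∩ blkOf G v₀ w').card 2 + 4 := key w' hmem
  have h6 := hle w' hmem
  generalize (blkOf G v₀ w ∩ blkOf G v₀ w').card = x at h3 h6
  interval_cases x <;> simp [Nat.choose] at h3 ⊢

/-- Distinct block vertices share at most two points. -/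
theorem blkOf_inter_le {w w' : V} (hw : w ∈ blkF G v₀) (hw' : w' ∈ blkF G v₀)
    (hne : w ≠ w') : (blkOf G v₀ w ∩ blkOf G v₀ w').card ≤ 2 := by
  by_cases h : G.Adj w w'
  · rw [blkOf_inter_of_adj hG v₀ h]; simp
  · rw [blkOf_inter_of_not_adj hG v₀ hw hw' hne h]

/-- Every triple of points lies in the block of exactly one block vertex. -/
theorem exists_unique_blk {T : Finset V} (hT : T ⊆ G.neighborFinset v₀) (hT3 : T.card = 3) :
    ∃! w, w ∈ blkF G v₀ ∧ T ⊆ blkOf G v₀ w := by
  have huniq : ∀ w ∈ blkF G v₀, ∀ w' ∈ blkF G v₀, T ⊆ blkOf G v₀ w → T ⊆ blkOf G v₀ w' →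
      w = w' := by
    intro w hw w' hw' h h'
    by_contra hne
    have := blkOf_inter_le hG v₀ hw hw' hne
    have h3 : T.card ≤ (blkOf G v₀ w ∩ blkOf G v₀ w').card := card_le_card (subset_inter h h')
    omega
  have hdisj : ((blkF G v₀ : Finset V) : Set V).PairwiseDisjoint
      (fun w => powersetCard 3 (blkOf G v₀ w)) := by
    intro w hw w' hw' hne
    rw [Function.onFun, disjoint_left]
    intro S hS hS'
    rw [mem_powersetCard] at hS hS'
    have := blkOf_inter_le hG v₀ (Finset.mem_coe.mp hw) (Finset.mem_coe.mp hw') hne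
    have h3 : S.card ≤ (blkOf G v₀ w ∩ blkOf G v₀ w').card :=
      card_le_card (subset_inter hS.1 hS'.1)
    omega
  have hcard : ((blkF G v₀).biUnion (fun w => powersetCard 3 (blkOf G v₀ w))).card = 1540 := by
    rw [card_biUnion hdisj]
    have : ∀ w ∈ blkF G v₀, (powersetCard 3 (blkOf G v₀ w)).card = 20 := by
      intro w hw
      rw [card_powersetCard, card_blkOf hG v₀ hw]
      rfl
    rw [Finset.sum_congr rfl this, sum_const, card_blkF hG v₀]
    rfl
  have hsub : (blkF G v₀).biUnion (fun w => powersetCard 3 (blkOf G v₀ w)) ⊆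
      powersetCard 3 (G.neighborFinset v₀) := by
    intro S hS
    rw [mem_biUnion] at hS
    obtain ⟨w, -, hS⟩ := hS
    rw [mem_powersetCard] at hS ⊢
    exact ⟨hS.1.trans inter_subset_left, hS.2⟩
  have heq := eq_of_subset_of_card_le hsub (by
    rw [hcard, card_powersetCard, hG.deg]
    decide)
  have hTmem : T ∈ powersetCard 3 (G.neighborFinset v₀) := mem_powersetCard.mpr ⟨hT, hT3⟩
  rw [← heq, mem_biUnion] at hTmem
  obtain ⟨w, hw, hTw⟩ := hTmem
  rw [mem_powersetCard] at hTw
  exact ⟨w, ⟨hw, hTw.1⟩, fun w' hw' => huniq w' hw'.1 w hw hw'.2 hTw.1⟩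

end Counting

end Cfsg.Agent.Helper8
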