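import Cfsg.Agent.Lib.Helper8.HSGraph

set_option autoImplicit false
set_option linter.unusedSectionVars false
set_option linter.unusedVariables false

/-! A `(100, 22, 0, 6)` strongly regular graph is the point-block graph of the Steiner system
`S(3, 6, 22)` seen from any of its vertices. -/

namespace Cfsg.Agent.Helper8

open Cfsg Finset

/-! ### Adjacency in the point-block graph -/

section PBG

variable {α : Type*} (B : Set (Finset α))

theorem pbg_adj_none_pt (p : α) : (pointBlockGraph B).Adj none (some (Sum.inl p)) := by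
  rw [pointBlockGraph, SimpleGraph.fromRel_adj]
  exact ⟨by simp, Or.inl trivial⟩

theorem pbg_not_adj_none_blk (b : B) : ¬ (pointBlockGraph B).Adj none (some (Sum.inr b)) := by
  rw [pointBlockGraph, SimpleGraph.fromRel_adj]
  rintro ⟨-, h | h⟩ <;> exact h

theorem pbg_not_adj_pt_pt (p q : α) :
    ¬ (pointBlockGraph B).Adj (some (Sum.inl p)) (some (Sum.inl q)) := by
  rw [pointBlockGraph, SimpleGraph.fromRel_adj]
  rintro ⟨-, h | h⟩ <;> exact h

theorem pbg_adj_pt_blk (p : α) (b : B) :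
    (pointBlockGraph B).Adj (some (Sum.inl p)) (some (Sum.inr b)) ↔ p ∈ (b : Finset α) := by
  rw [pointBlockGraph, SimpleGraph.fromRel_adj]
  constructor
  · rintro ⟨-, h | h⟩
    · exact h
    · exact absurd h (fun h => h)
  · intro h
    exact ⟨by simp, Or.inl h⟩

theorem pbg_adj_blk_blk (b c : B) :
    (pointBlockGraph B).Adj (some (Sum.inr b)) (some (Sum.inr c)) ↔
      b ≠ c ∧ Disjoint (b : Finset α) (c : Finset α) := by
  rw [pointBlockGraph, SimpleGraph.fromRel_adj]
  constructor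
  · rintro ⟨hne, h | h⟩
    · exact ⟨fun h' => hne (by rw [h']), h⟩
    · exact ⟨fun h' => hne (by rw [h']), (disjoint_comm.mp h)⟩
  · rintro ⟨hne, h⟩
    refine ⟨fun h' => hne ?_, Or.inl h⟩
    exact Sum.inr_injective (Option.some_injective _ h')

end PBG

section Reconstruct

variable {V : Type*} [Fintype V] [DecidableEq V]
variable {G : SimpleGraph V} [DecidableRel G.Adj] (hG : IsHSG G) (v₀ : V)

/-- The points: the neighbours of the base vertex. -/
abbrev HPt (G : SimpleGraph V) (v₀ : V) : Type _ := {p : V // G.Adj v₀ p}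

/-- The block of a vertex, as a set of points. -/
def hblk (G : SimpleGraph V) [DecidableRel G.Adj] (v₀ w : V) : Finset (HPt G v₀) :=
  univ.filter (fun p => G.Adj w p.1)

theorem mem_hblk {w : V} {p : HPt G v₀} : p ∈ hblk G v₀ w ↔ G.Adj w p.1 := by
  unfold hblk; rw [mem_filter]; exact ⟨fun h => h.2, fun h => ⟨mem_univ _, h⟩⟩

theorem hblk_map (w : V) :
    (hblk G v₀ w).map (Function.Embedding.subtype _) = blkOf G v₀ w := by
  ext p
  rw [mem_map, mem_blkOf]
  constructor
  · rintro ⟨a, ha, rfl⟩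
    exact ⟨a.2, (mem_hblk v₀).mp ha⟩
  · rintro ⟨h1, h2⟩
    exact ⟨⟨p, h1⟩, (mem_hblk v₀).mpr h2, rfl⟩

/-- The set system of all blocks. -/
def hsys (G : SimpleGraph V) [DecidableRel G.Adj] (v₀ : V) : Set (Finset (HPt G v₀)) :=
  {b | ∃ w ∈ blkF G v₀, hblk G v₀ w = b}

include hG

theorem card_HPt : Fintype.card (HPt G v₀) = 22 := by
  rw [Fintype.card_subtype, ← SimpleGraph.neighborFinset_eq_filter, hG.deg]

theorem card_hblk {w : V} (hw : w ∈ blkF G v₀) : (hblk G v₀ w).card = 6 := by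
  rw [← card_map (Function.Embedding.subtype _), hblk_map, card_blkOf hG v₀ hw]

theorem hblk_injOn {w w' : V} (hw : w ∈ blkF G v₀) (hw' : w' ∈ blkF G v₀)
    (h : hblk G v₀ w = hblk G v₀ w') : w = w' := by
  by_contra hne
  have h1 := blkOf_inter_le hG v₀ hw hw' hne
  rw [← hblk_map, ← hblk_map, h, inter_self, card_map, card_hblk hG v₀ hw'] at h1
  omega

theorem hsys_steiner : IsSteinerSystem 3 6 (hsys G v₀) := by
  constructor
  · rintro b ⟨w, hw, rfl⟩
    exact card_hblk hG v₀ hw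
  · intro s hs
    have hT : s.map (Function.Embedding.subtype _) ⊆ G.neighborFinset v₀ := by
      intro p hp
      obtain ⟨a, -, rfl⟩ := mem_map.mp hp
      rw [SimpleGraph.mem_neighborFinset]
      exact a.2
    obtain ⟨w, ⟨hw, hTw⟩, huniq⟩ := exists_unique_blk hG v₀ hT (by rw [card_map, hs])
    refine ⟨hblk G v₀ w, ⟨⟨w, hw, rfl⟩, ?_⟩, ?_⟩
    · intro p hp
      have : p.1 ∈ blkOf G v₀ w := hTw (mem_map_of_mem _ hp)
      rw [mem_blkOf] at this
      exact (mem_hblk v₀).mpr this.2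
    · rintro b ⟨⟨w', hw', rfl⟩, hsb⟩
      have : w' = w := by
        apply huniq w' ⟨hw', ?_⟩
        intro p hp
        obtain ⟨a, ha, rfl⟩ := mem_map.mp hp
        rw [mem_blkOf]
        exact ⟨a.2, (mem_hblk v₀).mp (hsb ha)⟩
      rw [this]

/-- The vertex map to the point-block graph. -/
def toPBGFun (G : SimpleGraph V) [DecidableRel G.Adj] (v₀ : V) (u : V) :
    Option (HPt G v₀ ⊕ hsys G v₀) :=
  if h : u = v₀ then none
  else if h' : G.Adj v₀ u then some (Sum.inl ⟨u, h'⟩)
  else some (Sum.inr ⟨hblk G v₀ u, u, (mem_blkF v₀).mpr ⟨h, h'⟩, rfl⟩)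

omit hG in
theorem toPBGFun_base : toPBGFun G v₀ v₀ = none := by
  unfold toPBGFun; rw [dif_pos rfl]

omit hG in
theorem toPBGFun_pt {u : V} (h : G.Adj v₀ u) : toPBGFun G v₀ u = some (Sum.inl ⟨u, h⟩) := by
  unfold toPBGFun
  rw [dif_neg (fun h' => G.loopless.irrefl v₀ (by rw [h'] at h; exact h)), dif_pos h]

omit hG in
theorem toPBGFun_blk {u : V} (h : u ∈ blkF G v₀) :
    toPBGFun G v₀ u = some (Sum.inr ⟨hblk G v₀ u, u, h, rfl⟩) := by
  unfold toPBGFun
  rw [dif_neg ((mem_blkF v₀).mp h).1, dif_neg ((mem_blkF v₀).mp h).2]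

omit hG in
theorem vertex_cases (u : V) : u = v₀ ∨ G.Adj v₀ u ∨ u ∈ blkF G v₀ := by
  by_cases h : u = v₀
  · exact Or.inl h
  · by_cases h' : G.Adj v₀ u
    · exact Or.inr (Or.inl h')
    · exact Or.inr (Or.inr ((mem_blkF v₀).mpr ⟨h, h'⟩))

theorem toPBGFun_bijective : Function.Bijective (toPBGFun G v₀) := by
  constructor
  · intro a b hab
    rcases vertex_cases (G := G) v₀ a with ha | ha | ha <;>
      rcases vertex_cases (G := G) v₀ b with hb | hb | hb
    · rw [ha, hb]
    · rw [ha, toPBGFun_base (G := G) v₀, toPBGFun_pt v₀ hb] at hab; exact absurd hab (by simp)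
    · rw [ha, toPBGFun_base (G := G) v₀, toPBGFun_blk v₀ hb] at hab; exact absurd hab (by simp)
    · rw [hb, toPBGFun_base (G := G) v₀, toPBGFun_pt v₀ ha] at hab; exact absurd hab (by simp)
    · rw [toPBGFun_pt v₀ ha, toPBGFun_pt v₀ hb] at hab
      simpa using hab
    · rw [toPBGFun_pt v₀ ha, toPBGFun_blk v₀ hb] at hab; exact absurd hab (by simp)
    · rw [hb, toPBGFun_base (G := G) v₀, toPBGFun_blk v₀ ha] at hab; exact absurd hab (by simp)
    · rw [toPBGFun_pt v₀ hb, toPBGFun_blk v₀ ha] at hab; exact absurd hab (by simp)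
    · rw [toPBGFun_blk v₀ ha, toPBGFun_blk v₀ hb] at hab
      have : hblk G v₀ a = hblk G v₀ b :=
        congrArg Subtype.val (Sum.inr_injective (Option.some_injective _ hab))
      exact hblk_injOn hG v₀ ha hb this
  · intro y
    rcases y with _ | (p | ⟨b, w, hw, rfl⟩)
    · exact ⟨v₀, toPBGFun_base v₀⟩
    · exact ⟨p.1, toPBGFun_pt v₀ p.2⟩
    · exact ⟨w, toPBGFun_blk v₀ hw⟩

theorem toPBGFun_adj (a b : V) :
    (pointBlockGraph (hsys G v₀)).Adj (toPBGFun G v₀ a) (toPBGFun G v₀ b) ↔ G.Adj a b := by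
  have key : ∀ a b : V, (a = v₀ ∨ G.Adj v₀ a ∨ a ∈ blkF G v₀) → (b = v₀ ∨ G.Adj v₀ b ∨ b ∈ blkF G v₀) →
      ((pointBlockGraph (hsys G v₀)).Adj (toPBGFun G v₀ a) (toPBGFun G v₀ b) ↔ G.Adj a b) ∨
      ((pointBlockGraph (hsys G v₀)).Adj (toPBGFun G v₀ b) (toPBGFun G v₀ a) ↔ G.Adj b a) := by
    intro a b ha hb
    rcases ha with ha | ha | ha <;> rcases hb with hb | hb | hb
    · left
      rw [ha, hb]
      exact ⟨fun h => absurd h (SimpleGraph.irrefl _), fun h => absurd h (SimpleGraph.irrefl _)⟩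
    · left
      rw [ha, toPBGFun_base (G := G) v₀, toPBGFun_pt v₀ hb]
      exact ⟨fun _ => hb, fun _ => pbg_adj_none_pt _ _⟩
    · left
      rw [ha, toPBGFun_base (G := G) v₀, toPBGFun_blk v₀ hb]
      exact ⟨fun h => absurd h (pbg_not_adj_none_blk _ _), fun h => absurd h ((mem_blkF _).mp hb).2⟩
    · right
      rw [hb, toPBGFun_base (G := G) v₀, toPBGFun_pt v₀ ha]
      exact ⟨fun _ => ha, fun _ => pbg_adj_none_pt _ _⟩
    · left
      rw [toPBGFun_pt v₀ ha, toPBGFun_pt v₀ hb]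
      exact ⟨fun h => absurd h (pbg_not_adj_pt_pt _ _ _), fun h => absurd h (pts_not_adj hG v₀ ha hb)⟩
    · left
      rw [toPBGFun_pt v₀ ha, toPBGFun_blk v₀ hb, pbg_adj_pt_blk]
      show (⟨a, ha⟩ : HPt G v₀) ∈ hblk G v₀ b ↔ G.Adj a b
      rw [mem_hblk]
      exact SimpleGraph.adj_comm _ _ _
    · right
      rw [hb, toPBGFun_base (G := G) v₀, toPBGFun_blk v₀ ha]
      exact ⟨fun h => absurd h (pbg_not_adj_none_blk _ _), fun h => absurd h ((mem_blkF _).mp ha).2⟩
    · right
      rw [toPBGFun_pt v₀ hb, toPBGFun_blk v₀ ha, pbg_adj_pt_blk]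
      show (⟨b, hb⟩ : HPt G v₀) ∈ hblk G v₀ a ↔ G.Adj b a
      rw [mem_hblk]
      exact SimpleGraph.adj_comm _ _ _
    · left
      rw [toPBGFun_blk v₀ ha, toPBGFun_blk v₀ hb, pbg_adj_blk_blk]
      show (_ ≠ _ ∧ Disjoint (hblk G v₀ a) (hblk G v₀ b)) ↔ G.Adj a b
      constructor
      · rintro ⟨hne, hdisj⟩
        by_contra hnadj
        have hab : a ≠ b := by
          rintro rfl
          exact hne rfl
        have h2 := blkOf_inter_of_not_adj hG v₀ ha hb hab hnadj
        rw [← hblk_map, ← hblk_map, ← map_inter, card_map, disjoint_iff_inter_eq_empty.mp hdisj]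
          at h2
        simp at h2
      · intro hadj
        have h0 := blkOf_inter_of_adj hG v₀ hadj
        rw [← hblk_map, ← hblk_map, ← map_inter, map_eq_empty] at h0
        refine ⟨?_, disjoint_iff_inter_eq_empty.mpr h0⟩
        intro heq
        have : hblk G v₀ a = hblk G v₀ b := congrArg Subtype.val heq
        have hab := hblk_injOn hG v₀ ha hb this
        rw [hab] at hadj
        exact G.loopless.irrefl b hadj
  rcases key a b (vertex_cases (G := G) v₀ a) (vertex_cases (G := G) v₀ b) with h | h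
  · exact h
  · rw [SimpleGraph.adj_comm, h, SimpleGraph.adj_comm]

/-- The isomorphism onto the point-block graph seen from `v₀`. -/
noncomputable def toPBG : G ≃g pointBlockGraph (hsys G v₀) where
  toEquiv := Equiv.ofBijective (toPBGFun G v₀) (toPBGFun_bijective hG v₀)
  map_rel_iff' := by
    intro a b
    exact toPBGFun_adj hG v₀ a b

theorem toPBG_base : toPBG hG v₀ v₀ = none := toPBGFun_base v₀

end Reconstruct

end Cfsg.Agent.Helper8
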