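import Cfsg.Agent.Lib.Helper8.HSAut

set_option autoImplicit false
set_option linter.unusedSectionVars false

/-! A concrete Steiner system `S(3, 6, 22)` (the hexads of the extended quadratic residue code
through two points) with an automorphism acting as an odd permutation on points and blocks. -/

namespace Cfsg.Agent.Helper8.HSOdd

open Cfsg Finset

/-- Table-defined permutation of `Fin n`. -/
def tblFun (n : ℕ) [NeZero n] (tbl : List ℕ) (i : Fin n) : Fin n := Fin.ofNat n (tbl.getD i.1 0)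

def maskTbl : List ℕ :=
  [1050887, 393259, 49683, 77891, 2622595, 32973, 2293781, 533029, 283653, 1576985, 2121993, 69129, 1393, 272529, 1130657, 2136097, 3408449, 673857, 136065, 884993, 1221633, 9246, 2113638, 328326, 692230, 525130, 22666, 3244042, 591922, 1179858, 2363666, 41378, 1054242, 298050, 214274, 2238978, 1859586, 69932, 1196556, 2885644, 1343540, 6740, 541076, 134308, 401732, 1639492, 3158148, 2131716, 124932, 2097848, 344152, 166168, 1058920, 574504, 2233416, 1312136, 729224, 307720, 159792, 2662480, 103568, 1123088, 919056, 3165200, 790752, 229984, 281376, 3801376, 2434080, 2165184, 26304, 1102144, 1608320, 2539648, 539904, 2707968, 1513472]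

def gTbl : List ℕ := [21, 10, 14, 16, 8, 18, 12, 19, 4, 15, 1, 20, 6, 17, 2, 9, 3, 13, 5, 7, 11, 0]
def gInvTbl : List ℕ := [21, 10, 14, 16, 8, 18, 12, 19, 4, 15, 1, 20, 6, 17, 2, 9, 3, 13, 5, 7, 11, 0]
def piTbl : List ℕ := [63, 68, 47, 54, 4, 75, 10, 73, 22, 69, 6, 27, 30, 67, 39, 16, 15, 46, 59, 49, 35, 34, 8, 53, 70, 60, 45, 11, 55, 74, 12, 62, 33, 32, 21, 20, 43, 50, 48, 14, 66, 71, 42, 36, 58, 26, 17, 2, 38, 19, 37, 61, 76, 23, 3, 28, 56, 65, 44, 18, 25, 51, 31, 0, 64, 57, 40, 13, 1, 9, 24, 41, 72, 7, 29, 5, 52]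
def piInvTbl : List ℕ := [63, 68, 47, 54, 4, 75, 10, 73, 22, 69, 6, 27, 30, 67, 39, 16, 15, 46, 59, 49, 35, 34, 8, 53, 70, 60, 45, 11, 55, 74, 12, 62, 33, 32, 21, 20, 43, 50, 48, 14, 66, 71, 42, 36, 58, 26, 17, 2, 38, 19, 37, 61, 76, 23, 3, 28, 56, 65, 44, 18, 25, 51, 31, 0, 64, 57, 40, 13, 1, 9, 24, 41, 72, 7, 29, 5, 52]

/-- The blocks. -/
def blk₀ (i : Fin 77) : Finset (Fin 22) :=
  univ.filter (fun j : Fin 22 => (maskTbl.getD i.1 0).testBit j.1)

/-- The point permutation `t ↦ -1/t`. -/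
def g₀ : Equiv.Perm (Fin 22) where
  toFun := tblFun 22 gTbl
  invFun := tblFun 22 gInvTbl
  left_inv := by decide +kernel
  right_inv := by decide +kernel

/-- The induced block permutation. -/
def π₀ : Equiv.Perm (Fin 77) where
  toFun := tblFun 77 piTbl
  invFun := tblFun 77 piInvTbl
  left_inv := by decide +kernel
  right_inv := by decide +kernel

theorem card_blk₀ : ∀ i, (blk₀ i).card = 6 := by decide +kernel

theorem inter_blk₀ : ∀ i j, i ≠ j → (blk₀ i ∩ blk₀ j).card < 3 := by decide +kernel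

theorem image_blk₀ : ∀ i, (blk₀ i).image g₀ = blk₀ (π₀ i) := by decide +kernel

theorem sign_g₀ : Equiv.Perm.sign g₀ = -1 := by decide +kernel

theorem sign_π₀ : Equiv.Perm.sign π₀ = 1 := by decide +kernel

end Cfsg.Agent.Helper8.HSOdd
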