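import Cfsg.Agent.Lib.Helper8.HSOdd

set_option autoImplicit false
set_option linter.unusedSectionVars false
set_option linter.unusedVariables false

/-! An odd automorphism of the Higman–Sims graph fixing the extra vertex. -/

namespace Cfsg.Agent.Helper8

open Cfsg Finset

/-- A family of `k`-sets with pairwise intersections smaller than `t` and the right number of
members is a Steiner system. -/
theorem steiner_of_counting {α : Type*} [Fintype α] [DecidableEq α] {ι : Type*} [Fintype ι]
    [DecidableEq ι] (blk : ι → Finset α) (t k : ℕ) (hk : ∀ i, (blk i).card = k)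
    (hint : ∀ i j, i ≠ j → (blk i ∩ blk j).card < t)
    (hcount : Fintype.card ι * Nat.choose k t = Nat.choose (Fintype.card α) t) :
    IsSteinerSystem t k (Set.range blk) := by
  constructor
  · rintro b ⟨i, rfl⟩
    exact hk i
  · intro s hs
    have hdisj : ((univ : Finset ι) : Set ι).PairwiseDisjoint
        (fun i => powersetCard t (blk i)) := by
      intro i _ j _ hne
      rw [Function.onFun, disjoint_left]
      intro S hS hS'
      rw [mem_powersetCard] at hS hS'
      have := hint i j hne
      have h3 : S.card ≤ (blk i ∩ blk j).card := card_le_card (subset_inter hS.1 hS'.1)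
      omega
    have hcard : ((univ : Finset ι).biUnion (fun i => powersetCard t (blk i))).card =
        Nat.choose (Fintype.card α) t := by
      rw [card_biUnion hdisj]
      have : ∀ i ∈ (univ : Finset ι), (powersetCard t (blk i)).card = Nat.choose k t := by
        intro i _
        rw [card_powersetCard, hk i]
      rw [Finset.sum_congr rfl this, sum_const, card_univ, smul_eq_mul, hcount]
    have hsub : (univ : Finset ι).biUnion (fun i => powersetCard t (blk i)) ⊆
        powersetCard t (univ : Finset α) := by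
      intro S hS
      rw [mem_biUnion] at hS
      obtain ⟨i, -, hS⟩ := hS
      rw [mem_powersetCard] at hS ⊢
      exact ⟨subset_univ _, hS.2⟩
    have heq := eq_of_subset_of_card_le hsub (by rw [hcard, card_powersetCard, card_univ])
    have hsmem : s ∈ powersetCard t (univ : Finset α) := mem_powersetCard.mpr ⟨subset_univ _, hs⟩
    rw [← heq, mem_biUnion] at hsmem
    obtain ⟨i, -, hsi⟩ := hsmem
    rw [mem_powersetCard] at hsi
    refine ⟨blk i, ⟨⟨i, rfl⟩, hsi.1⟩, ?_⟩
    rintro b ⟨⟨j, rfl⟩, hsj⟩
    by_contra hne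
    have hij : j ≠ i := fun h => hne (by rw [h])
    have := hint j i hij
    have h3 : s.card ≤ (blk j ∩ blk i).card := card_le_card (subset_inter hsj hsi.1)
    omega

namespace HSOdd

/-- The concrete system. -/
def B₀ : Set (Finset (Fin 22)) := Set.range blk₀

theorem B₀_steiner : IsSteinerSystem 3 6 B₀ :=
  steiner_of_counting blk₀ 3 6 card_blk₀ inter_blk₀ (by
    rw [Fintype.card_fin, Fintype.card_fin]; decide)

theorem blk₀_injective : Function.Injective blk₀ := by
  intro i j h
  by_contra hne
  have := inter_blk₀ i j hne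
  rw [h, inter_self, card_blk₀] at this
  omega

theorem g₀_mem : g₀ ∈ setSystemAut B₀ := by
  rw [Cfsg.Agent.S5628.mem_aut_iff]
  rintro l ⟨i, rfl⟩
  exact ⟨π₀ i, (image_blk₀ i).symm⟩

/-- Indexing of the blocks. -/
noncomputable def idxEquiv : Fin 77 ≃ B₀ := Equiv.ofInjective blk₀ blk₀_injective

noncomputable instance fintypeB₀ : Fintype B₀ := Fintype.ofEquiv (Fin 77) idxEquiv

theorem sign_blockCongr :
    Equiv.Perm.sign (blockCongr g₀ (aut_image_eq g₀_mem) : Equiv.Perm B₀) = 1 := by
  rw [← sign_π₀]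
  symm
  apply Equiv.Perm.sign_eq_sign_of_equiv π₀ _ idxEquiv
  intro i
  apply Subtype.ext
  show blk₀ (π₀ i) = (blk₀ i).image g₀
  exact (image_blk₀ i).symm

theorem sign_lift₀ :
    Equiv.Perm.sign (pbgEquiv g₀ (aut_image_eq g₀_mem) : Equiv.Perm (Option (Fin 22 ⊕ B₀))) =
      -1 := by
  have h1 : (pbgEquiv g₀ (aut_image_eq g₀_mem) : Equiv.Perm (Option (Fin 22 ⊕ B₀))) =
      Equiv.optionCongr (Equiv.Perm.sumCongr g₀ (blockCongr g₀ (aut_image_eq g₀_mem))) := rfl
  rw [h1, Equiv.optionCongr_sign, Equiv.Perm.sign_sumCongr, sign_g₀, sign_blockCongr]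
  rfl

end HSOdd

/-- An automorphism of the Higman–Sims graph fixing the extra vertex and acting as an odd
permutation on the vertices. -/
theorem exists_odd_aut {α : Type*} [Fintype α] [DecidableEq α] (hα : Fintype.card α = 22)
    {B : Set (Finset α)} (hB : IsSteinerSystem 3 6 B) [Fintype B] :
    ∃ τ : Equiv.Perm (Option (α ⊕ B)), τ ∈ graphAut (pointBlockGraph B) ∧ τ none = none ∧
      Equiv.Perm.sign τ = -1 := by
  obtain ⟨e, he⟩ := Cfsg.Agent.S0410.result (by rw [Fintype.card_fin]) hα HSOdd.B₀_steiner hB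
  let f : Option (Fin 22 ⊕ HSOdd.B₀) ≃ Option (α ⊕ B) := pbgEquiv e he
  let τ₀ : Equiv.Perm (Option (Fin 22 ⊕ HSOdd.B₀)) :=
    pbgEquiv HSOdd.g₀ (aut_image_eq HSOdd.g₀_mem)
  refine ⟨f.permCongr τ₀, ?_, ?_, ?_⟩
  · intro a b
    have h1 : ∀ x, f.permCongr τ₀ x = f (τ₀ (f.symm x)) := fun x => rfl
    rw [h1, h1, pbgEquiv_adj e he, pbgEquiv_adj HSOdd.g₀ (aut_image_eq HSOdd.g₀_mem),
      ← pbgEquiv_adj e he]
    show (pointBlockGraph B).Adj (f (f.symm a)) (f (f.symm b)) ↔ _
    rw [Equiv.apply_symm_apply, Equiv.apply_symm_apply]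
  · show f (τ₀ (f.symm none)) = none
    have h0 : f.symm none = none := by
      rw [Equiv.symm_apply_eq]; rfl
    rw [h0]
    rfl
  · rw [Equiv.Perm.sign_permCongr]
    exact HSOdd.sign_lift₀

end Cfsg.Agent.Helper8
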