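import Mathlib

set_option autoImplicit false
set_option linter.unusedSectionVars false
set_option linter.unusedVariables false

/-! A simplicity criterion: a transitive group of degree 100 whose point stabilizer is simple with
orbits of sizes 1, 22, 77 is simple. -/

namespace Cfsg.Agent.Helper8

open MulAction

section

variable {G Ω : Type*} [Group G] [MulAction G Ω]

theorem stabilizer_subgroup_eq (H : Subgroup G) (a : Ω) :
    stabilizer H a = (stabilizer G a).subgroupOf H := by
  ext h
  rw [mem_stabilizer_iff, Subgroup.mem_subgroupOf, mem_stabilizer_iff]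
  rfl

/-- The orbit of `a` under a normal subgroup `N` agrees with the orbit under `N ⊔ G_a`. -/
theorem orbit_sup_stabilizer (N : Subgroup G) [N.Normal] (a : Ω) :
    orbit (N ⊔ stabilizer G a : Subgroup G) a = orbit N a := by
  ext x
  constructor
  · rintro ⟨⟨g, hg⟩, rfl⟩
    have hg' : g ∈ ((N ⊔ stabilizer G a : Subgroup G) : Set G) := hg
    rw [Subgroup.normal_mul] at hg'
    obtain ⟨n, hn, s, hs, rfl⟩ := Set.mem_mul.mp hg'
    refine ⟨⟨n, hn⟩, ?_⟩
    show n • a = (n * s) • a
    rw [mul_smul, mem_stabilizer_iff.mp hs]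
  · rintro ⟨⟨n, hn⟩, rfl⟩
    exact ⟨⟨n, (le_sup_left : N ≤ N ⊔ stabilizer G a) hn⟩, rfl⟩

/-- The size of an orbit of a normal subgroup divides the index of the point stabilizer. -/
theorem ncard_orbit_normal_dvd (N : Subgroup G) [N.Normal] (a : Ω) :
    (orbit N a).ncard ∣ (stabilizer G a).index := by
  rw [← orbit_sup_stabilizer N a, ← index_stabilizer, stabilizer_subgroup_eq]
  exact Subgroup.relIndex_dvd_index_of_le le_sup_right

/-- A subgroup meeting the stabilizer trivially is in bijection with its orbit. -/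
theorem card_eq_ncard_orbit_of_disjoint (N : Subgroup G) (a : Ω)
    (h : Disjoint (stabilizer G a) N) : Nat.card N = (orbit N a).ncard := by
  have h1 := Subgroup.card_mul_index (stabilizer N a)
  rw [index_stabilizer, stabilizer_subgroup_eq, Subgroup.subgroupOf_eq_bot.mpr h,
    Subgroup.card_bot, one_mul] at h1
  exact h1.symm

end

section Main

variable {G Ω : Type*} [Group G] [Finite G] [MulAction G Ω] [FaithfulSMul G Ω]
  [IsPretransitive G Ω]

/-- The possible orbit sizes of a normal subgroup. -/
theorem ncard_orbit_normal (hΩ : Nat.card Ω = 100) (a : Ω) (O1 O2 : Set Ω)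
    (hcov : ∀ x, x = a ∨ x ∈ O1 ∨ x ∈ O2) (ha1 : a ∉ O1) (ha2 : a ∉ O2) (hd : Disjoint O1 O2)
    (hc1 : O1.ncard = 22) (hc2 : O2.ncard = 77)
    (ht1 : ∀ x ∈ O1, ∀ y ∈ O1, ∃ s ∈ stabilizer G a, s • x = y)
    (ht2 : ∀ x ∈ O2, ∀ y ∈ O2, ∃ s ∈ stabilizer G a, s • x = y)
    (N : Subgroup G) [N.Normal] : (orbit N a).ncard = 1 ∨ (orbit N a).ncard = 100 := by
  have hfin : Finite Ω := Nat.finite_of_card_ne_zero (by rw [hΩ]; norm_num)
  have hdvd : (orbit N a).ncard ∣ 100 := by
    have := ncard_orbit_normal_dvd N a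
    rwa [index_stabilizer_of_transitive, hΩ] at this
  have hinv : ∀ s ∈ stabilizer G a, ∀ x ∈ orbit N a, s • x ∈ orbit N a := by
    rintro s hs x ⟨⟨n, hn⟩, rfl⟩
    refine ⟨⟨s * n * s⁻¹, Subgroup.Normal.conj_mem inferInstance n hn s⟩, ?_⟩
    show (s * n * s⁻¹) • a = s • (n • a)
    have hs' : s⁻¹ • a = a := by
      rw [inv_smul_eq_iff]; exact (mem_stabilizer_iff.mp hs).symm
    rw [mul_smul, mul_smul, hs']
  have hamem : a ∈ orbit N a := mem_orbit_self a
  have hO1 : (∃ x ∈ O1, x ∈ orbit N a) → O1 ⊆ orbit N a := by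
    rintro ⟨x, hx1, hx⟩ y hy
    obtain ⟨s, hs, rfl⟩ := ht1 x hx1 y hy
    exact hinv s hs x hx
  have hO2 : (∃ x ∈ O2, x ∈ orbit N a) → O2 ⊆ orbit N a := by
    rintro ⟨x, hx1, hx⟩ y hy
    obtain ⟨s, hs, rfl⟩ := ht2 x hx1 y hy
    exact hinv s hs x hx
  by_cases h1 : ∃ x ∈ O1, x ∈ orbit N a
  · by_cases h2 : ∃ x ∈ O2, x ∈ orbit N a
    · right
      have : orbit N a = Set.univ := by
        rw [Set.eq_univ_iff_forall]
        intro x
        rcases hcov x with rfl | hx | hx
        · exact hamem
        · exact hO1 h1 hx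
        · exact hO2 h2 hx
      rw [this, Set.ncard_univ, hΩ]
    · exfalso
      have : orbit N a = insert a O1 := by
        ext x
        constructor
        · intro hx
          rcases hcov x with rfl | hx1 | hx2
          · exact Set.mem_insert _ _
          · exact Set.mem_insert_of_mem _ hx1
          · exact absurd ⟨x, hx2, hx⟩ h2
        · intro hx
          rcases Set.mem_insert_iff.mp hx with rfl | hx
          · exact hamem
          · exact hO1 h1 hx
      rw [this, Set.ncard_insert_of_notMem ha1 (Set.toFinite _), hc1] at hdvd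
      omega
  · by_cases h2 : ∃ x ∈ O2, x ∈ orbit N a
    · exfalso
      have : orbit N a = insert a O2 := by
        ext x
        constructor
        · intro hx
          rcases hcov x with rfl | hx1 | hx2
          · exact Set.mem_insert _ _
          · exact absurd ⟨x, hx1, hx⟩ h1
          · exact Set.mem_insert_of_mem _ hx2
        · intro hx
          rcases Set.mem_insert_iff.mp hx with rfl | hx
          · exact hamem
          · exact hO2 h2 hx
      rw [this, Set.ncard_insert_of_notMem ha2 (Set.toFinite _), hc2] at hdvd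
      omega
    · left
      have : orbit N a = {a} := by
        ext x
        constructor
        · intro hx
          rcases hcov x with rfl | hx1 | hx2
          · exact Set.mem_singleton _
          · exact absurd ⟨x, hx1, hx⟩ h1
          · exact absurd ⟨x, hx2, hx⟩ h2
        · intro hx
          rw [Set.mem_singleton_iff.mp hx]
          exact hamem
      rw [this, Set.ncard_singleton]

end Main

section Simple

variable {G Ω : Type*} [Group G] [Finite G] [MulAction G Ω] [FaithfulSMul G Ω]
  [IsPretransitive G Ω]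

/-- A normal subgroup of order 100 has a proper nontrivial subgroup that is normal in `G`. -/
theorem exists_normal_sylow5 (N : Subgroup G) [N.Normal] (hN : Nat.card N = 100) :
    ∃ P : Subgroup G, P.Normal ∧ P ≤ N ∧ Nat.card P ≠ 1 ∧ Nat.card P ≠ 100 := by
  have : Fact (Nat.Prime 5) := ⟨by norm_num⟩
  obtain ⟨P⟩ : Nonempty (Sylow 5 N) := inferInstance
  have h1 : Nat.card (Sylow 5 N) ≡ 1 [MOD 5] := card_sylow_modEq_one 5 N
  have h2 : Nat.card (Sylow 5 N) ∣ 100 := by
    rw [← hN]
    exact (Sylow.card_dvd_index P).trans (Subgroup.index_dvd_card _)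
  have h3 : Nat.card (Sylow 5 N) = 1 := by
    have hle : Nat.card (Sylow 5 N) ≤ 100 := Nat.le_of_dvd (by norm_num) h2
    unfold Nat.ModEq at h1
    interval_cases (Nat.card (Sylow 5 N)) <;> omega
  have : Subsingleton (Sylow 5 N) := (Nat.card_eq_one_iff_unique.mp h3).1
  have : (P : Subgroup N).Characteristic := Sylow.characteristic_of_subsingleton P
  refine ⟨(P : Subgroup N).map N.subtype, inferInstance, ?_, ?_, ?_⟩
  · intro g hg
    obtain ⟨x, -, rfl⟩ := Subgroup.mem_map.mp hg
    exact x.2
  · rw [Subgroup.card_subtype]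
    intro h
    have hbot : (P : Subgroup N) = ⊥ := Subgroup.card_eq_one.mp h
    exact Sylow.ne_bot_of_dvd_card P (by rw [hN]; norm_num) hbot
  · rw [Subgroup.card_subtype]
    obtain ⟨n, hn⟩ := IsPGroup.exists_card_eq P.isPGroup'
    rw [hn]
    intro h
    have hn3 : n < 3 := by
      by_contra hge
      rw [not_lt] at hge
      have : 5 ^ 3 ≤ 5 ^ n := Nat.pow_le_pow_right (by norm_num) hge
      omega
    interval_cases n <;> omega

/-- The simplicity criterion. -/
theorem simple_of_rank3 (hΩ : Nat.card Ω = 100) (a : Ω) (O1 O2 : Set Ω)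
    (hcov : ∀ x, x = a ∨ x ∈ O1 ∨ x ∈ O2) (ha1 : a ∉ O1) (ha2 : a ∉ O2) (hd : Disjoint O1 O2)
    (hc1 : O1.ncard = 22) (hc2 : O2.ncard = 77)
    (ht1 : ∀ x ∈ O1, ∀ y ∈ O1, ∃ s ∈ stabilizer G a, s • x = y)
    (ht2 : ∀ x ∈ O2, ∀ y ∈ O2, ∃ s ∈ stabilizer G a, s • x = y)
    (hS : IsSimpleGroup (stabilizer G a)) : IsSimpleGroup G := by
  have horb : ∀ (N : Subgroup G) [N.Normal], (orbit N a).ncard = 1 ∨ (orbit N a).ncard = 100 :=
    fun N _ => ncard_orbit_normal hΩ a O1 O2 hcov ha1 ha2 hd hc1 hc2 ht1 ht2 N
  -- disjoint case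
  have hdisj : ∀ (N : Subgroup G) [N.Normal], Disjoint (stabilizer G a) N → N = ⊥ := by
    intro N _ hN
    have hcard := card_eq_ncard_orbit_of_disjoint N a hN
    rcases horb N with h | h
    · rw [h] at hcard
      exact Subgroup.card_eq_one.mp hcard
    · exfalso
      rw [h] at hcard
      obtain ⟨P, hPn, hPN, hP1, hP100⟩ := exists_normal_sylow5 N hcard
      have hPd : Disjoint (stabilizer G a) P := hN.mono_right hPN
      have hPc := card_eq_ncard_orbit_of_disjoint P a hPd
      rcases horb P with h' | h'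
      · exact hP1 (by rw [hPc, h'])
      · exact hP100 (by rw [hPc, h'])
  have : Nontrivial (stabilizer G a) := hS.toNontrivial
  have : Nontrivial G := by
    obtain ⟨x, y, hxy⟩ := exists_pair_ne (stabilizer G a)
    exact ⟨⟨x.1, y.1, fun h => hxy (Subtype.ext h)⟩⟩
  refine ⟨?_⟩
  intro N hN
  haveI := hN
  have hM : (N.subgroupOf (stabilizer G a)).Normal := inferInstance
  rcases hS.eq_bot_or_eq_top_of_normal _ hM with h | h
  · left
    rw [Subgroup.subgroupOf_eq_bot] at h
    exact hdisj N h.symm
  · rw [Subgroup.subgroupOf_eq_top] at h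
    rcases horb N with h1 | h1
    · -- `N` fixes `a`, so `N` is the stabilizer, which is then normal: impossible
      exfalso
      have hNa : ∀ n ∈ N, n • a = a := by
        intro n hn
        have hmem : n • a ∈ orbit N a := ⟨⟨n, hn⟩, rfl⟩
        obtain ⟨b, hb⟩ := Set.ncard_eq_one.mp h1
        rw [hb] at hmem
        have hamem : a ∈ orbit N a := mem_orbit_self a
        rw [hb] at hamem
        rw [Set.mem_singleton_iff.mp hmem, Set.mem_singleton_iff.mp hamem]
      have hNS : N = stabilizer G a := le_antisymm (fun n hn => mem_stabilizer_iff.mpr (hNa n hn)) h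
      have htriv : ∀ s ∈ stabilizer G a, s = 1 := by
        intro s hs
        apply FaithfulSMul.eq_of_smul_eq_smul (α := Ω)
        intro x
        obtain ⟨g, rfl⟩ := exists_smul_eq G a x
        have hconj : g⁻¹ * s * g ∈ N := by
          have := Subgroup.Normal.conj_mem hN s (hNS ▸ hs) g⁻¹
          rwa [inv_inv] at this
        have := hNa _ hconj
        rw [one_smul]
        calc s • g • a = g • ((g⁻¹ * s * g) • a) := by
              rw [← mul_smul, ← mul_smul]; congr 1; group
          _ = g • a := by rw [this]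
      obtain ⟨x, y, hxy⟩ := exists_pair_ne (stabilizer G a)
      exact hxy (Subtype.ext ((htriv x.1 x.2).trans (htriv y.1 y.2).symm))
    · right
      have huniv : orbit N a = Set.univ := by
        have hfin : Finite Ω := Nat.finite_of_card_ne_zero (by rw [hΩ]; norm_num)
        rw [Set.eq_univ_iff_ncard, h1, hΩ]
      rw [eq_top_iff]
      intro g _
      have : g • a ∈ orbit N a := by rw [huniv]; exact Set.mem_univ _
      obtain ⟨⟨n, hn⟩, hna⟩ := this
      have hs : n⁻¹ * g ∈ stabilizer G a := by
        rw [mem_stabilizer_iff, mul_smul, inv_smul_eq_iff]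
        exact hna.symm
      have : g = n * (n⁻¹ * g) := by group
      rw [this]
      exact N.mul_mem hn (h hs)

end Simple

end Cfsg.Agent.Helper8
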