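import Cfsg.Agent.Lib.Helper8.HSOdd2
import Cfsg.Agent.Lib.Helper8.SimpleRank3
import Cfsg.Agent.S0414

set_option autoImplicit false
set_option linter.unusedSectionVars false
set_option linter.unusedVariables false

/-! The even automorphisms of the Higman–Sims graph form a simple group of order 44352000. -/

namespace Cfsg.Agent.Helper8

open Cfsg Finset MulAction

/-- A subgroup of index two has the same orbit on a point whose orbit has odd size. -/
theorem orbit_eq_of_index_two {A Y : Type*} [Group A] [MulAction A Y] (H : Subgroup A)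
    (hH : H.index = 2) (y : Y) (hfin : (orbit A y).Finite) (hodd : Odd (orbit A y).ncard) :
    orbit H y = orbit A y := by
  have : H.Normal := Subgroup.normal_of_index_eq_two hH
  have h1 := Subgroup.relIndex_mul_index (inf_le_right : stabilizer A y ⊓ H ≤ H)
  have h2 := Subgroup.relIndex_mul_index (inf_le_left : stabilizer A y ⊓ H ≤ stabilizer A y)
  rw [Subgroup.inf_relIndex_right] at h1
  rw [Subgroup.inf_relIndex_left] at h2
  have h3 : (orbit H y).ncard = (stabilizer A y).relIndex H := by
    rw [← index_stabilizer, stabilizer_subgroup_eq]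
    rfl
  have h4 : (stabilizer A y).index = (orbit A y).ncard := index_stabilizer A y
  have h5 : H.relIndex (stabilizer A y) ∣ 2 := by
    rw [← hH]; exact Subgroup.relIndex_dvd_index_of_normal H (stabilizer A y)
  have hsub : orbit H y ⊆ orbit A y := by
    rintro x ⟨h, rfl⟩
    exact ⟨h.1, rfl⟩
  apply Set.eq_of_subset_of_ncard_le hsub _ hfin
  rw [h3]
  rw [hH, ← h2, h4] at h1
  have hr : H.relIndex (stabilizer A y) = 1 ∨ H.relIndex (stabilizer A y) = 2 := by
    have := Nat.le_of_dvd (by norm_num) h5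
    have hpos : H.relIndex (stabilizer A y) ≠ 0 := fun h => by rw [h] at h5; omega
    omega
  obtain ⟨k, hk⟩ := hodd
  rcases hr with hr | hr
  · rw [hr, hk] at h1; omega
  · rw [hr] at h1; omega

/-- Version of `orbit_eq_of_index_two` for an action given by a homomorphism to permutations. -/
theorem exists_mem_of_index_two {A Y : Type*} [Group A] (φ : A →* Equiv.Perm Y) (H : Subgroup A)
    (hidx : H.index = 2) (y : Y) (O : Set Y) (hO : ∀ z, z ∈ O ↔ ∃ g : A, φ g y = z)
    (hfin : O.Finite) (hodd : Odd O.ncard) : ∀ z ∈ O, ∃ h ∈ H, φ h y = z := by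
  have horb : @orbit A Y (MulAction.compHom Y φ).toSMul y = O := by
    ext z
    rw [hO]
    exact Iff.rfl
  have key := @orbit_eq_of_index_two A Y _ (MulAction.compHom Y φ) H hidx y
    (by rw [horb]; exact hfin) (by rw [horb]; exact hodd)
  intro z hz
  have hz' : z ∈ @orbit H Y (@Subgroup.instMulAction A Y _ (MulAction.compHom Y φ) H).toSMul y := by
    rw [key, horb]; exact hz
  obtain ⟨h, hh⟩ := hz'
  exact ⟨h.1, h.2, hh⟩

/-- A nontrivial normal subgroup of a 2-transitive group is transitive. -/
theorem exists_smul_eq_of_normal {A Y : Type*} [Group A] [MulAction A Y] [FaithfulSMul A Y]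
    (h2 : IsMultiplyPretransitive A Y 2) (H : Subgroup A) [H.Normal] (hH : H ≠ ⊥) (p q : Y) :
    ∃ h ∈ H, h • p = q := by
  by_cases hpq : p = q
  · exact ⟨1, H.one_mem, by rw [one_smul, hpq]⟩
  obtain ⟨h, hh, hne⟩ : ∃ h : A, h ∈ H ∧ h ≠ 1 := by
    obtain ⟨h, hne⟩ := (Subgroup.ne_bot_iff_exists_ne_one).mp hH
    exact ⟨h.1, h.2, fun h1 => hne (Subtype.ext h1)⟩
  have : ∃ x : Y, h • x ≠ x := by
    by_contra hall
    push Not at hall
    exact hne (FaithfulSMul.eq_of_smul_eq_smul (α := Y) (fun x => by rw [hall x, one_smul]))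
  obtain ⟨x, hx⟩ := this
  rw [is_two_pretransitive_iff] at h2
  obtain ⟨g, hg1, hg2⟩ := h2 (Ne.symm hx) hpq
  refine ⟨g * h * g⁻¹, Subgroup.Normal.conj_mem inferInstance h hh g, ?_⟩
  have hgp : g⁻¹ • p = x := by rw [inv_smul_eq_iff]; exact hg1.symm
  rw [mul_smul, mul_smul, hgp, hg2]

section Lift

variable {α : Type*} [Fintype α] [DecidableEq α] {B : Set (Finset α)}

/-- Lifting automorphisms of the set system to automorphisms of the graph, as a homomorphism. -/
def liftHom : setSystemAut B →* Equiv.Perm (Option (α ⊕ B)) where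
  toFun g := pbgEquiv g.1 (aut_image_eq g.2)
  map_one' := by
    apply Equiv.ext
    intro x
    rcases x with _ | (p | b)
    · rfl
    · rfl
    · show some (Sum.inr (blockCongr _ _ b)) = some (Sum.inr b)
      congr 2
      apply Subtype.ext
      show b.1.image ((1 : Equiv.Perm α) : α → α) = b.1
      rw [Equiv.Perm.coe_one, image_id]
  map_mul' := by
    intro g h
    apply Equiv.ext
    intro x
    rcases x with _ | (p | b)
    · rfl
    · rfl
    · show some (Sum.inr (blockCongr _ _ b)) = some (Sum.inr (blockCongr _ _ (blockCongr _ _ b)))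
      congr 2
      apply Subtype.ext
      show b.1.image ((g.1 * h.1 : Equiv.Perm α) : α → α) = (b.1.image h.1).image g.1
      rw [image_image]
      rfl

theorem liftHom_none (g : setSystemAut B) : liftHom g none = none := rfl

theorem liftHom_pt (g : setSystemAut B) (p : α) :
    liftHom g (some (Sum.inl p)) = some (Sum.inl ((g : Equiv.Perm α) p)) := rfl

theorem liftHom_blk (g : setSystemAut B) (b : B) :
    liftHom g (some (Sum.inr b)) = some (Sum.inr (blockCongr g.1 (aut_image_eq g.2) b)) := rfl

theorem liftHom_mem (g : setSystemAut B) : liftHom g ∈ graphAut (pointBlockGraph B) :=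
  fun a b => pbgEquiv_adj g.1 (aut_image_eq g.2) a b

theorem liftHom_injective : Function.Injective (liftHom (B := B)) := by
  intro g g' h
  apply Subtype.ext
  apply Equiv.ext
  intro p
  have h1 := liftHom_pt g p
  rw [h, liftHom_pt g' p] at h1
  exact (Sum.inl_injective (Option.some_injective _ h1)).symm

theorem liftHom_surj {σ : Equiv.Perm (Option (α ⊕ B))} (hσ : σ ∈ graphAut (pointBlockGraph B))
    (hnone : σ none = none) : ∃ g : setSystemAut B, liftHom g = σ := by
  obtain ⟨g, hg⟩ := liftAut_surjective (B := B)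
    (⟨⟨σ, hσ⟩, hnone⟩ : stabilizer (graphAut (pointBlockGraph B)) (none : Option (α ⊕ B)))
  refine ⟨g, ?_⟩
  have := congrArg (fun s : stabilizer (graphAut (pointBlockGraph B)) (none : Option (α ⊕ B)) =>
    ((s : graphAut (pointBlockGraph B)) : Equiv.Perm (Option (α ⊕ B)))) hg
  exact this

/-- The automorphism group is transitive on blocks. -/
theorem aut_trans_blocks (hB : IsSteinerSystem 3 6 B)
    (h3 : IsMultiplyPretransitive (setSystemAut B) α 3) {b c : Finset α} (hb : b ∈ B) (hc : c ∈ B) :
    ∃ g : setSystemAut B, b.image (g : Equiv.Perm α) = c := by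
  obtain ⟨T, hTb, hT⟩ := Finset.exists_subset_card_eq (show 3 ≤ b.card by rw [hB.1 b hb]; norm_num)
  obtain ⟨U, hUc, hU⟩ := Finset.exists_subset_card_eq (show 3 ≤ c.card by rw [hB.1 c hc]; norm_num)
  let x : Fin 3 ↪ α := (T.equivFinOfCardEq hT).symm.toEmbedding.trans (Function.Embedding.subtype _)
  let y : Fin 3 ↪ α := (U.equivFinOfCardEq hU).symm.toEmbedding.trans (Function.Embedding.subtype _)
  obtain ⟨g, hg⟩ := h3.exists_smul_eq x y
  refine ⟨g, ?_⟩
  have hgB : b.image (g : Equiv.Perm α) ∈ B := (Cfsg.Agent.S5628.mem_aut_iff B g.1).mp g.2 b hb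
  have hUsub : U ⊆ b.image (g : Equiv.Perm α) := by
    intro u hu
    let i := U.equivFinOfCardEq hU ⟨u, hu⟩
    have hyi : y i = u := by
      show ((U.equivFinOfCardEq hU).symm (U.equivFinOfCardEq hU ⟨u, hu⟩) : α) = u
      rw [Equiv.symm_apply_apply]
    have hxi : x i ∈ b := hTb ((T.equivFinOfCardEq hT).symm i).2
    rw [← hyi, ← hg]
    exact mem_image.mpr ⟨x i, hxi, rfl⟩
  obtain ⟨d, -, huniq⟩ := hB.2 U hU
  rw [huniq _ ⟨hgB, hUsub⟩, huniq c ⟨hc, hUc⟩]

end Lift

section Main

variable {α : Type*} [Fintype α] [DecidableEq α] {B : Set (Finset α)} [Fintype B]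

/-- The group of even automorphisms of the point-block graph. -/
def hsGroup (B : Set (Finset α)) [Fintype B] : Subgroup (Equiv.Perm (Option (α ⊕ B))) :=
  graphAut (pointBlockGraph B) ⊓ alternatingGroup (Option (α ⊕ B))

theorem mem_hsGroup {σ : Equiv.Perm (Option (α ⊕ B))} :
    σ ∈ hsGroup B ↔ σ ∈ graphAut (pointBlockGraph B) ∧ Equiv.Perm.sign σ = 1 := by
  rw [hsGroup, Subgroup.mem_inf, Equiv.Perm.mem_alternatingGroup]

/-- The even automorphisms are transitive on vertices. -/
theorem hsGroup_to_none (hα : Fintype.card α = 22) (hB : IsSteinerSystem 3 6 B)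
    (x : Option (α ⊕ B)) : ∃ k ∈ hsGroup B, k x = none := by
  obtain ⟨σ, hσ, hx⟩ := exists_aut_to_none hα hB x
  rcases Int.units_eq_one_or (Equiv.Perm.sign σ) with h | h
  · exact ⟨σ, mem_hsGroup.mpr ⟨hσ, h⟩, hx⟩
  · obtain ⟨τ, hτ, hτn, hτs⟩ := exists_odd_aut hα hB
    refine ⟨τ * σ, mem_hsGroup.mpr ⟨Subgroup.mul_mem _ hτ hσ, ?_⟩, ?_⟩
    · rw [map_mul, h, hτs]; rfl
    · show τ (σ x) = none
      rw [hx, hτn]

/-- The elements of the simple subgroup of index two are exactly the automorphisms of the set
system that lift to even permutations. -/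
theorem mem_iff_sign_lift (hα : Fintype.card α = 22) (hB : IsSteinerSystem 3 6 B)
    (H : Subgroup (setSystemAut B)) (hidx : H.index = 2) (hM : IsM22 H) (g : setSystemAut B) :
    g ∈ H ↔ Equiv.Perm.sign (liftHom g) = 1 := by
  let ε : setSystemAut B →* ℤˣ := Equiv.Perm.sign.comp liftHom
  have hεdef : ∀ g, ε g = Equiv.Perm.sign (liftHom g) := fun g => rfl
  haveI := hM.1
  -- trivial on `H`
  have hle : H ≤ ε.ker := by
    have hker : (ε.comp H.subtype).ker = ⊥ ∨ (ε.comp H.subtype).ker = ⊤ :=
      hM.1.eq_bot_or_eq_top_of_normal _ inferInstance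
    rcases hker with hk | hk
    · exfalso
      have hinj : Function.Injective (ε.comp H.subtype) := (MonoidHom.ker_eq_bot_iff _).mp hk
      have := Nat.card_le_card_of_injective _ hinj
      rw [hM.2, Nat.card_eq_fintype_card, Fintype.card_units_int] at this
      omega
    · intro h hh
      have : (⟨h, hh⟩ : H) ∈ (ε.comp H.subtype).ker := by rw [hk]; exact Subgroup.mem_top _
      exact this
  -- nontrivial on the whole group
  have hne : ε.ker ≠ ⊤ := by
    obtain ⟨τ, hτ, hτn, hτs⟩ := exists_odd_aut hα hB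
    obtain ⟨g₁, hg₁⟩ := liftHom_surj hτ hτn
    intro htop
    have : g₁ ∈ ε.ker := by rw [htop]; exact Subgroup.mem_top _
    rw [MonoidHom.mem_ker, hεdef, hg₁, hτs] at this
    exact absurd this (by decide)
  have hidx' : ε.ker.index = 2 := by
    have h1 : ε.ker.index ∣ 2 := hidx ▸ Subgroup.index_dvd_of_le hle
    have h2 : ε.ker.index ≠ 1 := fun h => hne (Subgroup.index_eq_one.mp h)
    have h3 := Nat.le_of_dvd (by norm_num) h1
    have h4 : ε.ker.index ≠ 0 := fun h => by rw [h] at h1; omega
    omega
  have hrel : H.relIndex ε.ker = 1 := by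
    have := Subgroup.relIndex_mul_index hle
    rw [hidx, hidx'] at this
    omega
  have hge : ε.ker ≤ H := Subgroup.relIndex_eq_one.mp hrel
  constructor
  · intro hg
    exact hle hg
  · intro hg
    exact hge (MonoidHom.mem_ker.mpr hg)

end Main

section Final

variable {α : Type*} [Fintype α] [DecidableEq α] {B : Set (Finset α)} [Fintype B]

theorem card_hsGroup (hα : Fintype.card α = 22) (hB : IsSteinerSystem 3 6 B) :
    Nat.card (hsGroup B) = 44352000 := by
  have hne : Nonempty α := Fintype.card_pos_iff.mp (by rw [hα]; norm_num)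
  have hR := card_graphAut hα hB (Cfsg.Agent.S0414.result hα hB).1
  have h1 := Subgroup.card_mul_index ((hsGroup B).subgroupOf (graphAut (pointBlockGraph B)))
  have hle : hsGroup B ≤ graphAut (pointBlockGraph B) := inf_le_left
  rw [Nat.card_congr (Subgroup.subgroupOfEquivOfLe hle).toEquiv, hR] at h1
  have h2 : ((hsGroup B).subgroupOf (graphAut (pointBlockGraph B))).index =
      (alternatingGroup (Option (α ⊕ B))).relIndex (graphAut (pointBlockGraph B)) := by
    show (hsGroup B).relIndex (graphAut (pointBlockGraph B)) = _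
    rw [hsGroup, Subgroup.inf_relIndex_left]
  have h3 : (alternatingGroup (Option (α ⊕ B))).relIndex (graphAut (pointBlockGraph B)) ∣ 2 := by
    rw [← alternatingGroup.index_eq_two (α := Option (α ⊕ B))]
    exact Subgroup.relIndex_dvd_index_of_normal _ _
  have h4 : (alternatingGroup (Option (α ⊕ B))).relIndex (graphAut (pointBlockGraph B)) ≠ 1 := by
    intro h
    rw [Subgroup.relIndex_eq_one] at h
    obtain ⟨τ, hτ, -, hτs⟩ := exists_odd_aut hα hB
    have := Equiv.Perm.mem_alternatingGroup.mp (h hτ)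
    rw [hτs] at this
    exact absurd this (by decide)
  have h5 : (alternatingGroup (Option (α ⊕ B))).relIndex (graphAut (pointBlockGraph B)) = 2 := by
    have h6 := Nat.le_of_dvd (by norm_num) h3
    have h7 : (alternatingGroup (Option (α ⊕ B))).relIndex (graphAut (pointBlockGraph B)) ≠ 0 :=
      fun h => by rw [h] at h3; omega
    omega
  rw [h2, h5] at h1
  omega

/-- The homomorphism from the index-two subgroup onto the stabilizer of the extra vertex. -/
def stabHom (H : Subgroup (setSystemAut B))
    (hH : ∀ g ∈ H, Equiv.Perm.sign (liftHom g) = 1) :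
    H →* stabilizer (hsGroup B) (none : Option (α ⊕ B)) where
  toFun h := ⟨⟨liftHom h.1, mem_hsGroup.mpr ⟨liftHom_mem h.1, hH h.1 h.2⟩⟩, liftHom_none h.1⟩
  map_one' := by
    apply Subtype.ext
    apply Subtype.ext
    exact map_one liftHom
  map_mul' := by
    intro a b
    apply Subtype.ext
    apply Subtype.ext
    exact map_mul liftHom a.1 b.1

theorem stabHom_apply (H : Subgroup (setSystemAut B))
    (hH : ∀ g ∈ H, Equiv.Perm.sign (liftHom g) = 1) (h : H) (x : Option (α ⊕ B)) :
    ((stabHom H hH h : hsGroup B) : Equiv.Perm (Option (α ⊕ B))) x = liftHom h.1 x := rfl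

theorem stabHom_bijective (H : Subgroup (setSystemAut B))
    (hH : ∀ g, g ∈ H ↔ Equiv.Perm.sign (liftHom g) = 1) :
    Function.Bijective (stabHom H (fun g hg => (hH g).mp hg)) := by
  constructor
  · intro a b hab
    apply Subtype.ext
    apply liftHom_injective
    exact congrArg (fun s : stabilizer (hsGroup B) (none : Option (α ⊕ B)) =>
      ((s : hsGroup B) : Equiv.Perm (Option (α ⊕ B)))) hab
  · intro s
    have hs1 := mem_hsGroup.mp (s : hsGroup B).2
    have hs2 : ((s : hsGroup B) : Equiv.Perm (Option (α ⊕ B))) none = none := s.2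
    obtain ⟨g, hg⟩ := liftHom_surj hs1.1 hs2
    have hgH : g ∈ H := (hH g).mpr (by rw [hg]; exact hs1.2)
    refine ⟨⟨g, hgH⟩, ?_⟩
    apply Subtype.ext
    apply Subtype.ext
    exact hg

end Final

section Simple

variable {α : Type*} [Fintype α] [DecidableEq α] {B : Set (Finset α)} [Fintype B]

theorem hsGroup_simple (hα : Fintype.card α = 22) (hB : IsSteinerSystem 3 6 B) :
    IsSimpleGroup (hsGroup B) := by
  obtain ⟨hcardA, h3, H, hidx, hM⟩ := Cfsg.Agent.S0414.result hα hB
  have hHiff := mem_iff_sign_lift hα hB H hidx hM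
  have hHnormal : H.Normal := Subgroup.normal_of_index_eq_two hidx
  have hHne : H ≠ ⊥ := by
    intro h
    have := hM.2
    rw [h, Subgroup.card_bot] at this
    omega
  -- transitivity
  haveI : IsPretransitive (hsGroup B) (Option (α ⊕ B)) := by
    refine ⟨fun x y => ?_⟩
    obtain ⟨kx, hkx, hx⟩ := hsGroup_to_none hα hB x
    obtain ⟨ky, hky, hy⟩ := hsGroup_to_none hα hB y
    refine ⟨⟨ky⁻¹ * kx, Subgroup.mul_mem _ (Subgroup.inv_mem _ hky) hkx⟩, ?_⟩
    show ky⁻¹ (kx x) = y
    rw [hx, ← hy]
    exact ky.symm_apply_apply y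
  -- the stabilizer is simple
  have hS : IsSimpleGroup (stabilizer (hsGroup B) (none : Option (α ⊕ B))) := by
    haveI := hM.1
    exact (MulEquiv.ofBijective _ (stabHom_bijective H hHiff)).symm.isSimpleGroup
  -- the two-transitivity of the automorphism group on points
  have h2 : IsMultiplyPretransitive (setSystemAut B) α 2 := by
    haveI := h3
    exact isMultiplyPretransitive_of_le (n := 3) (by norm_num)
      (by rw [Nat.card_eq_fintype_card, hα]; norm_num)
  have hcardB : Nat.card B = 77 := by
    rw [Nat.card_coe_set_eq, ncard_eq_card_blocksF, card_blocks_3_6_22 hα hB]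
  apply simple_of_rank3 (card_vertices hα hB) (none : Option (α ⊕ B))
    (Set.range (fun p : α => (some (Sum.inl p) : Option (α ⊕ B))))
    (Set.range (fun b : B => (some (Sum.inr b) : Option (α ⊕ B))))
  · intro x
    rcases x with _ | (p | b)
    · exact Or.inl rfl
    · exact Or.inr (Or.inl ⟨p, rfl⟩)
    · exact Or.inr (Or.inr ⟨b, rfl⟩)
  · rintro ⟨p, hp⟩
    exact absurd hp (by simp)
  · rintro ⟨b, hb⟩
    exact absurd hb (by simp)
  · rw [Set.disjoint_left]
    rintro x ⟨p, rfl⟩ ⟨b, hb⟩
    exact absurd hb (by simp)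
  · rw [← Set.image_univ, Set.ncard_image_of_injective _
      (fun p q h => Sum.inl_injective (Option.some_injective _ h)), Set.ncard_univ,
      Nat.card_eq_fintype_card, hα]
  · rw [← Set.image_univ, Set.ncard_image_of_injective _
      (fun p q h => Sum.inr_injective (Option.some_injective _ h)), Set.ncard_univ, hcardB]
  · -- transitivity on points
    rintro x ⟨p, rfl⟩ y ⟨q, rfl⟩
    obtain ⟨h, hh, hpq⟩ := exists_smul_eq_of_normal h2 H hHne p q
    refine ⟨stabHom H (fun g hg => (hHiff g).mp hg) ⟨h, hh⟩, Subtype.property _, ?_⟩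
    show liftHom h (some (Sum.inl p)) = some (Sum.inl q)
    rw [liftHom_pt]
    congr 2
  · -- transitivity on blocks
    rintro x ⟨b, rfl⟩ y ⟨c, rfl⟩
    have hO : ∀ z : Option (α ⊕ B), z ∈ Set.range (fun b : B => (some (Sum.inr b) : Option (α ⊕ B))) ↔
        ∃ g : setSystemAut B, liftHom g (some (Sum.inr b)) = z := by
      intro z
      constructor
      · rintro ⟨d, rfl⟩
        obtain ⟨g, hg⟩ := aut_trans_blocks hB h3 b.2 d.2
        refine ⟨g, ?_⟩
        rw [liftHom_blk]
        congr 2
        apply Subtype.ext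
        exact hg
      · rintro ⟨g, rfl⟩
        exact ⟨_, (liftHom_blk g b).symm⟩
    have hncard : (Set.range (fun b : B => (some (Sum.inr b) : Option (α ⊕ B)))).ncard = 77 := by
      rw [← Set.image_univ, Set.ncard_image_of_injective _
        (fun p q h => Sum.inr_injective (Option.some_injective _ h)), Set.ncard_univ, hcardB]
    obtain ⟨h, hh, hbc⟩ := exists_mem_of_index_two liftHom H hidx (some (Sum.inr b))
      (Set.range (fun b : B => (some (Sum.inr b) : Option (α ⊕ B)))) hO (Set.toFinite _)
      (by rw [hncard]; decide) (some (Sum.inr c)) ⟨c, rfl⟩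
    refine ⟨stabHom H (fun g hg => (hHiff g).mp hg) ⟨h, hh⟩, Subtype.property _, ?_⟩
    exact hbc
  · exact hS

end Simple

end Cfsg.Agent.Helper8
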