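import Cfsg.Agent.Lib.Helper8.J2Core

set_option autoImplicit false
set_option linter.unusedSectionVars false
set_option linter.unusedVariables false

/-! Subsets of the 100 vertices as bit masks. -/

namespace Cfsg.Agent.Helper8.J2

/-- The set of vertices of a mask. -/
def FS (m : ℕ) : Finset V := Finset.univ.filter fun x => m.testBit x.val

theorem mem_FS {m : ℕ} {x : V} : x ∈ FS m ↔ m.testBit x.val = true := by
  rw [FS, Finset.mem_filter]
  exact ⟨fun h => h.2, fun h => ⟨Finset.mem_univ _, h⟩⟩

theorem FS_injective {m m' : ℕ} (hm : m < 2 ^ 100) (hm' : m' < 2 ^ 100) (h : FS m = FS m') :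
    m = m' := by
  apply Nat.eq_of_testBit_eq
  intro i
  by_cases hi : i < 100
  · have := Finset.ext_iff.mp h ⟨i, hi⟩
    rw [mem_FS, mem_FS] at this
    exact Bool.eq_iff_iff.mpr this
  · have h1 : 2 ^ 100 ≤ 2 ^ i := Nat.pow_le_pow_right (by norm_num) (by omega)
    rw [Nat.testBit_lt_two_pow (lt_of_lt_of_le hm h1),
      Nat.testBit_lt_two_pow (lt_of_lt_of_le hm' h1)]

/-- The image of a mask under a map of the vertices. -/
def imgMask (f : V → V) (m : ℕ) : ℕ :=
  (List.finRange 100).foldl
    (fun acc x => if m.testBit x.val then acc ||| (1 <<< (f x).val) else acc) 0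

theorem testBit_foldl (f : V → V) (m j : ℕ) (l : List V) (acc : ℕ) :
    (l.foldl (fun acc x => if m.testBit x.val then acc ||| (1 <<< (f x).val) else acc)
      acc).testBit j = true ↔
      acc.testBit j = true ∨ ∃ x ∈ l, m.testBit x.val = true ∧ (f x).val = j := by
  induction l generalizing acc with
  | nil => simp
  | cons x l ih =>
    rw [List.foldl_cons, ih]
    by_cases hx : m.testBit x.val = true
    · rw [if_pos hx, Nat.testBit_or, Nat.one_shiftLeft, Nat.testBit_two_pow, Bool.or_eq_true,
        decide_eq_true_eq]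
      constructor
      · rintro ((h | h) | ⟨y, hy, h⟩)
        · exact Or.inl h
        · exact Or.inr ⟨x, List.mem_cons_self .., hx, h⟩
        · exact Or.inr ⟨y, List.mem_cons_of_mem _ hy, h⟩
      · rintro (h | ⟨y, hy, h⟩)
        · exact Or.inl (Or.inl h)
        · rcases List.mem_cons.mp hy with rfl | hy
          · exact Or.inl (Or.inr h.2)
          · exact Or.inr ⟨y, hy, h⟩
    · rw [if_neg hx]
      constructor
      · rintro (h | ⟨y, hy, h⟩)
        · exact Or.inl h
        · exact Or.inr ⟨y, List.mem_cons_of_mem _ hy, h⟩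
      · rintro (h | ⟨y, hy, h⟩)
        · exact Or.inl h
        · rcases List.mem_cons.mp hy with rfl | hy
          · exact absurd h.1 hx
          · exact Or.inr ⟨y, hy, h⟩

theorem testBit_imgMask (f : V → V) (m j : ℕ) :
    (imgMask f m).testBit j = true ↔ ∃ x : V, m.testBit x.val = true ∧ (f x).val = j := by
  rw [imgMask, testBit_foldl]
  simp only [Nat.zero_testBit, Bool.false_eq_true, false_or, List.mem_finRange, true_and]

theorem FS_imgMask (f : V → V) (m : ℕ) : FS (imgMask f m) = (FS m).image f := by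
  ext y
  rw [mem_FS, testBit_imgMask, Finset.mem_image]
  constructor
  · rintro ⟨x, hx, h⟩
    exact ⟨x, mem_FS.mpr hx, Fin.ext h⟩
  · rintro ⟨x, hx, rfl⟩
    exact ⟨x, mem_FS.mp hx, rfl⟩

/-- Intersection of a list of masks. -/
theorem testBit_foldl_land (l : List ℕ) (init j : ℕ) :
    (l.foldl (· &&& ·) init).testBit j = true ↔
      init.testBit j = true ∧ ∀ m ∈ l, m.testBit j = true := by
  induction l generalizing init with
  | nil => simp
  | cons m l ih =>
    rw [List.foldl_cons, ih, Nat.testBit_and, Bool.and_eq_true]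
    constructor
    · rintro ⟨⟨h1, h2⟩, h3⟩
      refine ⟨h1, ?_⟩
      intro m' hm'
      rcases List.mem_cons.mp hm' with rfl | hm'
      · exact h2
      · exact h3 m' hm'
    · rintro ⟨h1, h2⟩
      exact ⟨⟨h1, h2 m (List.mem_cons_self ..)⟩, fun m' hm' => h2 m' (List.mem_cons_of_mem _ hm')⟩

end Cfsg.Agent.Helper8.J2
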