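import Cfsg.Agent.Lib.Helper8.SimpleRank3

set_option autoImplicit false
set_option linter.unusedSectionVars false
set_option linter.unusedVariables false

/-! Quasi-primitivity from the arithmetic of suborbit lengths. -/

namespace Cfsg.Agent.Helper8

open MulAction

section

variable {M Ω : Type*} [Group M] [MulAction M Ω] [IsPretransitive M Ω] [Finite Ω]

theorem ncard_biUnion_disjoint {k : ℕ} (O : Fin k → Set Ω)
    (hdisj : ∀ i j, i ≠ j → Disjoint (O i) (O j)) (I : Finset (Fin k)) :
    (⋃ i ∈ I, O i).ncard = ∑ i ∈ I, (O i).ncard := by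
  classical
  induction I using Finset.induction_on with
  | empty => simp
  | insert j I hj ih =>
    rw [Finset.set_biUnion_insert, Finset.sum_insert hj, ← ih]
    apply Set.ncard_union_eq _ (Set.toFinite _) (Set.toFinite _)
    rw [Set.disjoint_iUnion₂_right]
    intro i hi
    exact hdisj j i (fun h => hj (h ▸ hi))

/-- If the suborbits of a point stabiliser cannot be combined to a proper divisor of the degree,
every normal subgroup acting nontrivially is transitive. -/
theorem quasiPreprimitive_of_suborbits (a : Ω) {k : ℕ} (O : Fin k → Set Ω)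
    (hcov : ∀ x, x = a ∨ ∃ i, x ∈ O i)
    (hdisj : ∀ i j, i ≠ j → Disjoint (O i) (O j)) (ha : ∀ i, a ∉ O i)
    (htr : ∀ i, ∀ x ∈ O i, ∀ y ∈ O i, ∃ s ∈ stabilizer M a, s • x = y)
    (harith : ∀ I : Finset (Fin k),
      (1 + ∑ i ∈ I, (O i).ncard) ∣ Nat.card Ω → I = ∅ ∨ I = Finset.univ) :
    IsQuasiPreprimitive M Ω := by
  classical
  refine { isPretransitive_of_normal := ?_ }
  intro N hN hfix
  have hdvd : (orbit N a).ncard ∣ Nat.card Ω := by
    have := ncard_orbit_normal_dvd N a
    rwa [index_stabilizer_of_transitive] at this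
  have hinv : ∀ s ∈ stabilizer M a, ∀ x ∈ orbit N a, s • x ∈ orbit N a := by
    rintro s hs x ⟨⟨n, hn⟩, rfl⟩
    refine ⟨⟨s * n * s⁻¹, hN.conj_mem n hn s⟩, ?_⟩
    show (s * n * s⁻¹) • a = s • (n • a)
    have hs' : s⁻¹ • a = a := by
      rw [inv_smul_eq_iff]; exact (mem_stabilizer_iff.mp hs).symm
    rw [mul_smul, mul_smul, hs']
  have hamem : a ∈ orbit N a := mem_orbit_self a
  have hO : ∀ i, (∃ x ∈ O i, x ∈ orbit N a) → O i ⊆ orbit N a := by
    rintro i ⟨x, hx1, hx⟩ y hy
    obtain ⟨s, hs, rfl⟩ := htr i x hx1 y hy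
    exact hinv s hs x hx
  let I : Finset (Fin k) := Finset.univ.filter fun i => ∃ x ∈ O i, x ∈ orbit N a
  have horb : orbit N a = insert a (⋃ i ∈ I, O i) := by
    ext x
    constructor
    · intro hx
      rcases hcov x with rfl | ⟨i, hi⟩
      · exact Set.mem_insert _ _
      · apply Set.mem_insert_of_mem
        rw [Set.mem_iUnion₂]
        exact ⟨i, Finset.mem_filter.mpr ⟨Finset.mem_univ _, x, hi, hx⟩, hi⟩
    · intro hx
      rcases Set.mem_insert_iff.mp hx with rfl | hx
      · exact hamem
      · rw [Set.mem_iUnion₂] at hx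
        obtain ⟨i, hiI, hxi⟩ := hx
        exact hO i (Finset.mem_filter.mp hiI).2 hxi
  have hnot : a ∉ ⋃ i ∈ I, O i := by
    rw [Set.mem_iUnion₂]
    rintro ⟨i, _, hi⟩
    exact ha i hi
  have hcard : (orbit N a).ncard = 1 + ∑ i ∈ I, (O i).ncard := by
    rw [horb, Set.ncard_insert_of_notMem hnot (Set.toFinite _), ncard_biUnion_disjoint O hdisj,
      add_comm]
  rw [hcard] at hdvd
  rcases harith I hdvd with hI | hI
  · -- the orbit is trivial: `N` fixes everything
    exfalso
    apply hfix
    have h1 : orbit N a = {a} := by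
      rw [horb, hI]; simp
    rw [Set.eq_univ_iff_forall]
    intro x
    obtain ⟨g, rfl⟩ := exists_smul_eq M a x
    rw [mem_fixedPoints]
    intro n
    have hn' : (g⁻¹ * (n : M) * g) ∈ N := by
      have := hN.conj_mem (n : M) n.2 g⁻¹
      rwa [inv_inv] at this
    have h2 : (g⁻¹ * (n : M) * g) • a ∈ orbit N a := ⟨⟨_, hn'⟩, rfl⟩
    rw [h1, Set.mem_singleton_iff] at h2
    show (n : M) • g • a = g • a
    have h3 : g • ((g⁻¹ * (n : M) * g) • a) = (n : M) • g • a := by
      rw [← mul_smul, ← mul_smul]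
      congr 1
      group
    rw [← h3, h2]
  · -- the orbit is everything
    have h1 : orbit N a = Set.univ := by
      rw [Set.eq_univ_iff_forall]
      intro x
      rcases hcov x with rfl | ⟨i, hi⟩
      · exact hamem
      · rw [horb]
        apply Set.mem_insert_of_mem
        rw [Set.mem_iUnion₂]
        exact ⟨i, by rw [hI]; exact Finset.mem_univ _, hi⟩
    exact (isPretransitive_iff_orbit_eq_univ (G := N) a).mpr h1

end

end Cfsg.Agent.Helper8
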