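import Cfsg.Agent.Lib.Helper8.J2Order
import Cfsg.Agent.Lib.Helper8.J2Mask
import Cfsg.Agent.Lib.Helper8.SubOrbits

set_option autoImplicit false
set_option linter.unusedSectionVars false
set_option linter.unusedVariables false

/-! The action of `J2` on the 280 fixed-point sets of its elements of class 3A. -/

namespace Cfsg.Agent.Helper8.J2

open Cfsg.Agent.Helper7

/-- The masks of the 280 sets. -/
def LamList : List ℕ := F0m :: (sub0 ++ sub1 ++ sub2).map Prod.fst

/-- The 280 sets. -/
def Lam : Finset (Finset V) := (LamList.map FS).toFinset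

/-- Image of a mask under a word. -/
def wimg (w : List ℕ) (m : ℕ) : ℕ := imgMask (wfun code w) m

theorem FS_wimg (w : List ℕ) (m : ℕ) : FS (wimg w m) = (FS m).image (wperm code hinj w) := by
  rw [wimg, FS_imgMask]
  congr 1
  funext x
  rw [wperm_apply]

theorem mem_Lam {F : Finset V} : F ∈ Lam ↔ ∃ m ∈ LamList, FS m = F := by
  rw [Lam, List.mem_toFinset, List.mem_map]

theorem inv_check :
    (LamList.all fun m => [0, 1, 2].all fun k => LamList.contains (wimg [k] m)) = true := by
  decide +kernel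

theorem gperm_eq_two (k : ℕ) : gperm code hinj (k + 2) = gperm code hinj 2 := by
  ext x; rfl

theorem wperm_single (k : ℕ) : wperm code hinj [k] = gperm code hinj k := by
  rw [wperm_cons, wperm_nil, mul_one]

theorem lam_gen (k : ℕ) {F : Finset V} (hF : F ∈ Lam) : F.image (gperm code hinj k) ∈ Lam := by
  obtain ⟨m, hm, rfl⟩ := mem_Lam.mp hF
  have h := List.all_eq_true.mp inv_check m hm
  rw [List.all_eq_true] at h
  have key : ∀ j ∈ ([0, 1, 2] : List ℕ), (FS m).image (gperm code hinj j) ∈ Lam := by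
    intro j hj
    have := h j hj
    rw [List.contains_iff_mem] at this
    rw [mem_Lam]
    exact ⟨_, this, by rw [FS_wimg, wperm_single]⟩
  rcases k with _ | _ | k
  · exact key 0 (by simp)
  · exact key 1 (by simp)
  · rw [gperm_eq_two]; exact key 2 (by simp)

theorem image_inv_mem (g : Equiv.Perm V) (hP : ∀ F ∈ Lam, F.image g ∈ Lam) :
    ∀ F ∈ Lam, F.image (g⁻¹ : Equiv.Perm V) ∈ Lam := by
  have hinjf : Function.Injective (fun F : Finset V => F.image g) :=
    Finset.image_injective g.injective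
  have hsub : Lam.image (fun F : Finset V => F.image g) ⊆ Lam := by
    intro F hF
    obtain ⟨F', hF', rfl⟩ := Finset.mem_image.mp hF
    exact hP F' hF'
  have heq : Lam.image (fun F : Finset V => F.image g) = Lam :=
    Finset.eq_of_subset_of_card_le hsub (by rw [Finset.card_image_of_injective _ hinjf])
  intro F hF
  rw [← heq] at hF
  obtain ⟨F', hF', rfl⟩ := Finset.mem_image.mp hF
  rw [Finset.image_image]
  have : ((g⁻¹ : Equiv.Perm V) : V → V) ∘ (g : V → V) = id := by
    funext x; simp
  rw [this, Finset.image_id]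
  exact hF'

theorem lam_inv {g : Equiv.Perm V} (hg : g ∈ j2Group) : ∀ F ∈ Lam, F.image g ∈ Lam := by
  rw [← genGroup_eq, genGroup] at hg
  induction hg using Subgroup.closure_induction with
  | mem x hx =>
    obtain ⟨k, rfl⟩ := hx
    intro F hF
    exact lam_gen k hF
  | one =>
    intro F hF
    have : ((1 : Equiv.Perm V) : V → V) = id := rfl
    rw [this, Finset.image_id]
    exact hF
  | mul x y _ _ hx hy =>
    intro F hF
    have : ((x * y : Equiv.Perm V) : V → V) = (x : V → V) ∘ (y : V → V) := rfl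
    rw [this, ← Finset.image_image]
    exact hx _ (hy F hF)
  | inv x _ hx => exact image_inv_mem x hx

/-- The 280 points. -/
abbrev Alpha := {F : Finset V // F ∈ Lam}

noncomputable instance : MulAction j2Group Alpha where
  smul g F := ⟨F.1.image (g.1 : Equiv.Perm V), lam_inv g.2 F.1 F.2⟩
  one_smul F := by
    apply Subtype.ext
    show F.1.image ((1 : Equiv.Perm V) : V → V) = F.1
    have : ((1 : Equiv.Perm V) : V → V) = id := rfl
    rw [this, Finset.image_id]
  mul_smul g h F := by
    apply Subtype.ext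
    show F.1.image ((g.1 * h.1 : Equiv.Perm V) : V → V) = (F.1.image h.1).image g.1
    rw [Finset.image_image]
    rfl

theorem smul_val (g : j2Group) (F : Alpha) : (g • F).1 = F.1.image (g.1 : Equiv.Perm V) := rfl

theorem wperm_mem_j2 (w : List ℕ) : wperm code hinj w ∈ j2Group := by
  rw [← genGroup_eq]; exact wperm_mem code hinj w

/-- The group element of a word. -/
noncomputable def wel (w : List ℕ) : j2Group := ⟨wperm code hinj w, wperm_mem_j2 w⟩

theorem wel_smul_val (w : List ℕ) (m : ℕ) (h : FS m ∈ Lam) :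
    ((wel w • (⟨FS m, h⟩ : Alpha) : Alpha) : Finset V) = FS (wimg w m) := by
  rw [smul_val, FS_wimg]; rfl

/-! ### Cardinalities -/

theorem lam_bound : (LamList.all fun m => decide (m < 2 ^ 100)) = true := by decide +kernel

theorem lam_nodup : LamList.Nodup := by decide +kernel

theorem lt_of_mem_LamList {m : ℕ} (hm : m ∈ LamList) : m < 2 ^ 100 := by
  have := List.all_eq_true.mp lam_bound m hm
  exact of_decide_eq_true this

theorem card_toFinset_FS {l : List ℕ} (hl : ∀ m ∈ l, m ∈ LamList) (hnd : l.Nodup) :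
    (l.map FS).toFinset.card = l.length := by
  rw [List.toFinset_card_of_nodup, List.length_map]
  apply List.Nodup.map_on _ hnd
  intro m hm m' hm' h
  exact FS_injective (lt_of_mem_LamList (hl m hm)) (lt_of_mem_LamList (hl m' hm')) h

theorem card_Lam : Lam.card = 280 := by
  rw [Lam, card_toFinset_FS (fun m hm => hm) lam_nodup]
  decide +kernel

theorem card_Alpha : Nat.card Alpha = 280 := by
  rw [Nat.card_eq_fintype_card, Fintype.card_coe, card_Lam]

/-- The base point. -/
def a0 : Alpha := ⟨FS F0m, mem_Lam.mpr ⟨F0m, List.mem_cons_self .., rfl⟩⟩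

/-! ### Suborbits -/

/-- The three lists of suborbit certificates. -/
def subL : Fin 3 → List (ℕ × List ℕ) := ![sub0, sub1, sub2]

/-- The representatives. -/
def repL : Fin 3 → ℕ × List ℕ := ![rep0, rep1, rep2]

/-- Suborbit certificate: each word stabilises `F0` and maps the representative as listed. -/
def subOK (R : ℕ) (cert : List (ℕ × List ℕ)) : Bool :=
  cert.all fun c => wimg c.2 F0m == F0m && wimg c.2 R == c.1

theorem sub_ok : ∀ i : Fin 3, subOK (repL i).1 (subL i) = true := by decide +kernel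

theorem rep_ok : ∀ i : Fin 3, wimg (repL i).2 F0m = (repL i).1 := by decide +kernel

theorem rep_mem : ∀ i : Fin 3, ((subL i).map Prod.fst).contains (repL i).1 = true := by
  decide +kernel

theorem sub_mem_LamList {i : Fin 3} {c : ℕ × List ℕ} (hc : c ∈ subL i) : c.1 ∈ LamList := by
  rw [LamList]
  apply List.mem_cons_of_mem
  rw [List.mem_map]
  refine ⟨c, ?_, rfl⟩
  fin_cases i
  · exact List.mem_append_left _ (List.mem_append_left _ hc)
  · exact List.mem_append_left _ (List.mem_append_right _ hc)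
  · exact List.mem_append_right _ hc

/-- The suborbits. -/
def O (i : Fin 3) : Set Alpha := {a | ∃ c ∈ subL i, a.1 = FS c.1}

theorem rep_mem_Lam (i : Fin 3) : FS (repL i).1 ∈ Lam := by
  have := rep_mem i
  rw [List.contains_iff_mem, List.mem_map] at this
  obtain ⟨c, hc, h⟩ := this
  rw [← h]
  exact mem_Lam.mpr ⟨c.1, sub_mem_LamList hc, rfl⟩

theorem sub_stab {i : Fin 3} {c : ℕ × List ℕ} (hc : c ∈ subL i) :
    wel c.2 ∈ MulAction.stabilizer j2Group a0 ∧
      wel c.2 • (⟨FS (repL i).1, rep_mem_Lam i⟩ : Alpha) =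
        ⟨FS c.1, mem_Lam.mpr ⟨c.1, sub_mem_LamList hc, rfl⟩⟩ := by
  have h := List.all_eq_true.mp (sub_ok i) c hc
  rw [Bool.and_eq_true, beq_iff_eq, beq_iff_eq] at h
  constructor
  · rw [MulAction.mem_stabilizer_iff]
    apply Subtype.ext
    rw [a0, wel_smul_val, h.1]
  · apply Subtype.ext
    rw [wel_smul_val, h.2]

theorem O_trans (i : Fin 3) : ∀ x ∈ O i, ∀ y ∈ O i,
    ∃ s ∈ MulAction.stabilizer j2Group a0, s • x = y := by
  rintro x ⟨c, hc, hx⟩ y ⟨c', hc', hy⟩
  obtain ⟨h1, h2⟩ := sub_stab hc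
  obtain ⟨h1', h2'⟩ := sub_stab hc'
  refine ⟨wel c'.2 * (wel c.2)⁻¹, mul_mem h1' (inv_mem h1), ?_⟩
  have hx' : x = wel c.2 • (⟨FS (repL i).1, rep_mem_Lam i⟩ : Alpha) := by
    rw [h2]; exact Subtype.ext hx
  have hy' : y = wel c'.2 • (⟨FS (repL i).1, rep_mem_Lam i⟩ : Alpha) := by
    rw [h2']; exact Subtype.ext hy
  rw [hx', hy', mul_smul, inv_smul_smul]

theorem O_cover (x : Alpha) : x = a0 ∨ ∃ i, x ∈ O i := by
  obtain ⟨m, hm, hx⟩ := mem_Lam.mp x.2
  rw [LamList, List.mem_cons] at hm
  rcases hm with rfl | hm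
  · left; exact Subtype.ext hx.symm
  · right
    rw [List.mem_map] at hm
    obtain ⟨c, hc, rfl⟩ := hm
    rw [List.mem_append, List.mem_append] at hc
    rcases hc with (hc | hc) | hc
    · exact ⟨0, c, hc, hx.symm⟩
    · exact ⟨1, c, hc, hx.symm⟩
    · exact ⟨2, c, hc, hx.symm⟩

theorem sub_disj_check : ∀ i j : Fin 3, i ≠ j →
    ((subL i).all fun c => (subL j).all fun c' => c.1 != c'.1) = true := by decide +kernel

theorem sub_ne_check : ∀ i : Fin 3, ((subL i).all fun c => c.1 != F0m) = true := by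
  decide +kernel

theorem O_disj (i j : Fin 3) (hij : i ≠ j) : Disjoint (O i) (O j) := by
  rw [Set.disjoint_left]
  rintro x ⟨c, hc, hx⟩ ⟨c', hc', hx'⟩
  have h := List.all_eq_true.mp (List.all_eq_true.mp (sub_disj_check i j hij) c hc) c' hc'
  rw [bne_iff_ne] at h
  apply h
  apply FS_injective (lt_of_mem_LamList (sub_mem_LamList hc))
    (lt_of_mem_LamList (sub_mem_LamList hc'))
  rw [← hx, ← hx']

theorem a0_notMem (i : Fin 3) : a0 ∉ O i := by
  rintro ⟨c, hc, hx⟩
  have h := List.all_eq_true.mp (sub_ne_check i) c hc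
  rw [bne_iff_ne] at h
  apply h
  apply FS_injective (lt_of_mem_LamList (sub_mem_LamList hc))
    (lt_of_mem_LamList (List.mem_cons_self ..))
  exact hx.symm

theorem sub_nodup : ∀ i : Fin 3, ((subL i).map Prod.fst).Nodup := by decide +kernel

theorem sub_length : ∀ i : Fin 3, (subL i).length = ![36, 108, 135] i := by decide +kernel

theorem ncard_O (i : Fin 3) : (O i).ncard = ![36, 108, 135] i := by
  have hS : ∀ m ∈ (subL i).map Prod.fst, m ∈ LamList := by
    intro m hm
    obtain ⟨c, hc, rfl⟩ := List.mem_map.mp hm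
    exact sub_mem_LamList hc
  have himg : Subtype.val '' (O i) = ((((subL i).map Prod.fst).map FS).toFinset : Set (Finset V)) := by
    ext F
    simp only [Set.mem_image, Finset.mem_coe, List.mem_toFinset, List.mem_map]
    constructor
    · rintro ⟨x, ⟨c, hc, hx⟩, rfl⟩
      exact ⟨c.1, ⟨c, hc, rfl⟩, hx.symm⟩
    · rintro ⟨m, ⟨c, hc, rfl⟩, rfl⟩
      exact ⟨⟨FS c.1, mem_Lam.mpr ⟨c.1, sub_mem_LamList hc, rfl⟩⟩, ⟨c, hc, rfl⟩, rfl⟩
  rw [← Set.ncard_image_of_injective _ Subtype.val_injective, himg, Set.ncard_coe_finset,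
    card_toFinset_FS hS (sub_nodup i), List.length_map, sub_length]

instance : MulAction.IsPretransitive j2Group Alpha := by
  refine ⟨fun x y => ?_⟩
  have key : ∀ z : Alpha, ∃ g : j2Group, g • a0 = z := by
    intro z
    rcases O_cover z with rfl | ⟨i, c, hc, hz⟩
    · exact ⟨1, one_smul _ _⟩
    · obtain ⟨_, h2⟩ := sub_stab hc
      refine ⟨wel c.2 * wel (repL i).2, ?_⟩
      rw [mul_smul]
      have : wel (repL i).2 • a0 = (⟨FS (repL i).1, rep_mem_Lam i⟩ : Alpha) := by
        apply Subtype.ext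
        rw [a0, wel_smul_val, rep_ok]
      rw [this, h2]
      exact Subtype.ext hz.symm
  obtain ⟨g, rfl⟩ := key x
  obtain ⟨g', rfl⟩ := key y
  exact ⟨g' * g⁻¹, by rw [mul_smul, inv_smul_smul]⟩

theorem arith : ∀ I : Finset (Fin 3),
    (1 + ∑ i ∈ I, (![36, 108, 135] : Fin 3 → ℕ) i) ∣ 280 → I = ∅ ∨ I = Finset.univ := by
  decide

instance : MulAction.IsQuasiPreprimitive j2Group Alpha := by
  apply quasiPreprimitive_of_suborbits a0 O O_cover O_disj a0_notMem O_trans
  intro I hI
  rw [card_Alpha] at hI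
  simp only [ncard_O] at hI
  exact arith I hI

end Cfsg.Agent.Helper8.J2
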