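import Mathlib
import Cfsg.Agent.Lib.Helper7.Chain

set_option autoImplicit false
set_option linter.unusedSectionVars false
set_option linter.unusedVariables false

/-! Certificate checkers for permutation groups of degree 100 given as automorphism groups of
graphs: refinement-chain upper bounds, explicit-word lower bounds. -/

namespace Cfsg.Agent.Helper8.J2

open Cfsg.Agent.Helper7

/-- The vertex type. -/
abbrev V := Fin 100

section graph

variable (ADJ : ℕ)

/-- Adjacency, read off a bit table. -/
def adj (i j : V) : Bool := ADJ.testBit (100 * i.val + j.val)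

/-- The automorphism group of the graph. -/
def autGroup : Subgroup (Equiv.Perm V) where
  carrier := {σ | ∀ i j : V, adj ADJ (σ i) (σ j) = adj ADJ i j}
  mul_mem' := by
    intro a b ha hb i j
    simp only [Equiv.Perm.mul_apply]
    rw [ha, hb]
  one_mem' := by intro i j; rfl
  inv_mem' := by
    intro a ha i j
    have := ha (a⁻¹ i) (a⁻¹ j)
    rw [Equiv.Perm.inv_def, Equiv.apply_symm_apply, Equiv.apply_symm_apply] at this
    exact this.symm

theorem mem_autGroup {σ : Equiv.Perm V} :
    σ ∈ autGroup ADJ ↔ ∀ i j : V, adj ADJ (σ i) (σ j) = adj ADJ i j := Iff.rfl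

/-- `y` is the only vertex with its adjacency pattern to the vertices of `pre`. -/
def uniqB (pre : List V) (y : V) : Bool :=
  (List.finRange 100).all fun z =>
    z == y || pre.contains z || pre.any fun u => adj ADJ z u != adj ADJ y u

/-- Refinement certificate: each vertex of the second list is determined by the earlier ones. -/
def rigidB : List V → List V → Bool
  | _, [] => true
  | pre, y :: rest => uniqB ADJ pre y && rigidB (y :: pre) rest

theorem rigid_sound (pre rest : List V) (h : rigidB ADJ pre rest = true) (σ : Equiv.Perm V)
    (hσ : σ ∈ autGroup ADJ) (hpre : ∀ u ∈ pre, σ u = u) : ∀ y ∈ rest, σ y = y := by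
  induction rest generalizing pre with
  | nil => intro y hy; cases hy
  | cons y rest ih =>
    rw [rigidB, Bool.and_eq_true] at h
    obtain ⟨h1, h2⟩ := h
    have hy : σ y = y := by
      rw [uniqB, List.all_eq_true] at h1
      have := h1 (σ y) (List.mem_finRange _)
      simp only [Bool.or_eq_true, beq_iff_eq, List.contains_iff_mem, List.any_eq_true,
        bne_iff_ne, ne_eq] at this
      rcases this with (h3 | h3) | ⟨u, hu, h3⟩
      · exact h3
      · have := hpre _ h3
        exact σ.injective this
      · exfalso
        apply h3
        have := hσ y u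
        rw [hpre u hu] at this
        exact this
    intro z hz
    rcases List.mem_cons.mp hz with rfl | hz
    · exact hy
    · apply ih (y :: pre) h2 _ z hz
      intro u hu
      rcases List.mem_cons.mp hu with rfl | hu
      · exact hy
      · exact hpre u hu

/-- The vertices with the same adjacency pattern to `pre` as `b`. -/
def cls (pre : List V) (b : V) : Finset V :=
  Finset.univ.filter fun y => y ∉ pre ∧ ∀ u ∈ pre, adj ADJ y u = adj ADJ b u

theorem upper_step (pre : List V) (b : V) (hb : b ∉ pre) :
    Nat.card (stabL (autGroup ADJ) pre) ≤
      (cls ADJ pre b).card * Nat.card (stabL (autGroup ADJ) (pre ++ [b])) := by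
  rw [stabL_append]
  apply card_le_mul
  intro g hg
  rw [mem_stabL] at hg
  rw [cls, Finset.mem_filter]
  refine ⟨Finset.mem_univ _, ?_, ?_⟩
  · intro h
    have := hg.2 _ h
    exact hb (by rw [← g.injective this]; exact h)
  · intro u hu
    have := hg.1 b u
    rw [hg.2 u hu] at this
    exact this

end graph

section words

variable (code : ℕ → ℕ)

/-- Base-128 digit. -/
def dig (N x : ℕ) : ℕ := (N >>> (7 * x)) % 128

/-- The map on vertices encoded by `N`. -/
def gfun (N : ℕ) (x : V) : V := ⟨dig N x.val % 100, Nat.mod_lt _ (by norm_num)⟩

/-- Evaluation of a word (first letter applied last). -/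
def wfun (w : List ℕ) (x : V) : V := w.foldr (fun k y => gfun (code k) y) x

theorem wfun_nil (x : V) : wfun code [] x = x := rfl

theorem wfun_cons (k : ℕ) (w : List ℕ) (x : V) :
    wfun code (k :: w) x = gfun (code k) (wfun code w x) := rfl

theorem wfun_append (w w' : List ℕ) (x : V) :
    wfun code (w ++ w') x = wfun code w (wfun code w' x) := by
  induction w with
  | nil => rfl
  | cons k w ih => rw [List.cons_append, wfun_cons, wfun_cons, ih]

variable (hinj : ∀ k, Function.Injective (gfun (code k)))

/-- The generator permutations. -/
noncomputable def gperm (k : ℕ) : Equiv.Perm V :=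
  Equiv.ofBijective (gfun (code k)) (Finite.injective_iff_bijective.mp (hinj k))

theorem gperm_apply (k : ℕ) (x : V) : gperm code hinj k x = gfun (code k) x := rfl

/-- The permutation of a word. -/
noncomputable def wperm (w : List ℕ) : Equiv.Perm V := (w.map (gperm code hinj)).prod

theorem wperm_nil : wperm code hinj [] = 1 := rfl

theorem wperm_cons (k : ℕ) (w : List ℕ) :
    wperm code hinj (k :: w) = gperm code hinj k * wperm code hinj w := by
  rw [wperm, List.map_cons, List.prod_cons]; rfl

theorem wperm_append (w w' : List ℕ) :
    wperm code hinj (w ++ w') = wperm code hinj w * wperm code hinj w' := by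
  rw [wperm, List.map_append, List.prod_append]; rfl

theorem wperm_apply (w : List ℕ) (x : V) : wperm code hinj w x = wfun code w x := by
  induction w with
  | nil => rfl
  | cons k w ih => rw [wperm_cons, Equiv.Perm.mul_apply, ih, gperm_apply, wfun_cons]

/-- The group generated by the generators. -/
noncomputable def genGroup : Subgroup (Equiv.Perm V) :=
  Subgroup.closure (Set.range (gperm code hinj))

theorem wperm_mem (w : List ℕ) : wperm code hinj w ∈ genGroup code hinj := by
  induction w with
  | nil => exact one_mem _
  | cons k w ih =>
    rw [wperm_cons]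
    exact mul_mem (Subgroup.subset_closure ⟨k, rfl⟩) ih

/-- Two words define the same permutation. -/
def weqB (w w' : List ℕ) : Bool := (List.finRange 100).all fun x => wfun code w x == wfun code w' x

theorem weq_sound {w w' : List ℕ} (h : weqB code w w' = true) :
    wperm code hinj w = wperm code hinj w' := by
  ext x
  rw [weqB, List.all_eq_true] at h
  have := h x (List.mem_finRange _)
  rw [beq_iff_eq] at this
  rw [wperm_apply, wperm_apply, this]

/-- Certificate: each word fixes `pre` pointwise and maps `b` to the listed vertex. -/
def chainOK (pre : List V) (b : V) (cert : List (V × List ℕ)) : Bool :=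
  cert.all fun c => wfun code c.2 b == c.1 && pre.all fun u => wfun code c.2 u == u

theorem lower_step (pre : List V) (b : V) (cert : List (V × List ℕ))
    (h : chainOK code pre b cert = true) :
    (cert.map Prod.fst).toFinset.card * Nat.card (stabL (genGroup code hinj) (pre ++ [b])) ≤
      Nat.card (stabL (genGroup code hinj) pre) := by
  rw [stabL_append]
  apply mul_le_card
  intro q hq
  rw [List.mem_toFinset, List.mem_map] at hq
  obtain ⟨c, hc, rfl⟩ := hq
  rw [chainOK, List.all_eq_true] at h
  have hcc := h c hc
  rw [Bool.and_eq_true, beq_iff_eq, List.all_eq_true] at hcc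
  refine ⟨wperm code hinj c.2, ?_, ?_⟩
  · rw [mem_stabL]
    refine ⟨wperm_mem code hinj _, ?_⟩
    intro u hu
    have := hcc.2 u hu
    rw [beq_iff_eq] at this
    rw [wperm_apply, this]
  · rw [wperm_apply, hcc.1]

end words

end Cfsg.Agent.Helper8.J2
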