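import Cfsg.Agent.Lib.Helper8.J2Data

set_option autoImplicit false
set_option linter.unusedSectionVars false
set_option linter.unusedVariables false

/-! The automorphism group of the Hall-Janko graph has order 1209600; its even part `j2Group` has
order 604800 and is generated by three explicit elements of order three. -/

namespace Cfsg.Agent.Helper8.J2

open Cfsg.Agent.Helper7

theorem code_cases (k : ℕ) : code k = N0 ∨ code k = N1 ∨ code k = N2 := by
  rcases k with _ | _ | k
  · exact Or.inl rfl
  · exact Or.inr (Or.inl rfl)
  · exact Or.inr (Or.inr rfl)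

theorem inj0 : Function.Injective (gfun N0) := by decide +kernel
theorem inj1 : Function.Injective (gfun N1) := by decide +kernel
theorem inj2 : Function.Injective (gfun N2) := by decide +kernel

theorem hinj : ∀ k, Function.Injective (gfun (code k)) := by
  intro k
  rcases code_cases k with h | h | h <;> rw [h]
  · exact inj0
  · exact inj1
  · exact inj2

theorem aut0 : ∀ i j : V, adj ADJ (gfun N0 i) (gfun N0 j) = adj ADJ i j := by decide +kernel
theorem aut1 : ∀ i j : V, adj ADJ (gfun N1 i) (gfun N1 j) = adj ADJ i j := by decide +kernel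
theorem aut2 : ∀ i j : V, adj ADJ (gfun N2 i) (gfun N2 j) = adj ADJ i j := by decide +kernel

theorem gperm_mem_aut (k : ℕ) : gperm code hinj k ∈ autGroup ADJ := by
  intro i j
  rw [gperm_apply, gperm_apply]
  rcases code_cases k with h | h | h <;> rw [h]
  · exact aut0 i j
  · exact aut1 i j
  · exact aut2 i j

theorem cube0 : weqB code [0, 0, 0] [] = true := by decide +kernel
theorem cube1 : weqB code [1, 1, 1] [] = true := by decide +kernel
theorem cube2 : weqB code [2, 2, 2] [] = true := by decide +kernel

theorem gperm_cube (k : ℕ) : gperm code hinj k ^ 3 = 1 := by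
  have key : ∀ j : ℕ, weqB code [j, j, j] [] = true → gperm code hinj j ^ 3 = 1 := by
    intro j hj
    have := weq_sound code hinj hj
    rw [wperm_cons, wperm_cons, wperm_cons, wperm_nil, mul_one] at this
    rw [pow_three]
    exact this
  rcases k with _ | _ | k
  · exact key 0 cube0
  · exact key 1 cube1
  · have h2 : gperm code hinj (k + 2) = gperm code hinj 2 := by
      ext x; rfl
    rw [h2]
    exact key 2 cube2

theorem gperm_sign (k : ℕ) : Equiv.Perm.sign (gperm code hinj k) = 1 := by
  have h := congrArg Equiv.Perm.sign (gperm_cube k)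
  rw [map_pow, map_one] at h
  rcases Int.units_eq_one_or (Equiv.Perm.sign (gperm code hinj k)) with h1 | h1
  · exact h1
  · rw [h1] at h
    exact absurd h (by decide)

/-- The even automorphisms of the Hall-Janko graph: the group `J2`. -/
def j2Group : Subgroup (Equiv.Perm V) := autGroup ADJ ⊓ alternatingGroup V

theorem gperm_mem_j2 (k : ℕ) : gperm code hinj k ∈ j2Group :=
  ⟨gperm_mem_aut k, Equiv.Perm.mem_alternatingGroup.mpr (gperm_sign k)⟩

theorem genGroup_le : genGroup code hinj ≤ j2Group := by
  rw [genGroup, Subgroup.closure_le]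
  rintro _ ⟨k, rfl⟩
  exact gperm_mem_j2 k

/-! ### The odd automorphism -/

/-- Evaluation of a product of transpositions. -/
def tfun (ps : List (V × V)) (x : V) : V :=
  ps.foldr (fun p y => if y = p.1 then p.2 else if y = p.2 then p.1 else y) x

/-- The product of the transpositions. -/
def tperm (ps : List (V × V)) : Equiv.Perm V := (ps.map fun p => Equiv.swap p.1 p.2).prod

theorem tperm_apply (ps : List (V × V)) (x : V) : tperm ps x = tfun ps x := by
  induction ps with
  | nil => rfl
  | cons p ps ih =>
    rw [tperm, List.map_cons, List.prod_cons, Equiv.Perm.mul_apply]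
    change Equiv.swap p.1 p.2 (tperm ps x) = _
    rw [ih, Equiv.swap_apply_def]
    rfl

theorem tperm_sign (ps : List (V × V)) (h : ∀ p ∈ ps, p.1 ≠ p.2) :
    Equiv.Perm.sign (tperm ps) = (-1) ^ ps.length := by
  induction ps with
  | nil => rfl
  | cons p ps ih =>
    rw [tperm, List.map_cons, List.prod_cons, map_mul,
      Equiv.Perm.sign_swap (h p (List.mem_cons_self ..)), List.length_cons, pow_succ, mul_comm]
    congr 1
    exact ih fun q hq => h q (List.mem_cons_of_mem _ hq)

theorem tau_aut : ∀ i j : V, adj ADJ (tfun tauPairs i) (tfun tauPairs j) = adj ADJ i j := by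
  decide +kernel

theorem tau_mem : tperm tauPairs ∈ autGroup ADJ := by
  intro i j
  rw [tperm_apply, tperm_apply]
  exact tau_aut i j

theorem tau_ne : (tauPairs.all fun p => p.1 != p.2) = true := by decide +kernel

theorem tau_length : tauPairs.length = 43 := by decide +kernel

theorem tau_sign : Equiv.Perm.sign (tperm tauPairs) = -1 := by
  have h : ∀ p ∈ tauPairs, p.1 ≠ p.2 := by
    intro p hp
    have := List.all_eq_true.mp tau_ne p hp
    simpa using this
  rw [tperm_sign tauPairs h, tau_length]
  exact Odd.neg_one_pow (by decide)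

/-- A subgroup of a permutation group containing an odd permutation has twice as many elements
as its even part. -/
theorem card_eq_two_mul_even {α : Type*} [Fintype α] [DecidableEq α]
    (A : Subgroup (Equiv.Perm α)) (τ : Equiv.Perm α) (hτ : τ ∈ A)
    (hs : Equiv.Perm.sign τ = -1) : Nat.card A = 2 * Nat.card (A ⊓ alternatingGroup α : Subgroup _) := by
  let φ : A →* ℤˣ := Equiv.Perm.sign.comp A.subtype
  have hker : φ.ker = (A ⊓ alternatingGroup α).subgroupOf A := by
    ext g
    rw [MonoidHom.mem_ker, Subgroup.mem_subgroupOf, Subgroup.mem_inf,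
      Equiv.Perm.mem_alternatingGroup]
    constructor
    · intro h; exact ⟨g.2, h⟩
    · intro h; exact h.2
  have hsurj : Function.Surjective φ := by
    intro u
    rcases Int.units_eq_one_or u with rfl | rfl
    · exact ⟨1, map_one _⟩
    · exact ⟨⟨τ, hτ⟩, hs⟩
  have h1 := Subgroup.card_mul_index φ.ker
  rw [Subgroup.index_ker, MonoidHom.range_eq_top.mpr hsurj, Subgroup.card_top] at h1
  have h2 : Nat.card ℤˣ = 2 := by
    rw [Nat.card_eq_fintype_card]; rfl
  rw [h2, hker] at h1
  have h3 : Nat.card ((A ⊓ alternatingGroup α).subgroupOf A) =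
      Nat.card (A ⊓ alternatingGroup α : Subgroup _) :=
    Nat.card_congr (Subgroup.subgroupOfEquivOfLe inf_le_left).toEquiv
  rw [h3] at h1
  omega

/-! ### The upper bound -/

theorem cls0 : (cls ADJ [] 0).card = 100 := by decide +kernel
theorem cls1 : (cls ADJ [0] 1).card = 36 := by decide +kernel
theorem cls2 : (cls ADJ [0, 1] 2).card = 14 := by decide +kernel
theorem cls3 : (cls ADJ [0, 1, 2] 21).card = 4 := by decide +kernel
theorem cls4 : (cls ADJ [0, 1, 2, 21] 22).card = 3 := by decide +kernel
theorem cls5 : (cls ADJ [0, 1, 2, 21, 22] 25).card = 2 := by decide +kernel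

theorem rigid_check : rigidB ADJ [25, 22, 21, 2, 1, 0] restL = true := by decide +kernel

theorem all_mem : ∀ x : V, x ∈ ([25, 22, 21, 2, 1, 0] : List V) ∨ x ∈ restL := by decide +kernel

theorem stab_base_eq_bot : stabL (autGroup ADJ) [0, 1, 2, 21, 22, 25] = ⊥ := by
  rw [eq_bot_iff]
  intro g hg
  rw [mem_stabL] at hg
  rw [Subgroup.mem_bot]
  have hpre : ∀ u ∈ ([25, 22, 21, 2, 1, 0] : List V), g u = u := by
    intro u hu
    apply hg.2
    simp only [List.mem_cons, List.not_mem_nil, or_false] at hu ⊢
    tauto
  ext x
  rcases all_mem x with hx | hx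
  · rw [hpre x hx]; rfl
  · rw [rigid_sound ADJ _ _ rigid_check g hg.1 hpre x hx]; rfl

theorem card_aut_le : Nat.card (autGroup ADJ) ≤ 1209600 := by
  have h0 := upper_step ADJ [] 0 (by decide)
  have h1 := upper_step ADJ [0] 1 (by decide)
  have h2 := upper_step ADJ [0, 1] 2 (by decide)
  have h3 := upper_step ADJ [0, 1, 2] 21 (by decide)
  have h4 := upper_step ADJ [0, 1, 2, 21] 22 (by decide)
  have h5 := upper_step ADJ [0, 1, 2, 21, 22] 25 (by decide)
  rw [cls0] at h0
  rw [cls1] at h1
  rw [cls2] at h2
  rw [cls3] at h3
  rw [cls4] at h4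
  rw [cls5] at h5
  simp only [List.nil_append, List.cons_append] at h0 h1 h2 h3 h4 h5
  rw [stab_base_eq_bot, Subgroup.card_bot] at h5
  have e : stabL (autGroup ADJ) [] = autGroup ADJ := rfl
  rw [e] at h0
  nlinarith

/-! ### The lower bound -/

theorem chain0_ok : chainOK code [] 0 chain0 = true := by decide +kernel
theorem chain1_ok : chainOK code [0] 1 chain1 = true := by decide +kernel
theorem chain2_ok : chainOK code [0, 1] 2 chain2 = true := by decide +kernel
theorem chain3_ok : chainOK code [0, 1, 2] 21 chain3 = true := by decide +kernel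
theorem chain4_ok : chainOK code [0, 1, 2, 21] 22 chain4 = true := by decide +kernel
theorem chain5_ok : chainOK code [0, 1, 2, 21, 22] 25 chain5 = true := by decide +kernel

theorem chain0_card : (chain0.map Prod.fst).toFinset.card = 100 := by decide +kernel
theorem chain1_card : (chain1.map Prod.fst).toFinset.card = 36 := by decide +kernel
theorem chain2_card : (chain2.map Prod.fst).toFinset.card = 7 := by decide +kernel
theorem chain3_card : (chain3.map Prod.fst).toFinset.card = 4 := by decide +kernel
theorem chain4_card : (chain4.map Prod.fst).toFinset.card = 3 := by decide +kernel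
theorem chain5_card : (chain5.map Prod.fst).toFinset.card = 2 := by decide +kernel

theorem card_gen_ge : 604800 ≤ Nat.card (genGroup code hinj) := by
  have h0 := lower_step code hinj [] 0 chain0 chain0_ok
  have h1 := lower_step code hinj [0] 1 chain1 chain1_ok
  have h2 := lower_step code hinj [0, 1] 2 chain2 chain2_ok
  have h3 := lower_step code hinj [0, 1, 2] 21 chain3 chain3_ok
  have h4 := lower_step code hinj [0, 1, 2, 21] 22 chain4 chain4_ok
  have h5 := lower_step code hinj [0, 1, 2, 21, 22] 25 chain5 chain5_ok
  rw [chain0_card] at h0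
  rw [chain1_card] at h1
  rw [chain2_card] at h2
  rw [chain3_card] at h3
  rw [chain4_card] at h4
  rw [chain5_card] at h5
  simp only [List.nil_append, List.cons_append] at h0 h1 h2 h3 h4 h5
  have e : stabL (genGroup code hinj) [] = genGroup code hinj := rfl
  rw [e] at h0
  have hpos : 1 ≤ Nat.card (stabL (genGroup code hinj) [0, 1, 2, 21, 22, 25]) :=
    Nat.card_pos
  nlinarith

/-! ### Conclusion -/

theorem card_aut_eq : Nat.card (autGroup ADJ) = 2 * Nat.card j2Group :=
  card_eq_two_mul_even (autGroup ADJ) (tperm tauPairs) tau_mem tau_sign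

theorem card_j2 : Nat.card j2Group = 604800 := by
  have h1 := card_aut_le
  have h2 := card_aut_eq
  have h3 := card_gen_ge
  have h4 : Nat.card (genGroup code hinj) ≤ Nat.card j2Group :=
    Nat.card_le_card_of_injective (Subgroup.inclusion genGroup_le)
      (Subgroup.inclusion_injective genGroup_le)
  omega

theorem genGroup_eq : genGroup code hinj = j2Group := by
  apply Subgroup.eq_of_le_of_card_ge genGroup_le
  rw [card_j2]
  exact card_gen_ge

theorem card_aut : Nat.card (autGroup ADJ) = 1209600 := by
  rw [card_aut_eq, card_j2]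

end Cfsg.Agent.Helper8.J2
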