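import Cfsg.Agent.Lib.Helper8.J2Alpha

set_option autoImplicit false
set_option linter.unusedSectionVars false
set_option linter.unusedVariables false

/-! Simplicity of `J2` by Iwasawa's criterion, on the 280 fixed-point sets. -/

open scoped Pointwise commutatorElement

namespace Cfsg.Agent.Helper8.J2

open Cfsg.Agent.Helper7

/-! ### Faithfulness -/

theorem faith_check : ((List.finRange 100).all fun x : V =>
    (LamList.filter fun m : ℕ => m.testBit x.val).foldl (· &&& ·) (2 ^ 100 - 1) == 1 <<< x.val) = true := by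
  decide +kernel

theorem eq_one_of_fix_all (g : j2Group) (h : ∀ a : Alpha, g • a = a) : g = 1 := by
  apply Subtype.ext
  apply Equiv.ext
  intro x
  have hx := List.all_eq_true.mp faith_check x (List.mem_finRange _)
  rw [beq_iff_eq] at hx
  have hbit : ((LamList.filter fun m : ℕ => m.testBit x.val).foldl (· &&& ·) (2 ^ 100 - 1)).testBit
      ((g : Equiv.Perm V) x).val = true := by
    rw [testBit_foldl_land]
    constructor
    · rw [Nat.testBit_two_pow_sub_one]
      exact decide_eq_true ((g : Equiv.Perm V) x).isLt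
    · intro m hm
      rw [List.mem_filter] at hm
      have hmem : FS m ∈ Lam := mem_Lam.mpr ⟨m, hm.1, rfl⟩
      have := congrArg Subtype.val (h ⟨FS m, hmem⟩)
      rw [smul_val] at this
      have hx' : (g : Equiv.Perm V) x ∈ (FS m).image (g : Equiv.Perm V) :=
        Finset.mem_image_of_mem _ (mem_FS.mpr hm.2)
      rw [this] at hx'
      exact mem_FS.mp hx'
  rw [hx, Nat.one_shiftLeft, Nat.testBit_two_pow, decide_eq_true_eq] at hbit
  show (g : Equiv.Perm V) x = x
  exact (Fin.ext hbit).symm

instance : FaithfulSMul j2Group Alpha := by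
  refine ⟨fun {g g'} h => ?_⟩
  have : g'⁻¹ * g = 1 := by
    apply eq_one_of_fix_all
    intro a
    rw [mul_smul, h a, inv_smul_smul]
  exact (inv_mul_eq_one.mp this).symm

/-! ### The fixators -/

/-- The elements of `J2` fixing every point of `F`. -/
def fixator (F : Finset V) : Subgroup j2Group where
  carrier := {g | ∀ x ∈ F, (g : Equiv.Perm V) x = x}
  mul_mem' := by
    intro g h hg hh x hx
    show (g : Equiv.Perm V) ((h : Equiv.Perm V) x) = x
    rw [hh x hx, hg x hx]
  one_mem' := by intro x _; rfl
  inv_mem' := by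
    intro g hg x hx
    show ((g : Equiv.Perm V)⁻¹) x = x
    rw [Equiv.Perm.inv_eq_iff_eq, hg x hx]

theorem mem_fixator {F : Finset V} {g : j2Group} :
    g ∈ fixator F ↔ ∀ x ∈ F, (g : Equiv.Perm V) x = x := Iff.rfl

theorem fixator_conj (g : j2Group) (F : Finset V) :
    fixator (F.image (g : Equiv.Perm V)) = MulAut.conj g • fixator F := by
  ext h
  rw [Subgroup.mem_pointwise_smul_iff_inv_smul_mem, mem_fixator, mem_fixator]
  have hval : (((MulAut.conj g)⁻¹ • h : j2Group) : Equiv.Perm V) =
      (g : Equiv.Perm V)⁻¹ * (h : Equiv.Perm V) * (g : Equiv.Perm V) := by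
    rw [MulAut.smul_def, MulAut.conj_inv_apply]; rfl
  rw [hval]
  constructor
  · intro hh x hx
    rw [Equiv.Perm.mul_apply, Equiv.Perm.mul_apply, hh _ (Finset.mem_image_of_mem _ hx)]
    simp
  · intro hh y hy
    obtain ⟨x, hx, rfl⟩ := Finset.mem_image.mp hy
    have := hh x hx
    rw [Equiv.Perm.mul_apply, Equiv.Perm.mul_apply, Equiv.Perm.inv_eq_iff_eq] at this
    exact this

/-! ### The stabiliser of the base set -/

/-- The stabiliser of `F0` in `J2`, as a permutation group. -/
noncomputable def Kp : Subgroup (Equiv.Perm V) :=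
  (MulAction.stabilizer j2Group a0).map j2Group.subtype

theorem mem_Kp {g : Equiv.Perm V} :
    g ∈ Kp ↔ g ∈ j2Group ∧ (FS F0m).image g = FS F0m := by
  rw [Kp, Subgroup.mem_map]
  constructor
  · rintro ⟨x, hx, rfl⟩
    refine ⟨x.2, ?_⟩
    rw [MulAction.mem_stabilizer_iff] at hx
    exact congrArg Subtype.val hx
  · rintro ⟨h1, h2⟩
    refine ⟨⟨g, h1⟩, ?_, rfl⟩
    rw [MulAction.mem_stabilizer_iff]
    exact Subtype.ext h2

theorem card_Kp : Nat.card Kp = 2160 := by
  rw [Kp, ← Nat.card_congr ((MulAction.stabilizer j2Group a0).equivMapOfInjective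
    j2Group.subtype j2Group.subtype_injective).toEquiv]
  have h1 := Subgroup.card_mul_index (MulAction.stabilizer j2Group a0)
  rw [MulAction.index_stabilizer_of_transitive, card_Alpha, card_j2] at h1
  generalize Nat.card (MulAction.stabilizer j2Group a0) = n at h1 ⊢
  omega

/-- Certificate: each word stabilises `F0`, fixes `pre` pointwise and maps `b` as listed. -/
def kOK (pre : List V) (b : V) (cert : List (V × List ℕ)) : Bool :=
  cert.all fun c => wimg c.2 F0m == F0m && wfun code c.2 b == c.1 &&
    pre.all fun u => wfun code c.2 u == u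

theorem k_step (pre : List V) (b : V) (cert : List (V × List ℕ))
    (h : kOK pre b cert = true) :
    (cert.map Prod.fst).toFinset.card * Nat.card (stabL Kp (pre ++ [b])) ≤
      Nat.card (stabL Kp pre) := by
  rw [stabL_append]
  apply mul_le_card
  intro q hq
  rw [List.mem_toFinset, List.mem_map] at hq
  obtain ⟨c, hc, rfl⟩ := hq
  have hcc := List.all_eq_true.mp h c hc
  rw [Bool.and_eq_true, Bool.and_eq_true, beq_iff_eq, beq_iff_eq, List.all_eq_true] at hcc
  refine ⟨wperm code hinj c.2, ?_, ?_⟩
  · rw [mem_stabL]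
    refine ⟨mem_Kp.mpr ⟨wperm_mem_j2 _, ?_⟩, ?_⟩
    · rw [← FS_wimg, hcc.1.1]
    · intro u hu
      have := hcc.2 u hu
      rw [beq_iff_eq] at this
      rw [wperm_apply, this]
  · rw [wperm_apply, hcc.1.2]

theorem kchain0_ok : kOK [] 12 kchain0 = true := by decide +kernel
theorem kchain1_ok : kOK [12] 16 kchain1 = true := by decide +kernel
theorem kchain2_ok : kOK [12, 16] 29 kchain2 = true := by decide +kernel
theorem kchain0_card : (kchain0.map Prod.fst).toFinset.card = 10 := by decide +kernel
theorem kchain1_card : (kchain1.map Prod.fst).toFinset.card = 9 := by decide +kernel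
theorem kchain2_card : (kchain2.map Prod.fst).toFinset.card = 8 := by decide +kernel

theorem card_stab_le : Nat.card (stabL Kp [12, 16, 29]) ≤ 3 := by
  have h0 := k_step [] 12 kchain0 kchain0_ok
  have h1 := k_step [12] 16 kchain1 kchain1_ok
  have h2 := k_step [12, 16] 29 kchain2 kchain2_ok
  rw [kchain0_card] at h0
  rw [kchain1_card] at h1
  rw [kchain2_card] at h2
  simp only [List.nil_append, List.cons_append] at h0 h1 h2
  have e : stabL Kp [] = Kp := rfl
  rw [e, card_Kp] at h0
  nlinarith

theorem kpts_mem : ∀ u ∈ ([12, 16, 29] : List V), u ∈ FS F0m := by decide +kernel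

theorem card_fixator_le : Nat.card (fixator (FS F0m)) ≤ 3 := by
  refine le_trans ?_ card_stab_le
  apply Nat.card_le_card_of_injective
    (fun g : fixator (FS F0m) => (⟨((g : j2Group) : Equiv.Perm V), by
      rw [mem_stabL]
      refine ⟨mem_Kp.mpr ⟨(g : j2Group).2, ?_⟩, fun u hu => g.2 u (kpts_mem u hu)⟩
      apply Finset.ext
      intro y
      rw [Finset.mem_image]
      constructor
      · rintro ⟨x, hx, rfl⟩
        rw [g.2 x hx]; exact hx
      · intro hy
        exact ⟨y, hy, g.2 y hy⟩⟩ : stabL Kp [12, 16, 29]))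
  intro g g' h
  apply Subtype.ext
  apply Subtype.ext
  exact congrArg (fun z : stabL Kp [12, 16, 29] => (z : Equiv.Perm V)) h

/-- A group with at most three elements is commutative. -/
theorem isMulCommutative_of_card_le_three {G : Type*} [Group G] [Finite G]
    (h : Nat.card G ≤ 3) : IsMulCommutative G := by
  have hpos : 0 < Nat.card G := Nat.card_pos
  have hc : Nat.card G = 1 ∨ Nat.card G = 2 ∨ Nat.card G = 3 := by omega
  rcases hc with h1 | h2 | h3
  · have : Subsingleton G := (Nat.card_eq_one_iff_unique.mp h1).1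
    exact ⟨⟨fun a b => Subsingleton.elim _ _⟩⟩
  · have : Fact (Nat.Prime 2) := ⟨Nat.prime_two⟩
    have := isCyclic_of_prime_card h2
    exact ⟨⟨fun a b => (IsCyclic.commGroup (α := G)).mul_comm a b⟩⟩
  · have : Fact (Nat.Prime 3) := ⟨Nat.prime_three⟩
    have := isCyclic_of_prime_card h3
    exact ⟨⟨fun a b => (IsCyclic.commGroup (α := G)).mul_comm a b⟩⟩

theorem fixator_comm (a : Alpha) : IsMulCommutative (fixator a.1) := by
  obtain ⟨g, rfl⟩ := MulAction.exists_smul_eq j2Group a0 a
  rw [smul_val, fixator_conj, Subgroup.pointwise_smul_def]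
  have : IsMulCommutative (fixator a0.1) := isMulCommutative_of_card_le_three card_fixator_le
  exact Subgroup.map_isMulCommutative _ _

/-! ### Generation -/

theorem eq_top_of_gens (S : Subgroup j2Group)
    (h : ∀ k, (⟨gperm code hinj k, gperm_mem_j2 k⟩ : j2Group) ∈ S) : S = ⊤ := by
  rw [eq_top_iff]
  intro g _
  have hle : genGroup code hinj ≤ S.map j2Group.subtype := by
    rw [genGroup, Subgroup.closure_le]
    rintro _ ⟨k, rfl⟩
    exact ⟨_, h k, rfl⟩
  have hg : (g : Equiv.Perm V) ∈ genGroup code hinj := by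
    rw [genGroup_eq]; exact g.2
  obtain ⟨s, hs, hsg⟩ := hle hg
  have : s = g := Subtype.ext hsg
  rw [← this]
  exact hs

theorem gen0_fix : ((List.finRange 100).all fun x : V =>
    !F0m.testBit x.val || gfun N0 x == x) = true := by decide +kernel

theorem gen0_mem : (⟨gperm code hinj 0, gperm_mem_j2 0⟩ : j2Group) ∈ fixator (FS F0m) := by
  intro x hx
  have := List.all_eq_true.mp gen0_fix x (List.mem_finRange _)
  rw [Bool.or_eq_true, Bool.not_eq_true', beq_iff_eq] at this
  rcases this with h | h
  · rw [mem_FS.mp hx] at h; cases h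
  · exact h

theorem conj1_check : weqB code (conjH1 ++ [0] ++ conjHi1) [1] = true := by decide +kernel
theorem conj1_inv : weqB code (conjH1 ++ conjHi1) [] = true := by decide +kernel
theorem conj2_check : weqB code (conjH2 ++ [0] ++ conjHi2) [2] = true := by decide +kernel
theorem conj2_inv : weqB code (conjH2 ++ conjHi2) [] = true := by decide +kernel

theorem wel_inv {w wi : List ℕ} (h : weqB code (w ++ wi) [] = true) : wel wi = (wel w)⁻¹ := by
  have := weq_sound code hinj h
  rw [wperm_append, wperm_nil] at this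
  apply Subtype.ext
  exact eq_inv_of_mul_eq_one_right this

theorem gen_conj {k : ℕ} {w wi : List ℕ} (h1 : weqB code (w ++ [0] ++ wi) [k] = true)
    (h2 : weqB code (w ++ wi) [] = true) :
    (⟨gperm code hinj k, gperm_mem_j2 k⟩ : j2Group) ∈ fixator ((wel w • a0 : Alpha) : Finset V) := by
  rw [smul_val, fixator_conj, Subgroup.mem_pointwise_smul_iff_inv_smul_mem, MulAut.smul_def,
    MulAut.conj_inv_apply]
  have e : (⟨gperm code hinj k, gperm_mem_j2 k⟩ : j2Group) =
      wel w * ⟨gperm code hinj 0, gperm_mem_j2 0⟩ * (wel w)⁻¹ := by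
    rw [← wel_inv h2]
    apply Subtype.ext
    have := weq_sound code hinj h1
    rw [wperm_append, wperm_append, wperm_single, wperm_single] at this
    exact this.symm
  rw [e]
  have : (wel w)⁻¹ * (wel w * ⟨gperm code hinj 0, gperm_mem_j2 0⟩ * (wel w)⁻¹) * wel w =
      ⟨gperm code hinj 0, gperm_mem_j2 0⟩ := by group
  rw [this]
  exact gen0_mem

theorem iSup_fixator : (⨆ a : Alpha, fixator a.1) = ⊤ := by
  apply eq_top_of_gens
  intro k
  have h0 : (⟨gperm code hinj 0, gperm_mem_j2 0⟩ : j2Group) ∈ ⨆ a : Alpha, fixator a.1 :=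
    Subgroup.mem_iSup_of_mem a0 gen0_mem
  have h1 : (⟨gperm code hinj 1, gperm_mem_j2 1⟩ : j2Group) ∈ ⨆ a : Alpha, fixator a.1 :=
    Subgroup.mem_iSup_of_mem (wel conjH1 • a0) (gen_conj conj1_check conj1_inv)
  have h2 : (⟨gperm code hinj 2, gperm_mem_j2 2⟩ : j2Group) ∈ ⨆ a : Alpha, fixator a.1 :=
    Subgroup.mem_iSup_of_mem (wel conjH2 • a0) (gen_conj conj2_check conj2_inv)
  rcases k with _ | _ | k
  · exact h0
  · exact h1
  · have : (⟨gperm code hinj (k + 2), gperm_mem_j2 (k + 2)⟩ : j2Group) =
        ⟨gperm code hinj 2, gperm_mem_j2 2⟩ := Subtype.ext (gperm_eq_two k)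
    rw [this]; exact h2

/-- The Iwasawa structure. -/
noncomputable def iwasawa : MulAction.IwasawaStructure j2Group Alpha where
  T a := fixator a.1
  is_comm := fixator_comm
  is_conj g a := by rw [smul_val, fixator_conj]
  is_generator := iSup_fixator

/-! ### Perfectness -/

theorem comm0_check : weqB code (commX0 ++ commY0 ++ commXi0 ++ commYi0) [0] = true := by
  decide +kernel
theorem comm0_invx : weqB code (commX0 ++ commXi0) [] = true := by decide +kernel
theorem comm0_invy : weqB code (commY0 ++ commYi0) [] = true := by decide +kernel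
theorem comm1_check : weqB code (commX1 ++ commY1 ++ commXi1 ++ commYi1) [1] = true := by
  decide +kernel
theorem comm1_invx : weqB code (commX1 ++ commXi1) [] = true := by decide +kernel
theorem comm1_invy : weqB code (commY1 ++ commYi1) [] = true := by decide +kernel
theorem comm2_check : weqB code (commX2 ++ commY2 ++ commXi2 ++ commYi2) [2] = true := by
  decide +kernel
theorem comm2_invx : weqB code (commX2 ++ commXi2) [] = true := by decide +kernel
theorem comm2_invy : weqB code (commY2 ++ commYi2) [] = true := by decide +kernel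

theorem gen_comm {k : ℕ} {x xi y yi : List ℕ}
    (h : weqB code (x ++ y ++ xi ++ yi) [k] = true) (hx : weqB code (x ++ xi) [] = true)
    (hy : weqB code (y ++ yi) [] = true) :
    (⟨gperm code hinj k, gperm_mem_j2 k⟩ : j2Group) ∈ commutator j2Group := by
  have e : (⟨gperm code hinj k, gperm_mem_j2 k⟩ : j2Group) = ⁅wel x, wel y⁆ := by
    rw [commutatorElement_def, ← wel_inv hx, ← wel_inv hy]
    apply Subtype.ext
    have := weq_sound code hinj h
    rw [wperm_append, wperm_append, wperm_append, wperm_single] at this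
    exact this.symm
  rw [e]
  exact Subgroup.commutator_mem_commutator (Subgroup.mem_top _) (Subgroup.mem_top _)

theorem j2_perfect : commutator j2Group = ⊤ := by
  apply eq_top_of_gens
  intro k
  rcases k with _ | _ | k
  · exact gen_comm comm0_check comm0_invx comm0_invy
  · exact gen_comm comm1_check comm1_invx comm1_invy
  · have : (⟨gperm code hinj (k + 2), gperm_mem_j2 (k + 2)⟩ : j2Group) =
        ⟨gperm code hinj 2, gperm_mem_j2 2⟩ := Subtype.ext (gperm_eq_two k)
    rw [this]; exact gen_comm comm2_check comm2_invx comm2_invy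

/-! ### Simplicity -/

instance : Nontrivial j2Group := by
  have : Finite j2Group := inferInstance
  rw [← Finite.one_lt_card_iff_nontrivial, card_j2]
  norm_num

theorem j2_simple : IsSimpleGroup j2Group :=
  MulAction.IwasawaStructure.isSimpleGroup j2_perfect iwasawa inferInstance

end Cfsg.Agent.Helper8.J2
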