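import Cfsg.Agent.Lib.Helper8.J3Chk2

set_option autoImplicit false

namespace Cfsg.Agent.Helper8.J3M

open Cfsg.Agent.Helper8.F4P

theorem wd_0 : S1c = mmul (U2 740) (mmul (repU 0) (mmul (U2 0) (mmul (repU 0) (U2 740)))) := by
  decide +kernel

theorem wd_1 : S1c = mmul (U2 747) (mmul (repU 1) (mmul (U2 38) (mmul (repU 1) (U2 2968)))) := by
  decide +kernel

theorem wd_2 : S1c = mmul (U2 1365) (mmul (repU 2) (mmul (U2 39) (mmul (repU 2) (U2 1585)))) := by
  decide +kernel

theorem wd_3 : S1c = mmul (U2 1587) (mmul (repU 3) (mmul (U2 33) (mmul (repU 3) (U2 5516)))) := by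
  decide +kernel

theorem wd_4 : S1c = mmul (U2 1348) (mmul (repU 4) (mmul (U2 94) (mmul (repU 4) (U2 3994)))) := by
  decide +kernel

theorem wd_5 : S1c = mmul (U2 927) (mmul (repU 5) (mmul (U2 104) (mmul (repU 5) (U2 389)))) := by
  decide +kernel

theorem wd_6 : S1c = mmul (U2 190) (mmul (repU 6) (mmul (U2 5) (mmul (repU 6) (U2 3239)))) := by
  decide +kernel

theorem wd_7 : S1c = mmul (U2 2361) (mmul (repU 7) (mmul (U2 11) (mmul (repU 7) (U2 6087)))) := by
  decide +kernel

theorem wd_8 : S1c = mmul (U2 3730) (mmul (repU 8) (mmul (U2 2) (mmul (repU 8) (U2 533)))) := by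
  decide +kernel

theorem wd_9 : S1c = mmul (U2 3722) (mmul (repU 9) (mmul (U2 44) (mmul (repU 9) (U2 1697)))) := by
  decide +kernel

theorem wd_10 : S1c = mmul (U2 1212) (mmul (repU 10) (mmul (U2 24) (mmul (repU 10) (U2 1062)))) := by
  decide +kernel

theorem wd_11 : S1c = mmul (U2 125) (mmul (repU 11) (mmul (U2 2725) (mmul (repU 11) (mmul (U2 5910) (mmul (repU 11) (U2 1169)))))) := by
  decide +kernel

theorem wd_12 : S1c = mmul (U2 3641) (mmul (repU 12) (mmul (U2 96) (mmul (repU 12) (U2 6228)))) := by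
  decide +kernel

theorem wd_13 : S1c = mmul (U2 1011) (mmul (repU 13) (mmul (U2 101) (mmul (repU 13) (U2 2086)))) := by
  decide +kernel

theorem wd_14 : S1c = mmul (U2 208) (mmul (repU 14) (mmul (U2 23) (mmul (repU 14) (U2 4543)))) := by
  decide +kernel

theorem wd_15 : S1c = mmul (U2 2834) (mmul (repU 15) (mmul (U2 108) (mmul (repU 15) (U2 4904)))) := by
  decide +kernel

theorem wd_16 : S1c = mmul (U2 5026) (mmul (repU 16) (mmul (U2 4) (mmul (repU 16) (U2 1509)))) := by
  decide +kernel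

theorem wd_17 : S1c = mmul (U2 888) (mmul (repU 17) (mmul (U2 34) (mmul (repU 17) (U2 3393)))) := by
  decide +kernel

theorem wd_18 : S1c = mmul (U2 6028) (mmul (repU 18) (mmul (U2 97) (mmul (repU 18) (U2 3473)))) := by
  decide +kernel

theorem wd_19 : S1c = mmul (U2 52) (mmul (repU 19) (mmul (U2 5) (mmul (repU 19) (U2 3020)))) := by
  decide +kernel

theorem wd_20 : S1c = mmul (U2 2915) (mmul (repU 20) (mmul (U2 12) (mmul (repU 20) (U2 32)))) := by
  decide +kernel

theorem wd_21 : S1c = mmul (U2 1346) (mmul (repU 21) (mmul (U2 69) (mmul (repU 21) (U2 4232)))) := by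
  decide +kernel

theorem wd_22 : S1c = mmul (U2 1775) (mmul (repU 22) (mmul (U2 172) (mmul (repU 22) (U2 3544)))) := by
  decide +kernel

theorem wd_23 : S1c = mmul (U2 595) (mmul (repU 23) (mmul (U2 4058) (mmul (repU 23) (mmul (U2 6233) (mmul (repU 23) (U2 736)))))) := by
  decide +kernel

theorem wd_24 : S1c = mmul (U2 3013) (mmul (repU 24) (mmul (U2 62) (mmul (repU 24) (U2 6413)))) := by
  decide +kernel

theorem wd_25 : S1c = mmul (U2 1591) (mmul (repU 25) (mmul (U2 324) (mmul (repU 25) (U2 426)))) := by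
  decide +kernel

theorem wd_26 : S1c = mmul (U2 2526) (mmul (repU 26) (mmul (U2 2) (mmul (repU 26) (U2 5390)))) := by
  decide +kernel

theorem wd_s2 : S2c = mmul (U2 2923) (mmul S1c (mmul (U2 42) (mmul S1c (U2 1707)))) := by decide +kernel

theorem Ac_idx : AcK = U2 4047 := by decide +kernel

theorem Ac_cube : mmul AcK (mmul AcK AcK) = IDc := by decide +kernel

theorem Ac_conj1 : mmul T1c AcK = mmul (mmul AcK AcK) T1c := by decide +kernel

theorem Ac_conj2 : mmul T2c AcK = mmul (mmul AcK AcK) T2c := by decide +kernel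

theorem chkCore_all : allBelow 6480 chkCore = true := by decide +kernel

theorem repL_lt : ∀ m < 27, repL.getD m 0 < 23256 := by decide

end Cfsg.Agent.Helper8.J3M
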