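import Cfsg.Agent.Lib.Helper8.J3Chk

set_option autoImplicit false

namespace Cfsg.Agent.Helper8.J3M

open Cfsg.Agent.Helper8.F4P

theorem chkPar1_all : allRange 1 23255 chkPar1 = true := by decide +kernel

theorem lineKey_distinct : distinctBelow 23256 lineKey = true := by decide +kernel

end Cfsg.Agent.Helper8.J3M
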