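import Cfsg.Agent.Lib.Helper8.J3Chk

set_option autoImplicit false

namespace Cfsg.Agent.Helper8.J3M

open Cfsg.Agent.Helper8.F4P

theorem chk2_all : allBelow 6480 chk2 = true := by decide +kernel

theorem chkPar2_all : allRange 1 6479 chkPar2 = true := by decide +kernel

theorem regKey_distinct : distinctBelow 6480 regKey = true := by decide +kernel

theorem U1_zero : U1 0 = IDc := by decide +kernel

theorem U2_zero : U2 0 = IDc := by decide +kernel

end Cfsg.Agent.Helper8.J3M
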