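import Cfsg.Agent.Lib.Helper8.BSGS
import Cfsg.Agent.Lib.Helper8.J3ChkA
import Cfsg.Agent.Lib.Helper8.J3ChkB
import Cfsg.Agent.Lib.Helper8.J3ChkC
import Cfsg.Agent.Lib.Helper8.J3ChkD
import Cfsg.Agent.Lib.Helper8.J3ChkE
import Cfsg.Agent.Lib.Helper8.J3ChkF

set_option autoImplicit false
set_option linter.unusedSectionVars false
set_option linter.unusedVariables false

/-! The group generated by two coded matrices has order `23256 * 6480`. -/

open scoped MatrixGroups

namespace Cfsg.Agent.Helper8.J3M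

open Cfsg.Agent.Helper8.F4P

/-! ### More semantics -/

theorem id_bits : ∀ w z : I9, IDc.testBit (18 * ix z + ix w) = decide (w = z) ∧
    IDc.testBit (18 * ix z + (ix w + 9)) = false := by decide +kernel

section

variable {F : Type*} [Field F] [CharP F 2] (ω : F) (hω : ω ^ 2 = ω + 1)

theorem semM_one : semM ω IDc = (1 : Matrix I9 I9 F) := by
  ext w z
  rw [semM, Matrix.of_apply, dec_col_apply, (id_bits w z).1, (id_bits w z).2, Matrix.one_apply]
  by_cases h : w = z <;> simp [h, bF]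

include hω in
theorem semM_mulVec (A v : ℕ) (hv : v < 2 ^ 18) :
    (semM ω A).mulVec (dec ω v) = dec ω (col (mmul A v) 0) := by
  have h := semM_mmul ω hω A v
  funext w
  have h2 := congrFun (congrFun h w) (0, 0)
  rw [Matrix.mul_apply] at h2
  simp only [semM, Matrix.of_apply] at h2
  have e0 : ix (0, 0) = 0 := by decide
  have ev : col v 0 = v := by
    unfold col
    show (v >>> (18 * 0)) % 262144 = v
    rw [Nat.mul_zero, Nat.shiftRight_zero]
    exact Nat.mod_eq_of_lt (by norm_num at hv ⊢; exact hv)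
  rw [e0, ev] at h2
  rw [Matrix.mulVec, dotProduct]
  simp only [semM, Matrix.of_apply]
  exact h2.symm

/-- The group element `g` is coded by `c`. -/
def Rep (g : GL I9 F) (c : ℕ) : Prop := (g : Matrix I9 I9 F) = semM ω c

theorem rep_one : Rep ω (1 : GL I9 F) IDc := by
  rw [Rep, Units.val_one, semM_one]

include hω in
theorem Rep.mul {g g' : GL I9 F} {c c' : ℕ} (h : Rep ω g c) (h' : Rep ω g' c') :
    Rep ω (g * g') (mmul c c') := by
  rw [Rep, Units.val_mul, h, h', semM_mmul ω hω]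

theorem Rep.ext {g g' : GL I9 F} {c : ℕ} (h : Rep ω g c) (h' : Rep ω g' c) : g = g' :=
  Units.ext (h.trans h'.symm)

theorem Rep.congr {g : GL I9 F} {c c' : ℕ} (h : Rep ω g c) (e : c = c') : Rep ω g c' := e ▸ h

include hω in
theorem rep_mul_id {g : GL I9 F} {c : ℕ} (h : Rep ω g (mmul c IDc)) : Rep ω g c := by
  rw [Rep, semM_mmul ω hω, semM_one, mul_one] at h
  exact h

include hω in
/-- From `s * u = u' * v` on codes, the cofactor `u'⁻¹ * s * u` is coded by `v`. -/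
theorem rep_cofactor {s u u' : GL I9 F} {cs cu cu' cv : ℕ} (hs : Rep ω s cs) (hu : Rep ω u cu)
    (hu' : Rep ω u' cu') (e : mmul cs cu = mmul cu' cv) : Rep ω (u'⁻¹ * (s * u)) cv := by
  have h1 : (u' : Matrix I9 I9 F) * semM ω cv = (s : Matrix I9 I9 F) * (u : Matrix I9 I9 F) := by
    rw [hu', ← semM_mmul ω hω, ← e, semM_mmul ω hω, hs, hu]
  rw [Rep, Units.val_mul, Units.val_mul, ← h1, ← mul_assoc, ← Units.val_mul, inv_mul_cancel,
    Units.val_one, one_mul]

end


/-! ### Unpacking the checks -/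

theorem chk1_at (i : ℕ) (hi : i < 23256) : chk1 i = true := by
  rcases Nat.lt_or_ge i 2000 with h0 | h0
  · exact allRange_spec chk1_0 i (by omega) (by omega)
  rcases Nat.lt_or_ge i 4000 with h1 | h1
  · exact allRange_spec chk1_1 i (by omega) (by omega)
  rcases Nat.lt_or_ge i 6000 with h2 | h2
  · exact allRange_spec chk1_2 i (by omega) (by omega)
  rcases Nat.lt_or_ge i 8000 with h3 | h3
  · exact allRange_spec chk1_3 i (by omega) (by omega)
  rcases Nat.lt_or_ge i 10000 with h4 | h4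
  · exact allRange_spec chk1_4 i (by omega) (by omega)
  rcases Nat.lt_or_ge i 12000 with h5 | h5
  · exact allRange_spec chk1_5 i (by omega) (by omega)
  rcases Nat.lt_or_ge i 14000 with h6 | h6
  · exact allRange_spec chk1_6 i (by omega) (by omega)
  rcases Nat.lt_or_ge i 16000 with h7 | h7
  · exact allRange_spec chk1_7 i (by omega) (by omega)
  rcases Nat.lt_or_ge i 18000 with h8 | h8
  · exact allRange_spec chk1_8 i (by omega) (by omega)
  rcases Nat.lt_or_ge i 20000 with h9 | h9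
  · exact allRange_spec chk1_9 i (by omega) (by omega)
  rcases Nat.lt_or_ge i 22000 with h10 | h10
  · exact allRange_spec chk1_10 i (by omega) (by omega)
  exact allRange_spec chk1_11 i (by omega) (by omega)

theorem blt_true {a b : ℕ} (h : Nat.blt a b = true) : a < b := by
  rwa [Nat.blt_eq] at h

theorem beq_true {a b : ℕ} (h : Nat.beq a b = true) : a = b := Nat.eq_of_beq_eq_true h

theorem and_true' {a b : Bool} (h : (a && b) = true) : a = true ∧ b = true := by
  cases a <;> cases b <;> simp_all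

theorem chk1_unpack (i : ℕ) (hi : i < 23256) :
    nx1 i < 23256 ∧ vx1 i < 6480 ∧ nx2 i < 23256 ∧ vx2 i < 6480 ∧ 0 < col (U1 i) 0 ∧
      mmul S1c (U1 i) = mmul (U1 (nx1 i)) (U2 (vx1 i)) ∧
      mmul S2c (U1 i) = mmul (U1 (nx2 i)) (U2 (vx2 i)) := by
  have h := chk1_at i hi
  unfold chk1 at h
  simp only [force_eq] at h
  obtain ⟨ha, hb⟩ := and_true' h
  obtain ⟨ha1, ha2⟩ := and_true' ha
  obtain ⟨ha11, ha12⟩ := and_true' ha1
  obtain ⟨ha21, ha22⟩ := and_true' ha2
  obtain ⟨hb1, hb2⟩ := and_true' hb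
  obtain ⟨hb21, hb22⟩ := and_true' hb2
  exact ⟨blt_true ha11, blt_true ha12, blt_true ha21, blt_true ha22, blt_true hb1,
    beq_true hb21, beq_true hb22⟩

theorem chk2_unpack (j : ℕ) (hj : j < 6480) :
    mx1 j < 6480 ∧ mx2 j < 6480 ∧ mmul T1c (U2 j) = U2 (mx1 j) ∧ mmul T2c (U2 j) = U2 (mx2 j) := by
  have h := allBelow_spec chk2_all j hj
  unfold chk2 at h
  simp only [force_eq] at h
  obtain ⟨ha, hb⟩ := and_true' h
  obtain ⟨ha1, ha2⟩ := and_true' ha
  obtain ⟨hb1, hb2⟩ := and_true' hb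
  exact ⟨blt_true ha1, blt_true ha2, beq_true hb1, beq_true hb2⟩

/-- The parent data of the orbit tree. -/
theorem par1_unpack (i : ℕ) (h0 : 0 < i) (hi : i < 23256) :
    ∃ p < i, (nx1 p = i ∧ vx1 p = 0) ∨ (nx2 p = i ∧ vx2 p = 0) := by
  have h := allRange_spec chkPar1_all i (by omega) (by omega)
  unfold chkPar1 at h
  simp only [force_eq] at h
  obtain ⟨ha, hb⟩ := and_true' h
  refine ⟨_, blt_true ha, ?_⟩
  generalize Nat.mod (PAR1 i) 32768 = p at hb ⊢
  cases hc : Nat.beq (Nat.shiftRight (PAR1 i) 15) 0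
  · rw [hc] at hb
    right
    have := beq_true hb
    unfold nx2 vx2
    change C1 p >>> 28 = i at this
    show (C1 p >>> 28) % 32768 = i ∧ C1 p >>> 43 = 0
    rw [Nat.shiftRight_eq_div_pow] at this ⊢
    rw [Nat.shiftRight_eq_div_pow]
    generalize C1 p = x at this ⊢
    norm_num at this ⊢
    omega
  · rw [hc] at hb
    left
    have := beq_true hb
    unfold nx1 vx1
    change C1 p % 268435456 = i at this
    show C1 p % 32768 = i ∧ (C1 p >>> 15) % 8192 = 0
    rw [Nat.shiftRight_eq_div_pow]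
    generalize C1 p = x at this ⊢
    norm_num
    omega

theorem par2_unpack (j : ℕ) (h0 : 0 < j) (hj : j < 6480) :
    ∃ p < j, mx1 p = j ∨ mx2 p = j := by
  have h := allRange_spec chkPar2_all j (by omega) (by omega)
  unfold chkPar2 at h
  simp only [force_eq] at h
  obtain ⟨ha, hb⟩ := and_true' h
  refine ⟨_, blt_true ha, ?_⟩
  generalize Nat.mod (PAR2 j) 8192 = p at hb ⊢
  cases hc : Nat.beq (Nat.shiftRight (PAR2 j) 13) 0
  · rw [hc] at hb
    right
    exact beq_true hb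
  · rw [hc] at hb
    left
    exact beq_true hb


/-! ### The chain -/

theorem t1_src : mmul S1c (U1 20553) = mmul (U1 20972) T1c := by decide +kernel

theorem t2_src : mmul S1c (U1 10184) = mmul (U1 4880) T2c := by decide +kernel

section Chain

variable {F : Type*} [Field F] [CharP F 2] [Finite F] (ω : F) (hω : ω ^ 2 = ω + 1)
variable (g1 g2 : GL I9 F) (h1 : Rep ω g1 S1c) (h2 : Rep ω g2 S2c)

/-- The group generated by the two coded matrices. -/
def HH : Subgroup (GL I9 F) := Subgroup.closure {g1, g2}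

theorem g1_mem : g1 ∈ HH g1 g2 := Subgroup.subset_closure (by simp)

theorem g2_mem : g2 ∈ HH g1 g2 := Subgroup.subset_closure (by simp)

include hω h1 h2

theorem exists_rep_U1 : ∀ i, i < 23256 → ∃ u ∈ HH g1 g2, Rep ω u (U1 i) := by
  intro i
  induction i using Nat.strong_induction_on with
  | _ i ih =>
    intro hi
    rcases Nat.eq_zero_or_pos i with rfl | hpos
    · exact ⟨1, one_mem _, by rw [U1_zero]; exact rep_one ω⟩
    · obtain ⟨p, hp, hcase⟩ := par1_unpack i hpos hi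
      obtain ⟨u, hu, hru⟩ := ih p hp (by omega)
      obtain ⟨-, -, -, -, -, e1, e2⟩ := chk1_unpack p (by omega)
      rcases hcase with ⟨ha, hb⟩ | ⟨ha, hb⟩
      · rw [ha, hb, U2_zero] at e1
        exact ⟨g1 * u, (HH g1 g2).mul_mem (g1_mem g1 g2) hu,
          rep_mul_id ω hω ((Rep.mul ω hω h1 hru).congr ω e1)⟩
      · rw [ha, hb, U2_zero] at e2
        exact ⟨g2 * u, (HH g1 g2).mul_mem (g2_mem g1 g2) hu,
          rep_mul_id ω hω ((Rep.mul ω hω h2 hru).congr ω e2)⟩

theorem exists_t1 : ∃ t ∈ HH g1 g2, Rep ω t T1c := by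
  obtain ⟨u, hu, hru⟩ := exists_rep_U1 ω hω g1 g2 h1 h2 20553 (by norm_num)
  obtain ⟨u', hu', hru'⟩ := exists_rep_U1 ω hω g1 g2 h1 h2 20972 (by norm_num)
  exact ⟨u'⁻¹ * (g1 * u), (HH g1 g2).mul_mem ((HH g1 g2).inv_mem hu')
    ((HH g1 g2).mul_mem (g1_mem g1 g2) hu), rep_cofactor ω hω h1 hru hru' t1_src⟩

theorem exists_t2 : ∃ t ∈ HH g1 g2, Rep ω t T2c := by
  obtain ⟨u, hu, hru⟩ := exists_rep_U1 ω hω g1 g2 h1 h2 10184 (by norm_num)
  obtain ⟨u', hu', hru'⟩ := exists_rep_U1 ω hω g1 g2 h1 h2 4880 (by norm_num)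
  exact ⟨u'⁻¹ * (g1 * u), (HH g1 g2).mul_mem ((HH g1 g2).inv_mem hu')
    ((HH g1 g2).mul_mem (g1_mem g1 g2) hu), rep_cofactor ω hω h1 hru hru' t2_src⟩

end Chain

section Stab

variable {F : Type*} [Field F] [CharP F 2] [Finite F] (ω : F) (hω : ω ^ 2 = ω + 1)
variable (t1 t2 : GL I9 F) (ht1 : Rep ω t1 T1c) (ht2 : Rep ω t2 T2c)

/-- The stabiliser, as the group generated by two coded matrices. -/
def KK : Subgroup (GL I9 F) := Subgroup.closure {t1, t2}

include hω ht1 ht2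

theorem exists_rep_U2 : ∀ j, j < 6480 → ∃ k ∈ KK t1 t2, Rep ω k (U2 j) := by
  intro j
  induction j using Nat.strong_induction_on with
  | _ j ih =>
    intro hj
    rcases Nat.eq_zero_or_pos j with rfl | hpos
    · exact ⟨1, one_mem _, by rw [U2_zero]; exact rep_one ω⟩
    · obtain ⟨p, hp, hcase⟩ := par2_unpack j hpos hj
      obtain ⟨u, hu, hru⟩ := ih p hp (by omega)
      obtain ⟨-, -, e1, e2⟩ := chk2_unpack p (by omega)
      rcases hcase with ha | ha
      · rw [ha] at e1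
        exact ⟨t1 * u, (KK t1 t2).mul_mem (Subgroup.subset_closure (by simp)) hu,
          (Rep.mul ω hω ht1 hru).congr ω e1⟩
      · rw [ha] at e2
        exact ⟨t2 * u, (KK t1 t2).mul_mem (Subgroup.subset_closure (by simp)) hu,
          (Rep.mul ω hω ht2 hru).congr ω e2⟩

/-- The element of the stabiliser with a given index. -/
noncomputable def kOf (j : ℕ) : GL I9 F :=
  if h : j < 6480 then (exists_rep_U2 ω hω t1 t2 ht1 ht2 j h).choose else 1

theorem kOf_mem (j : ℕ) : kOf ω hω t1 t2 ht1 ht2 j ∈ KK t1 t2 := by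
  unfold kOf
  split_ifs with h
  · exact (exists_rep_U2 ω hω t1 t2 ht1 ht2 j h).choose_spec.1
  · exact one_mem _

theorem kOf_rep (j : ℕ) (h : j < 6480) : Rep ω (kOf ω hω t1 t2 ht1 ht2 j) (U2 j) := by
  unfold kOf
  rw [dif_pos h]
  exact (exists_rep_U2 ω hω t1 t2 ht1 ht2 j h).choose_spec.2

theorem kOf_injOn : ∀ j < 6480, ∀ j' < 6480,
    kOf ω hω t1 t2 ht1 ht2 j = kOf ω hω t1 t2 ht1 ht2 j' → j = j' := by
  intro j hj j' hj' he
  apply distinctBelow_spec regKey_distinct j hj j' hj'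
  have r1 := kOf_rep ω hω t1 t2 ht1 ht2 j hj
  have r2 := kOf_rep ω hω t1 t2 ht1 ht2 j' hj'
  rw [he] at r1
  have hsem : semM ω (U2 j) = semM ω (U2 j') := r1.symm.trans r2
  have hB : B2c < 2 ^ 18 := by decide +kernel
  have := semM_mulVec ω hω (U2 j) B2c hB
  rw [hsem, semM_mulVec ω hω (U2 j') B2c hB] at this
  exact (dec_inj ω hω (col_lt _ _) (col_lt _ _) this).symm


theorem kOf_zero : kOf ω hω t1 t2 ht1 ht2 0 = 1 := by
  have := kOf_rep ω hω t1 t2 ht1 ht2 0 (by norm_num)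
  rw [U2_zero] at this
  exact this.ext ω (rep_one ω)

theorem KK_level : Nat.card (KK t1 t2) = 6480 ∧
    ∀ h ∈ KK t1 t2, ∃ j < 6480, h = kOf ω hω t1 t2 ht1 ht2 j := by
  classical
  let U : Finset (GL I9 F) := (Finset.range 6480).image (kOf ω hω t1 t2 ht1 ht2)
  have hU : ∀ u ∈ U, ∃ j < 6480, u = kOf ω hω t1 t2 ht1 ht2 j := by
    intro u hu
    obtain ⟨j, hj, rfl⟩ := Finset.mem_image.mp hu
    exact ⟨j, Finset.mem_range.mp hj, rfl⟩
  have hmemU : ∀ j < 6480, kOf ω hω t1 t2 ht1 ht2 j ∈ U := fun j hj =>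
    Finset.mem_image.mpr ⟨j, Finset.mem_range.mpr hj, rfl⟩
  have hlev := BSGS.level (KK t1 t2) ⊥ ⊥ {t1, t2} rfl bot_le le_rfl U
    (by rw [← kOf_zero ω hω t1 t2 ht1 ht2]; exact hmemU 0 (by norm_num))
    (by
      intro u hu
      obtain ⟨j, -, rfl⟩ := hU u hu
      exact kOf_mem ω hω t1 t2 ht1 ht2 j)
    (by
      intro u _ u' _ h
      rw [Subgroup.mem_bot, inv_mul_eq_one] at h
      exact h)
    (by
      intro s hs u hu
      obtain ⟨j, hj, rfl⟩ := hU u hu
      obtain ⟨b1, b2, e1, e2⟩ := chk2_unpack j hj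
      have hr := kOf_rep ω hω t1 t2 ht1 ht2 j hj
      rcases hs with rfl | hs
      · refine ⟨_, hmemU _ b1, ?_⟩
        rw [Subgroup.mem_bot, inv_mul_eq_one]
        exact (kOf_rep ω hω _ t2 ht1 ht2 _ b1).ext ω ((Rep.mul ω hω ht1 hr).congr ω e1)
      · rw [Set.mem_singleton_iff] at hs
        subst hs
        refine ⟨_, hmemU _ b2, ?_⟩
        rw [Subgroup.mem_bot, inv_mul_eq_one]
        exact (kOf_rep ω hω t1 _ ht1 ht2 _ b2).ext ω ((Rep.mul ω hω ht2 hr).congr ω e2))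
  obtain ⟨hcard, -, hcov⟩ := hlev
  constructor
  · rw [hcard, Subgroup.card_bot, mul_one, Finset.card_image_of_injOn, Finset.card_range]
    intro j hj j' hj' he
    exact kOf_injOn ω hω t1 t2 ht1 ht2 j (Finset.mem_range.mp hj) j' (Finset.mem_range.mp hj') he
  · intro h hh
    obtain ⟨u, hu, hk⟩ := hcov h hh
    obtain ⟨j, hj, rfl⟩ := hU u hu
    rw [Subgroup.mem_bot, inv_mul_eq_one] at hk
    exact ⟨j, hj, hk.symm⟩

end Stab


/-! ### The stabiliser of the first coordinate line -/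

section LineStab

variable {F : Type*} [Field F]

/-- Matrices whose first column is a multiple of the first basis vector. -/
def lineStab : Subgroup (GL I9 F) where
  carrier := {g | ∀ w : I9, w ≠ 0 → (g : Matrix I9 I9 F) w 0 = 0}
  mul_mem' := by
    intro a b ha hb w hw
    rw [Units.val_mul, Matrix.mul_apply, Finset.sum_eq_single (0 : I9)]
    · rw [ha w hw, zero_mul]
    · intro y _ hy
      rw [hb y hy, mul_zero]
    · intro h; exact absurd (Finset.mem_univ _) h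
  one_mem' := by
    intro w hw
    rw [Units.val_one, Matrix.one_apply_ne hw]
  inv_mem' := by
    intro a ha w hw
    have hcol : ∀ v : I9, ((a⁻¹ : GL I9 F) : Matrix I9 I9 F) v 0 * (a : Matrix I9 I9 F) 0 0 =
        (1 : Matrix I9 I9 F) v 0 := by
      intro v
      have : ((a⁻¹ * a : GL I9 F) : Matrix I9 I9 F) v 0 = (1 : Matrix I9 I9 F) v 0 := by
        rw [inv_mul_cancel, Units.val_one]
      rw [Units.val_mul, Matrix.mul_apply, Finset.sum_eq_single (0 : I9)] at this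
      · exact this
      · intro y _ hy
        rw [ha y hy, mul_zero]
      · intro h; exact absurd (Finset.mem_univ _) h
    have h00 : (a : Matrix I9 I9 F) 0 0 ≠ 0 := by
      intro h0
      have := hcol 0
      rw [h0, mul_zero, Matrix.one_apply_eq] at this
      exact zero_ne_one this
    have := hcol w
    rw [Matrix.one_apply_ne hw] at this
    exact (mul_eq_zero.mp this).resolve_right h00

theorem mem_lineStab {g : GL I9 F} :
    g ∈ lineStab (F := F) ↔ ∀ w : I9, w ≠ 0 → (g : Matrix I9 I9 F) w 0 = 0 := Iff.rfl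

/-- If `u⁻¹ u'` fixes the line, the first columns are proportional. -/
theorem col_of_mem_lineStab {u u' : GL I9 F} (h : u⁻¹ * u' ∈ lineStab (F := F)) (w : I9) :
    (u' : Matrix I9 I9 F) w 0 = ((u⁻¹ * u' : GL I9 F) : Matrix I9 I9 F) 0 0 *
      (u : Matrix I9 I9 F) w 0 := by
  have e : u' = u * (u⁻¹ * u') := by group
  conv_lhs => rw [e]
  rw [Units.val_mul, Matrix.mul_apply, Finset.sum_eq_single (0 : I9)]
  · rw [mul_comm]
  · intro y _ hy
    rw [h y hy, mul_zero]
  · intro h'; exact absurd (Finset.mem_univ _) h'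

end LineStab

theorem bits513 : ∀ w : I9, w ≠ 0 → (513 : ℕ).testBit (ix w) = false ∧
    (513 : ℕ).testBit (ix w + 9) = false := by decide

theorem col_T1 : col T1c 0 = 513 := by decide +kernel

theorem col_T2 : col T2c 0 = 513 := by decide +kernel

section Top

variable {F : Type*} [Field F] [CharP F 2] [Finite F] (ω : F) (hω : ω ^ 2 = ω + 1)

theorem semM_col0 (c : ℕ) (w : I9) : semM ω c w 0 = dec ω (col c 0) w := by
  rw [semM, Matrix.of_apply]
  rfl

theorem rep_lineStab {t : GL I9 F} {c : ℕ} (ht : Rep ω t c) (hc : col c 0 = 513) :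
    t ∈ lineStab (F := F) := by
  intro w hw
  rw [ht, semM_col0, hc]
  simp only [dec]
  rw [(bits513 w hw).1, (bits513 w hw).2]
  simp [bF]

variable (g1 g2 : GL I9 F) (h1 : Rep ω g1 S1c) (h2 : Rep ω g2 S2c)

/-- The first generator of the stabiliser. -/
noncomputable def tt1 : GL I9 F := (exists_t1 ω hω g1 g2 h1 h2).choose

/-- The second generator of the stabiliser. -/
noncomputable def tt2 : GL I9 F := (exists_t2 ω hω g1 g2 h1 h2).choose

theorem tt1_mem : tt1 ω hω g1 g2 h1 h2 ∈ HH g1 g2 := (exists_t1 ω hω g1 g2 h1 h2).choose_spec.1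

theorem tt2_mem : tt2 ω hω g1 g2 h1 h2 ∈ HH g1 g2 := (exists_t2 ω hω g1 g2 h1 h2).choose_spec.1

theorem tt1_rep : Rep ω (tt1 ω hω g1 g2 h1 h2) T1c := (exists_t1 ω hω g1 g2 h1 h2).choose_spec.2

theorem tt2_rep : Rep ω (tt2 ω hω g1 g2 h1 h2) T2c := (exists_t2 ω hω g1 g2 h1 h2).choose_spec.2

/-- The stabiliser of the first coordinate line. -/
noncomputable def K0 : Subgroup (GL I9 F) :=
  KK (tt1 ω hω g1 g2 h1 h2) (tt2 ω hω g1 g2 h1 h2)

/-- The elements of the stabiliser. -/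
noncomputable def kk (j : ℕ) : GL I9 F :=
  kOf ω hω _ _ (tt1_rep ω hω g1 g2 h1 h2) (tt2_rep ω hω g1 g2 h1 h2) j

theorem K0_le : K0 ω hω g1 g2 h1 h2 ≤ HH g1 g2 := by
  rw [K0, KK, Subgroup.closure_le]
  rintro x (rfl | hx)
  · exact tt1_mem ω hω g1 g2 h1 h2
  · rw [Set.mem_singleton_iff] at hx; subst hx
    exact tt2_mem ω hω g1 g2 h1 h2

theorem K0_le_lineStab : K0 ω hω g1 g2 h1 h2 ≤ lineStab := by
  rw [K0, KK, Subgroup.closure_le]
  rintro x (rfl | hx)
  · exact rep_lineStab ω (tt1_rep ω hω g1 g2 h1 h2) col_T1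
  · rw [Set.mem_singleton_iff] at hx; subst hx
    exact rep_lineStab ω (tt2_rep ω hω g1 g2 h1 h2) col_T2

theorem kk_mem (j : ℕ) : kk ω hω g1 g2 h1 h2 j ∈ K0 ω hω g1 g2 h1 h2 := kOf_mem _ _ _ _ _ _ j

theorem kk_rep (j : ℕ) (hj : j < 6480) : Rep ω (kk ω hω g1 g2 h1 h2 j) (U2 j) :=
  kOf_rep _ _ _ _ _ _ j hj

theorem K0_card : Nat.card (K0 ω hω g1 g2 h1 h2) = 6480 :=
  (KK_level ω hω _ _ (tt1_rep ω hω g1 g2 h1 h2) (tt2_rep ω hω g1 g2 h1 h2)).1

theorem K0_elems : ∀ h ∈ K0 ω hω g1 g2 h1 h2, ∃ j < 6480, h = kk ω hω g1 g2 h1 h2 j :=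
  (KK_level ω hω _ _ (tt1_rep ω hω g1 g2 h1 h2) (tt2_rep ω hω g1 g2 h1 h2)).2

/-- The transversal. -/
noncomputable def uu (i : ℕ) : GL I9 F :=
  if h : i < 23256 then (exists_rep_U1 ω hω g1 g2 h1 h2 i h).choose else 1

theorem uu_mem (i : ℕ) : uu ω hω g1 g2 h1 h2 i ∈ HH g1 g2 := by
  unfold uu
  split_ifs with h
  · exact (exists_rep_U1 ω hω g1 g2 h1 h2 i h).choose_spec.1
  · exact one_mem _

theorem uu_rep (i : ℕ) (h : i < 23256) : Rep ω (uu ω hω g1 g2 h1 h2 i) (U1 i) := by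
  unfold uu
  rw [dif_pos h]
  exact (exists_rep_U1 ω hω g1 g2 h1 h2 i h).choose_spec.2

theorem uu_zero : uu ω hω g1 g2 h1 h2 0 = 1 := by
  have := uu_rep ω hω g1 g2 h1 h2 0 (by norm_num)
  rw [U1_zero] at this
  exact this.ext ω (rep_one ω)

theorem uu_inj : ∀ i < 23256, ∀ i' < 23256,
    (uu ω hω g1 g2 h1 h2 i)⁻¹ * uu ω hω g1 g2 h1 h2 i' ∈ lineStab (F := F) → i = i' := by
  intro i hi i' hi' h
  apply distinctBelow_spec lineKey_distinct i hi i' hi'
  have r := uu_rep ω hω g1 g2 h1 h2 i hi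
  have r' := uu_rep ω hω g1 g2 h1 h2 i' hi'
  have hcol := col_of_mem_lineStab h
  have hdec : dec ω (col (U1 i') 0) = (((uu ω hω g1 g2 h1 h2 i)⁻¹ * uu ω hω g1 g2 h1 h2 i' :
      GL I9 F) : Matrix I9 I9 F) 0 0 • dec ω (col (U1 i) 0) := by
    funext w
    have := hcol w
    rw [r, r', semM_col0, semM_col0] at this
    rw [Pi.smul_apply, smul_eq_mul]
    exact this
  have hne : col (U1 i') 0 ≠ 0 := by
    have := (chk1_unpack i' hi').2.2.2.2.1
    omega
  exact (key_of_smul ω hω (col_lt _ _) (col_lt _ _) hne _ hdec).symm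

theorem HH_level : Nat.card (HH g1 g2) = 150698880 ∧
    HH g1 g2 ⊓ lineStab = K0 ω hω g1 g2 h1 h2 ∧
    ∀ h ∈ HH g1 g2, ∃ i < 23256, ∃ j < 6480,
      h = uu ω hω g1 g2 h1 h2 i * kk ω hω g1 g2 h1 h2 j := by
  classical
  let U : Finset (GL I9 F) := (Finset.range 23256).image (uu ω hω g1 g2 h1 h2)
  have hU : ∀ u ∈ U, ∃ i < 23256, u = uu ω hω g1 g2 h1 h2 i := by
    intro u hu
    obtain ⟨j, hj, rfl⟩ := Finset.mem_image.mp hu
    exact ⟨j, Finset.mem_range.mp hj, rfl⟩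
  have hmemU : ∀ i < 23256, uu ω hω g1 g2 h1 h2 i ∈ U := fun j hj =>
    Finset.mem_image.mpr ⟨j, Finset.mem_range.mpr hj, rfl⟩
  have hlev := BSGS.level (HH g1 g2) (K0 ω hω g1 g2 h1 h2) lineStab {g1, g2} rfl
    (K0_le ω hω g1 g2 h1 h2) (K0_le_lineStab ω hω g1 g2 h1 h2) U
    (by rw [← uu_zero ω hω g1 g2 h1 h2]; exact hmemU 0 (by norm_num))
    (by
      intro u hu
      obtain ⟨j, -, rfl⟩ := hU u hu
      exact uu_mem ω hω g1 g2 h1 h2 j)
    (by
      intro u hu u' hu' h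
      obtain ⟨i, hi, rfl⟩ := hU u hu
      obtain ⟨i', hi', rfl⟩ := hU u' hu'
      rw [uu_inj ω hω g1 g2 h1 h2 i hi i' hi' h])
    (by
      intro s hs u hu
      obtain ⟨i, hi, rfl⟩ := hU u hu
      obtain ⟨a1, b1, a2, b2, -, e1, e2⟩ := chk1_unpack i hi
      have hr := uu_rep ω hω g1 g2 h1 h2 i hi
      rcases hs with rfl | hs
      · refine ⟨_, hmemU _ a1, ?_⟩
        have := rep_cofactor ω hω h1 hr (uu_rep ω hω _ g2 h1 h2 _ a1) e1
        rw [this.ext ω (kk_rep ω hω _ g2 h1 h2 _ b1)]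
        exact kk_mem ω hω _ g2 h1 h2 _
      · rw [Set.mem_singleton_iff] at hs
        subst hs
        refine ⟨_, hmemU _ a2, ?_⟩
        have := rep_cofactor ω hω h2 hr (uu_rep ω hω g1 _ h1 h2 _ a2) e2
        rw [this.ext ω (kk_rep ω hω g1 _ h1 h2 _ b2)]
        exact kk_mem ω hω g1 _ h1 h2 _)
  obtain ⟨hcard, hmeet, hcov⟩ := hlev
  refine ⟨?_, hmeet, ?_⟩
  · rw [hcard, K0_card, Finset.card_image_of_injOn, Finset.card_range]
    intro i hi i' hi' he
    apply uu_inj ω hω g1 g2 h1 h2 i (Finset.mem_range.mp hi) i' (Finset.mem_range.mp hi')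
    rw [he, inv_mul_cancel]
    exact one_mem _
  · intro h hh
    obtain ⟨u, hu, hk⟩ := hcov h hh
    obtain ⟨i, hi, rfl⟩ := hU u hu
    obtain ⟨j, hj, hkj⟩ := K0_elems ω hω g1 g2 h1 h2 _ hk
    refine ⟨i, hi, j, hj, ?_⟩
    rw [← hkj]; group

end Top

end Cfsg.Agent.Helper8.J3M
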