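import Cfsg.Prelude.Def_Spor_J3
import Cfsg.Agent.Lib.Helper8.J3Sem
import Cfsg.Agent.Lib.Helper8.J3GenData

set_option autoImplicit false
set_option linter.unusedSectionVars false
set_option linter.unusedVariables false

/-! The defining generators of `3·J₃` in coded form, and the identification of the group they
generate with the two-generator group of `J3Sem`. -/

open scoped MatrixGroups

namespace Cfsg.Agent.Helper8.J3M

open Cfsg.Agent.Helper8.F4P Cfsg.Spor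

/-- The digit (`0, 1, 2 = ω, 3 = ω²`) of an entry of a coded matrix. -/
def dg (c : ℕ) (w z : I9) : ℕ :=
  (if c.testBit (18 * ix z + ix w) then 1 else 0) +
    (if c.testBit (18 * ix z + (ix w + 9)) then 2 else 0)

/-- The field element of a digit. -/
def dF {F : Type*} [Field F] (ω : F) (n : ℕ) : F :=
  match n with
  | 0 => 0
  | 1 => 1
  | 2 => ω
  | _ => 1 + ω

/-- Digits of powers of `ω`. -/
def pw (n : ZMod 3) : ℕ := if n = 0 then 1 else if n = 1 then 2 else 3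

def dgA (Z w z : I9) : ℕ := if w = z then pw (Z.1 * w.1 + Z.2 * w.2) else 0

def dgE (Z w z : I9) : ℕ := if w = z then pw ((Z.1 - w.1) ^ 2 + (Z.2 - w.2) ^ 2) else 0

def lamD (Z z : I9) : ℕ :=
  if z = 0 then 1
  else if F9.div Z z = F9.I - F9.one then 2
  else if F9.div Z z = -F9.I - F9.one then 3
  else 1

def dgD (Z w z : I9) : ℕ := if w = z + Z then lamD Z z else 0

def dgB (Z w z : I9) : ℕ := if w = F9.mul Z z then 1 else 0

def dgC (Z w z : I9) : ℕ :=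
  if z = 0 then (if w = 0 then 1 else 0)
  else if w = -F9.div Z z ∨ w = F9.mul F9.I (F9.div Z z) ∨ w = -F9.mul F9.I (F9.div Z z) then 1
  else 0

theorem dgA_code : ∀ Z w z : I9, dgA Z w z = dg (codeA Z) w z := by decide +kernel

theorem dgE_code : ∀ Z w z : I9, dgE Z w z = dg (codeE Z) w z := by decide +kernel

theorem dgD_code : ∀ Z w z : I9, dgD Z w z = dg (codeD Z) w z := by decide +kernel

theorem dgB_code : ∀ Z : I9, Z ≠ 0 → ∀ w z : I9, dgB Z w z = dg (codeB Z) w z := by decide +kernel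

theorem dgC_code : ∀ Z : I9, Z ≠ 0 → ∀ w z : I9, dgC Z w z = dg (codeC Z) w z := by decide +kernel


theorem inv_codes : (∀ Z : I9, mmul (codeA Z) (invA Z) = IDc ∧ mmul (invA Z) (codeA Z) = IDc) ∧
    (∀ Z : I9, mmul (codeE Z) (invE Z) = IDc ∧ mmul (invE Z) (codeE Z) = IDc) ∧
    (∀ Z : I9, mmul (codeD Z) (invD Z) = IDc ∧ mmul (invD Z) (codeD Z) = IDc) ∧
    (∀ Z : I9, Z ≠ 0 → mmul (codeB Z) (invB Z) = IDc ∧ mmul (invB Z) (codeB Z) = IDc) ∧
    (∀ Z : I9, Z ≠ 0 → mmul (codeC Z) (invC Z) = IDc ∧ mmul (invC Z) (codeC Z) = IDc) := by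
  decide +kernel

theorem sift_codes :
    (∀ Z : I9, siA Z < 23256 ∧ svA Z < 6480 ∧ codeA Z = mmul (U1 (siA Z)) (U2 (svA Z))) ∧
    (∀ Z : I9, siE Z < 23256 ∧ svE Z < 6480 ∧ codeE Z = mmul (U1 (siE Z)) (U2 (svE Z))) ∧
    (∀ Z : I9, siD Z < 23256 ∧ svD Z < 6480 ∧ codeD Z = mmul (U1 (siD Z)) (U2 (svD Z))) ∧
    (∀ Z : I9, Z ≠ 0 →
      siB Z < 23256 ∧ svB Z < 6480 ∧ codeB Z = mmul (U1 (siB Z)) (U2 (svB Z))) ∧
    (∀ Z : I9, Z ≠ 0 →
      siC Z < 23256 ∧ svC Z < 6480 ∧ codeC Z = mmul (U1 (siC Z)) (U2 (svC Z))) := by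
  decide +kernel

/-- The code of the conjugating element of the first generator. -/
def Xc : ℕ := mmul (codeA (0, 2)) (mmul (codeD (0, 1)) (mmul (codeC (1, 1))
  (mmul (codeD (2, 0)) (mmul (codeC (0, 1)) (codeD (0, 1))))))

/-- The code of the conjugating element of the second generator. -/
def Yc : ℕ := mmul (codeC (1, 2)) (mmul (codeE (0, 1)) (mmul (codeC (1, 1))
  (mmul (codeD (0, 1)) (mmul (codeC (0, 1)) (codeD (0, 1))))))

/-- The code of the element of order three. -/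
def Ac : ℕ := mmul (codeE (0, 0)) (codeE (0, 0))

theorem conj_codes : mmul S1c Xc = mmul Xc Ac ∧ mmul S2c Yc = mmul Yc Ac := by decide +kernel

section

variable {F : Type*} [Field F] [CharP F 2] [Finite F] (ω : F) (hω : ω ^ 2 = ω + 1)

theorem semM_dg (c : ℕ) (w z : I9) : semM ω c w z = dF ω (dg c w z) := by
  rw [semM, Matrix.of_apply, dec_col_apply]
  unfold dg
  cases c.testBit (18 * ix z + ix w) <;> cases c.testBit (18 * ix z + (ix w + 9)) <;>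
    simp [bF, dF]

include hω in
theorem omegaPow_eq (n : ZMod 3) : omegaPow F ω n = dF ω (pw n) := by
  unfold omegaPow
  fin_cases n
  · show ω ^ (0 : ZMod 3).val = dF ω (pw 0)
    have : (0 : ZMod 3).val = 0 := rfl
    have h2 : pw 0 = 1 := by decide
    rw [this, h2]
    simp [dF]
  · show ω ^ (1 : ZMod 3).val = dF ω (pw 1)
    have : (1 : ZMod 3).val = 1 := rfl
    have h2 : pw 1 = 2 := by decide
    rw [this, h2]
    simp [dF]
  · show ω ^ (2 : ZMod 3).val = dF ω (pw 2)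
    have : (2 : ZMod 3).val = 2 := rfl
    rw [this, hω]
    have h2 : pw 2 = 3 := by decide
    rw [h2]
    simp [dF, add_comm]

include hω in
theorem j3A_eq (Z : I9) : j3A F ω Z = semM ω (codeA Z) := by
  ext w z
  rw [semM_dg, ← dgA_code]
  unfold j3A dgA
  rw [Matrix.diagonal_apply]
  split_ifs
  · exact omegaPow_eq ω hω _
  · rfl

include hω in
theorem j3E_eq (Z : I9) : j3E F ω Z = semM ω (codeE Z) := by
  ext w z
  rw [semM_dg, ← dgE_code]
  unfold j3E dgE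
  rw [Matrix.diagonal_apply]
  split_ifs
  · exact omegaPow_eq ω hω _
  · rfl

include hω in
theorem j3Lam_eq (Z z : I9) : j3Lam F ω Z z = dF ω (lamD Z z) := by
  unfold j3Lam lamD
  split_ifs
  · rfl
  · rfl
  · rw [hω]; simp [dF, add_comm]
  · rfl

include hω in
theorem j3D_eq (Z : I9) : j3D F ω Z = semM ω (codeD Z) := by
  ext w z
  rw [semM_dg, ← dgD_code]
  unfold j3D dgD
  rw [Matrix.of_apply]
  split_ifs
  · exact j3Lam_eq ω hω _ _
  · rfl

theorem j3B_eq (Z : I9) (hZ : Z ≠ 0) : j3B F Z = semM ω (codeB Z) := by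
  ext w z
  rw [semM_dg, ← dgB_code Z hZ]
  unfold j3B dgB
  rw [Matrix.of_apply]
  split_ifs <;> rfl

theorem j3C_eq (Z : I9) (hZ : Z ≠ 0) : j3C F Z = semM ω (codeC Z) := by
  ext w z
  rw [semM_dg, ← dgC_code Z hZ]
  unfold j3C dgC
  rw [Matrix.of_apply]
  split_ifs <;> rfl

end


/-! ### The group -/

section Group

variable {F : Type*} [Field F] [CharP F 2] [Finite F] (ω : F) (hω : ω ^ 2 = ω + 1)

/-- The unit coded by `c`, with inverse coded by `c'`. -/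
def mkUnit (c c' : ℕ) (h : mmul c c' = IDc) (h' : mmul c' c = IDc) : GL I9 F :=
  ⟨semM ω c, semM ω c', by rw [← semM_mmul ω hω, h, semM_one],
    by rw [← semM_mmul ω hω, h', semM_one]⟩

theorem mkUnit_rep (c c' : ℕ) (h : mmul c c' = IDc) (h' : mmul c' c = IDc) :
    Rep ω (mkUnit ω hω c c' h h') c := rfl

noncomputable def gA (Z : I9) : GL I9 F :=
  mkUnit ω hω (codeA Z) (invA Z) (inv_codes.1 Z).1 (inv_codes.1 Z).2

noncomputable def gE (Z : I9) : GL I9 F :=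
  mkUnit ω hω (codeE Z) (invE Z) (inv_codes.2.1 Z).1 (inv_codes.2.1 Z).2

noncomputable def gD (Z : I9) : GL I9 F :=
  mkUnit ω hω (codeD Z) (invD Z) (inv_codes.2.2.1 Z).1 (inv_codes.2.2.1 Z).2

noncomputable def gB (Z : I9) (hZ : Z ≠ 0) : GL I9 F :=
  mkUnit ω hω (codeB Z) (invB Z) (inv_codes.2.2.2.1 Z hZ).1 (inv_codes.2.2.2.1 Z hZ).2

noncomputable def gC (Z : I9) (hZ : Z ≠ 0) : GL I9 F :=
  mkUnit ω hω (codeC Z) (invC Z) (inv_codes.2.2.2.2 Z hZ).1 (inv_codes.2.2.2.2 Z hZ).2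

theorem gA_mem (Z : I9) : gA ω hω Z ∈ threeJ3 F ω :=
  Subgroup.subset_closure (Or.inl (Or.inl (Or.inl (Or.inl ⟨Z, j3A_eq ω hω Z⟩))))

theorem gE_mem (Z : I9) : gE ω hω Z ∈ threeJ3 F ω :=
  Subgroup.subset_closure (Or.inl (Or.inl (Or.inl (Or.inr ⟨Z, j3E_eq ω hω Z⟩))))

theorem gD_mem (Z : I9) : gD ω hω Z ∈ threeJ3 F ω :=
  Subgroup.subset_closure (Or.inl (Or.inl (Or.inr ⟨Z, j3D_eq ω hω Z⟩)))

theorem gC_mem (Z : I9) (hZ : Z ≠ 0) : gC ω hω Z hZ ∈ threeJ3 F ω :=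
  Subgroup.subset_closure (Or.inr ⟨Z, hZ, (j3C_eq ω Z hZ).symm⟩)

theorem ne1 : ((1, 1) : I9) ≠ 0 := by decide
theorem ne2 : ((0, 1) : I9) ≠ 0 := by decide
theorem ne3 : ((1, 2) : I9) ≠ 0 := by decide

/-- The conjugating element of the first generator. -/
noncomputable def gX : GL I9 F :=
  gA ω hω (0, 2) * (gD ω hω (0, 1) * (gC ω hω (1, 1) ne1 * (gD ω hω (2, 0) *
    (gC ω hω (0, 1) ne2 * gD ω hω (0, 1)))))

/-- The conjugating element of the second generator. -/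
noncomputable def gY : GL I9 F :=
  gC ω hω (1, 2) ne3 * (gE ω hω (0, 1) * (gC ω hω (1, 1) ne1 * (gD ω hω (0, 1) *
    (gC ω hω (0, 1) ne2 * gD ω hω (0, 1)))))

/-- The element of order three. -/
noncomputable def gAA : GL I9 F := gE ω hω (0, 0) * gE ω hω (0, 0)

theorem gX_rep : Rep ω (gX ω hω) Xc :=
  Rep.mul ω hω (mkUnit_rep ω hω _ _ _ _) (Rep.mul ω hω (mkUnit_rep ω hω _ _ _ _)
    (Rep.mul ω hω (mkUnit_rep ω hω _ _ _ _) (Rep.mul ω hω (mkUnit_rep ω hω _ _ _ _)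
      (Rep.mul ω hω (mkUnit_rep ω hω _ _ _ _) (mkUnit_rep ω hω _ _ _ _)))))

theorem gY_rep : Rep ω (gY ω hω) Yc :=
  Rep.mul ω hω (mkUnit_rep ω hω _ _ _ _) (Rep.mul ω hω (mkUnit_rep ω hω _ _ _ _)
    (Rep.mul ω hω (mkUnit_rep ω hω _ _ _ _) (Rep.mul ω hω (mkUnit_rep ω hω _ _ _ _)
      (Rep.mul ω hω (mkUnit_rep ω hω _ _ _ _) (mkUnit_rep ω hω _ _ _ _)))))

theorem gAA_rep : Rep ω (gAA ω hω) Ac :=
  Rep.mul ω hω (mkUnit_rep ω hω _ _ _ _) (mkUnit_rep ω hω _ _ _ _)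

theorem gX_mem : gX ω hω ∈ threeJ3 F ω := by
  unfold gX
  exact mul_mem (gA_mem ω hω _) (mul_mem (gD_mem ω hω _) (mul_mem (gC_mem ω hω _ _)
    (mul_mem (gD_mem ω hω _) (mul_mem (gC_mem ω hω _ _) (gD_mem ω hω _)))))

theorem gY_mem : gY ω hω ∈ threeJ3 F ω := by
  unfold gY
  exact mul_mem (gC_mem ω hω _ _) (mul_mem (gE_mem ω hω _) (mul_mem (gC_mem ω hω _ _)
    (mul_mem (gD_mem ω hω _) (mul_mem (gC_mem ω hω _ _) (gD_mem ω hω _)))))

theorem gAA_mem : gAA ω hω ∈ threeJ3 F ω := mul_mem (gE_mem ω hω _) (gE_mem ω hω _)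

/-- The first generator: a conjugate of the element of order three. -/
noncomputable def gg1 : GL I9 F := gX ω hω * gAA ω hω * (gX ω hω)⁻¹

/-- The second generator. -/
noncomputable def gg2 : GL I9 F := gY ω hω * gAA ω hω * (gY ω hω)⁻¹

include hω in
theorem rep_conj {x a : GL I9 F} {cx ca cs : ℕ} (hx : Rep ω x cx) (ha : Rep ω a ca)
    (e : mmul cs cx = mmul cx ca) : Rep ω (x * a * x⁻¹) cs := by
  have h1 : semM ω cs * (x : Matrix I9 I9 F) = (x : Matrix I9 I9 F) * (a : Matrix I9 I9 F) := by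
    rw [hx, ha, ← semM_mmul ω hω, ← semM_mmul ω hω, e]
  rw [Rep, Units.val_mul, Units.val_mul, ← h1, mul_assoc, ← Units.val_mul, mul_inv_cancel,
    Units.val_one, mul_one]

theorem gg1_rep : Rep ω (gg1 ω hω) S1c :=
  rep_conj ω hω (gX_rep ω hω) (gAA_rep ω hω) conj_codes.1

theorem gg2_rep : Rep ω (gg2 ω hω) S2c :=
  rep_conj ω hω (gY_rep ω hω) (gAA_rep ω hω) conj_codes.2

theorem gg1_mem : gg1 ω hω ∈ threeJ3 F ω :=
  mul_mem (mul_mem (gX_mem ω hω) (gAA_mem ω hω)) (inv_mem (gX_mem ω hω))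

theorem gg2_mem : gg2 ω hω ∈ threeJ3 F ω :=
  mul_mem (mul_mem (gY_mem ω hω) (gAA_mem ω hω)) (inv_mem (gY_mem ω hω))

/-- The two-generator group. -/
noncomputable def G0 : Subgroup (GL I9 F) := HH (gg1 ω hω) (gg2 ω hω)

theorem mem_G0_of_code {g : GL I9 F} {c i v : ℕ} (hg : Rep ω g c) (hi : i < 23256)
    (hv : v < 6480) (e : c = mmul (U1 i) (U2 v)) : g ∈ G0 ω hω := by
  have r := Rep.mul ω hω (uu_rep ω hω _ _ (gg1_rep ω hω) (gg2_rep ω hω) i hi)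
    (kk_rep ω hω _ _ (gg1_rep ω hω) (gg2_rep ω hω) v hv)
  rw [← e] at r
  rw [hg.ext ω r]
  exact mul_mem (uu_mem ω hω _ _ _ _ i) (K0_le ω hω _ _ _ _ (kk_mem ω hω _ _ _ _ v))

theorem threeJ3_eq : threeJ3 F ω = G0 ω hω := by
  apply le_antisymm
  · rw [threeJ3, Subgroup.closure_le]
    intro g hg
    rcases hg with (((⟨Z, hZ⟩ | ⟨Z, hZ⟩) | ⟨Z, hZ⟩) | ⟨Z, hZ0, hZ⟩) | ⟨Z, hZ0, hZ⟩
    · obtain ⟨h1, h2, h3⟩ := sift_codes.1 Z
      exact mem_G0_of_code ω hω (by rw [Rep, ← hZ, j3A_eq ω hω]) h1 h2 h3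
    · obtain ⟨h1, h2, h3⟩ := sift_codes.2.1 Z
      exact mem_G0_of_code ω hω (by rw [Rep, ← hZ, j3E_eq ω hω]) h1 h2 h3
    · obtain ⟨h1, h2, h3⟩ := sift_codes.2.2.1 Z
      exact mem_G0_of_code ω hω (by rw [Rep, ← hZ, j3D_eq ω hω]) h1 h2 h3
    · obtain ⟨h1, h2, h3⟩ := sift_codes.2.2.2.1 Z hZ0
      exact mem_G0_of_code ω hω (by rw [Rep, hZ, j3B_eq ω Z hZ0]) h1 h2 h3
    · obtain ⟨h1, h2, h3⟩ := sift_codes.2.2.2.2 Z hZ0
      exact mem_G0_of_code ω hω (by rw [Rep, hZ, j3C_eq ω Z hZ0]) h1 h2 h3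
  · rw [G0, HH, Subgroup.closure_le]
    rintro x (rfl | hx)
    · exact gg1_mem ω hω
    · rw [Set.mem_singleton_iff] at hx; subst hx
      exact gg2_mem ω hω

include hω in
theorem card_threeJ3 : Nat.card (threeJ3 F ω) = 150698880 := by
  rw [threeJ3_eq ω hω]
  exact (HH_level ω hω _ _ (gg1_rep ω hω) (gg2_rep ω hω)).1

end Group

end Cfsg.Agent.Helper8.J3M
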