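import Cfsg.Agent.Lib.Helper8.SubLift
import Cfsg.Agent.Lib.Helper8.J3Gen
import Cfsg.Agent.Lib.Helper8.J3Chk2A
import Cfsg.Agent.Lib.Helper8.J3Chk2B
import Cfsg.Agent.Lib.Helper8.J3Chk2C
import Cfsg.Agent.Lib.Helper8.J3Chk2D
import Cfsg.Agent.Lib.Helper8.J3Chk2E

set_option autoImplicit false
set_option linter.unusedSectionVars false
set_option linter.unusedVariables false

/-! Maximality of the line stabiliser in `3·J₃`, Iwasawa's criterion, the centre. -/

open scoped MatrixGroups commutatorElement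

namespace Cfsg.Agent.Helper8.J3M

open Cfsg.Agent.Helper8.F4P Cfsg.Spor

theorem AcK_eq : AcK = Ac := rfl

section

variable {F : Type*} [Field F] [CharP F 2] [Finite F] (ω : F) (hω : ω ^ 2 = ω + 1)

/-- The stabiliser of the first coordinate line in `3·J₃`. -/
noncomputable def Kst : Subgroup (GL I9 F) :=
  K0 ω hω (gg1 ω hω) (gg2 ω hω) (gg1_rep ω hω) (gg2_rep ω hω)

/-- The transversal elements. -/
noncomputable def uel (i : ℕ) : GL I9 F :=
  uu ω hω (gg1 ω hω) (gg2 ω hω) (gg1_rep ω hω) (gg2_rep ω hω) i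

/-- The elements of the stabiliser. -/
noncomputable def kel (j : ℕ) : GL I9 F :=
  kk ω hω (gg1 ω hω) (gg2 ω hω) (gg1_rep ω hω) (gg2_rep ω hω) j

theorem uel_rep (i : ℕ) (h : i < 23256) : Rep ω (uel ω hω i) (U1 i) := uu_rep _ _ _ _ _ _ i h

theorem kel_rep (j : ℕ) (h : j < 6480) : Rep ω (kel ω hω j) (U2 j) := kk_rep _ _ _ _ _ _ j h

theorem kel_mem (j : ℕ) : kel ω hω j ∈ Kst ω hω := kk_mem _ _ _ _ _ _ j

theorem Kst_le : Kst ω hω ≤ threeJ3 F ω := by
  rw [threeJ3_eq ω hω]; exact K0_le _ _ _ _ _ _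

theorem uel_mem (i : ℕ) : uel ω hω i ∈ threeJ3 F ω := by
  rw [threeJ3_eq ω hω]; exact uu_mem _ _ _ _ _ _ i

theorem Kst_elems : ∀ h ∈ Kst ω hω, ∃ j < 6480, h = kel ω hω j := K0_elems _ _ _ _ _ _

theorem Kst_card : Nat.card (Kst ω hω) = 6480 := K0_card _ _ _ _ _ _

theorem G_cover : ∀ h ∈ threeJ3 F ω, ∃ i < 23256, ∃ j < 6480, h = uel ω hω i * kel ω hω j := by
  intro h hh
  rw [threeJ3_eq ω hω] at hh
  exact (HH_level ω hω _ _ (gg1_rep ω hω) (gg2_rep ω hω)).2.2 h hh

theorem G_inf : threeJ3 F ω ⊓ lineStab = Kst ω hω := by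
  rw [threeJ3_eq ω hω]
  exact (HH_level ω hω _ _ (gg1_rep ω hω) (gg2_rep ω hω)).2.1

theorem uel_zero : uel ω hω 0 = 1 := uu_zero _ _ _ _ _ _

theorem G_eq_closure : threeJ3 F ω = Subgroup.closure {gg1 ω hω, gg2 ω hω} := threeJ3_eq ω hω

/-! ### Double cosets -/

theorem chkCov_at (i : ℕ) (h0 : 0 < i) (hi : i < 23256) : chkCov i = true := by
  rcases Nat.lt_or_ge i 2001 with h | h
  · exact allRange_spec chkCov_0 i (by omega) (by omega)
  rcases Nat.lt_or_ge i 4001 with h | h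
  · exact allRange_spec chkCov_1 i (by omega) (by omega)
  rcases Nat.lt_or_ge i 6001 with h | h
  · exact allRange_spec chkCov_2 i (by omega) (by omega)
  rcases Nat.lt_or_ge i 8001 with h | h
  · exact allRange_spec chkCov_3 i (by omega) (by omega)
  rcases Nat.lt_or_ge i 10001 with h | h
  · exact allRange_spec chkCov_4 i (by omega) (by omega)
  rcases Nat.lt_or_ge i 12001 with h | h
  · exact allRange_spec chkCov_5 i (by omega) (by omega)
  rcases Nat.lt_or_ge i 14001 with h | h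
  · exact allRange_spec chkCov_6 i (by omega) (by omega)
  rcases Nat.lt_or_ge i 16001 with h | h
  · exact allRange_spec chkCov_7 i (by omega) (by omega)
  rcases Nat.lt_or_ge i 18001 with h | h
  · exact allRange_spec chkCov_8 i (by omega) (by omega)
  rcases Nat.lt_or_ge i 20001 with h | h
  · exact allRange_spec chkCov_9 i (by omega) (by omega)
  rcases Nat.lt_or_ge i 22001 with h | h
  · exact allRange_spec chkCov_10 i (by omega) (by omega)
  exact allRange_spec chkCov_11 i (by omega) (by omega)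

/-- The double coset representatives. -/
noncomputable def rep (m : ℕ) : GL I9 F := uel ω hω (repL.getD m 0)

theorem rep_rep (m : ℕ) (hm : m < 27) : Rep ω (rep ω hω m) (repU m) :=
  uel_rep ω hω _ (repL_lt m hm)

theorem cover_transversal (i : ℕ) (h0 : 0 < i) (hi : i < 23256) :
    ∃ m < 27, ∃ k < 6480, ∃ k' < 6480,
      uel ω hω i = kel ω hω k * (rep ω hω m * kel ω hω k') := by
  have h := chkCov_at i h0 hi
  unfold chkCov at h
  simp only [force_eq] at h
  obtain ⟨ha, hb⟩ := and_true' h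
  obtain ⟨ha1, ha2⟩ := and_true' ha
  obtain ⟨ha21, ha22⟩ := and_true' ha2
  have hm := blt_true ha1
  have hk := blt_true ha21
  have hk' := blt_true ha22
  refine ⟨_, hm, _, hk, _, hk', ?_⟩
  have e := beq_true hb
  have r := Rep.mul ω hω (kel_rep ω hω _ hk) (Rep.mul ω hω (rep_rep ω hω _ hm) (kel_rep ω hω _ hk'))
  unfold repU at r
  rw [← e] at r
  exact (uel_rep ω hω i hi).ext ω r

theorem double_coset (g : GL I9 F) (hg : g ∈ threeJ3 F ω) (hgK : g ∉ Kst ω hω) :
    ∃ m < 27, ∃ k ∈ Kst ω hω, ∃ k' ∈ Kst ω hω, g = k * rep ω hω m * k' := by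
  obtain ⟨i, hi, j, hj, rfl⟩ := G_cover ω hω g hg
  rcases Nat.eq_zero_or_pos i with rfl | hpos
  · exfalso; apply hgK
    rw [uel_zero, one_mul]; exact kel_mem ω hω j
  · obtain ⟨m, hm, k, hk, k', hk', e⟩ := cover_transversal ω hω i hpos hi
    refine ⟨m, hm, kel ω hω k, kel_mem ω hω k, kel ω hω k' * kel ω hω j,
      mul_mem (kel_mem ω hω k') (kel_mem ω hω j), ?_⟩
    rw [e]; group


/-! ### Generation by the stabiliser and one more element -/

theorem word2 {m a b c : ℕ} (hm : m < 27) (ha : a < 6480) (hb : b < 6480) (hc : c < 6480)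
    (e : S1c = mmul (U2 a) (mmul (repU m) (mmul (U2 b) (mmul (repU m) (U2 c))))) :
    gg1 ω hω ∈ Subgroup.closure ((Kst ω hω : Set (GL I9 F)) ∪ {rep ω hω m}) := by
  have r := Rep.mul ω hω (kel_rep ω hω a ha) (Rep.mul ω hω (rep_rep ω hω m hm)
    (Rep.mul ω hω (kel_rep ω hω b hb) (Rep.mul ω hω (rep_rep ω hω m hm) (kel_rep ω hω c hc))))
  rw [← e] at r
  rw [(gg1_rep ω hω).ext ω r]
  have hK : ∀ j, kel ω hω j ∈ Subgroup.closure ((Kst ω hω : Set (GL I9 F)) ∪ {rep ω hω m}) :=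
    fun j => Subgroup.subset_closure (Or.inl (kel_mem ω hω j))
  have hr : rep ω hω m ∈ Subgroup.closure ((Kst ω hω : Set (GL I9 F)) ∪ {rep ω hω m}) :=
    Subgroup.subset_closure (Or.inr rfl)
  exact mul_mem (hK a) (mul_mem hr (mul_mem (hK b) (mul_mem hr (hK c))))

theorem word3 {m a b c d : ℕ} (hm : m < 27) (ha : a < 6480) (hb : b < 6480) (hc : c < 6480)
    (hd : d < 6480)
    (e : S1c = mmul (U2 a) (mmul (repU m) (mmul (U2 b) (mmul (repU m) (mmul (U2 c)
      (mmul (repU m) (U2 d))))))) :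
    gg1 ω hω ∈ Subgroup.closure ((Kst ω hω : Set (GL I9 F)) ∪ {rep ω hω m}) := by
  have r := Rep.mul ω hω (kel_rep ω hω a ha) (Rep.mul ω hω (rep_rep ω hω m hm)
    (Rep.mul ω hω (kel_rep ω hω b hb) (Rep.mul ω hω (rep_rep ω hω m hm)
      (Rep.mul ω hω (kel_rep ω hω c hc) (Rep.mul ω hω (rep_rep ω hω m hm) (kel_rep ω hω d hd))))))
  rw [← e] at r
  rw [(gg1_rep ω hω).ext ω r]
  have hK : ∀ j, kel ω hω j ∈ Subgroup.closure ((Kst ω hω : Set (GL I9 F)) ∪ {rep ω hω m}) :=
    fun j => Subgroup.subset_closure (Or.inl (kel_mem ω hω j))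
  have hr : rep ω hω m ∈ Subgroup.closure ((Kst ω hω : Set (GL I9 F)) ∪ {rep ω hω m}) :=
    Subgroup.subset_closure (Or.inr rfl)
  exact mul_mem (hK a) (mul_mem hr (mul_mem (hK b) (mul_mem hr (mul_mem (hK c)
    (mul_mem hr (hK d))))))

theorem gg1_mem_closure (m : ℕ) (hm : m < 27) :
    gg1 ω hω ∈ Subgroup.closure ((Kst ω hω : Set (GL I9 F)) ∪ {rep ω hω m}) := by
  interval_cases m
  · exact word2 ω hω (by norm_num) (by norm_num) (by norm_num) (by norm_num) wd_0
  · exact word2 ω hω (by norm_num) (by norm_num) (by norm_num) (by norm_num) wd_1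
  · exact word2 ω hω (by norm_num) (by norm_num) (by norm_num) (by norm_num) wd_2
  · exact word2 ω hω (by norm_num) (by norm_num) (by norm_num) (by norm_num) wd_3
  · exact word2 ω hω (by norm_num) (by norm_num) (by norm_num) (by norm_num) wd_4
  · exact word2 ω hω (by norm_num) (by norm_num) (by norm_num) (by norm_num) wd_5
  · exact word2 ω hω (by norm_num) (by norm_num) (by norm_num) (by norm_num) wd_6
  · exact word2 ω hω (by norm_num) (by norm_num) (by norm_num) (by norm_num) wd_7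
  · exact word2 ω hω (by norm_num) (by norm_num) (by norm_num) (by norm_num) wd_8
  · exact word2 ω hω (by norm_num) (by norm_num) (by norm_num) (by norm_num) wd_9
  · exact word2 ω hω (by norm_num) (by norm_num) (by norm_num) (by norm_num) wd_10
  · exact word3 ω hω (by norm_num) (by norm_num) (by norm_num) (by norm_num) (by norm_num) wd_11
  · exact word2 ω hω (by norm_num) (by norm_num) (by norm_num) (by norm_num) wd_12
  · exact word2 ω hω (by norm_num) (by norm_num) (by norm_num) (by norm_num) wd_13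
  · exact word2 ω hω (by norm_num) (by norm_num) (by norm_num) (by norm_num) wd_14
  · exact word2 ω hω (by norm_num) (by norm_num) (by norm_num) (by norm_num) wd_15
  · exact word2 ω hω (by norm_num) (by norm_num) (by norm_num) (by norm_num) wd_16
  · exact word2 ω hω (by norm_num) (by norm_num) (by norm_num) (by norm_num) wd_17
  · exact word2 ω hω (by norm_num) (by norm_num) (by norm_num) (by norm_num) wd_18
  · exact word2 ω hω (by norm_num) (by norm_num) (by norm_num) (by norm_num) wd_19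
  · exact word2 ω hω (by norm_num) (by norm_num) (by norm_num) (by norm_num) wd_20
  · exact word2 ω hω (by norm_num) (by norm_num) (by norm_num) (by norm_num) wd_21
  · exact word2 ω hω (by norm_num) (by norm_num) (by norm_num) (by norm_num) wd_22
  · exact word3 ω hω (by norm_num) (by norm_num) (by norm_num) (by norm_num) (by norm_num) wd_23
  · exact word2 ω hω (by norm_num) (by norm_num) (by norm_num) (by norm_num) wd_24
  · exact word2 ω hω (by norm_num) (by norm_num) (by norm_num) (by norm_num) wd_25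
  · exact word2 ω hω (by norm_num) (by norm_num) (by norm_num) (by norm_num) wd_26

theorem gg2_mem_closure :
    gg2 ω hω ∈ Subgroup.closure ((Kst ω hω : Set (GL I9 F)) ∪ {gg1 ω hω}) := by
  have r := Rep.mul ω hω (kel_rep ω hω 2923 (by norm_num)) (Rep.mul ω hω (gg1_rep ω hω)
    (Rep.mul ω hω (kel_rep ω hω 42 (by norm_num)) (Rep.mul ω hω (gg1_rep ω hω)
      (kel_rep ω hω 1707 (by norm_num)))))
  rw [← wd_s2] at r
  rw [(gg2_rep ω hω).ext ω r]
  have hK : ∀ j, kel ω hω j ∈ Subgroup.closure ((Kst ω hω : Set (GL I9 F)) ∪ {gg1 ω hω}) :=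
    fun j => Subgroup.subset_closure (Or.inl (kel_mem ω hω j))
  have hr : gg1 ω hω ∈ Subgroup.closure ((Kst ω hω : Set (GL I9 F)) ∪ {gg1 ω hω}) :=
    Subgroup.subset_closure (Or.inr rfl)
  exact mul_mem (hK _) (mul_mem hr (mul_mem (hK _) (mul_mem hr (hK _))))


/-! ### Maximality of the stabiliser -/

omit [CharP F 2] [Finite F] in
theorem preimage_union_singleton (G K : Subgroup (GL I9 F)) (r : GL I9 F) (hr : r ∈ G) :
    G.subtype ⁻¹' ((K : Set (GL I9 F)) ∪ {r}) =
      ((K.subgroupOf G : Subgroup G) : Set G) ∪ {⟨r, hr⟩} := by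
  ext x
  simp [Subgroup.mem_subgroupOf, Subtype.ext_iff]

/-- The stabiliser inside `3·J₃`. -/
noncomputable def Ksub : Subgroup (threeJ3 F ω) := (Kst ω hω).subgroupOf (threeJ3 F ω)

theorem mem_Ksub {x : threeJ3 F ω} : x ∈ Ksub ω hω ↔ (x : GL I9 F) ∈ Kst ω hω :=
  Subgroup.mem_subgroupOf

/-- The first generator inside `3·J₃`. -/
noncomputable def c1 : threeJ3 F ω := ⟨gg1 ω hω, gg1_mem ω hω⟩

/-- The second generator inside `3·J₃`. -/
noncomputable def c2 : threeJ3 F ω := ⟨gg2 ω hω, gg2_mem ω hω⟩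

theorem union_subset (r : GL I9 F) (hr : r ∈ threeJ3 F ω) :
    (Kst ω hω : Set (GL I9 F)) ∪ {r} ⊆ threeJ3 F ω := by
  rintro x (hx | hx)
  · exact Kst_le ω hω hx
  · rw [Set.mem_singleton_iff] at hx; subst hx; exact hr

theorem closure_Ksub_c1 :
    Subgroup.closure (((Ksub ω hω : Subgroup (threeJ3 F ω)) : Set (threeJ3 F ω)) ∪ {c1 ω hω}) = ⊤ := by
  apply BSGS.eq_top_of_closure (threeJ3 F ω) {gg1 ω hω, gg2 ω hω} (G_eq_closure ω hω)
  rintro s (rfl | hs)
  · exact ⟨gg1_mem ω hω, Subgroup.subset_closure (Or.inr rfl)⟩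
  · rw [Set.mem_singleton_iff] at hs; subst hs
    obtain ⟨h1, h2⟩ := BSGS.closure_lift (threeJ3 F ω) _ (union_subset ω hω _ (gg1_mem ω hω)) _
      (gg2_mem_closure ω hω)
    rw [preimage_union_singleton _ _ _ (gg1_mem ω hω)] at h2
    exact ⟨h1, h2⟩

theorem Ksub_maximal : ∀ M : Subgroup (threeJ3 F ω), Ksub ω hω ≤ M → M = Ksub ω hω ∨ M = ⊤ := by
  apply BSGS.maximal_of_cover (Ksub ω hω) (c1 ω hω) (closure_Ksub_c1 ω hω)
    {x | ∃ m < 27, (x : GL I9 F) = rep ω hω m}
  · intro g hg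
    obtain ⟨m, hm, k, hk, k', hk', e⟩ := double_coset ω hω g g.2 (fun h => hg ((mem_Ksub ω hω).mpr h))
    refine ⟨⟨rep ω hω m, uel_mem ω hω _⟩, ⟨m, hm, rfl⟩, ⟨k, Kst_le ω hω hk⟩,
      (mem_Ksub ω hω).mpr hk, ⟨k', Kst_le ω hω hk'⟩, (mem_Ksub ω hω).mpr hk', ?_⟩
    exact Subtype.ext e
  · rintro ⟨r, hrG⟩ ⟨m, hm, hr⟩
    change r = rep ω hω m at hr
    subst hr
    obtain ⟨h1, h2⟩ := BSGS.closure_lift (threeJ3 F ω) _ (union_subset ω hω _ hrG) _
      (gg1_mem_closure ω hω m hm)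
    rw [preimage_union_singleton _ _ _ hrG] at h2
    exact h2


/-! ### The element of order three -/

theorem gAA_eq_kel : gAA ω hω = kel ω hω 4047 := by
  have r := kel_rep ω hω 4047 (by norm_num)
  rw [← Ac_idx, AcK_eq] at r
  exact (gAA_rep ω hω).ext ω r

theorem gAA_mem_Kst : gAA ω hω ∈ Kst ω hω := by
  rw [gAA_eq_kel]; exact kel_mem ω hω _

theorem gAA_cube : gAA ω hω * (gAA ω hω * gAA ω hω) = 1 := by
  have r := Rep.mul ω hω (gAA_rep ω hω) (Rep.mul ω hω (gAA_rep ω hω) (gAA_rep ω hω))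
  rw [← AcK_eq, Ac_cube] at r
  exact r.ext ω (rep_one ω)

theorem gAA_inv : (gAA ω hω)⁻¹ = gAA ω hω * gAA ω hω :=
  inv_eq_of_mul_eq_one_right (gAA_cube ω hω)

/-- The first generator of the stabiliser. -/
noncomputable def st1 : GL I9 F := tt1 ω hω (gg1 ω hω) (gg2 ω hω) (gg1_rep ω hω) (gg2_rep ω hω)

/-- The second generator of the stabiliser. -/
noncomputable def st2 : GL I9 F := tt2 ω hω (gg1 ω hω) (gg2 ω hω) (gg1_rep ω hω) (gg2_rep ω hω)

theorem st1_rep : Rep ω (st1 ω hω) T1c := tt1_rep _ _ _ _ _ _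

theorem st2_rep : Rep ω (st2 ω hω) T2c := tt2_rep _ _ _ _ _ _

theorem Kst_eq : Kst ω hω = Subgroup.closure {st1 ω hω, st2 ω hω} := rfl

theorem st1_conj : st1 ω hω * gAA ω hω * (st1 ω hω)⁻¹ = (gAA ω hω)⁻¹ := by
  have r1 := Rep.mul ω hω (st1_rep ω hω) (gAA_rep ω hω)
  have r2 := Rep.mul ω hω (Rep.mul ω hω (gAA_rep ω hω) (gAA_rep ω hω)) (st1_rep ω hω)
  rw [← AcK_eq, Ac_conj1] at r1
  rw [← AcK_eq] at r2
  have e := r1.ext ω r2
  rw [e, gAA_inv]; group

theorem st2_conj : st2 ω hω * gAA ω hω * (st2 ω hω)⁻¹ = (gAA ω hω)⁻¹ := by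
  have r1 := Rep.mul ω hω (st2_rep ω hω) (gAA_rep ω hω)
  have r2 := Rep.mul ω hω (Rep.mul ω hω (gAA_rep ω hω) (gAA_rep ω hω)) (st2_rep ω hω)
  rw [← AcK_eq, Ac_conj2] at r1
  rw [← AcK_eq] at r2
  have e := r1.ext ω r2
  rw [e, gAA_inv]; group

/-- The normal subgroup of order three of the stabiliser. -/
noncomputable def A0 : Subgroup (GL I9 F) := Subgroup.zpowers (gAA ω hω)

omit [CharP F 2] [Finite F] in
theorem mem_normalizer_of_conj_inv {t a : GL I9 F} (h : t * a * t⁻¹ = a⁻¹) :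
    t ∈ Subgroup.normalizer ((Subgroup.zpowers a : Subgroup (GL I9 F)) : Set (GL I9 F)) := by
  have h' : t⁻¹ * a * t = a⁻¹ := by
    have e : a = t⁻¹ * a⁻¹ * t := by rw [← h]; group
    calc t⁻¹ * a * t = (t⁻¹ * a⁻¹ * t)⁻¹ := by group
      _ = a⁻¹ := by rw [← e]
  rw [Subgroup.mem_normalizer_iff]
  intro x
  constructor
  · rintro ⟨n, rfl⟩
    refine ⟨-n, ?_⟩
    show a ^ (-n) = t * a ^ n * t⁻¹
    rw [← conj_zpow, h, inv_zpow, zpow_neg]
  · rintro ⟨n, hn⟩
    refine ⟨-n, ?_⟩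
    have hn' : a ^ n = t * x * t⁻¹ := hn
    have : x = t⁻¹ * a ^ n * t := by rw [hn']; group
    show a ^ (-n) = x
    rw [this]
    have e2 : t⁻¹ * a ^ n * t = (t⁻¹ * a * t⁻¹⁻¹) ^ n := by rw [conj_zpow, inv_inv]
    rw [e2, inv_inv, h', inv_zpow, zpow_neg]

theorem Kst_le_normalizer : Kst ω hω ≤ Subgroup.normalizer ((A0 ω hω : Subgroup (GL I9 F)) : Set (GL I9 F)) := by
  rw [Kst_eq, Subgroup.closure_le]
  rintro x (rfl | hx)
  · exact mem_normalizer_of_conj_inv (st1_conj ω hω)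
  · rw [Set.mem_singleton_iff] at hx; subst hx
    exact mem_normalizer_of_conj_inv (st2_conj ω hω)

theorem A0_le_Kst : A0 ω hω ≤ Kst ω hω := by
  rw [A0, Subgroup.zpowers_le]; exact gAA_mem_Kst ω hω

/-- The subgroup of order three inside `3·J₃`. -/
noncomputable def Asub : Subgroup (threeJ3 F ω) := (A0 ω hω).subgroupOf (threeJ3 F ω)

theorem Asub_le : Asub ω hω ≤ Ksub ω hω := by
  intro x hx
  exact (mem_Ksub ω hω).mpr (A0_le_Kst ω hω (Subgroup.mem_subgroupOf.mp hx))

theorem Asub_normal : ∀ k ∈ Ksub ω hω, ∀ a ∈ Asub ω hω, k * a * k⁻¹ ∈ Asub ω hω := by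
  intro k hk a ha
  have hk' := Kst_le_normalizer ω hω ((mem_Ksub ω hω).mp hk)
  rw [Subgroup.mem_normalizer_iff] at hk'
  exact Subgroup.mem_subgroupOf.mpr ((hk' _).mp (Subgroup.mem_subgroupOf.mp ha))

theorem Asub_comm : ∀ a ∈ Asub ω hω, ∀ b ∈ Asub ω hω, a * b = b * a := by
  intro a ha b hb
  obtain ⟨n, hn⟩ := Subgroup.mem_subgroupOf.mp ha
  obtain ⟨m, hm⟩ := Subgroup.mem_subgroupOf.mp hb
  apply Subtype.ext
  show (a : GL I9 F) * (b : GL I9 F) = (b : GL I9 F) * (a : GL I9 F)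
  rw [← hn, ← hm]
  exact zpow_mul_comm _ _ _

/-- The element of order three inside `3·J₃`. -/
noncomputable def aS : threeJ3 F ω := ⟨gAA ω hω, gAA_mem ω hω⟩

theorem aS_mem : aS ω hω ∈ Asub ω hω :=
  Subgroup.mem_subgroupOf.mpr (Subgroup.mem_zpowers _)

theorem c1_eq : c1 ω hω = ⟨gX ω hω, gX_mem ω hω⟩ * aS ω hω * ⟨gX ω hω, gX_mem ω hω⟩⁻¹ :=
  Subtype.ext rfl

theorem c2_eq : c2 ω hω = ⟨gY ω hω, gY_mem ω hω⟩ * aS ω hω * ⟨gY ω hω, gY_mem ω hω⟩⁻¹ :=
  Subtype.ext rfl

/-- A normal subgroup containing the element of order three is everything. -/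
theorem eq_top_of_normal_of_mem (N : Subgroup (threeJ3 F ω)) [hN : N.Normal] (h : aS ω hω ∈ N) :
    N = ⊤ := by
  apply BSGS.eq_top_of_closure (threeJ3 F ω) {gg1 ω hω, gg2 ω hω} (G_eq_closure ω hω)
  rintro s (rfl | hs)
  · refine ⟨gg1_mem ω hω, ?_⟩
    have := hN.conj_mem _ h ⟨gX ω hω, gX_mem ω hω⟩
    rw [← c1_eq] at this
    exact this
  · rw [Set.mem_singleton_iff] at hs; subst hs
    refine ⟨gg2_mem ω hω, ?_⟩
    have := hN.conj_mem _ h ⟨gY ω hω, gY_mem ω hω⟩
    rw [← c2_eq] at this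
    exact this

theorem normalClosure_Asub : Subgroup.normalClosure ((Asub ω hω : Subgroup (threeJ3 F ω)) : Set (threeJ3 F ω)) = ⊤ :=
  eq_top_of_normal_of_mem ω hω _ (Subgroup.subset_normalClosure (aS_mem ω hω))

include hω in
theorem perfect : commutator (threeJ3 F ω) = ⊤ := by
  apply eq_top_of_normal_of_mem ω hω
  have hst : st1 ω hω ∈ threeJ3 F ω := by
    rw [threeJ3_eq ω hω]; exact tt1_mem _ _ _ _ _ _
  have e : aS ω hω = ⁅(⟨st1 ω hω, hst⟩ : threeJ3 F ω), aS ω hω⁆ := by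
    apply Subtype.ext
    show gAA ω hω = st1 ω hω * gAA ω hω * (st1 ω hω)⁻¹ * (gAA ω hω)⁻¹
    rw [st1_conj, gAA_inv]
    have := gAA_cube ω hω
    calc gAA ω hω = gAA ω hω * (gAA ω hω * (gAA ω hω * gAA ω hω)) := by rw [this, mul_one]
      _ = gAA ω hω * gAA ω hω * (gAA ω hω * gAA ω hω) := by group
  rw [e]
  exact Subgroup.commutator_mem_commutator (Subgroup.mem_top _) (Subgroup.mem_top _)

/-- Iwasawa's dichotomy for `3·J₃`. -/
theorem dichotomy (N : Subgroup (threeJ3 F ω)) (hN : N.Normal) : N ≤ Ksub ω hω ∨ N = ⊤ :=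
  BSGS.iwasawa_dichotomy (Ksub ω hω) (Asub ω hω) (Ksub_maximal ω hω) (Asub_le ω hω)
    (Asub_normal ω hω) (Asub_comm ω hω) (normalClosure_Asub ω hω) (perfect ω hω) N


/-! ### The core of the stabiliser and the centre -/

theorem scal_bits : ∀ w z : I9, dg (U2 3) w z = (if w = z then 2 else 0) ∧
    dg (U2 14) w z = (if w = z then 3 else 0) := by decide +kernel

theorem col_S_ne : col S1c 0 ≠ 0 ∧ col S2c 0 ≠ 0 := by decide +kernel

theorem semM_U2_3 : semM ω (U2 3) = ω • (1 : Matrix I9 I9 F) := by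
  ext w z
  rw [semM_dg, (scal_bits w z).1, Matrix.smul_apply, Matrix.one_apply]
  by_cases h : w = z <;> simp [h, dF]

theorem semM_U2_14 : semM ω (U2 14) = (1 + ω) • (1 : Matrix I9 I9 F) := by
  ext w z
  rw [semM_dg, (scal_bits w z).2, Matrix.smul_apply, Matrix.one_apply]
  by_cases h : w = z <;> simp [h, dF]

theorem central_of_scalar (n : threeJ3 F ω) (c : F)
    (h : ((n : GL I9 F) : Matrix I9 I9 F) = c • (1 : Matrix I9 I9 F)) :
    n ∈ Subgroup.center (threeJ3 F ω) := by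
  rw [Subgroup.mem_center_iff]
  intro g
  apply Subtype.ext
  apply Units.ext
  show ((g : GL I9 F) : Matrix I9 I9 F) * ((n : GL I9 F) : Matrix I9 I9 F) =
    ((n : GL I9 F) : Matrix I9 I9 F) * ((g : GL I9 F) : Matrix I9 I9 F)
  rw [h, Matrix.mul_smul, Matrix.smul_mul, mul_one, one_mul]

theorem kel_zero : kel ω hω 0 = 1 := by
  have := kel_rep ω hω 0 (by norm_num)
  rw [U2_zero] at this
  exact this.ext ω (rep_one ω)

theorem key_fix (j : ℕ) (hj : j < 6480) (g : GL I9 F) (cs : ℕ) (hg : Rep ω g cs)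
    (hcs : col cs 0 ≠ 0) (h : g⁻¹ * (kel ω hω j * g) ∈ lineStab (F := F)) :
    key (col (mmul (U2 j) cs) 0) = key (col cs 0) := by
  have h' : (kel ω hω j * g)⁻¹ * g ∈ lineStab (F := F) := by
    have : (kel ω hω j * g)⁻¹ * g = (g⁻¹ * (kel ω hω j * g))⁻¹ := by group
    rw [this]; exact inv_mem h
  have hcol := col_of_mem_lineStab h'
  have r := Rep.mul ω hω (kel_rep ω hω j hj) hg
  have hdec : dec ω (col cs 0) = (((kel ω hω j * g)⁻¹ * g : GL I9 F) : Matrix I9 I9 F) 0 0 •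
      dec ω (col (mmul (U2 j) cs) 0) := by
    funext w
    have := hcol w
    rw [hg, r, semM_col0, semM_col0] at this
    rw [Pi.smul_apply, smul_eq_mul]
    exact this
  exact (key_of_smul ω hω (col_lt _ _) (col_lt _ _) hcs _ hdec).symm

theorem core_index (j : ℕ) (hj : j < 6480)
    (h1 : (gg1 ω hω)⁻¹ * (kel ω hω j * gg1 ω hω) ∈ lineStab (F := F))
    (h2 : (gg2 ω hω)⁻¹ * (kel ω hω j * gg2 ω hω) ∈ lineStab (F := F)) :
    j = 0 ∨ j = 3 ∨ j = 14 := by
  have k1 := key_fix ω hω j hj _ _ (gg1_rep ω hω) col_S_ne.1 h1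
  have k2 := key_fix ω hω j hj _ _ (gg2_rep ω hω) col_S_ne.2 h2
  have hc := allBelow_spec chkCore_all j hj
  unfold chkCore at hc
  simp only [force_eq] at hc
  rw [k1, k2] at hc
  have e1 : Nat.beq (key (col S1c 0)) (key (col S1c 0)) = true := Nat.beq_refl _
  have e2 : Nat.beq (key (col S2c 0)) (key (col S2c 0)) = true := Nat.beq_refl _
  rw [e1, e2] at hc
  simp only [Bool.and_self, Bool.not_true, Bool.or_false, Bool.or_eq_true] at hc
  rcases hc with h | h | h
  · left; exact beq_true h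
  · right; left; exact beq_true h
  · right; right; exact beq_true h

theorem Kst_le_lineStab : Kst ω hω ≤ lineStab := K0_le_lineStab _ _ _ _ _ _

theorem core_central (N : Subgroup (threeJ3 F ω)) (hN : N.Normal) (hNK : N ≤ Ksub ω hω) :
    N ≤ Subgroup.center (threeJ3 F ω) := by
  intro n hn
  obtain ⟨j, hj, hnj⟩ := Kst_elems ω hω _ ((mem_Ksub ω hω).mp (hNK hn))
  have hconj : ∀ c : threeJ3 F ω, (c : GL I9 F)⁻¹ * ((n : GL I9 F) * (c : GL I9 F)) ∈
      lineStab (F := F) := by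
    intro c
    have h1 := hN.conj_mem n hn c⁻¹
    have h2 := Kst_le_lineStab ω hω ((mem_Ksub ω hω).mp (hNK h1))
    have e : ((c⁻¹ * n * c⁻¹⁻¹ : threeJ3 F ω) : GL I9 F) =
        (c : GL I9 F)⁻¹ * ((n : GL I9 F) * (c : GL I9 F)) := by
      rw [inv_inv]
      show (c : GL I9 F)⁻¹ * (n : GL I9 F) * (c : GL I9 F) = _
      group
    rw [e] at h2
    exact h2
  have h1 := hconj (c1 ω hω)
  have h2 := hconj (c2 ω hω)
  rw [hnj] at h1 h2
  rcases core_index ω hω j hj h1 h2 with rfl | rfl | rfl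
  · rw [kel_zero] at hnj
    have : n = 1 := Subtype.ext hnj
    rw [this]; exact one_mem _
  · apply central_of_scalar ω n ω
    rw [hnj, kel_rep ω hω 3 (by norm_num), semM_U2_3]
  · apply central_of_scalar ω n (1 + ω)
    rw [hnj, kel_rep ω hω 14 (by norm_num), semM_U2_14]

include hω in
theorem center_ne_top : Subgroup.center (threeJ3 F ω) ≠ ⊤ := by
  intro h
  have hcomm : commutator (threeJ3 F ω) = ⊥ := by
    rw [commutator_def, eq_bot_iff, Subgroup.commutator_le]
    intro x _ y _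
    rw [Subgroup.mem_bot, commutatorElement_eq_one_iff_mul_comm]
    have hy : y ∈ Subgroup.center (threeJ3 F ω) := by rw [h]; exact Subgroup.mem_top y
    exact (Subgroup.mem_center_iff.mp hy x)
  rw [perfect ω hω] at hcomm
  have hcard := card_threeJ3 ω hω
  have : Nat.card (threeJ3 F ω) = 1 := by
    rw [← Subgroup.card_top (G := threeJ3 F ω), hcomm, Subgroup.card_bot]
  omega

/-- The three scalars. -/
noncomputable def zS (j : ℕ) : threeJ3 F ω := ⟨kel ω hω j, Kst_le ω hω (kel_mem ω hω j)⟩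

theorem center_eq : ((Subgroup.center (threeJ3 F ω) : Subgroup (threeJ3 F ω)) : Set (threeJ3 F ω)) =
    {zS ω hω 0, zS ω hω 3, zS ω hω 14} := by
  have hle : Subgroup.center (threeJ3 F ω) ≤ Ksub ω hω := by
    rcases dichotomy ω hω _ (inferInstance : (Subgroup.center (threeJ3 F ω)).Normal) with h | h
    · exact h
    · exact absurd h (center_ne_top ω hω)
  ext n
  constructor
  · intro hn
    obtain ⟨j, hj, hnj⟩ := Kst_elems ω hω _ ((mem_Ksub ω hω).mp (hle hn))
    -- conjugates by the generators stay in the stabiliser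
    have hconj : ∀ c : threeJ3 F ω, (c : GL I9 F)⁻¹ * ((n : GL I9 F) * (c : GL I9 F)) ∈
        lineStab (F := F) := by
      intro c
      have hcomm := Subgroup.mem_center_iff.mp hn c
      have e : (c : GL I9 F)⁻¹ * ((n : GL I9 F) * (c : GL I9 F)) = (n : GL I9 F) := by
        have : (c : GL I9 F) * (n : GL I9 F) = (n : GL I9 F) * (c : GL I9 F) :=
          congrArg Subtype.val hcomm
        rw [← this]; group
      rw [e]
      exact Kst_le_lineStab ω hω ((mem_Ksub ω hω).mp (hle hn))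
    have h1 := hconj (c1 ω hω)
    have h2 := hconj (c2 ω hω)
    rw [hnj] at h1 h2
    have hn' : n = zS ω hω j := Subtype.ext hnj
    rcases core_index ω hω j hj h1 h2 with rfl | rfl | rfl
    · left; exact hn'
    · right; left; exact hn'
    · right; right; exact hn'
  · rintro (rfl | rfl | rfl)
    · have : zS ω hω 0 = 1 := Subtype.ext (kel_zero ω hω)
      rw [this]; exact one_mem _
    · apply central_of_scalar ω _ ω
      show ((kel ω hω 3 : GL I9 F) : Matrix I9 I9 F) = _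
      rw [kel_rep ω hω 3 (by norm_num), semM_U2_3]
    · apply central_of_scalar ω _ (1 + ω)
      show ((kel ω hω 14 : GL I9 F) : Matrix I9 I9 F) = _
      rw [kel_rep ω hω 14 (by norm_num), semM_U2_14]

theorem zS_inj {j j' : ℕ} (hj : j < 6480) (hj' : j' < 6480) (h : zS ω hω j = zS ω hω j') :
    j = j' :=
  kOf_injOn ω hω _ _ (tt1_rep ω hω _ _ (gg1_rep ω hω) (gg2_rep ω hω))
    (tt2_rep ω hω _ _ (gg1_rep ω hω) (gg2_rep ω hω)) j hj j' hj' (congrArg Subtype.val h)

include hω in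
theorem card_center : Nat.card (Subgroup.center (threeJ3 F ω)) = 3 := by
  rw [← SetLike.coe_sort_coe, Nat.card_coe_set_eq, center_eq ω hω]
  rw [Set.ncard_insert_of_notMem, Set.ncard_insert_of_notMem, Set.ncard_singleton]
  · intro h
    rw [Set.mem_singleton_iff] at h
    have := zS_inj ω hω (by norm_num) (by norm_num) h
    omega
  · intro h
    rcases h with h | h
    · have := zS_inj ω hω (by norm_num) (by norm_num) h
      omega
    · rw [Set.mem_singleton_iff] at h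
      have := zS_inj ω hω (by norm_num) (by norm_num) h
      omega

include hω in
theorem card_J3 : Nat.card (J3 F ω) = 50232960 := by
  have h := Subgroup.card_eq_card_quotient_mul_card_subgroup (Subgroup.center (threeJ3 F ω))
  rw [card_threeJ3 ω hω, card_center ω hω] at h
  show Nat.card (threeJ3 F ω ⧸ Subgroup.center (threeJ3 F ω)) = 50232960
  omega

include hω in
theorem simple_J3 : IsSimpleGroup (J3 F ω) :=
  BSGS.simple_central_quotient (Ksub ω hω) (dichotomy ω hω) (core_central ω hω)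
    (center_ne_top ω hω)

end

end Cfsg.Agent.Helper8.J3M
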