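import Cfsg.Prelude.Def_Classical
import Cfsg.Agent.Lib.Helper8.J3Simple

set_option autoImplicit false
set_option linter.unusedSectionVars false
set_option linter.unusedVariables false

/-! `3·J₃` preserves the standard Hermitian form on the nine-space over the field with four
elements, and embeds into `SU₉(2)`. -/

open scoped MatrixGroups

namespace Cfsg.Agent.Helper8.J3M

open Cfsg.Agent.Helper8.F4P Cfsg.Spor

/-- Conjugation on digits. -/
def cjd (n : ℕ) : ℕ :=
  match n with
  | 2 => 3
  | 3 => 2
  | n => n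

/-- The code of the conjugate transpose of the first generator. -/
def S1h : ℕ := 0x1e8c9a257c13c0904222388e08d70b0901a03bc1a

/-- The code of the conjugate transpose of the second generator. -/
def S2h : ℕ := 0x2b2d22f5670aa108aca9e1eba475b8c0386e6d540

theorem S1h_dg : ∀ w z : I9, dg S1h w z = cjd (dg S1c z w) := by decide +kernel

theorem S2h_dg : ∀ w z : I9, dg S2h w z = cjd (dg S2c z w) := by decide +kernel

theorem S1h_mul : mmul S1h S1c = IDc := by decide +kernel

theorem S2h_mul : mmul S2h S2c = IDc := by decide +kernel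

theorem dg_lt (c : ℕ) (w z : I9) : dg c w z < 4 := by
  unfold dg
  split_ifs <;> omega

section

variable {F : Type*} [Field F] [CharP F 2] [Finite F] (ω : F) (hω : ω ^ 2 = ω + 1)

include hω in
theorem dF_cjd (n : ℕ) (hn : n < 4) : dF ω (cjd n) = (dF ω n) ^ 2 := by
  have h2 : (2 : F) = 0 := CharTwo.two_eq_zero
  interval_cases n
  · simp [dF, cjd]
  · simp [dF, cjd]
  · show (1 + ω : F) = ω ^ 2
    rw [hω, add_comm]
  · show (ω : F) = (1 + ω) ^ 2
    linear_combination (-1 : F) * hω - (1 + ω) * h2

/-- The Hermitian form on the nine-space. -/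
def hform (u v : I9 → F) : F := ∑ z, u z * (v z) ^ 2

/-- The unitary group of the nine-space. -/
def UU : Subgroup (GL I9 F) := Cfsg.preserving (Units.coeHom (Matrix I9 I9 F)) hform

omit [Finite F] in
theorem mem_UU_of_mul (g : GL I9 F) (N : Matrix I9 I9 F)
    (hN : ∀ w z, N w z = ((g : Matrix I9 I9 F) z w) ^ 2)
    (h : N * (g : Matrix I9 I9 F) = 1) : g ∈ (UU : Subgroup (GL I9 F)) := by
  have : Fact (Nat.Prime 2) := ⟨Nat.prime_two⟩
  set M : Matrix I9 I9 F := (g : Matrix I9 I9 F) with hM
  have hN' : N = (M.map (frobenius F 2)).transpose := by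
    ext w z
    rw [hN, Matrix.transpose_apply, Matrix.map_apply, frobenius_def]
  have h1 : M.transpose * M.map (frobenius F 2) = 1 := by
    have := congrArg Matrix.transpose h
    rw [Matrix.transpose_mul, hN', Matrix.transpose_transpose, Matrix.transpose_one] at this
    exact this
  intro u v
  show hform (M.mulVec u) (M.mulVec v) = hform u v
  have hf : ∀ a b : I9 → F, hform a b = dotProduct a (frobenius F 2 ∘ b) := by
    intro a b
    unfold hform dotProduct
    apply Finset.sum_congr rfl
    intro z _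
    rw [Function.comp_apply, frobenius_def]
  rw [hf, hf]
  have e1 : (frobenius F 2 ∘ (M.mulVec v)) = (M.map (frobenius F 2)).mulVec (frobenius F 2 ∘ v) := by
    funext i
    exact RingHom.map_mulVec (frobenius F 2) M v i
  rw [e1]
  rw [dotProduct_comm, Matrix.dotProduct_mulVec, ← Matrix.mulVec_transpose, dotProduct_comm,
    Matrix.mulVec_mulVec, h1, Matrix.one_mulVec]

include hω in
theorem mem_UU_of_codes (g : GL I9 F) (c h : ℕ) (hg : Rep ω g c)
    (hd : ∀ w z : I9, dg h w z = cjd (dg c z w)) (hm : mmul h c = IDc) :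
    g ∈ (UU : Subgroup (GL I9 F)) := by
  apply mem_UU_of_mul g (semM ω h)
  · intro w z
    rw [hg, semM_dg, semM_dg, hd, dF_cjd ω hω _ (dg_lt _ _ _)]
  · rw [hg, ← semM_mmul ω hω, hm, semM_one]

theorem gg1_mem_UU : gg1 ω hω ∈ (UU : Subgroup (GL I9 F)) :=
  mem_UU_of_codes ω hω _ _ _ (gg1_rep ω hω) S1h_dg S1h_mul

theorem gg2_mem_UU : gg2 ω hω ∈ (UU : Subgroup (GL I9 F)) :=
  mem_UU_of_codes ω hω _ _ _ (gg2_rep ω hω) S2h_dg S2h_mul

include hω in
theorem threeJ3_le_UU : threeJ3 F ω ≤ (UU : Subgroup (GL I9 F)) := by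
  rw [G_eq_closure ω hω, Subgroup.closure_le]
  rintro x (rfl | hx)
  · exact gg1_mem_UU ω hω
  · rw [Set.mem_singleton_iff] at hx; subst hx
    exact gg2_mem_UU ω hω

include hω in
theorem det_eq_one (g : threeJ3 F ω) : ((g : GL I9 F) : Matrix I9 I9 F).det = 1 := by
  let d : threeJ3 F ω →* Fˣ := Matrix.GeneralLinearGroup.det.comp (Subgroup.subtype _)
  have hk : commutator (threeJ3 F ω) ≤ d.ker := Abelianization.commutator_subset_ker d
  rw [perfect ω hω] at hk
  have hg : d g = 1 := hk (Subgroup.mem_top g)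
  have hg' : Matrix.GeneralLinearGroup.det (g : GL I9 F) = 1 := hg
  have := congrArg Units.val hg'
  rw [Matrix.GeneralLinearGroup.val_det_apply, Units.val_one] at this
  exact this

end

end Cfsg.Agent.Helper8.J3M
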