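import Cfsg.Agent.Lib.Helper8.J3ChkW
import Cfsg.Agent.Lib.Helper8.J3Unitary

set_option autoImplicit false

namespace Cfsg.Agent.Helper8.J3M

open Cfsg.Agent.Helper8.F4P

theorem chkY_all : allBelow 1080 chkY = true := by decide +kernel

theorem keyY_distinct : distinctBelow 1080 keyY = true := by decide +kernel

theorem BYc_lt : BYc < 2 ^ 18 := by decide +kernel

theorem chkYnz_all : allBelow 1080 (fun k => Nat.blt 0 (col (mmul (ycode k) BYc) 0)) = true := by
  decide +kernel

theorem chkD_all : allBelow 5760 chkD = true := by decide +kernel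

theorem chkSL_all : allRange 2 152 chkSL = true := by decide +kernel

theorem SL_ends : SLVt 0 = X0c ∧ SLVt 1 = Y0c ∧ SLVt 125 = S1c ∧ SLVt 153 = S2c := by
  decide +kernel

theorem XY_codes : X0c = TT 4 ∧ Y0c = CLt 6 ∧ mmul (mmul Y0c Y0c) Y0c = IDc ∧
    isZ Y0c = false := by decide +kernel

theorem X0_std : chkX 4 = true ∧
    isZ (mmul (mmul (wordW X0c) (wordW X0c)) (wordW X0c)) = false := by decide +kernel

theorem A9_inv : mmul A9c A9h = IDc ∧ mmul A9h A9c = IDc := by decide +kernel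

theorem S1j_dg : ∀ w z : I9, dg S1j w z = cjd (dg S1c w z) := by decide +kernel

theorem S2j_dg : ∀ w z : I9, dg S2j w z = cjd (dg S2c w z) := by decide +kernel

theorem Z3j_dg : ∀ w z : I9, dg (U2 14) w z = cjd (dg (U2 3) w z) := by decide +kernel

theorem A9_sifts : mmul (mmul A9c S1j) A9h = mmul (U1 8634) (U2 5226) ∧
    mmul (mmul A9c S2j) A9h = mmul (U1 6989) (U2 5269) ∧
    mmul (mmul A9c (U2 14)) A9h = U2 14 := by decide +kernel

theorem scal_codes : U2 0 = IDc ∧ IDc < 2 ^ 162 ∧ U2 3 < 2 ^ 162 ∧ U2 14 < 2 ^ 162 ∧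
    U2 3 ≠ U2 14 := by decide +kernel

end Cfsg.Agent.Helper8.J3M
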