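import Cfsg.Agent.Lib.Helper8.J3InvD
import Cfsg.Agent.Lib.Helper8.J3ChkWA
import Cfsg.Agent.Lib.Helper8.J3ChkWB
import Cfsg.Agent.Lib.Helper8.J3ChkWC

set_option autoImplicit false
set_option linter.unusedSectionVars false
set_option linter.unusedVariables false

/-! Automorphisms of `J₃`, part A: size bounds for coded products, scalar codes, the table of
involutions is complete. -/

open scoped MatrixGroups

namespace Cfsg.Agent.Helper8.J3M

open Cfsg.Agent.Helper8.F4P Cfsg.Spor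

/-! ### Products of codes are below `2 ^ 162` -/

theorem mul_mask_lt (c : ℕ) (hc : c < 2 ^ 18) (X : ℕ) :
    Nat.mul c (Nat.land X MASK) < 2 ^ 162 := by
  apply Nat.lt_pow_two_of_testBit
  intro i hi
  show (c * (X &&& MASK)).testBit i = false
  have hm : ∀ j, (X &&& MASK).testBit j = true → 18 ∣ j := by
    intro j hj
    rw [Nat.testBit_and, Bool.and_eq_true] at hj
    exact mask_dvd j hj.2
  rw [mul_sparse c hc (X &&& MASK) hm i]
  have h1 : 162 ≤ 18 * (i / 18) := by omega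
  have h2 : MASK.testBit (18 * (i / 18)) = false :=
    Nat.testBit_lt_two_pow (lt_of_lt_of_le mask_lt (Nat.pow_le_pow_right (by norm_num) (by omega)))
  rw [Nat.testBit_and, h2]
  simp

theorem term_lt (A B j : ℕ) : term A B j < 2 ^ 162 := by
  unfold term
  exact Nat.xor_lt_two_pow (mul_mask_lt _ (col_lt A j) _) (mul_mask_lt _ (sw_lt _ (col_lt A j)) _)

theorem mmul_lt (A B : ℕ) : mmul A B < 2 ^ 162 := by
  rw [mmul_eq]
  unfold mmulRaw
  refine Nat.xor_lt_two_pow (term_lt _ _ _) ?_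
  refine Nat.xor_lt_two_pow (term_lt _ _ _) ?_
  refine Nat.xor_lt_two_pow (term_lt _ _ _) ?_
  refine Nat.xor_lt_two_pow (term_lt _ _ _) ?_
  refine Nat.xor_lt_two_pow (term_lt _ _ _) ?_
  refine Nat.xor_lt_two_pow (term_lt _ _ _) ?_
  refine Nat.xor_lt_two_pow (term_lt _ _ _) ?_
  exact Nat.xor_lt_two_pow (term_lt _ _ _) (term_lt _ _ _)

theorem CLt_lt (j : ℕ) : CLt j < 2 ^ 162 := by
  unfold CLt tget
  exact Nat.mod_lt _ (Nat.two_pow_pos 162)

/-! ### Scalar codes -/

theorem isZ_cases {c : ℕ} (h : isZ c = true) : c = IDc ∨ c = U2 3 ∨ c = U2 14 := by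
  unfold isZ at h
  rcases or_true' h with h | h
  · left; exact beq_true h
  rcases or_true' h with h | h
  · right; left; exact beq_true h
  · right; right; exact beq_true h

theorem isZ_of_eq {c : ℕ} (h : c = IDc ∨ c = U2 3 ∨ c = U2 14) : isZ c = true := by
  unfold isZ
  rcases h with h | h | h
  · rw [beq_of_eq h]; rfl
  · rw [beq_of_eq h]; simp
  · rw [beq_of_eq h]; simp

section Top

variable {F : Type*} [Field F] [CharP F 2] [Finite F] (ω : F) (hω : ω ^ 2 = ω + 1)

theorem zS_mem_center (k : ℕ) (hk : k = 0 ∨ k = 3 ∨ k = 14) :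
    zS ω hω k ∈ Subgroup.center (threeJ3 F ω) := by
  have : zS ω hω k ∈ ((Subgroup.center (threeJ3 F ω) : Subgroup (threeJ3 F ω)) :
      Set (threeJ3 F ω)) := by
    rw [center_eq ω hω]
    rcases hk with rfl | rfl | rfl <;> simp
  exact this

theorem center_cases (z : threeJ3 F ω) (hz : z ∈ Subgroup.center (threeJ3 F ω)) :
    ∃ k, (k = 0 ∨ k = 3 ∨ k = 14) ∧ z = zS ω hω k := by
  have hz' : z ∈ ((Subgroup.center (threeJ3 F ω) : Subgroup (threeJ3 F ω)) :
      Set (threeJ3 F ω)) := hz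
  rw [center_eq ω hω] at hz'
  rcases hz' with rfl | rfl | hz'
  · exact ⟨0, Or.inl rfl, rfl⟩
  · exact ⟨3, Or.inr (Or.inl rfl), rfl⟩
  · rw [Set.mem_singleton_iff] at hz'
    exact ⟨14, Or.inr (Or.inr rfl), hz'⟩

theorem zS_rep (k : ℕ) (hk : k = 0 ∨ k = 3 ∨ k = 14) :
    Rep ω ((zS ω hω k : threeJ3 F ω) : GL I9 F) (U2 k) := by
  rcases hk with rfl | rfl | rfl <;> exact kel_rep ω hω _ (by norm_num)

include hω in
/-- A central element has a scalar code. -/
theorem isZ_of_mem_center {g : threeJ3 F ω} {c : ℕ} (hg : Rep ω (g : GL I9 F) c)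
    (hc : c < 2 ^ 162) (h : g ∈ Subgroup.center (threeJ3 F ω)) : isZ c = true := by
  obtain ⟨k, hk, rfl⟩ := center_cases ω hω g h
  have r := zS_rep ω hω k hk
  obtain ⟨s0, s1, s3, s14, -⟩ := scal_codes
  apply isZ_of_eq
  rcases hk with rfl | rfl | rfl
  · left
    rw [s0] at r
    exact semM_inj ω hω hc s1 (hg.symm.trans r)
  · right; left
    exact semM_inj ω hω hc s3 (hg.symm.trans r)
  · right; right
    exact semM_inj ω hω hc s14 (hg.symm.trans r)

include hω in
/-- An element with a scalar code is central. -/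
theorem mem_center_of_isZ {g : threeJ3 F ω} {c : ℕ} (hg : Rep ω (g : GL I9 F) c)
    (h : isZ c = true) : g ∈ Subgroup.center (threeJ3 F ω) := by
  obtain ⟨s0, -, -, -, -⟩ := scal_codes
  rcases isZ_cases h with rfl | rfl | rfl
  · have : g = zS ω hω 0 := by
      apply Subtype.ext
      have r := zS_rep ω hω 0 (Or.inl rfl)
      rw [s0] at r
      exact hg.ext ω r
    rw [this]
    exact zS_mem_center ω hω 0 (Or.inl rfl)
  · have : g = zS ω hω 3 := Subtype.ext (hg.ext ω (zS_rep ω hω 3 (Or.inr (Or.inl rfl))))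
    rw [this]
    exact zS_mem_center ω hω 3 (Or.inr (Or.inl rfl))
  · have : g = zS ω hω 14 := Subtype.ext (hg.ext ω (zS_rep ω hω 14 (Or.inr (Or.inr rfl))))
    rw [this]
    exact zS_mem_center ω hω 14 (Or.inr (Or.inr rfl))

/-! ### Powers -/

include hω in
theorem rep_pow19 {g : GL I9 F} {c : ℕ} (h : Rep ω g c) : Rep ω (g ^ 19) (pow19 c) := by
  unfold pow19
  simp only [force_eq]
  have h2 := Rep.mul ω hω h h
  have h4 := Rep.mul ω hω h2 h2
  have h8 := Rep.mul ω hω h4 h4
  have h16 := Rep.mul ω hω h8 h8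
  have r := Rep.mul ω hω h16 (Rep.mul ω hω h2 h)
  have e : g ^ 19 = g * g * (g * g) * (g * g * (g * g)) * (g * g * (g * g) * (g * g * (g * g))) *
      (g * g * g) := by simp only [pow_succ, pow_zero, one_mul, mul_assoc]
  rw [e]
  exact r

include hω in
theorem rep_pow9 {g : GL I9 F} {c : ℕ} (h : Rep ω g c) : Rep ω (g ^ 9) (pow9 c) := by
  unfold pow9
  simp only [force_eq]
  have h2 := Rep.mul ω hω h h
  have h4 := Rep.mul ω hω h2 h2
  have h8 := Rep.mul ω hω h4 h4
  have r := Rep.mul ω hω h8 h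
  have e : g ^ 9 = g * g * (g * g) * (g * g * (g * g)) * g := by
    simp only [pow_succ, pow_zero, one_mul, mul_assoc]
  rw [e]
  exact r

/-! ### The table of involutions is complete -/

/-- The conjugating elements, in `3·J₃`. -/
noncomputable def txelS (i : ℕ) : threeJ3 F ω := ⟨txel ω hω i, txel_mem ω hω i⟩

/-- The involutions of the class table, in `3·J₃`. -/
noncomputable def telS (i : ℕ) : threeJ3 F ω := txelS ω hω i * tS ω hω * (txelS ω hω i)⁻¹

theorem telS_rep (i : ℕ) (hi : i < 26163) : Rep ω ((telS ω hω i : threeJ3 F ω) : GL I9 F) (TT i) :=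
  txel_rep ω hω i hi

theorem telS_inj : ∀ i < 26163, ∀ j < 26163, telS ω hω i = telS ω hω j → i = j := by
  intro i hi j hj h
  exact txel_inj ω hω i hi j hj (congrArg Subtype.val h)

theorem invol_mem_table (x : threeJ3 F ω) (h2 : x ^ 2 = 1) (h1 : x ≠ 1) :
    ∃ i < 26163, x = telS ω hω i := by
  classical
  obtain ⟨g, hg⟩ := isConj_iff.mp (involutions_conj_threeJ3 ω hω x h2 h1)
  let f : Fin 26163 → (threeJ3 F ω) ⧸ Subgroup.centralizer ({tS ω hω} : Set (threeJ3 F ω)) :=
    fun i => (txelS ω hω i : (threeJ3 F ω) ⧸ Subgroup.centralizer ({tS ω hω} : Set (threeJ3 F ω)))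
  have hcomm : ∀ c ∈ Subgroup.centralizer ({tS ω hω} : Set (threeJ3 F ω)), ∀ a : threeJ3 F ω,
      (a * c) * tS ω hω * (a * c)⁻¹ = a * tS ω hω * a⁻¹ := by
    intro c hc a
    rw [Subgroup.mem_centralizer_singleton_iff] at hc
    have e : (a * c) * tS ω hω * (a * c)⁻¹ = a * (c * tS ω hω) * c⁻¹ * a⁻¹ := by group
    rw [e, hc]
    group
  have hf : Function.Injective f := by
    intro i j hij
    have h3 : (txelS ω hω i)⁻¹ * txelS ω hω j ∈
        Subgroup.centralizer ({tS ω hω} : Set (threeJ3 F ω)) := QuotientGroup.eq.mp hij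
    have h4 := hcomm _ h3 (txelS ω hω i)
    have e : txelS ω hω i * ((txelS ω hω i)⁻¹ * txelS ω hω j) = txelS ω hω j := by group
    rw [e] at h4
    exact Fin.ext (telS_inj ω hω i i.2 j j.2 h4.symm)
  have hcard : Nat.card ((threeJ3 F ω) ⧸ Subgroup.centralizer ({tS ω hω} : Set (threeJ3 F ω))) ≤
      Nat.card (Fin 26163) := by
    rw [Nat.card_fin, ← Subgroup.index_eq_card]
    have h5 := Subgroup.card_mul_index (Subgroup.centralizer ({tS ω hω} : Set (threeJ3 F ω)))
    rw [card_centralizer_tS ω hω, card_threeJ3 ω hω] at h5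
    omega
  obtain ⟨i, hi⟩ := (hf.bijective_of_nat_card_le hcard).2
    (g : (threeJ3 F ω) ⧸ Subgroup.centralizer ({tS ω hω} : Set (threeJ3 F ω)))
  refine ⟨i, i.2, ?_⟩
  have h3 : (txelS ω hω i)⁻¹ * g ∈
      Subgroup.centralizer ({tS ω hω} : Set (threeJ3 F ω)) := QuotientGroup.eq.mp hi
  have h4 := hcomm _ h3 (txelS ω hω i)
  have e : txelS ω hω i * ((txelS ω hω i)⁻¹ * g) = g := by group
  rw [e] at h4
  rw [← hg, h4]
  rfl

end Top

end Cfsg.Agent.Helper8.J3M
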