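import Cfsg.Agent.Lib.Helper8.J3AutA

set_option autoImplicit false
set_option linter.unusedSectionVars false
set_option linter.unusedVariables false

/-! Automorphisms of `J₃`, part B: the projection onto `J₃`, lifting involutions, the element of
order three, and the count of standard pairs. -/

open scoped MatrixGroups

namespace Cfsg.Agent.Helper8.J3M

open Cfsg.Agent.Helper8.F4P Cfsg.Spor

/-! ### Counting -/

theorem cntRange_succ (lo cnt : ℕ) (f : ℕ → Bool) :
    cntRange lo (cnt + 1) f = cond (f (Nat.add lo cnt)) (Nat.succ (cntRange lo cnt f))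
      (cntRange lo cnt f) := rfl

theorem card_le_cntRange (f : ℕ → Bool) (lo : ℕ) : ∀ (cnt : ℕ) (S : Finset ℕ),
    (∀ i ∈ S, lo ≤ i ∧ i < lo + cnt ∧ f i = true) → S.card ≤ cntRange lo cnt f := by
  intro cnt
  induction cnt with
  | zero =>
    intro S hS
    have : S = ∅ := by
      apply Finset.eq_empty_of_forall_notMem
      intro i hi
      have := hS i hi
      omega
    rw [this]
    exact Nat.zero_le _
  | succ cnt ih =>
    intro S hS
    have h1 : ∀ i ∈ S.erase (lo + cnt), lo ≤ i ∧ i < lo + cnt ∧ f i = true := by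
      intro i hi
      obtain ⟨hne, hiS⟩ := Finset.mem_erase.mp hi
      obtain ⟨a, b, c⟩ := hS i hiS
      exact ⟨a, by omega, c⟩
    have h2 := ih _ h1
    rw [cntRange_succ]
    cases hf : f (Nat.add lo cnt)
    · have hnot : lo + cnt ∉ S := by
        intro hmem
        have := (hS _ hmem).2.2
        have hf' : f (lo + cnt) = false := hf
        rw [hf'] at this
        cases this
      rw [Finset.erase_eq_of_notMem hnot] at h2
      exact h2
    · show S.card ≤ (cntRange lo cnt f) + 1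
      by_cases hmem : lo + cnt ∈ S
      · rw [← Finset.card_erase_add_one hmem]
        exact Nat.add_le_add_right h2 1
      · rw [Finset.erase_eq_of_notMem hmem] at h2
        exact le_trans h2 (Nat.le_succ _)

theorem card_chkX_le : ((Finset.range 26163).filter (fun i => chkX i = true)).card ≤ 2160 := by
  classical
  set S := (Finset.range 26163).filter (fun i => chkX i = true) with hS
  have hmem : ∀ i ∈ S, i < 26163 ∧ chkX i = true := by
    intro i hi
    rw [hS, Finset.mem_filter, Finset.mem_range] at hi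
    exact hi
  have h0 := card_le_cntRange chkX 0 6541 (S.filter (fun i => i < 6541)) (by
    intro i hi
    obtain ⟨a, b⟩ := Finset.mem_filter.mp hi
    exact ⟨Nat.zero_le _, by omega, (hmem i a).2⟩)
  have h1 := card_le_cntRange chkX 6541 6541 (S.filter (fun i => 6541 ≤ i ∧ i < 13082)) (by
    intro i hi
    obtain ⟨a, b⟩ := Finset.mem_filter.mp hi
    exact ⟨b.1, by omega, (hmem i a).2⟩)
  have h2 := card_le_cntRange chkX 13082 6541 (S.filter (fun i => 13082 ≤ i ∧ i < 19623)) (by
    intro i hi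
    obtain ⟨a, b⟩ := Finset.mem_filter.mp hi
    exact ⟨b.1, by omega, (hmem i a).2⟩)
  have h3 := card_le_cntRange chkX 19623 6540 (S.filter (fun i => 19623 ≤ i)) (by
    intro i hi
    obtain ⟨a, b⟩ := Finset.mem_filter.mp hi
    exact ⟨b, by have := (hmem i a).1; omega, (hmem i a).2⟩)
  rw [cntX_0] at h0
  rw [cntX_1] at h1
  rw [cntX_2] at h2
  rw [cntX_3] at h3
  have hsub : S ⊆ (S.filter (fun i => i < 6541)) ∪ ((S.filter (fun i => 6541 ≤ i ∧ i < 13082)) ∪
      ((S.filter (fun i => 13082 ≤ i ∧ i < 19623)) ∪ (S.filter (fun i => 19623 ≤ i)))) := by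
    intro i hi
    simp only [Finset.mem_union, Finset.mem_filter]
    rcases Nat.lt_or_ge i 6541 with h | h
    · left; exact ⟨hi, h⟩
    rcases Nat.lt_or_ge i 13082 with h' | h'
    · right; left; exact ⟨hi, h, h'⟩
    rcases Nat.lt_or_ge i 19623 with h'' | h''
    · right; right; left; exact ⟨hi, h', h''⟩
    · right; right; right; exact ⟨hi, h''⟩
  have hc := Finset.card_le_card hsub
  have u1 := Finset.card_union_le (S.filter (fun i => i < 6541))
    ((S.filter (fun i => 6541 ≤ i ∧ i < 13082)) ∪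
      ((S.filter (fun i => 13082 ≤ i ∧ i < 19623)) ∪ (S.filter (fun i => 19623 ≤ i))))
  have u2 := Finset.card_union_le (S.filter (fun i => 6541 ≤ i ∧ i < 13082))
    ((S.filter (fun i => 13082 ≤ i ∧ i < 19623)) ∪ (S.filter (fun i => 19623 ≤ i)))
  have u3 := Finset.card_union_le (S.filter (fun i => 13082 ≤ i ∧ i < 19623))
    (S.filter (fun i => 19623 ≤ i))
  omega

section Top

variable {F : Type*} [Field F] [CharP F 2] [Finite F] (ω : F) (hω : ω ^ 2 = ω + 1)

/-- The projection onto `J₃`. -/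
noncomputable def pj : threeJ3 F ω →* J3 F ω := QuotientGroup.mk' (Subgroup.center (threeJ3 F ω))

theorem pj_surj : Function.Surjective (pj ω) := QuotientGroup.mk'_surjective _

theorem pj_eq_one_iff {x : threeJ3 F ω} : pj ω x = 1 ↔ x ∈ Subgroup.center (threeJ3 F ω) :=
  QuotientGroup.eq_one_iff x

theorem pj_eq_iff {a b : threeJ3 F ω} :
    pj ω a = pj ω b ↔ a⁻¹ * b ∈ Subgroup.center (threeJ3 F ω) := QuotientGroup.eq

include hω in
theorem center_pow_three (z : threeJ3 F ω) (hz : z ∈ Subgroup.center (threeJ3 F ω)) :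
    z ^ 3 = 1 := by
  have h := pow_card_eq_one' (G := Subgroup.center (threeJ3 F ω)) (x := ⟨z, hz⟩)
  rw [card_center ω hω] at h
  simpa using congrArg Subtype.val h

include hω in
theorem lift_invol (x : J3 F ω) (hx : orderOf x = 2) :
    ∃ x1 : threeJ3 F ω, x1 ^ 2 = 1 ∧ x1 ≠ 1 ∧ pj ω x1 = x := by
  obtain ⟨x0, rfl⟩ := pj_surj ω x
  have hx2 : (pj ω x0) ^ 2 = 1 := by
    have h := pow_orderOf_eq_one (pj ω x0)
    rw [hx] at h
    exact h
  have hx1 : pj ω x0 ≠ 1 := by
    intro h1
    rw [h1, orderOf_one] at hx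
    omega
  have hmem : x0 ^ 2 ∈ Subgroup.center (threeJ3 F ω) := by
    rw [← pj_eq_one_iff, map_pow, hx2]
  have h6 : (x0 ^ 3) ^ 2 = 1 := by
    have := center_pow_three ω hω _ hmem
    rw [← pow_mul, mul_comm, pow_mul]
    exact this
  have himg : pj ω (x0 ^ 3) = pj ω x0 := by
    rw [map_pow, pow_succ, hx2, one_mul]
  refine ⟨x0 ^ 3, h6, ?_, himg⟩
  intro h1
  apply hx1
  rw [← himg, h1, map_one]

include hω in
theorem invol_J3 (x : J3 F ω) (hx : orderOf x = 2) : ∃ i < 26163, x = pj ω (telS ω hω i) := by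
  obtain ⟨x1, h2, h1, rfl⟩ := lift_invol ω hω x hx
  obtain ⟨i, hi, rfl⟩ := invol_mem_table ω hω x1 h2 h1
  exact ⟨i, hi, rfl⟩

/-- The element of order three, in `3·J₃`. -/
noncomputable def y0S : threeJ3 F ω := celS ω hω 6

theorem y0S_rep : Rep ω ((y0S ω hω : threeJ3 F ω) : GL I9 F) Y0c := by
  have r := cel_rep ω hω 6 (by norm_num)
  rw [← XY_codes.2.1] at r
  exact r

theorem y0S_cube : y0S ω hω ^ 3 = 1 := by
  apply Subtype.ext
  have r := Rep.mul ω hω (Rep.mul ω hω (y0S_rep ω hω) (y0S_rep ω hω)) (y0S_rep ω hω)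
  rw [XY_codes.2.2.1] at r
  have e : ((y0S ω hω ^ 3 : threeJ3 F ω) : GL I9 F) =
      (y0S ω hω : GL I9 F) * (y0S ω hω : GL I9 F) * (y0S ω hω : GL I9 F) := by
    rw [Subgroup.coe_pow]
    simp only [pow_succ, pow_zero, one_mul]
  rw [e]
  exact r.ext ω (rep_one ω)

theorem y0S_not_center : y0S ω hω ∉ Subgroup.center (threeJ3 F ω) := by
  intro h
  have := isZ_of_mem_center ω hω (y0S_rep ω hω) (by rw [XY_codes.2.1]; exact CLt_lt 6) h
  rw [XY_codes.2.2.2] at this
  cases this

/-- The element of order three of `J₃`. -/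
noncomputable def yb : J3 F ω := pj ω (y0S ω hω)

theorem yb_order : orderOf (yb ω hω) = 3 := by
  haveI : Fact (Nat.Prime 3) := ⟨Nat.prime_three⟩
  apply orderOf_eq_prime
  · rw [yb, ← map_pow, y0S_cube, map_one]
  · intro h
    exact y0S_not_center ω hω ((pj_eq_one_iff ω).mp h)

theorem yb_comm_t : pj ω (tS ω hω) * yb ω hω = yb ω hω * pj ω (tS ω hω) := by
  have h := Subgroup.mem_centralizer_singleton_iff.mp (celS_mem ω hω 6)
  rw [yb, ← map_mul, ← map_mul]
  exact congrArg (pj ω) h.symm

theorem wordW_rep {g : GL I9 F} {c : ℕ} (h : Rep ω g c) :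
    Rep ω (g * (y0S ω hω : GL I9 F) * (g * (y0S ω hω : GL I9 F)) * (y0S ω hω : GL I9 F))
      (wordW c) := by
  unfold wordW
  simp only [force_eq]
  have m := Rep.mul ω hω h (y0S_rep ω hω)
  exact Rep.mul ω hω (Rep.mul ω hω m m) (y0S_rep ω hω)

theorem pow19_lt (c : ℕ) : pow19 c < 2 ^ 162 := by
  unfold pow19
  simp only [force_eq]
  exact mmul_lt _ _

theorem pow9_lt (c : ℕ) : pow9 c < 2 ^ 162 := by
  unfold pow9
  simp only [force_eq]
  exact mmul_lt _ _

/-- The order conditions force the computational check. -/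
theorem chkX_of_orders (i : ℕ) (hi : i < 26163)
    (h19 : orderOf (pj ω (telS ω hω i) * yb ω hω) = 19)
    (h9 : orderOf (pj ω (telS ω hω i) * yb ω hω * pj ω (telS ω hω i) * yb ω hω * yb ω hω) = 9) :
    chkX i = true := by
  have rt := telS_rep ω hω i hi
  have rg : Rep ω ((telS ω hω i * y0S ω hω : threeJ3 F ω) : GL I9 F) (mmul (TT i) Y0c) :=
    Rep.mul ω hω rt (y0S_rep ω hω)
  -- the nineteenth power
  have c19 : (telS ω hω i * y0S ω hω) ^ 19 ∈ Subgroup.center (threeJ3 F ω) := by
    rw [← pj_eq_one_iff, map_pow, map_mul, ← h19]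
    exact pow_orderOf_eq_one _
  have r19 : Rep ω (((telS ω hω i * y0S ω hω) ^ 19 : threeJ3 F ω) : GL I9 F)
      (pow19 (mmul (TT i) Y0c)) := by
    rw [Subgroup.coe_pow]
    exact rep_pow19 ω hω rg
  have z19 := isZ_of_mem_center ω hω r19 (pow19_lt _) c19
  -- the word
  have rw_ := wordW_rep ω hω rt
  have c9 : (telS ω hω i * y0S ω hω * (telS ω hω i * y0S ω hω) * y0S ω hω) ^ 9 ∈
      Subgroup.center (threeJ3 F ω) := by
    rw [← pj_eq_one_iff, map_pow]
    have e : pj ω (telS ω hω i * y0S ω hω * (telS ω hω i * y0S ω hω) * y0S ω hω) =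
        pj ω (telS ω hω i) * yb ω hω * pj ω (telS ω hω i) * yb ω hω * yb ω hω := by
      simp only [map_mul, yb, mul_assoc]
    rw [e, ← h9]
    exact pow_orderOf_eq_one _
  have r9 : Rep ω (((telS ω hω i * y0S ω hω * (telS ω hω i * y0S ω hω) * y0S ω hω) ^ 9 :
      threeJ3 F ω) : GL I9 F) (pow9 (wordW (TT i))) := by
    rw [Subgroup.coe_pow]
    exact rep_pow9 ω hω rw_
  have z9 := isZ_of_mem_center ω hω r9 (pow9_lt _) c9
  unfold chkX
  simp only [force_eq]
  rw [z19, z9]
  rfl

include hω in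
theorem X0_bound : Nat.card {x : J3 F ω // orderOf x = 2 ∧ orderOf (x * yb ω hω) = 19 ∧
    orderOf (x * yb ω hω * x * yb ω hω * yb ω hω) = 9} ≤ 2160 := by
  classical
  have hex : ∀ x : {x : J3 F ω // orderOf x = 2 ∧ orderOf (x * yb ω hω) = 19 ∧
      orderOf (x * yb ω hω * x * yb ω hω * yb ω hω) = 9},
      ∃ i, i < 26163 ∧ x.1 = pj ω (telS ω hω i) := fun x => invol_J3 ω hω x.1 x.2.1
  choose idx hidx using hex
  have hinj : Function.Injective idx := by
    intro x y hxy
    apply Subtype.ext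
    rw [(hidx x).2, (hidx y).2, hxy]
  have hmem : ∀ x, idx x ∈ (Finset.range 26163).filter (fun i => chkX i = true) := by
    intro x
    rw [Finset.mem_filter, Finset.mem_range]
    refine ⟨(hidx x).1, ?_⟩
    have h19 := x.2.2.1
    have h9 := x.2.2.2
    rw [(hidx x).2] at h19 h9
    exact chkX_of_orders ω hω _ (hidx x).1 h19 h9
  have h1 : Nat.card {x : J3 F ω // orderOf x = 2 ∧ orderOf (x * yb ω hω) = 19 ∧
      orderOf (x * yb ω hω * x * yb ω hω * yb ω hω) = 9} ≤
      Nat.card ((Finset.range 26163).filter (fun i => chkX i = true)) :=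
    Nat.card_le_card_of_injective (fun x => (⟨idx x, hmem x⟩ :
      ((Finset.range 26163).filter (fun i => chkX i = true))))
      (fun x y h => hinj (congrArg Subtype.val h))
  have h2 : Nat.card ((Finset.range 26163).filter (fun i => chkX i = true)) =
      ((Finset.range 26163).filter (fun i => chkX i = true)).card := by
    rw [Nat.card_eq_fintype_card, Fintype.card_coe]
  rw [h2] at h1
  exact le_trans h1 card_chkX_le

end Top

end Cfsg.Agent.Helper8.J3M
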