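import Cfsg.Agent.Lib.Helper8.J3AutB

set_option autoImplicit false
set_option linter.unusedSectionVars false
set_option linter.unusedVariables false

/-! Automorphisms of `J₃`, part C: the elements of order three commuting with an involution form
one class, and the centraliser of such an element has at least `1080` elements. -/

open scoped MatrixGroups

namespace Cfsg.Agent.Helper8.J3M

open Cfsg.Agent.Helper8.F4P Cfsg.Spor

theorem chkD_unpack (j : ℕ) (hj : j < 5760)
    (h1 : isZ (mmul (mmul (CLt j) (CLt j)) (CLt j)) = true) (h2 : isZ (CLt j) = false) :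
    ∃ w < 5760, ∃ k : ℕ,
      mmul (CLt w) Y0c = mmul (mmul (CLt j) (CLt w)) (zc k) := by
  have h := allBelow_spec chkD_all j hj
  unfold chkD at h
  simp only [force_eq] at h
  rw [h1, h2] at h
  obtain ⟨ha, hb⟩ := and_true' h
  exact ⟨_, blt_true ha, _, beq_true hb⟩

theorem chkY_unpack (k : ℕ) (hk : k < 1080) :
    Nat.mod (YSt k) 32768 < 23256 ∧ Nat.shiftRight (YSt k) 15 < 6480 ∧
      mmul (ycode k) Y0c = mmul Y0c (ycode k) := by
  have h := allBelow_spec chkY_all k hk
  unfold chkY at h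
  simp only [force_eq] at h
  obtain ⟨ha, hb⟩ := and_true' h
  obtain ⟨hb1, hb2⟩ := and_true' hb
  refine ⟨blt_true ha, blt_true hb1, ?_⟩
  unfold ycode
  simp only [force_eq]
  exact beq_true hb2

section Top

variable {F : Type*} [Field F] [CharP F 2] [Finite F] (ω : F) (hω : ω ^ 2 = ω + 1)

include hω in
theorem zc_rep (k : ℕ) : ∃ z ∈ Subgroup.center (threeJ3 F ω), Rep ω ((z : threeJ3 F ω) : GL I9 F) (zc k) := by
  unfold zc
  cases Nat.beq k 0
  · cases Nat.beq k 1
    · exact ⟨zS ω hω 14, zS_mem_center ω hω 14 (Or.inr (Or.inr rfl)),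
        zS_rep ω hω 14 (Or.inr (Or.inr rfl))⟩
    · exact ⟨zS ω hω 3, zS_mem_center ω hω 3 (Or.inr (Or.inl rfl)),
        zS_rep ω hω 3 (Or.inr (Or.inl rfl))⟩
  · refine ⟨zS ω hω 0, zS_mem_center ω hω 0 (Or.inl rfl), ?_⟩
    have r := zS_rep ω hω 0 (Or.inl rfl)
    rw [scal_codes.1] at r
    exact r

include hω in
/-- Commuting with the involution modulo the centre is commuting with it. -/
theorem centralizer_lift (x : threeJ3 F ω)
    (h : pj ω x * pj ω (tS ω hω) = pj ω (tS ω hω) * pj ω x) :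
    x * tS ω hω = tS ω hω * x := by
  rw [← map_mul, ← map_mul] at h
  have hz : (x * tS ω hω)⁻¹ * (tS ω hω * x) ∈ Subgroup.center (threeJ3 F ω) := (pj_eq_iff ω).mp h
  set t := tS ω hω with ht
  set z := (x * t)⁻¹ * (t * x) with hzdef
  have hzc : ∀ y : threeJ3 F ω, z * y = y * z := fun y => (Subgroup.mem_center_iff.mp hz y).symm
  have htt : t * t = 1 := by rw [← pow_two, ht, tS_sq]
  have e1 : t * x = x * t * z := by rw [hzdef]; group
  have e2 : x = x * (z * z) := by
    calc x = t * (t * x) := by rw [← mul_assoc, htt, one_mul]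
      _ = t * (x * t * z) := by rw [← e1]
      _ = (t * x) * (t * z) := by group
      _ = (x * t * z) * (t * z) := by rw [← e1]
      _ = x * t * (z * t) * z := by group
      _ = x * t * (t * z) * z := by rw [hzc t]
      _ = x * (t * t) * (z * z) := by group
      _ = x * (z * z) := by rw [htt, mul_one]
  have hz2 : z * z = 1 := (mul_left_cancel (a := x) (by rw [mul_one]; exact e2)).symm
  have hz3 := center_pow_three ω hω z hz
  have hz1 : z = 1 := by
    rw [pow_succ, pow_two, hz2, one_mul] at hz3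
    exact hz3
  rw [e1, hz1, mul_one]

include hω in
/-- Elements of order three of `J₃` commuting with an involution are conjugate to `yb`. -/
theorem order3_conj (y : J3 F ω) (hy : orderOf y = 3) (u : J3 F ω) (hu : orderOf u = 2)
    (hc : u * y = y * u) : IsConj (yb ω hω) y := by
  obtain ⟨u1, hu2, hu1, rfl⟩ := lift_invol ω hω u hu
  obtain ⟨g, hg⟩ := isConj_iff.mp (involutions_conj_threeJ3 ω hω u1 hu2 hu1)
  obtain ⟨y1, rfl⟩ := pj_surj ω y
  -- move the involution to the standard one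
  have hcomm : pj ω (g⁻¹ * y1 * g) * pj ω (tS ω hω) = pj ω (tS ω hω) * pj ω (g⁻¹ * y1 * g) := by
    have e1 : pj ω (g⁻¹ * y1 * g) * pj ω (tS ω hω) =
        (pj ω g)⁻¹ * (pj ω y1 * pj ω u1) * pj ω g := by
      rw [← hg]; simp only [map_mul, map_inv]; group
    have e2 : pj ω (tS ω hω) * pj ω (g⁻¹ * y1 * g) =
        (pj ω g)⁻¹ * (pj ω u1 * pj ω y1) * pj ω g := by
      rw [← hg]; simp only [map_mul, map_inv]; group
    rw [e1, e2, hc]
  have hcen := centralizer_lift ω hω _ hcomm
  obtain ⟨j, hj, hyj⟩ := centralizer_elems ω hω (g⁻¹ * y1 * g)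
    (Subgroup.mem_centralizer_singleton_iff.mpr hcen)
  -- the order of the conjugate
  have hord : orderOf (pj ω (celS ω hω j)) = 3 := by
    rw [← hyj]
    have hs : SemiconjBy (pj ω g)⁻¹ (pj ω y1) (pj ω (g⁻¹ * y1 * g)) := by
      unfold SemiconjBy
      simp only [map_mul, map_inv]
      group
    rw [← hs.orderOf_eq, hy]
  have rj := cel_rep ω hω j hj
  have hcube : (celS ω hω j) ^ 3 ∈ Subgroup.center (threeJ3 F ω) := by
    rw [← pj_eq_one_iff, map_pow]
    have h := pow_orderOf_eq_one (pj ω (celS ω hω j))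
    rw [hord] at h
    exact h
  have rcube : Rep ω (((celS ω hω j) ^ 3 : threeJ3 F ω) : GL I9 F)
      (mmul (mmul (CLt j) (CLt j)) (CLt j)) := by
    have e : (((celS ω hω j) ^ 3 : threeJ3 F ω) : GL I9 F) =
        cel ω hω j * cel ω hω j * cel ω hω j := by
      rw [Subgroup.coe_pow]
      simp only [pow_succ, pow_zero, one_mul]
      rfl
    rw [e]
    exact Rep.mul ω hω (Rep.mul ω hω rj rj) rj
  have h1 := isZ_of_mem_center ω hω rcube (mmul_lt _ _) hcube
  have h2 : isZ (CLt j) = false := by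
    rw [Bool.eq_false_iff]
    intro h
    have hmem : celS ω hω j ∈ Subgroup.center (threeJ3 F ω) := mem_center_of_isZ ω hω rj h
    have : pj ω (celS ω hω j) = 1 := (pj_eq_one_iff ω).mpr hmem
    rw [this, orderOf_one] at hord
    omega
  obtain ⟨w, hw, k, hk⟩ := chkD_unpack j hj h1 h2
  obtain ⟨z, hz, rz⟩ := zc_rep ω hω k
  have hmul : celS ω hω w * y0S ω hω = celS ω hω j * celS ω hω w * z := by
    apply Subtype.ext
    have r1 := Rep.mul ω hω (cel_rep ω hω w hw) (y0S_rep ω hω)
    have r2 := Rep.mul ω hω (Rep.mul ω hω rj (cel_rep ω hω w hw)) rz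
    rw [hk] at r1
    exact r1.ext ω r2
  have hpj : pj ω (celS ω hω w) * yb ω hω = pj ω (celS ω hω j) * pj ω (celS ω hω w) := by
    have := congrArg (pj ω) hmul
    rw [map_mul, map_mul, map_mul, (pj_eq_one_iff ω).mpr hz, mul_one] at this
    exact this
  -- assemble
  have c1 : IsConj (yb ω hω) (pj ω (celS ω hω j)) := by
    rw [isConj_iff]
    refine ⟨pj ω (celS ω hω w), ?_⟩
    rw [hpj]; group
  have c2 : IsConj (pj ω (celS ω hω j)) (pj ω y1) := by
    rw [isConj_iff]
    refine ⟨pj ω g, ?_⟩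
    rw [← hyj]
    simp only [map_mul, map_inv]
    group
  exact c1.trans c2

/-! ### The centraliser of the element of order three -/

theorem yel_mem (k : ℕ) : uel ω hω (Nat.mod (YSt k) 32768) * kel ω hω (Nat.shiftRight (YSt k) 15) ∈
    threeJ3 F ω :=
  mul_mem (uel_mem ω hω _) (Kst_le ω hω (kel_mem ω hω _))

/-- Elements centralising the element of order three. -/
noncomputable def yelS (k : ℕ) : threeJ3 F ω := ⟨_, yel_mem ω hω k⟩

theorem yelS_rep (k : ℕ) (hk : k < 1080) :
    Rep ω ((yelS ω hω k : threeJ3 F ω) : GL I9 F) (ycode k) := by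
  obtain ⟨h1, h2, -⟩ := chkY_unpack k hk
  unfold ycode
  simp only [force_eq]
  exact Rep.mul ω hω (uel_rep ω hω _ h1) (kel_rep ω hω _ h2)

theorem yelS_comm (k : ℕ) (hk : k < 1080) :
    yelS ω hω k * y0S ω hω = y0S ω hω * yelS ω hω k := by
  obtain ⟨-, -, h3⟩ := chkY_unpack k hk
  apply Subtype.ext
  have r1 := Rep.mul ω hω (yelS_rep ω hω k hk) (y0S_rep ω hω)
  have r2 := Rep.mul ω hω (y0S_rep ω hω) (yelS_rep ω hω k hk)
  rw [h3] at r1
  exact r1.ext ω r2

theorem scalar_form (m : ℕ) (hm : m = 0 ∨ m = 3 ∨ m = 14) :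
    ∃ l : F, semM ω (U2 m) = l • (1 : Matrix I9 I9 F) := by
  rcases hm with rfl | rfl | rfl
  · exact ⟨1, by rw [scal_codes.1, semM_one, one_smul]⟩
  · exact ⟨ω, semM_U2_3 ω⟩
  · exact ⟨1 + ω, semM_U2_14 ω⟩

theorem pj_yelS_inj : ∀ k < 1080, ∀ l < 1080,
    pj ω (yelS ω hω k) = pj ω (yelS ω hω l) → k = l := by
  intro k hk l hl h
  apply distinctBelow_spec keyY_distinct k hk l hl
  obtain ⟨m, hm, hz⟩ := center_cases ω hω _ ((pj_eq_iff ω).mp h)
  have hl' : yelS ω hω l = yelS ω hω k * zS ω hω m := by rw [← hz]; group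
  obtain ⟨lam, hlam⟩ := scalar_form ω m hm
  have rk := yelS_rep ω hω k hk
  have rl := yelS_rep ω hω l hl
  have hmat : semM ω (ycode l) = lam • semM ω (ycode k) := by
    have := congrArg (fun x : threeJ3 F ω => ((x : GL I9 F) : Matrix I9 I9 F)) hl'
    simp only [Subgroup.coe_mul, Units.val_mul] at this
    rw [rl, rk, zS_rep ω hω m hm, hlam, Matrix.mul_smul, mul_one] at this
    exact this
  have hB : BYc < 2 ^ 18 := BYc_lt
  have hv := semM_mulVec ω hω (ycode l) BYc hB
  rw [hmat, Matrix.smul_mulVec, semM_mulVec ω hω (ycode k) BYc hB] at hv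
  have hne : col (mmul (ycode l) BYc) 0 ≠ 0 := by
    have := blt_true (allBelow_spec chkYnz_all l hl)
    omega
  unfold keyY
  exact (key_of_smul ω hω (col_lt _ _) (col_lt _ _) hne lam hv.symm).symm

theorem card_centralizer_yb :
    1080 ≤ Nat.card (Subgroup.centralizer ({yb ω hω} : Set (J3 F ω))) := by
  have hmem : ∀ k : Fin 1080, pj ω (yelS ω hω k) ∈
      Subgroup.centralizer ({yb ω hω} : Set (J3 F ω)) := by
    intro k
    rw [Subgroup.mem_centralizer_singleton_iff, yb, ← map_mul, ← map_mul,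
      yelS_comm ω hω k k.2]
  have hinj : Function.Injective (fun k : Fin 1080 =>
      (⟨pj ω (yelS ω hω k), hmem k⟩ : Subgroup.centralizer ({yb ω hω} : Set (J3 F ω)))) := by
    intro k l h
    exact Fin.ext (pj_yelS_inj ω hω k k.2 l l.2 (congrArg Subtype.val h))
  have := Nat.card_le_card_of_injective _ hinj
  rw [Nat.card_fin] at this
  exact this

end Top

end Cfsg.Agent.Helper8.J3M
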