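import Cfsg.Agent.Lib.Helper8.J3AutC
import Cfsg.Agent.Lib.Helper8.AutBound

set_option autoImplicit false
set_option linter.unusedSectionVars false
set_option linter.unusedVariables false

/-! Automorphisms of `J₃`, part D: the standard pair generates, the twisted automorphism, and the
order of the outer automorphism group. -/

open scoped MatrixGroups

namespace Cfsg.Agent.Helper8.J3M

open Cfsg.Agent.Helper8.F4P Cfsg.Spor

theorem chkSL_unpack (k : ℕ) (h2 : 2 ≤ k) (hk : k < 154) :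
    ∃ a < k, ∃ b < k, SLVt k = mmul (SLVt a) (SLVt b) := by
  have h := allRange_spec chkSL_all k h2 (by omega)
  unfold chkSL at h
  simp only [force_eq] at h
  obtain ⟨ha, hb⟩ := and_true' h
  obtain ⟨hb1, hb2⟩ := and_true' hb
  exact ⟨_, blt_true ha, _, blt_true hb1, beq_true hb2⟩

section Top

variable {F : Type*} [Field F] [CharP F 2] [Finite F] (ω : F) (hω : ω ^ 2 = ω + 1)

/-! ### The standard pair generates -/

/-- The standard involution, in `3·J₃`. -/
noncomputable def x0S : threeJ3 F ω := telS ω hω 4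

theorem x0S_rep : Rep ω ((x0S ω hω : threeJ3 F ω) : GL I9 F) X0c := by
  have r := telS_rep ω hω 4 (by norm_num)
  rw [← XY_codes.1] at r
  exact r

theorem SL_mem : ∀ k < 154, ∃ g ∈ Subgroup.closure ({x0S ω hω, y0S ω hω} : Set (threeJ3 F ω)),
    Rep ω ((g : threeJ3 F ω) : GL I9 F) (SLVt k) := by
  intro k
  induction k using Nat.strong_induction_on with
  | _ k ih =>
    intro hk
    rcases Nat.lt_or_ge k 2 with h | h
    · interval_cases k
      · refine ⟨x0S ω hω, Subgroup.subset_closure (by simp), ?_⟩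
        rw [SL_ends.1]; exact x0S_rep ω hω
      · refine ⟨y0S ω hω, Subgroup.subset_closure (by simp), ?_⟩
        rw [SL_ends.2.1]; exact y0S_rep ω hω
    · obtain ⟨a, ha, b, hb, e⟩ := chkSL_unpack k h hk
      obtain ⟨ga, hga, ra⟩ := ih a ha (by omega)
      obtain ⟨gb, hgb, rb⟩ := ih b hb (by omega)
      refine ⟨ga * gb, mul_mem hga hgb, ?_⟩
      rw [e]
      exact Rep.mul ω hω ra rb

theorem closure_c1_c2 : Subgroup.closure ({c1 ω hω, c2 ω hω} : Set (threeJ3 F ω)) = ⊤ := by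
  apply Subgroup.map_injective (Subgroup.subtype_injective (threeJ3 F ω))
  rw [MonoidHom.map_closure, Set.image_pair, ← MonoidHom.range_eq_map, Subgroup.range_subtype]
  exact (G_eq_closure ω hω).symm

theorem closure_x0_y0 :
    Subgroup.closure ({x0S ω hω, y0S ω hω} : Set (threeJ3 F ω)) = ⊤ := by
  have h1 : c1 ω hω ∈ Subgroup.closure ({x0S ω hω, y0S ω hω} : Set (threeJ3 F ω)) := by
    obtain ⟨g, hg, r⟩ := SL_mem ω hω 125 (by norm_num)
    rw [SL_ends.2.2.1] at r
    have : g = c1 ω hω := Subtype.ext (r.ext ω (gg1_rep ω hω))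
    rw [← this]; exact hg
  have h2 : c2 ω hω ∈ Subgroup.closure ({x0S ω hω, y0S ω hω} : Set (threeJ3 F ω)) := by
    obtain ⟨g, hg, r⟩ := SL_mem ω hω 153 (by norm_num)
    rw [SL_ends.2.2.2] at r
    have : g = c2 ω hω := Subtype.ext (r.ext ω (gg2_rep ω hω))
    rw [← this]; exact hg
  rw [eq_top_iff, ← closure_c1_c2 ω hω, Subgroup.closure_le]
  rintro x (rfl | hx)
  · exact h1
  · rw [Set.mem_singleton_iff] at hx; subst hx
    exact h2

/-- The standard involution of `J₃`. -/
noncomputable def xb : J3 F ω := pj ω (x0S ω hω)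

theorem closure_xb_yb : Subgroup.closure ({xb ω hω, yb ω hω} : Set (J3 F ω)) = ⊤ := by
  have h := congrArg (Subgroup.map (pj ω)) (closure_x0_y0 ω hω)
  rw [MonoidHom.map_closure, Set.image_pair, ← MonoidHom.range_eq_map,
    MonoidHom.range_eq_top.mpr (pj_surj ω)] at h
  exact h

/-! ### The standard pair -/

theorem x0S_sq : x0S ω hω ^ 2 = 1 := by
  unfold x0S telS
  have h := tS_sq ω hω
  rw [pow_two] at h ⊢
  calc txelS ω hω 4 * tS ω hω * (txelS ω hω 4)⁻¹ * (txelS ω hω 4 * tS ω hω * (txelS ω hω 4)⁻¹)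
      = txelS ω hω 4 * (tS ω hω * tS ω hω) * (txelS ω hω 4)⁻¹ := by group
    _ = 1 := by rw [h]; group

theorem x0S_ne_one : x0S ω hω ≠ 1 := by
  intro h
  apply tS_ne_one ω hω
  unfold x0S telS at h
  calc tS ω hω = (txelS ω hω 4)⁻¹ * (txelS ω hω 4 * tS ω hω * (txelS ω hω 4)⁻¹) * txelS ω hω 4 := by
        group
    _ = 1 := by rw [h]; group

theorem xb_order : orderOf (xb ω hω) = 2 := by
  have : Fact (Nat.Prime 2) := ⟨Nat.prime_two⟩
  apply orderOf_eq_prime
  · rw [xb, ← map_pow, x0S_sq, map_one]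
  · intro h
    have hc := (pj_eq_one_iff ω).mp h
    have h3 := center_pow_three ω hω _ hc
    apply x0S_ne_one ω hω
    have h2 := x0S_sq ω hω
    rw [pow_succ, h2, one_mul] at h3
    exact h3

theorem xb_yb_order : orderOf (xb ω hω * yb ω hω) = 19 := by
  have : Fact (Nat.Prime 19) := ⟨by norm_num⟩
  apply orderOf_eq_prime
  · have hchk := X0_std.1
    unfold chkX at hchk
    simp only [force_eq] at hchk
    obtain ⟨h19, -⟩ := and_true' hchk
    have rg : Rep ω ((x0S ω hω * y0S ω hω : threeJ3 F ω) : GL I9 F) (mmul (TT 4) Y0c) :=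
      Rep.mul ω hω (telS_rep ω hω 4 (by norm_num)) (y0S_rep ω hω)
    have r19 : Rep ω (((x0S ω hω * y0S ω hω) ^ 19 : threeJ3 F ω) : GL I9 F)
        (pow19 (mmul (TT 4) Y0c)) := by
      rw [Subgroup.coe_pow]
      exact rep_pow19 ω hω rg
    have hc := mem_center_of_isZ ω hω r19 h19
    rw [xb, yb, ← map_mul, ← map_pow]
    exact (pj_eq_one_iff ω).mpr hc
  · intro h
    have e : yb ω hω = (xb ω hω)⁻¹ := (eq_inv_of_mul_eq_one_right h)
    have := yb_order ω hω
    rw [e, orderOf_inv, xb_order] at this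
    omega

theorem word_order : orderOf (xb ω hω * yb ω hω * xb ω hω * yb ω hω * yb ω hω) = 9 := by
  have : Fact (Nat.Prime 3) := ⟨Nat.prime_three⟩
  have rw_ := wordW_rep ω hω (telS_rep ω hω 4 (by norm_num))
  have e : xb ω hω * yb ω hω * xb ω hω * yb ω hω * yb ω hω =
      pj ω (x0S ω hω * y0S ω hω * (x0S ω hω * y0S ω hω) * y0S ω hω) := by
    simp only [map_mul, yb, xb, mul_assoc]
  have h9 : orderOf (xb ω hω * yb ω hω * xb ω hω * yb ω hω * yb ω hω) = 3 ^ (1 + 1) := by
    apply orderOf_eq_prime_pow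
    · intro h
      rw [e, ← map_pow, pj_eq_one_iff] at h
      have r3 : Rep ω (((x0S ω hω * y0S ω hω * (x0S ω hω * y0S ω hω) * y0S ω hω) ^ 3 ^ 1 :
          threeJ3 F ω) : GL I9 F)
          (mmul (mmul (wordW (TT 4)) (wordW (TT 4))) (wordW (TT 4))) := by
        rw [Subgroup.coe_pow]
        simp only [pow_succ, pow_zero, one_mul]
        exact Rep.mul ω hω (Rep.mul ω hω rw_ rw_) rw_
      have hz := isZ_of_mem_center ω hω r3 (mmul_lt _ _) h
      have hn := X0_std.2
      rw [XY_codes.1, hz] at hn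
      cases hn
    · have hchk := X0_std.1
      unfold chkX at hchk
      simp only [force_eq] at hchk
      obtain ⟨-, h9⟩ := and_true' hchk
      have r9 : Rep ω (((x0S ω hω * y0S ω hω * (x0S ω hω * y0S ω hω) * y0S ω hω) ^ 9 :
          threeJ3 F ω) : GL I9 F) (pow9 (wordW (TT 4))) := by
        rw [Subgroup.coe_pow]
        exact rep_pow9 ω hω rw_
      have hc := mem_center_of_isZ ω hω r9 h9
      rw [e, ← map_pow]
      exact (pj_eq_one_iff ω).mpr hc
  rw [h9]
  norm_num

/-! ### The twisted automorphism -/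

/-- Squaring, as a ring homomorphism. -/
noncomputable def sqHom : F →+* F where
  toFun x := x ^ 2
  map_one' := one_pow 2
  map_mul' x y := mul_pow x y 2
  map_zero' := zero_pow (by norm_num)
  map_add' x y := CharTwo.add_sq x y

omit [Finite F] in
theorem sqHom_apply (x : F) : sqHom (F := F) x = x ^ 2 := rfl

/-- Squaring the entries of a matrix. -/
noncomputable def frobGL : GL I9 F →* GL I9 F := Matrix.GeneralLinearGroup.map (sqHom (F := F))

omit [Finite F] in
theorem frobGL_injective : Function.Injective (frobGL (F := F)) := by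
  intro g h e
  apply Units.ext
  ext w z
  have := congrArg (fun x : GL I9 F => (x : Matrix I9 I9 F) w z) e
  simp only [frobGL, Matrix.GeneralLinearGroup.map_apply] at this
  exact (sqHom (F := F)).injective this

include hω in
theorem rep_frob {g : GL I9 F} {c c' : ℕ} (h : Rep ω g c)
    (hd : ∀ w z : I9, dg c' w z = cjd (dg c w z)) : Rep ω (frobGL g) c' := by
  rw [Rep]
  ext w z
  rw [frobGL, Matrix.GeneralLinearGroup.map_apply, sqHom_apply, h, semM_dg, semM_dg, hd,
    dF_cjd ω hω _ (dg_lt _ _ _)]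

/-- The twisting matrix. -/
noncomputable def a9 : GL I9 F := mkUnit ω hω A9c A9h A9_inv.1 A9_inv.2

theorem a9_rep : Rep ω (a9 ω hω) A9c := mkUnit_rep ω hω _ _ _ _

theorem a9_inv_rep : Rep ω (a9 ω hω)⁻¹ A9h := rep_inv ω hω (a9_rep ω hω) A9_inv.2

/-- The twisted map on the general linear group. -/
noncomputable def psi : GL I9 F →* GL I9 F :=
  (MulAut.conj (a9 ω hω)).toMonoidHom.comp frobGL

theorem psi_apply (g : GL I9 F) : psi ω hω g = a9 ω hω * frobGL g * (a9 ω hω)⁻¹ := rfl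

theorem psi_injective : Function.Injective (psi ω hω) := by
  intro g h e
  apply frobGL_injective
  have e' : a9 ω hω * frobGL g * (a9 ω hω)⁻¹ = a9 ω hω * frobGL h * (a9 ω hω)⁻¹ := e
  exact mul_left_cancel (mul_right_cancel e')

theorem psi_rep {g : GL I9 F} {c c' : ℕ} (h : Rep ω g c)
    (hd : ∀ w z : I9, dg c' w z = cjd (dg c w z)) :
    Rep ω (psi ω hω g) (mmul (mmul A9c c') A9h) := by
  rw [psi_apply]
  exact Rep.mul ω hω (Rep.mul ω hω (a9_rep ω hω) (rep_frob ω hω h hd)) (a9_inv_rep ω hω)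

theorem psi_gg1 : psi ω hω (gg1 ω hω) ∈ threeJ3 F ω := by
  have r := psi_rep ω hω (gg1_rep ω hω) S1j_dg
  rw [A9_sifts.1] at r
  have r2 := Rep.mul ω hω (uel_rep ω hω 8634 (by norm_num)) (kel_rep ω hω 5226 (by norm_num))
  rw [r.ext ω r2]
  exact mul_mem (uel_mem ω hω _) (Kst_le ω hω (kel_mem ω hω _))

theorem psi_gg2 : psi ω hω (gg2 ω hω) ∈ threeJ3 F ω := by
  have r := psi_rep ω hω (gg2_rep ω hω) S2j_dg
  rw [A9_sifts.2.1] at r
  have r2 := Rep.mul ω hω (uel_rep ω hω 6989 (by norm_num)) (kel_rep ω hω 5269 (by norm_num))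
  rw [r.ext ω r2]
  exact mul_mem (uel_mem ω hω _) (Kst_le ω hω (kel_mem ω hω _))

theorem psi_mem (g : GL I9 F) (hg : g ∈ threeJ3 F ω) : psi ω hω g ∈ threeJ3 F ω := by
  have hle : threeJ3 F ω ≤ (threeJ3 F ω).comap (psi ω hω) := by
    conv_lhs => rw [G_eq_closure ω hω]
    rw [Subgroup.closure_le]
    rintro x (rfl | hx)
    · exact psi_gg1 ω hω
    · rw [Set.mem_singleton_iff] at hx; subst hx
      exact psi_gg2 ω hω
  exact hle hg

/-- The twisted endomorphism of `3·J₃`. -/
noncomputable def psiS : threeJ3 F ω →* threeJ3 F ω :=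
  ((psi ω hω).comp (threeJ3 F ω).subtype).codRestrict (threeJ3 F ω)
    (fun x => psi_mem ω hω x.1 x.2)

theorem psiS_coe (x : threeJ3 F ω) : ((psiS ω hω x : threeJ3 F ω) : GL I9 F) = psi ω hω x := rfl

theorem psiS_bijective : Function.Bijective (psiS ω hω) := by
  have hinj : Function.Injective (psiS ω hω) := by
    intro x y h
    apply Subtype.ext
    apply psi_injective ω hω
    rw [← psiS_coe, ← psiS_coe, h]
  exact ⟨hinj, Finite.injective_iff_surjective.mp hinj⟩

/-- The twisted automorphism of `3·J₃`. -/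
noncomputable def alphaS : threeJ3 F ω ≃* threeJ3 F ω :=
  MulEquiv.ofBijective (psiS ω hω) (psiS_bijective ω hω)

theorem alphaS_apply (x : threeJ3 F ω) : alphaS ω hω x = psiS ω hω x := rfl

theorem alphaS_center : (Subgroup.center (threeJ3 F ω)).map
    ((alphaS ω hω : threeJ3 F ω ≃* threeJ3 F ω) : threeJ3 F ω →* threeJ3 F ω) =
      Subgroup.center (threeJ3 F ω) :=
  Subgroup.characteristic_iff_map_eq.mp Subgroup.centerCharacteristic (alphaS ω hω)

theorem alphaS_z : alphaS ω hω (zS ω hω 3) = zS ω hω 14 := by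
  apply Subtype.ext
  rw [alphaS_apply, psiS_coe]
  have r := psi_rep ω hω (zS_rep ω hω 3 (Or.inr (Or.inl rfl))) Z3j_dg
  rw [A9_sifts.2.2] at r
  exact r.ext ω (zS_rep ω hω 14 (Or.inr (Or.inr rfl)))

/-- The outer automorphism of `J₃`. -/
noncomputable def alphaJ : MulAut (J3 F ω) :=
  QuotientGroup.congr (Subgroup.center (threeJ3 F ω)) (Subgroup.center (threeJ3 F ω))
    (alphaS ω hω) (alphaS_center ω hω)

theorem alphaJ_not_inner : alphaJ ω hω ∉ Cfsg.Inn (J3 F ω) := by
  apply Cfsg.Agent.Helper8.AutB.not_inner_of_moves_center (perfect ω hω) (alphaS ω hω)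
    (alphaS_center ω hω) (zS ω hω 3) (zS_mem_center ω hω 3 (Or.inr (Or.inl rfl)))
  rw [alphaS_z]
  intro h
  have := zS_inj ω hω (by norm_num) (by norm_num) h
  omega

/-! ### Counting -/

/-- The standard pairs. -/
def Om : Set (J3 F ω × J3 F ω) :=
  {p | orderOf p.1 = 2 ∧ orderOf p.2 = 3 ∧ (∃ u : J3 F ω, orderOf u = 2 ∧ u * p.2 = p.2 * u) ∧
    orderOf (p.1 * p.2) = 19 ∧ orderOf (p.1 * p.2 * p.1 * p.2 * p.2) = 9}

theorem Om_aut (φ : MulAut (J3 F ω)) (p : J3 F ω × J3 F ω) (hp : p ∈ Om ω) :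
    (φ p.1, φ p.2) ∈ Om ω := by
  obtain ⟨h1, h2, ⟨u, hu, huc⟩, h3, h4⟩ := hp
  refine ⟨?_, ?_, ⟨φ u, ?_, ?_⟩, ?_, ?_⟩
  · show orderOf (φ p.1) = 2
    rw [MulEquiv.orderOf_eq, h1]
  · show orderOf (φ p.2) = 3
    rw [MulEquiv.orderOf_eq, h2]
  · rw [MulEquiv.orderOf_eq, hu]
  · show φ u * φ p.2 = φ p.2 * φ u
    rw [← map_mul, ← map_mul, huc]
  · show orderOf (φ p.1 * φ p.2) = 19
    rw [← map_mul, MulEquiv.orderOf_eq, h3]
  · show orderOf (φ p.1 * φ p.2 * φ p.1 * φ p.2 * φ p.2) = 9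
    rw [← map_mul, ← map_mul, ← map_mul, ← map_mul, MulEquiv.orderOf_eq, h4]

theorem Om_conj (g : J3 F ω) (p : J3 F ω × J3 F ω) (hp : p ∈ Om ω) :
    (g * p.1 * g⁻¹, g * p.2 * g⁻¹) ∈ Om ω := by
  have := Om_aut ω (MulAut.conj g) p hp
  simpa only [MulAut.conj_apply] using this

theorem Om_std : (xb ω hω, yb ω hω) ∈ Om ω :=
  ⟨xb_order ω hω, yb_order ω hω, ⟨pj ω (tS ω hω), by
    have h2 : pj ω (tS ω hω) ^ 2 = 1 := by rw [← map_pow, tS_sq, map_one]
    have h1 : pj ω (tS ω hω) ≠ 1 := by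
      intro h
      have hc := (pj_eq_one_iff ω).mp h
      have h3 := center_pow_three ω hω _ hc
      apply tS_ne_one ω hω
      have h2' := tS_sq ω hω
      rw [pow_succ, h2', one_mul] at h3
      exact h3
    have : Fact (Nat.Prime 2) := ⟨Nat.prime_two⟩
    exact orderOf_eq_prime h2 h1, yb_comm_t ω hω⟩, xb_yb_order ω hω, word_order ω hω⟩

include hω in
theorem card_Om_le : Nat.card (Om ω) ≤ 2 * Nat.card (J3 F ω) := by
  have h1 := Cfsg.Agent.Helper8.AutB.card_pairs_le (Om ω) (fun g p hp => Om_conj ω g p hp)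
    (yb ω hω) (fun p hp => by
      obtain ⟨-, h2, ⟨u, hu, huc⟩, -, -⟩ := hp
      exact order3_conj ω hω p.2 h2 u hu huc)
  have h2 : Nat.card {x : J3 F ω // (x, yb ω hω) ∈ Om ω} ≤ 2160 := by
    refine le_trans ?_ (X0_bound ω hω)
    exact Nat.card_le_card_of_injective
      (fun x => (⟨x.1, x.2.1, x.2.2.2.2.1, x.2.2.2.2.2⟩ :
        {x : J3 F ω // orderOf x = 2 ∧ orderOf (x * yb ω hω) = 19 ∧
          orderOf (x * yb ω hω * x * yb ω hω * yb ω hω) = 9}))
      (fun x y h => by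
        have h' := congrArg Subtype.val h
        exact Subtype.ext h')
  have h3 := Subgroup.card_mul_index (Subgroup.centralizer ({yb ω hω} : Set (J3 F ω)))
  have h4 := card_centralizer_yb ω hω
  rw [card_J3 ω hω] at h3 ⊢
  have h5 : (Subgroup.centralizer ({yb ω hω} : Set (J3 F ω))).index ≤ 46512 := by
    by_contra hcon
    push Not at hcon
    have : 1080 * 46513 ≤ Nat.card (Subgroup.centralizer ({yb ω hω} : Set (J3 F ω))) *
        (Subgroup.centralizer ({yb ω hω} : Set (J3 F ω))).index :=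
      Nat.mul_le_mul h4 hcon
    omega
  calc Nat.card (Om ω) ≤ (Subgroup.centralizer ({yb ω hω} : Set (J3 F ω))).index *
        Nat.card {x : J3 F ω // (x, yb ω hω) ∈ Om ω} := h1
    _ ≤ 46512 * 2160 := Nat.mul_le_mul h5 h2
    _ = 2 * 50232960 := by norm_num

include hω in
theorem center_J3 : Subgroup.center (J3 F ω) = ⊥ := by
  have := simple_J3 ω hω
  rcases IsSimpleGroup.eq_bot_or_eq_top_of_normal (Subgroup.center (J3 F ω)) inferInstance with
    h | h
  · exact h
  · exfalso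
    have hx : xb ω hω ∈ Subgroup.center (J3 F ω) := by rw [h]; exact Subgroup.mem_top _
    have hc : Commute (xb ω hω) (yb ω hω) := (Subgroup.mem_center_iff.mp hx (yb ω hω)).symm
    have h6 : (xb ω hω * yb ω hω) ^ 6 = 1 := by
      rw [hc.mul_pow]
      have e1 : xb ω hω ^ 6 = 1 := by
        have := pow_orderOf_eq_one (xb ω hω)
        rw [xb_order] at this
        rw [show 6 = 2 * 3 by norm_num, pow_mul, this, one_pow]
      have e2 : yb ω hω ^ 6 = 1 := by
        have := pow_orderOf_eq_one (yb ω hω)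
        rw [yb_order] at this
        rw [show 6 = 3 * 2 by norm_num, pow_mul, this, one_pow]
      rw [e1, e2, one_mul]
    have := orderOf_dvd_of_pow_eq_one h6
    rw [xb_yb_order] at this
    omega

include hω in
/-- The outer automorphism group of `J₃` has order two. -/
theorem card_Out_J3 : Nat.card (Cfsg.Out (J3 F ω)) = 2 := by
  apply Cfsg.Agent.Helper8.AutB.card_out_eq_two (center_J3 ω hω) _ (alphaJ ω hω)
    (alphaJ_not_inner ω hω)
  exact le_trans (Cfsg.Agent.Helper8.AutB.card_aut_le (xb ω hω) (yb ω hω) (closure_xb_yb ω hω)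
    (Om ω) (fun φ p hp => Om_aut ω φ p hp) (Om_std ω hω)) (card_Om_le ω hω)

end Top

end Cfsg.Agent.Helper8.J3M
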