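import Cfsg.Agent.Lib.Helper8.J3DataU1
import Cfsg.Agent.Lib.Helper8.J3DataC

set_option autoImplicit false

/-! The computational checks behind the stabiliser chain of the triple cover of `J₃`. -/

namespace Cfsg.Agent.Helper8.J3M

open Cfsg.Agent.Helper8.F4P

/-- The first successor index and stabiliser index stored at `i`. -/
noncomputable def nx1 (i : ℕ) : ℕ := Nat.mod (C1 i) 32768
noncomputable def vx1 (i : ℕ) : ℕ := Nat.mod (Nat.shiftRight (C1 i) 15) 8192
noncomputable def nx2 (i : ℕ) : ℕ := Nat.mod (Nat.shiftRight (C1 i) 28) 32768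
noncomputable def vx2 (i : ℕ) : ℕ := Nat.shiftRight (C1 i) 43

/-- The Schreier identities at a point of the orbit, with bounds. -/
noncomputable def chk1 (i : ℕ) : Bool :=
  force (U1 i) fun u => force (C1 i) fun e =>
    force (Nat.mod e 32768) fun a1 => force (Nat.mod (Nat.shiftRight e 15) 8192) fun b1 =>
    force (Nat.mod (Nat.shiftRight e 28) 32768) fun a2 => force (Nat.shiftRight e 43) fun b2 =>
    and (and (and (Nat.blt a1 23256) (Nat.blt b1 6480)) (and (Nat.blt a2 23256) (Nat.blt b2 6480)))
      (and (Nat.blt 0 (col u 0))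
        (and (Nat.beq (mmul S1c u) (mmul (U1 a1) (U2 b1)))
          (Nat.beq (mmul S2c u) (mmul (U1 a2) (U2 b2)))))

/-- The tree structure of the orbit: a parent below `i` with `i` as image and trivial cofactor. -/
noncomputable def chkPar1 (i : ℕ) : Bool :=
  force (PAR1 i) fun e => force (Nat.mod e 32768) fun p =>
    and (Nat.blt p i)
      (cond (Nat.beq (Nat.shiftRight e 15) 0)
        (Nat.beq (Nat.mod (C1 p) 268435456) i)
        (Nat.beq (Nat.shiftRight (C1 p) 28) i))

noncomputable def mx1 (j : ℕ) : ℕ := Nat.mod (C2 j) 8192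
noncomputable def mx2 (j : ℕ) : ℕ := Nat.shiftRight (C2 j) 13

/-- Closure of the stabiliser list under its two generators. -/
noncomputable def chk2 (j : ℕ) : Bool :=
  force (U2 j) fun u => force (C2 j) fun e =>
    force (Nat.mod e 8192) fun a1 => force (Nat.shiftRight e 13) fun a2 =>
    and (and (Nat.blt a1 6480) (Nat.blt a2 6480))
      (and (Nat.beq (mmul T1c u) (U2 a1)) (Nat.beq (mmul T2c u) (U2 a2)))

noncomputable def chkPar2 (j : ℕ) : Bool :=
  force (PAR2 j) fun e => force (Nat.mod e 8192) fun p =>
    and (Nat.blt p j)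
      (cond (Nat.beq (Nat.shiftRight e 13) 0)
        (Nat.beq (Nat.mod (C2 p) 8192) j)
        (Nat.beq (Nat.shiftRight (C2 p) 13) j))

/-- The key of the line spanned by the first column. -/
noncomputable def lineKey (i : ℕ) : ℕ := key (col (U1 i) 0)

/-- The image of the regular vector under an element of the stabiliser. -/
noncomputable def regKey (j : ℕ) : ℕ := col (mmul (U2 j) B2c) 0

end Cfsg.Agent.Helper8.J3M
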