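import Cfsg.Agent.Lib.Helper8.J3Chk
import Cfsg.Agent.Lib.Helper8.J3Data2
import Cfsg.Agent.Lib.Helper8.J3GenData

set_option autoImplicit false

/-! Checks for the maximality of the line stabiliser, the element of order three and the core. -/

namespace Cfsg.Agent.Helper8.J3M

open Cfsg.Agent.Helper8.F4P

/-- The representative of a double coset. -/
noncomputable def repU (m : ℕ) : ℕ := U1 (repL.getD m 0)

noncomputable def covM (i : ℕ) : ℕ := Nat.mod (COV i) 32
noncomputable def covK (i : ℕ) : ℕ := Nat.mod (Nat.shiftRight (COV i) 5) 8192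
noncomputable def covK' (i : ℕ) : ℕ := Nat.shiftRight (COV i) 18

/-- Every transversal element lies in a listed double coset. -/
noncomputable def chkCov (i : ℕ) : Bool :=
  force (COV i) fun e => force (Nat.mod e 32) fun m =>
    force (Nat.mod (Nat.shiftRight e 5) 8192) fun k => force (Nat.shiftRight e 18) fun k' =>
    and (and (Nat.blt m 27) (and (Nat.blt k 6480) (Nat.blt k' 6480)))
      (Nat.beq (U1 i) (mmul (U2 k) (mmul (U1 (repL.getD m 0)) (U2 k'))))

/-- The code of the element of order three. -/
def AcK : ℕ := mmul (codeE (0, 0)) (codeE (0, 0))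

/-- An element of the stabiliser fixing the two further lines. -/
noncomputable def chkCore (j : ℕ) : Bool :=
  force (U2 j) fun k =>
    or (or (Nat.beq j 0) (or (Nat.beq j 3) (Nat.beq j 14)))
      (not (and (Nat.beq (key (col (mmul k S1c) 0)) (key (col S1c 0)))
        (Nat.beq (key (col (mmul k S2c) 0)) (key (col S2c 0)))))

end Cfsg.Agent.Helper8.J3M
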