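import Cfsg.Agent.Lib.Helper8.J3DataI
import Cfsg.Agent.Lib.Helper8.J3Unitary

set_option autoImplicit false

/-! The computational checks for the orbit on isotropic lines. -/

namespace Cfsg.Agent.Helper8.J3M

open Cfsg.Agent.Helper8.F4P

/-- Parity of the number of nonzero coordinates of a coded vector. -/
def oddW (c : ℕ) : Bool :=
  Nat.beq (Nat.land (Nat.shiftRight PARMASK (Nat.land (Nat.lor c (Nat.shiftRight c 9)) 511)) 1) 1

/-- Completeness and tree structure of the table of isotropic lines at the code `k`. -/
noncomputable def chkIso (k : ℕ) : Bool :=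
  force (DI k) fun e =>
    and
      (cond (Nat.beq k 0) true (cond (oddW k) true (Nat.ble 2 (DI (key k)))))
      (cond (Nat.blt e 2) true
        (force (Nat.div e 2) fun d =>
          cond (Nat.beq d 1) (Nat.beq k B0c)
            (force (key (col (mmul (cond (Nat.beq (Nat.mod e 2) 0) S1h S2h) k) 0)) fun p =>
              force (DI p) fun e' => and (Nat.ble 2 e') (Nat.blt (Nat.div e' 2) d))))

end Cfsg.Agent.Helper8.J3M
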