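import Cfsg.Agent.Lib.Helper8.J3ChkI

set_option autoImplicit false

namespace Cfsg.Agent.Helper8.J3M

open Cfsg.Agent.Helper8.F4P

theorem chkIso_3 : allRange 98304 32768 chkIso = true := by decide +kernel

end Cfsg.Agent.Helper8.J3M
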