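import Cfsg.Agent.Lib.Helper8.J3ChkI

set_option autoImplicit false

namespace Cfsg.Agent.Helper8.J3M

open Cfsg.Agent.Helper8.F4P

theorem parmask_spec : ∀ m : Fin 512, PARMASK.testBit m.val =
    (m.val.testBit 0 ^^ (m.val.testBit 1 ^^ (m.val.testBit 2 ^^ (m.val.testBit 3 ^^ (m.val.testBit 4 ^^
      (m.val.testBit 5 ^^ (m.val.testBit 6 ^^ (m.val.testBit 7 ^^ m.val.testBit 8)))))))) := by
  decide +kernel

theorem S_inv_codes : mmul S1c S1h = IDc ∧ mmul S2c S2h = IDc := by decide +kernel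

theorem B0c_lt : B0c < 2 ^ 18 := by decide +kernel

end Cfsg.Agent.Helper8.J3M
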