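import Cfsg.Agent.Lib.Helper8.J3DataL
import Cfsg.Agent.Lib.Helper8.J3Chk

set_option autoImplicit false

/-! The computational checks for the subgroup `3 × L₂(16):2`. -/

namespace Cfsg.Agent.Helper8.J3M

open Cfsg.Agent.Helper8.F4P

/-- Closure of the list under its two generators. -/
noncomputable def chkL (j : ℕ) : Bool :=
  force (UL j) fun u => force (CL j) fun e =>
    force (Nat.mod e 32768) fun a1 => force (Nat.shiftRight e 15) fun a2 =>
    and (and (Nat.blt a1 24480) (Nat.blt a2 24480))
      (and (Nat.beq (mmul L1c u) (UL a1)) (Nat.beq (mmul L2c u) (UL a2)))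

noncomputable def chkParL (j : ℕ) : Bool :=
  force (PARL j) fun e => force (Nat.mod e 32768) fun p =>
    and (Nat.blt p j)
      (cond (Nat.beq (Nat.shiftRight e 15) 0)
        (Nat.beq (Nat.mod (CL p) 32768) j)
        (Nat.beq (Nat.shiftRight (CL p) 15) j))

/-- The image of the regular vector under an element of the subgroup. -/
noncomputable def regKeyL (j : ℕ) : ℕ := col (mmul (UL j) BLc) 0

end Cfsg.Agent.Helper8.J3M
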