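import Cfsg.Agent.Lib.Helper8.J3ChkL

set_option autoImplicit false

namespace Cfsg.Agent.Helper8.J3M

open Cfsg.Agent.Helper8.F4P

theorem chkParL_all : allRange 1 24479 chkParL = true := by decide +kernel

theorem regKeyL_distinct : distinctBelow 24480 regKeyL = true := by decide +kernel

theorem UL_zero : UL 0 = IDc := by decide +kernel

theorem L1c_sift : L1c = mmul (U1 43) (U2 3) := by decide +kernel

theorem L2c_sift : L2c = mmul (U1 8827) (U2 289) := by decide +kernel

theorem UL_centre : UL 18374 = U2 3 ∧ UL 721 = U2 14 := by decide +kernel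

theorem BLc_lt : BLc < 2 ^ 18 := by decide +kernel

end Cfsg.Agent.Helper8.J3M
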