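import Cfsg.Agent.Lib.Helper8.J3DataVT
import Cfsg.Agent.Lib.Helper8.J3DataVC
import Cfsg.Agent.Lib.Helper8.J3Unitary

set_option autoImplicit false

/-! The computational checks for the involutions of the triple cover of `J₃`. -/

namespace Cfsg.Agent.Helper8.J3M

open Cfsg.Agent.Helper8.F4P

/-- Sortedness and tree structure of the class table. -/
noncomputable def chkT (i : ℕ) : Bool :=
  force (TT i) fun x => force (TP i) fun e =>
    force (Nat.mod e 32768) fun p => force (Nat.shiftRight e 16) fun d =>
    and (cond (Nat.blt (Nat.succ i) 26163) (Nat.blt x (TT (Nat.succ i))) true)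
      (cond (Nat.beq d 0) (Nat.beq x Tcc)
        (and (Nat.blt p 26163)
          (and (Nat.blt (Nat.shiftRight (TP p) 16) d)
            (cond (Nat.beq (Nat.mod (Nat.shiftRight e 15) 2) 0)
              (Nat.beq x (mmul (mmul S1c (TT p)) S1h))
              (Nat.beq x (mmul (mmul S2c (TT p)) S2h))))))

/-- Closure of the centraliser list under its two generators. -/
noncomputable def chkC (j : ℕ) : Bool :=
  force (CLt j) fun u => force (CCt j) fun e =>
    force (Nat.mod e 8192) fun a1 => force (Nat.shiftRight e 13) fun a2 =>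
    and (and (Nat.blt a1 5760) (Nat.blt a2 5760))
      (and (Nat.beq (mmul C1c u) (CLt a1)) (Nat.beq (mmul C2c u) (CLt a2)))

noncomputable def chkParC (j : ℕ) : Bool :=
  force (CPt j) fun e => force (Nat.mod e 8192) fun p =>
    and (Nat.blt p j)
      (cond (Nat.beq (Nat.shiftRight e 13) 0)
        (Nat.beq (Nat.mod (CCt p) 8192) j)
        (Nat.beq (Nat.shiftRight (CCt p) 13) j))

/-- The image of the regular vector under an element of the centraliser. -/
noncomputable def regKeyC (j : ℕ) : ℕ := col (mmul (CLt j) BCc) 0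

/-- The multiplication table of the normal subgroup of order `32`. -/
noncomputable def chkQ (k : ℕ) : Bool :=
  force (QMt k) fun m =>
    and (Nat.blt m 32)
      (Nat.beq (mmul (CLt (QIt (Nat.div k 32))) (CLt (QIt (Nat.mod k 32)))) (CLt (QIt m)))

/-- Conjugation by the generators of the centraliser and their inverses preserves the subgroup. -/
noncomputable def chkQN (k : ℕ) : Bool :=
  force (QNt k) fun m => force (CLt (QIt (Nat.mod k 32))) fun x =>
    and (Nat.blt m 32)
      (Nat.beq (CLt (QIt m))
        (cond (Nat.beq (Nat.div k 32) 0) (mmul (mmul C1c x) C1h)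
          (cond (Nat.beq (Nat.div k 32) 1) (mmul (mmul C2c x) C2h)
            (cond (Nat.beq (Nat.div k 32) 2) (mmul (mmul C1h x) C1c) (mmul (mmul C2h x) C2c)))))

/-- The multiplication table of the complement of order `60`. -/
noncomputable def chkH (k : ℕ) : Bool :=
  force (HMt k) fun m =>
    and (Nat.blt m 60)
      (Nat.beq (mmul (CLt (HIt (Nat.div k 60))) (CLt (HIt (Nat.mod k 60)))) (CLt (HIt m)))

/-- The complement meets the product of the normal subgroup with the scalars trivially. -/
noncomputable def chkHQ (k : ℕ) : Bool :=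
  cond (Nat.beq (Nat.div k 32) 0) true
    (force (mmul (CLt (HIt (Nat.div k 32))) (CLt (QIt (Nat.mod k 32)))) fun m =>
      not (or (Nat.beq m IDc) (or (Nat.beq m (U2 3)) (Nat.beq m (U2 14)))))

/-- The multiplication table of the Sylow subgroup of order `128`. -/
noncomputable def chkP (k : ℕ) : Bool :=
  force (PMt k) fun m =>
    and (Nat.blt m 128)
      (Nat.beq (mmul (CLt (PIt (Nat.div k 128))) (CLt (PIt (Nat.mod k 128)))) (CLt (PIt m)))

/-- The involutions of the Sylow subgroup lie in the class table. -/
noncomputable def chkPI (a : ℕ) : Bool :=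
  cond (and (not (Nat.beq a 0)) (Nat.beq (PMt (Nat.add (Nat.mul a 128) a)) 0))
    (and (Nat.blt (PHt a) 26163) (Nat.beq (CLt (PIt a)) (TT (PHt a)))) true

/-- Index-level facts on the group of order `32`. -/
noncomputable def qm (a b : ℕ) : ℕ := QMt (Nat.add (Nat.mul a 32) b)

noncomputable def chkQF (k : ℕ) : Bool :=
  force (Nat.div k 32) fun a => force (Nat.mod k 32) fun b =>
    force (qm a b) fun ab => force (qm b a) fun ba =>
    and (or (Nat.beq ab ba) (Nat.beq ab (qm ba 1)))
      (and (or (Nat.beq (qm a a) 0) (Nat.beq (qm a a) 1))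
        (and (cond (and (Nat.beq (qm a a) 0) (and (Nat.beq (qm b b) 0) (Nat.beq ab ba)))
            (or (Nat.blt a 2) (or (Nat.blt b 2) (or (Nat.beq b a) (Nat.beq b (qm a 1))))) true)
          (and (cond (Nat.blt a 2) true (not (Nat.beq (qm a (QWt a)) (qm (QWt a) a))))
            (and (Nat.blt (QWt a) 32) (and (Nat.beq (qm a 0) a) (Nat.beq (qm 0 a) a))))))

/-- Index-level facts on the group of order `60`. -/
noncomputable def hm (a b : ℕ) : ℕ := HMt (Nat.add (Nat.mul a 60) b)

noncomputable def chkHF (c : ℕ) : Bool :=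
  force (HAt c) fun a => force (HBt c) fun b =>
    and (and (Nat.blt a 60) (Nat.blt b 60))
      (and (and (Nat.blt (HVt c) 60) (Nat.beq (hm c (HVt c)) 0))
        (Nat.beq (hm (hm a b) (hm (HVt a) (HVt b))) c))

end Cfsg.Agent.Helper8.J3M
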