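import Cfsg.Agent.Lib.Helper8.J3ChkV

set_option autoImplicit false

namespace Cfsg.Agent.Helper8.J3M

open Cfsg.Agent.Helper8.F4P

theorem chkC_all : allBelow 5760 chkC = true := by decide +kernel

theorem chkParC_all : allRange 1 5759 chkParC = true := by decide +kernel

theorem regKeyC_distinct : distinctBelow 5760 regKeyC = true := by decide +kernel

theorem CLt_zero : CLt 0 = IDc := by decide +kernel

theorem BCc_lt : BCc < 2 ^ 18 := by decide +kernel

theorem V_sifts : Tcc = mmul (U1 0) (U2 7) ∧ C1c = mmul (U1 6490) (U2 3329) ∧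
    C2c = mmul (U1 18451) (U2 3764) := by decide +kernel

theorem V_inv : mmul C1c C1h = IDc ∧ mmul C1h C1c = IDc ∧ mmul C2c C2h = IDc ∧ mmul C2h C2c = IDc ∧
    mmul S1h S1c = IDc ∧ mmul S2h S2c = IDc := by decide +kernel

theorem V_comm : mmul C1c Tcc = mmul Tcc C1c ∧ mmul C2c Tcc = mmul Tcc C2c ∧ mmul Tcc Tcc = IDc ∧
    Tcc ≠ IDc := by decide +kernel

end Cfsg.Agent.Helper8.J3M
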