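import Cfsg.Agent.Lib.Helper8.J3ChkV

set_option autoImplicit false

namespace Cfsg.Agent.Helper8.J3M

open Cfsg.Agent.Helper8.F4P

theorem chkQ_all : allBelow 1024 chkQ = true := by decide +kernel

theorem chkQN_all : allBelow 128 chkQN = true := by decide +kernel

theorem chkQF_all : allBelow 1024 chkQF = true := by decide +kernel

theorem QIt_distinct : distinctBelow 32 QIt = true := by decide +kernel

theorem QIt_lt : allBelow 32 (fun a => Nat.blt (QIt a) 5760) = true := by decide +kernel

theorem QIt_01 : QIt 0 = 0 ∧ CLt (QIt 1) = Tcc := by decide +kernel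

theorem chkH_all : allBelow 3600 chkH = true := by decide +kernel

theorem chkHQ_all : allBelow 1920 chkHQ = true := by decide +kernel

theorem chkHF_all : allBelow 60 chkHF = true := by decide +kernel

theorem HIt_distinct : distinctBelow 60 HIt = true := by decide +kernel

theorem HIt_lt : allBelow 60 (fun a => Nat.blt (HIt a) 5760) = true := by decide +kernel

theorem HIt_0 : HIt 0 = 0 := by decide +kernel

end Cfsg.Agent.Helper8.J3M
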