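import Cfsg.Agent.Lib.Helper8.J3ChkV

set_option autoImplicit false

namespace Cfsg.Agent.Helper8.J3M

open Cfsg.Agent.Helper8.F4P

theorem chkP_all : allBelow 16384 chkP = true := by decide +kernel

theorem chkPI_all : allBelow 128 chkPI = true := by decide +kernel

theorem PIt_distinct : distinctBelow 128 PIt = true := by decide +kernel

theorem PIt_lt : allBelow 128 (fun a => Nat.blt (PIt a) 5760) = true := by decide +kernel

theorem PIt_0 : PIt 0 = 0 := by decide +kernel

end Cfsg.Agent.Helper8.J3M
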