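import Cfsg.Agent.Lib.Helper8.J3ChkV

set_option autoImplicit false

namespace Cfsg.Agent.Helper8.J3M

open Cfsg.Agent.Helper8.F4P

/-- The complement meets the product of the normal subgroup with the scalars trivially, with the
size bound needed to compare codes. -/
noncomputable def chkHQ2 (k : ℕ) : Bool :=
  cond (Nat.beq (Nat.div k 32) 0) true
    (force (mmul (CLt (HIt (Nat.div k 32))) (CLt (QIt (Nat.mod k 32)))) fun m =>
      and (Nat.blt m (Nat.pow 2 162))
        (not (or (Nat.beq m IDc) (or (Nat.beq m (U2 3)) (Nat.beq m (U2 14))))))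

theorem chkHQ2_all : allBelow 1920 chkHQ2 = true := by decide +kernel

theorem scal_lt : IDc < 2 ^ 162 ∧ U2 0 = IDc ∧ U2 3 < 2 ^ 162 ∧ U2 14 < 2 ^ 162 := by decide +kernel

end Cfsg.Agent.Helper8.J3M
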