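import Cfsg.Agent.Lib.Helper8.J3DataW
import Cfsg.Agent.Lib.Helper8.J3ChkV

set_option autoImplicit false

/-! The computational checks for the automorphisms of `J₃`. -/

namespace Cfsg.Agent.Helper8.J3M

open Cfsg.Agent.Helper8.F4P

/-- Is the code one of the three scalar codes? -/
noncomputable def isZ (m : ℕ) : Bool :=
  or (Nat.beq m IDc) (or (Nat.beq m (U2 3)) (Nat.beq m (U2 14)))

/-- The scalar code with a given index. -/
noncomputable def zc (k : ℕ) : ℕ := cond (Nat.beq k 0) IDc (cond (Nat.beq k 1) (U2 3) (U2 14))

/-- The code of the element of the centraliser of `y₀` with a given index. -/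
noncomputable def ycode (k : ℕ) : ℕ :=
  force (YSt k) fun e => mmul (U1 (Nat.mod e 32768)) (U2 (Nat.shiftRight e 15))

/-- Elements of the centraliser of the element of order three. -/
noncomputable def chkY (k : ℕ) : Bool :=
  force (YSt k) fun e => force (Nat.mod e 32768) fun i => force (Nat.shiftRight e 15) fun j =>
    force (mmul (U1 i) (U2 j)) fun c =>
      and (Nat.blt i 23256) (and (Nat.blt j 6480) (Nat.beq (mmul c Y0c) (mmul Y0c c)))

/-- The projective image of a regular vector. -/
noncomputable def keyY (k : ℕ) : ℕ := key (col (mmul (ycode k) BYc) 0)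

/-- Elements of the involution centraliser whose image has order three are conjugate to `y₀`. -/
noncomputable def chkD (j : ℕ) : Bool :=
  force (CLt j) fun c => force (mmul (mmul c c) c) fun cube =>
    cond (and (isZ cube) (not (isZ c)))
      (force (DWt j) fun e => force (Nat.mod e 8192) fun w =>
        and (Nat.blt w 5760)
          (Nat.beq (mmul (CLt w) Y0c) (mmul (mmul c (CLt w)) (zc (Nat.shiftRight e 13)))))
      true

/-- The nineteenth power. -/
noncomputable def pow19 (m : ℕ) : ℕ :=
  force (mmul m m) fun m2 => force (mmul m2 m2) fun m4 => force (mmul m4 m4) fun m8 =>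
    force (mmul m8 m8) fun m16 => mmul m16 (mmul m2 m)

/-- The ninth power. -/
noncomputable def pow9 (w : ℕ) : ℕ :=
  force (mmul w w) fun w2 => force (mmul w2 w2) fun w4 => force (mmul w4 w4) fun w8 => mmul w8 w

/-- The word `x y x y y`. -/
noncomputable def wordW (x : ℕ) : ℕ :=
  force (mmul x Y0c) fun m => mmul (mmul m m) Y0c

/-- The involution with index `i` forms a standard pair with `y₀` (weak form). -/
noncomputable def chkX (i : ℕ) : Bool :=
  force (TT i) fun x => and (isZ (pow19 (mmul x Y0c))) (isZ (pow9 (wordW x)))

/-- Counting the indices in a range satisfying a check. -/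
def cntRange (lo cnt : ℕ) (f : ℕ → Bool) : ℕ :=
  Nat.rec (motive := fun _ => ℕ) 0 (fun i ih => cond (f (Nat.add lo i)) (Nat.succ ih) ih) cnt

/-- The straight-line program. -/
noncomputable def chkSL (k : ℕ) : Bool :=
  force (SLAt k) fun e => force (Nat.mod e 256) fun a => force (Nat.shiftRight e 8) fun b =>
    and (Nat.blt a k) (and (Nat.blt b k) (Nat.beq (SLVt k) (mmul (SLVt a) (SLVt b))))

end Cfsg.Agent.Helper8.J3M
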