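import Cfsg.Agent.Lib.Helper8.J3DataX
import Cfsg.Agent.Lib.Helper8.J3ChkW

set_option autoImplicit false

/-! The computational checks for the `2`-fusion of `J₃`. -/

namespace Cfsg.Agent.Helper8.J3M

open Cfsg.Agent.Helper8.F4P

/-- The product of two elements of the Sylow subgroup, by indices. -/
noncomputable def pmX (a b : ℕ) : ℕ := PMt (Nat.add (Nat.mul a 128) b)

/-- The index is that of the identity or of an involution of the Sylow subgroup. -/
noncomputable def isInvP (a : ℕ) : Bool := or (Nat.beq a 0) (Nat.beq (pmX a a) 0)

/-- Every element of the Sylow subgroup is a product of two involutions. -/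
noncomputable def chkPG (b : ℕ) : Bool :=
  cond (isInvP b) true
    (force (PGt b) fun e => force (Nat.mod e 128) fun c => force (Nat.shiftRight e 7) fun d =>
      and (and (Nat.blt c 128) (Nat.blt d 128))
        (and (and (isInvP c) (isInvP d)) (Nat.beq (pmX c d) b)))

/-- The centre of the Sylow subgroup. -/
noncomputable def chkPZ (a : ℕ) : Bool :=
  cond (or (Nat.beq a 0) (Nat.beq a 86)) true
    (force (PZt a) fun w => and (Nat.blt w 128) (not (Nat.beq (pmX a w) (pmX w a))))

/-- The normal subgroup of order `32` lies in the Sylow subgroup. -/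
noncomputable def chkQP (a : ℕ) : Bool :=
  force (QPt a) fun b => and (Nat.blt b 128) (Nat.beq (QIt a) (PIt b))

/-- The centraliser of the normal subgroup of order `32`, modulo scalars. -/
noncomputable def chkCA (j : ℕ) : Bool :=
  force (CAt j) fun e => force (Nat.mod e 32) fun a => force (CLt (QIt a)) fun q =>
    cond (Nat.beq (Nat.shiftRight e 7) 1)
      (Nat.beq (CLt j) (mmul q (zc (Nat.mod (Nat.shiftRight e 5) 4))))
      (force (mmul (CLt j) q) fun u => force (mmul q (CLt j)) fun v =>
        and (not (Nat.beq u v))
          (and (not (Nat.beq u (mmul v (U2 3)))) (not (Nat.beq u (mmul v (U2 14))))))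

/-- The eighth power. -/
noncomputable def pow8 (x : ℕ) : ℕ :=
  force (mmul x x) fun x2 => force (mmul x2 x2) fun x4 => mmul x4 x4

/-- Every element of the centraliser is a product of two `2`-elements, modulo scalars. -/
noncomputable def chkCB (j : ℕ) : Bool :=
  force (CBt j) fun e => force (Nat.mod e 8192) fun a => force (Nat.shiftRight e 13) fun b =>
    and (and (Nat.blt a 5760) (Nat.blt b 5760))
      (and (Nat.beq (mmul (CLt a) (CLt b)) (CLt j))
        (and (isZ (pow8 (CLt a))) (isZ (pow8 (CLt b)))))

end Cfsg.Agent.Helper8.J3M
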