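import Cfsg.Agent.Lib.Helper8.J3ChkX

set_option autoImplicit false

namespace Cfsg.Agent.Helper8.J3M

open Cfsg.Agent.Helper8.F4P

theorem chkPG_all : allBelow 128 chkPG = true := by decide +kernel

theorem chkPZ_all : allBelow 128 chkPZ = true := by decide +kernel

theorem chkQP_all : allBelow 32 chkQP = true := by decide +kernel

theorem QPt_one : QPt 1 = 86 := by decide +kernel

theorem chkCA_all : allBelow 5760 chkCA = true := by decide +kernel

end Cfsg.Agent.Helper8.J3M
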