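import Cfsg.Agent.Lib.Helper8.J3AutC
import Cfsg.Agent.Lib.Helper8.J3ChkXA
import Cfsg.Agent.Lib.Helper8.J3ChkXB
import Cfsg.Agent.Lib.Helper8.FusData

set_option autoImplicit false
set_option linter.unusedSectionVars false
set_option linter.unusedVariables false

/-! The `2`-fusion system of `J₃` is simple: the data for the criterion of `FusData`. -/

open scoped MatrixGroups

namespace Cfsg.Agent.Helper8.J3M

open Cfsg.Agent.Helper8.F4P Cfsg.Spor Cfsg.Agent.Helper8.FusC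

/-! ### Unpacking the checks -/

theorem isInvP_spec {a : ℕ} (h : isInvP a = true) : a = 0 ∨ pm a a = 0 := by
  unfold isInvP at h
  rcases or_true' h with h1 | h1
  · exact Or.inl (beq_true h1)
  · exact Or.inr (beq_true h1)

theorem chkPG_unpack (b : ℕ) (hb : b < 128) :
    (b = 0 ∨ pm b b = 0) ∨ ∃ c < 128, ∃ d < 128,
      (c = 0 ∨ pm c c = 0) ∧ (d = 0 ∨ pm d d = 0) ∧ pm c d = b := by
  have h := allBelow_spec chkPG_all b hb
  unfold chkPG at h
  simp only [force_eq] at h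
  cases hc : isInvP b
  · right
    have h' := cond_left h hc
    obtain ⟨h1, h2⟩ := and_true' h'
    obtain ⟨h3, h4⟩ := and_true' h1
    obtain ⟨h5, h6⟩ := and_true' h2
    obtain ⟨h7, h8⟩ := and_true' h5
    exact ⟨_, blt_true h3, _, blt_true h4, isInvP_spec h7, isInvP_spec h8, beq_true h6⟩
  · left
    exact isInvP_spec hc

theorem chkPZ_unpack (a : ℕ) (ha : a < 128) (h0 : a ≠ 0) (h86 : a ≠ 86) :
    PZt a < 128 ∧ pm a (PZt a) ≠ pm (PZt a) a := by
  have h := allBelow_spec chkPZ_all a ha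
  unfold chkPZ at h
  simp only [force_eq] at h
  have hc : (or (Nat.beq a 0) (Nat.beq a 86)) = false := by
    rw [Bool.eq_false_iff]
    intro h1
    rcases or_true' h1 with h2 | h2
    · exact h0 (beq_true h2)
    · exact h86 (beq_true h2)
  have h' := cond_left h hc
  obtain ⟨h1, h2⟩ := and_true' h'
  exact ⟨blt_true h1, beq_false' (not_true' h2)⟩

theorem chkQP_unpack (a : ℕ) (ha : a < 32) : QPt a < 128 ∧ QIt a = PIt (QPt a) := by
  have h := allBelow_spec chkQP_all a ha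
  unfold chkQP at h
  simp only [force_eq] at h
  obtain ⟨h1, h2⟩ := and_true' h
  exact ⟨blt_true h1, beq_true h2⟩

theorem chkCA_unpack (j : ℕ) (hj : j < 5760) :
    (∃ a k, a < 32 ∧ CLt j = mmul (CLt (QIt a)) (zc k)) ∨
    (∃ a, a < 32 ∧ mmul (CLt j) (CLt (QIt a)) ≠ mmul (CLt (QIt a)) (CLt j) ∧
      mmul (CLt j) (CLt (QIt a)) ≠ mmul (mmul (CLt (QIt a)) (CLt j)) (U2 3) ∧
      mmul (CLt j) (CLt (QIt a)) ≠ mmul (mmul (CLt (QIt a)) (CLt j)) (U2 14)) := by
  have h := allBelow_spec chkCA_all j hj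
  unfold chkCA at h
  simp only [force_eq] at h
  have ha : Nat.mod (CAt j) 32 < 32 := Nat.mod_lt _ (by norm_num)
  cases hc : Nat.beq (Nat.shiftRight (CAt j) 7) 1
  · right
    rw [hc] at h
    simp only [cond_false] at h
    obtain ⟨h1, h2⟩ := and_true' h
    obtain ⟨h3, h4⟩ := and_true' h2
    exact ⟨_, ha, beq_false' (not_true' h1), beq_false' (not_true' h3),
      beq_false' (not_true' h4)⟩
  · left
    rw [hc] at h
    simp only [cond_true] at h
    exact ⟨_, _, ha, beq_true h⟩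

theorem chkCB_unpack (j : ℕ) (hj : j < 5760) :
    ∃ a < 5760, ∃ b < 5760, mmul (CLt a) (CLt b) = CLt j ∧
      isZ (pow8 (CLt a)) = true ∧ isZ (pow8 (CLt b)) = true := by
  have h := allBelow_spec chkCB_all j hj
  unfold chkCB at h
  simp only [force_eq] at h
  obtain ⟨h1, h2⟩ := and_true' h
  obtain ⟨h3, h4⟩ := and_true' h1
  obtain ⟨h5, h6⟩ := and_true' h2
  obtain ⟨h7, h8⟩ := and_true' h6
  exact ⟨_, blt_true h3, _, blt_true h4, beq_true h5, h7, h8⟩

/-- The cardinality of the image of a subgroup meeting the kernel trivially. -/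
theorem card_map_of_injOn {G H : Type*} [Group G] [Group H] (f : G →* H) (K : Subgroup G)
    (h : ∀ x ∈ K, f x = 1 → x = 1) : Nat.card (K.map f) = Nat.card K := by
  have hinj : Function.Injective (f.subgroupMap K) := by
    rw [injective_iff_map_eq_one]
    intro x hx
    apply Subtype.ext
    exact h x x.2 (congrArg Subtype.val hx)
  exact (Nat.card_congr (Equiv.ofBijective _ ⟨hinj, f.subgroupMap_surjective K⟩)).symm

section Top

variable {F : Type*} [Field F] [CharP F 2] [Finite F] (ω : F) (hω : ω ^ 2 = ω + 1)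

include hω in
theorem rep_pow8 {g : GL I9 F} {c : ℕ} (h : Rep ω g c) : Rep ω (g ^ 8) (pow8 c) := by
  unfold pow8
  simp only [force_eq]
  have h2 := Rep.mul ω hω h h
  have h4 := Rep.mul ω hω h2 h2
  have h8 := Rep.mul ω hω h4 h4
  have e : g ^ 8 = g * g * (g * g) * (g * g * (g * g)) := by
    simp only [pow_succ, pow_zero, one_mul, mul_assoc]
  rw [e]
  exact h8

include hω in
/-- A central element of `2`-power order is trivial. -/
theorem center_two_pow (z : threeJ3 F ω) (hz : z ∈ Subgroup.center (threeJ3 F ω)) (k : ℕ)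
    (hk : z ^ 2 ^ k = 1) : z = 1 := by
  have h1 : orderOf z ∣ 2 ^ k := orderOf_dvd_of_pow_eq_one hk
  have h2 : orderOf z ∣ 3 := orderOf_dvd_of_pow_eq_one (center_pow_three ω hω z hz)
  have hcop : Nat.gcd (2 ^ k) 3 = 1 := Nat.Coprime.pow_left k (by norm_num)
  have h3 := Nat.dvd_gcd h1 h2
  rw [hcop] at h3
  exact orderOf_eq_one_iff.mp (Nat.dvd_one.mp h3)

theorem zS_zero : zS ω hω 0 = 1 := Subtype.ext (kel_zero ω hω)

/-! ### The Sylow subgroup -/

theorem pe_mem (a : ℕ) (ha : a < 128) : pe ω hω a ∈ Ps ω hω := ⟨a, ha, rfl⟩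

theorem Ps_pow (x : threeJ3 F ω) (hx : x ∈ Ps ω hω) : x ^ 2 ^ 7 = 1 := by
  have h := pow_card_eq_one' (G := Ps ω hω) (x := ⟨x, hx⟩)
  rw [Ps_card ω hω] at h
  simpa using congrArg Subtype.val h

theorem pj_Ps_ker (x : threeJ3 F ω) (hx : x ∈ Ps ω hω) (h : pj ω x = 1) : x = 1 :=
  center_two_pow ω hω x ((pj_eq_one_iff ω).mp h) 7 (Ps_pow ω hω x hx)

theorem pj_Ps_inj (x y : threeJ3 F ω) (hx : x ∈ Ps ω hω) (hy : y ∈ Ps ω hω)
    (h : pj ω x = pj ω y) : x = y := by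
  have h1 : pj ω (x⁻¹ * y) = 1 := by rw [map_mul, map_inv, h, inv_mul_cancel]
  have h2 := pj_Ps_ker ω hω _ (mul_mem (inv_mem hx) hy) h1
  calc x = x * (x⁻¹ * y) := by rw [h2, mul_one]
    _ = y := by group

/-- The Sylow `2`-subgroup of `J₃`. -/
noncomputable def Pb : Subgroup (J3 F ω) := (Ps ω hω).map (pj ω)

/-- The normal subgroup of order `32` of the centraliser of the involution of `J₃`. -/
noncomputable def Qb : Subgroup (J3 F ω) := (Qs ω hω).map (pj ω)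

/-- The involution of `J₃`. -/
noncomputable def tb : J3 F ω := pj ω (tS ω hω)

theorem mem_Pb {x : J3 F ω} : x ∈ Pb ω hω ↔ ∃ a < 128, x = pj ω (pe ω hω a) := by
  constructor
  · rintro ⟨y, ⟨a, ha, rfl⟩, rfl⟩
    exact ⟨a, ha, rfl⟩
  · rintro ⟨a, ha, rfl⟩
    exact Subgroup.mem_map_of_mem _ (pe_mem ω hω a ha)

theorem Pb_card : Nat.card (Pb ω hω) = 2 ^ 7 := by
  rw [← Ps_card ω hω]
  exact card_map_of_injOn (pj ω) (Ps ω hω) (pj_Ps_ker ω hω)

theorem Pb_pgroup : IsPGroup 2 (Pb ω hω) := IsPGroup.of_card (Pb_card ω hω)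

theorem Pb_index : ¬ 2 ∣ (Pb ω hω).index := by
  have h := Subgroup.card_mul_index (Pb ω hω)
  rw [Pb_card ω hω, card_J3 ω hω] at h
  have : (Pb ω hω).index = 392445 := by omega
  rw [this]
  norm_num

theorem pe_sq (a : ℕ) (ha : a < 128) (h : pm a a = 0) : pe ω hω a * pe ω hω a = 1 := by
  rw [(pe_mul ω hω a ha a ha).2, h, pe_zero]

theorem pj_pe_order (a : ℕ) (ha : a < 128) (h0 : a ≠ 0) (h : pm a a = 0) :
    orderOf (pj ω (pe ω hω a)) = 2 := by
  apply orderOf_eq_prime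
  · rw [← map_pow, pow_two, pe_sq ω hω a ha h, map_one]
  · intro h1
    have h2 := pj_Ps_ker ω hω _ (pe_mem ω hω a ha) h1
    rw [← pe_zero ω hω] at h2
    exact h0 (pe_inj ω hω a ha 0 (by norm_num) h2)

theorem invP_mem_closure (a : ℕ) (ha : a < 128) (h : a = 0 ∨ pm a a = 0) :
    pj ω (pe ω hω a) ∈ Subgroup.closure {x | x ∈ Pb ω hω ∧ orderOf x = 2} := by
  by_cases h0 : a = 0
  · subst h0
    rw [pe_zero, map_one]
    exact Subgroup.one_mem _
  · have hsq : pm a a = 0 := by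
      rcases h with h | h
      · exact absurd h h0
      · exact h
    apply Subgroup.subset_closure
    exact ⟨(mem_Pb ω hω).mpr ⟨a, ha, rfl⟩, pj_pe_order ω hω a ha h0 hsq⟩

theorem Pb_gen : Pb ω hω ≤ Subgroup.closure {x | x ∈ Pb ω hω ∧ orderOf x = 2} := by
  intro x hx
  obtain ⟨b, hb, rfl⟩ := (mem_Pb ω hω).mp hx
  rcases chkPG_unpack b hb with h | ⟨c, hc, d, hd, h1, h2, h3⟩
  · exact invP_mem_closure ω hω b hb h
  · have e : pe ω hω b = pe ω hω c * pe ω hω d := by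
      rw [(pe_mul ω hω c hc d hd).2, h3]
    rw [e, map_mul]
    exact Subgroup.mul_mem _ (invP_mem_closure ω hω c hc h1) (invP_mem_closure ω hω d hd h2)

/-! ### The central involution -/

theorem tS_eq_pe : tS ω hω = pe ω hω 86 := by
  rw [← qe_one ω hω]
  unfold qe pe
  rw [(chkQP_unpack 1 (by norm_num)).2, QPt_one]

theorem tb_mem : tb ω hω ∈ Pb ω hω := (mem_Pb ω hω).mpr ⟨86, by norm_num, by rw [tb, tS_eq_pe]⟩

theorem tb_ne_one : tb ω hω ≠ 1 := by
  intro h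
  have hz : tS ω hω ∈ Subgroup.center (threeJ3 F ω) := (pj_eq_one_iff ω).mp h
  have := center_two_pow ω hω _ hz 1 (by rw [pow_one]; exact tS_sq ω hω)
  exact tS_ne_one ω hω this

theorem tb_order : orderOf (tb ω hω) = 2 := by
  apply orderOf_eq_prime
  · rw [tb, ← map_pow, tS_sq, map_one]
  · exact tb_ne_one ω hω

theorem celS_comm (j : ℕ) : celS ω hω j * tS ω hω = tS ω hω * celS ω hω j :=
  Subgroup.mem_centralizer_singleton_iff.mp (celS_mem ω hω j)

theorem pj_celS_comm (j : ℕ) :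
    pj ω (celS ω hω j) * tb ω hω = tb ω hω * pj ω (celS ω hω j) := by
  rw [tb, ← map_mul, ← map_mul, celS_comm]

theorem tb_central : ∀ y ∈ Pb ω hω, tb ω hω * y = y * tb ω hω := by
  intro y hy
  obtain ⟨a, ha, rfl⟩ := (mem_Pb ω hω).mp hy
  exact (pj_celS_comm ω hω (PIt a)).symm

theorem Pb_center : ∀ x ∈ Pb ω hω, (∀ y ∈ Pb ω hω, x * y = y * x) → x = 1 ∨ x = tb ω hω := by
  intro x hx hc
  obtain ⟨a, ha, rfl⟩ := (mem_Pb ω hω).mp hx
  by_cases h0 : a = 0
  · left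
    rw [h0, pe_zero, map_one]
  by_cases h86 : a = 86
  · right
    rw [h86, tb, tS_eq_pe]
  exfalso
  obtain ⟨hw, hne⟩ := chkPZ_unpack a ha h0 h86
  have h1 := hc _ ((mem_Pb ω hω).mpr ⟨PZt a, hw, rfl⟩)
  rw [← map_mul, ← map_mul, (pe_mul ω hω a ha _ hw).2, (pe_mul ω hω _ hw a ha).2] at h1
  have h2 := pj_Ps_inj ω hω _ _ (pe_mem ω hω _ (pe_mul ω hω a ha _ hw).1)
    (pe_mem ω hω _ (pe_mul ω hω _ hw a ha).1) h1
  exact hne (pe_inj ω hω _ (pe_mul ω hω a ha _ hw).1 _ (pe_mul ω hω _ hw a ha).1 h2)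

/-! ### The normal subgroup of order `32` -/

theorem Qs_le_Ps : Qs ω hω ≤ Ps ω hω := by
  intro q hq
  obtain ⟨a, ha, rfl⟩ := (mem_Qs ω hω).mp hq
  obtain ⟨h1, h2⟩ := chkQP_unpack a ha
  refine ⟨QPt a, h1, ?_⟩
  unfold qe pe
  rw [h2]

theorem Qb_le : Qb ω hω ≤ Pb ω hω := Subgroup.map_mono (Qs_le_Ps ω hω)

theorem tS_mem_Qs : tS ω hω ∈ Qs ω hω := (mem_Qs ω hω).mpr ⟨1, by norm_num, (qe_one ω hω).symm⟩

theorem Qb_norm : ∀ c : J3 F ω, c * tb ω hω = tb ω hω * c → ∀ q ∈ Qb ω hω,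
    c * q * c⁻¹ ∈ Qb ω hω := by
  intro c hc q hq
  obtain ⟨x, rfl⟩ := pj_surj ω c
  obtain ⟨q0, hq0, rfl⟩ := hq
  have hx := centralizer_lift ω hω x hc
  have := Qs_norm ω hω x (Subgroup.mem_centralizer_singleton_iff.mpr hx) q0 hq0
  rw [← map_inv, ← map_mul, ← map_mul]
  exact Subgroup.mem_map_of_mem _ this

theorem Qb_cent : ∀ c : J3 F ω, (∀ q ∈ Qb ω hω, c * q = q * c) → c ∈ Qb ω hω := by
  intro c hc
  obtain ⟨x, rfl⟩ := pj_surj ω c
  have ht : pj ω x * pj ω (tS ω hω) = pj ω (tS ω hω) * pj ω x :=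
    hc _ (Subgroup.mem_map_of_mem _ (tS_mem_Qs ω hω))
  have hx := centralizer_lift ω hω x ht
  obtain ⟨j, hj, rfl⟩ := centralizer_elems ω hω x (Subgroup.mem_centralizer_singleton_iff.mpr hx)
  have rj := cel_rep ω hω j hj
  rcases chkCA_unpack j hj with ⟨a, k, ha, hk⟩ | ⟨a, ha, n1, n2, n3⟩
  · obtain ⟨z, hz, rz⟩ := zc_rep ω hω k
    have e : celS ω hω j = qe ω hω a * z := by
      apply Subtype.ext
      have r2 := Rep.mul ω hω (cel_rep ω hω (QIt a) (QIt_lt' a ha)) rz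
      rw [← hk] at r2
      exact rj.ext ω r2
    rw [e, map_mul, (pj_eq_one_iff ω).mpr hz, mul_one]
    exact Subgroup.mem_map_of_mem _ ((mem_Qs ω hω).mpr ⟨a, ha, rfl⟩)
  · exfalso
    have ra := cel_rep ω hω (QIt a) (QIt_lt' a ha)
    have hcomm := hc _ (Subgroup.mem_map_of_mem _ ((mem_Qs ω hω).mpr ⟨a, ha, rfl⟩))
    rw [← map_mul, ← map_mul] at hcomm
    have hz := (pj_eq_iff ω).mp hcomm.symm
    obtain ⟨m, hm, hzm⟩ := center_cases ω hω _ hz
    have e : celS ω hω j * qe ω hω a = qe ω hω a * celS ω hω j * zS ω hω m := by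
      rw [← hzm]; group
    have r1 : Rep ω ((celS ω hω j * qe ω hω a : threeJ3 F ω) : GL I9 F)
        (mmul (CLt j) (CLt (QIt a))) := Rep.mul ω hω rj ra
    have r2 : Rep ω ((qe ω hω a * celS ω hω j : threeJ3 F ω) : GL I9 F)
        (mmul (CLt (QIt a)) (CLt j)) := Rep.mul ω hω ra rj
    rcases hm with rfl | rfl | rfl
    · rw [zS_zero, mul_one] at e
      rw [e] at r1
      exact n1 (semM_inj ω hω (mmul_lt _ _) (mmul_lt _ _) (r1.symm.trans r2))
    · have r3 : Rep ω ((qe ω hω a * celS ω hω j * zS ω hω 3 : threeJ3 F ω) : GL I9 F)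
          (mmul (mmul (CLt (QIt a)) (CLt j)) (U2 3)) :=
        Rep.mul ω hω r2 (zS_rep ω hω 3 (Or.inr (Or.inl rfl)))
      rw [e] at r1
      exact n2 (semM_inj ω hω (mmul_lt _ _) (mmul_lt _ _) (r1.symm.trans r3))
    · have r3 : Rep ω ((qe ω hω a * celS ω hω j * zS ω hω 14 : threeJ3 F ω) : GL I9 F)
          (mmul (mmul (CLt (QIt a)) (CLt j)) (U2 14)) :=
        Rep.mul ω hω r2 (zS_rep ω hω 14 (Or.inr (Or.inr rfl)))
      rw [e] at r1
      exact n3 (semM_inj ω hω (mmul_lt _ _) (mmul_lt _ _) (r1.symm.trans r3))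

/-! ### Generation of the centraliser by `2`-elements -/

theorem pj_celS_two (a : ℕ) (ha : a < 5760) (h : isZ (pow8 (CLt a)) = true) :
    ∃ m : ℕ, orderOf (pj ω (celS ω hω a)) = 2 ^ m := by
  have r8 : Rep ω (((celS ω hω a) ^ 8 : threeJ3 F ω) : GL I9 F) (pow8 (CLt a)) := by
    rw [Subgroup.coe_pow]
    exact rep_pow8 ω hω (cel_rep ω hω a ha)
  have hmem := mem_center_of_isZ ω hω r8 h
  have h8 : (pj ω (celS ω hω a)) ^ 2 ^ 3 = 1 := by
    rw [← map_pow]
    exact (pj_eq_one_iff ω).mpr hmem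
  obtain ⟨m, -, hm⟩ := (Nat.dvd_prime_pow Nat.prime_two).mp (orderOf_dvd_of_pow_eq_one h8)
  exact ⟨m, hm⟩

theorem Cb_gen : ∀ c : J3 F ω, c * tb ω hω = tb ω hω * c →
    c ∈ Subgroup.closure {g : J3 F ω | g * tb ω hω = tb ω hω * g ∧ ∃ m : ℕ, orderOf g = 2 ^ m} := by
  intro c hc
  obtain ⟨x, rfl⟩ := pj_surj ω c
  have hx := centralizer_lift ω hω x hc
  obtain ⟨j, hj, rfl⟩ := centralizer_elems ω hω x (Subgroup.mem_centralizer_singleton_iff.mpr hx)
  obtain ⟨a, ha, b, hb, hab, za, zb⟩ := chkCB_unpack j hj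
  rw [← celS_mul ω hω ha hb hj hab, map_mul]
  exact Subgroup.mul_mem _
    (Subgroup.subset_closure ⟨pj_celS_comm ω hω a, pj_celS_two ω hω a ha za⟩)
    (Subgroup.subset_closure ⟨pj_celS_comm ω hω b, pj_celS_two ω hω b hb zb⟩)

/-! ### Assembly -/

include hω in
theorem J3_fusData : FusData (Pb ω hω) (Qb ω hω) (tb ω hω) where
  conj := (J3_involutions ω hω).1
  pgroup := Pb_pgroup ω hω
  index := Pb_index ω hω
  gen := Pb_gen ω hω
  t_mem := tb_mem ω hω
  t_ord := tb_order ω hω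
  t_central := tb_central ω hω
  center := Pb_center ω hω
  QP := Qb_le ω hω
  Qnorm := Qb_norm ω hω
  Qcent := Qb_cent ω hω
  gen2 := Cb_gen ω hω

include hω in
theorem J3_fusion_simple (S : Sylow 2 (J3 F ω)) :
    (Cfsg.groupFusionSystem (S : Subgroup (J3 F ω))).IsSimple 2 := by
  have : Finite (J3 F ω) := Nat.finite_of_card_ne_zero (by rw [card_J3 ω hω]; norm_num)
  exact (J3_fusData ω hω).simple S

end Top

end Cfsg.Agent.Helper8.J3M
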