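import Cfsg.Agent.Lib.Helper8.J3Simple
import Cfsg.Agent.Lib.Helper8.J3ChkVA
import Cfsg.Agent.Lib.Helper8.J3ChkVB
import Cfsg.Agent.Lib.Helper8.J3ChkVC
import Cfsg.Agent.Lib.Helper8.J3ChkVD
import Cfsg.Agent.Lib.Helper8.J3ChkVE

set_option autoImplicit false
set_option linter.unusedSectionVars false
set_option linter.unusedVariables false

/-! The centraliser of an involution of `3·J₃`: a subgroup of order `5760` generated by two coded
matrices, the class of the involution (of size `26163`), and the order of the centraliser. -/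

open scoped MatrixGroups

namespace Cfsg.Agent.Helper8.J3M

open Cfsg.Agent.Helper8.F4P Cfsg.Spor

noncomputable def cx1 (j : ℕ) : ℕ := Nat.mod (CCt j) 8192
noncomputable def cx2 (j : ℕ) : ℕ := Nat.shiftRight (CCt j) 13

theorem chkC_unpack (j : ℕ) (hj : j < 5760) :
    cx1 j < 5760 ∧ cx2 j < 5760 ∧ mmul C1c (CLt j) = CLt (cx1 j) ∧
      mmul C2c (CLt j) = CLt (cx2 j) := by
  have h := allBelow_spec chkC_all j hj
  unfold chkC at h
  simp only [force_eq] at h
  obtain ⟨ha, hb⟩ := and_true' h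
  obtain ⟨ha1, ha2⟩ := and_true' ha
  obtain ⟨hb1, hb2⟩ := and_true' hb
  exact ⟨blt_true ha1, blt_true ha2, beq_true hb1, beq_true hb2⟩

theorem parC_unpack (j : ℕ) (h0 : 0 < j) (hj : j < 5760) :
    ∃ p < j, cx1 p = j ∨ cx2 p = j := by
  have h := allRange_spec chkParC_all j (by omega) (by omega)
  unfold chkParC at h
  simp only [force_eq] at h
  obtain ⟨ha, hb⟩ := and_true' h
  refine ⟨_, blt_true ha, ?_⟩
  generalize Nat.mod (CPt j) 8192 = p at hb ⊢
  cases hc : Nat.beq (Nat.shiftRight (CPt j) 13) 0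
  · rw [hc] at hb
    right
    exact beq_true hb
  · rw [hc] at hb
    left
    exact beq_true hb

section Sub

variable {F : Type*} [Field F] [CharP F 2] [Finite F] (ω : F) (hω : ω ^ 2 = ω + 1)
variable (t1 t2 : GL I9 F) (ht1 : Rep ω t1 C1c) (ht2 : Rep ω t2 C2c)

/-- The subgroup generated by two coded matrices. -/
def CCg : Subgroup (GL I9 F) := Subgroup.closure {t1, t2}

include hω ht1 ht2

theorem exists_rep_CLt : ∀ j, j < 5760 → ∃ k ∈ CCg t1 t2, Rep ω k (CLt j) := by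
  intro j
  induction j using Nat.strong_induction_on with
  | _ j ih =>
    intro hj
    rcases Nat.eq_zero_or_pos j with rfl | hpos
    · exact ⟨1, one_mem _, by rw [CLt_zero]; exact rep_one ω⟩
    · obtain ⟨p, hp, hcase⟩ := parC_unpack j hpos hj
      obtain ⟨u, hu, hru⟩ := ih p hp (by omega)
      obtain ⟨-, -, e1, e2⟩ := chkC_unpack p (by omega)
      rcases hcase with ha | ha
      · rw [ha] at e1
        exact ⟨t1 * u, (CCg t1 t2).mul_mem (Subgroup.subset_closure (by simp)) hu,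
          (Rep.mul ω hω ht1 hru).congr ω e1⟩
      · rw [ha] at e2
        exact ⟨t2 * u, (CCg t1 t2).mul_mem (Subgroup.subset_closure (by simp)) hu,
          (Rep.mul ω hω ht2 hru).congr ω e2⟩

/-- The element of the subgroup with a given index. -/
noncomputable def cOf (j : ℕ) : GL I9 F :=
  if h : j < 5760 then (exists_rep_CLt ω hω t1 t2 ht1 ht2 j h).choose else 1

theorem cOf_mem (j : ℕ) : cOf ω hω t1 t2 ht1 ht2 j ∈ CCg t1 t2 := by
  unfold cOf
  split_ifs with h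
  · exact (exists_rep_CLt ω hω t1 t2 ht1 ht2 j h).choose_spec.1
  · exact one_mem _

theorem cOf_rep (j : ℕ) (h : j < 5760) : Rep ω (cOf ω hω t1 t2 ht1 ht2 j) (CLt j) := by
  unfold cOf
  rw [dif_pos h]
  exact (exists_rep_CLt ω hω t1 t2 ht1 ht2 j h).choose_spec.2

theorem cOf_injOn : ∀ j < 5760, ∀ j' < 5760,
    cOf ω hω t1 t2 ht1 ht2 j = cOf ω hω t1 t2 ht1 ht2 j' → j = j' := by
  intro j hj j' hj' he
  apply distinctBelow_spec regKeyC_distinct j hj j' hj'
  have r1 := cOf_rep ω hω t1 t2 ht1 ht2 j hj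
  have r2 := cOf_rep ω hω t1 t2 ht1 ht2 j' hj'
  rw [he] at r1
  have hsem : semM ω (CLt j) = semM ω (CLt j') := r1.symm.trans r2
  have hB : BCc < 2 ^ 18 := BCc_lt
  have := semM_mulVec ω hω (CLt j) BCc hB
  rw [hsem, semM_mulVec ω hω (CLt j') BCc hB] at this
  exact (dec_inj ω hω (col_lt _ _) (col_lt _ _) this).symm

theorem cOf_zero : cOf ω hω t1 t2 ht1 ht2 0 = 1 := by
  have := cOf_rep ω hω t1 t2 ht1 ht2 0 (by norm_num)
  rw [CLt_zero] at this
  exact this.ext ω (rep_one ω)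

theorem CC_level : Nat.card (CCg t1 t2) = 5760 ∧
    ∀ h ∈ CCg t1 t2, ∃ j < 5760, h = cOf ω hω t1 t2 ht1 ht2 j := by
  classical
  let U : Finset (GL I9 F) := (Finset.range 5760).image (cOf ω hω t1 t2 ht1 ht2)
  have hU : ∀ u ∈ U, ∃ j < 5760, u = cOf ω hω t1 t2 ht1 ht2 j := by
    intro u hu
    obtain ⟨j, hj, rfl⟩ := Finset.mem_image.mp hu
    exact ⟨j, Finset.mem_range.mp hj, rfl⟩
  have hmemU : ∀ j < 5760, cOf ω hω t1 t2 ht1 ht2 j ∈ U := fun j hj =>
    Finset.mem_image.mpr ⟨j, Finset.mem_range.mpr hj, rfl⟩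
  have hlev := BSGS.level (CCg t1 t2) ⊥ ⊥ {t1, t2} rfl bot_le le_rfl U
    (by rw [← cOf_zero ω hω t1 t2 ht1 ht2]; exact hmemU 0 (by norm_num))
    (by
      intro u hu
      obtain ⟨j, -, rfl⟩ := hU u hu
      exact cOf_mem ω hω t1 t2 ht1 ht2 j)
    (by
      intro u _ u' _ h
      rw [Subgroup.mem_bot, inv_mul_eq_one] at h
      exact h)
    (by
      intro s hs u hu
      obtain ⟨j, hj, rfl⟩ := hU u hu
      obtain ⟨b1, b2, e1, e2⟩ := chkC_unpack j hj
      have hr := cOf_rep ω hω t1 t2 ht1 ht2 j hj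
      rcases hs with rfl | hs
      · refine ⟨_, hmemU _ b1, ?_⟩
        rw [Subgroup.mem_bot, inv_mul_eq_one]
        exact (cOf_rep ω hω _ t2 ht1 ht2 _ b1).ext ω ((Rep.mul ω hω ht1 hr).congr ω e1)
      · rw [Set.mem_singleton_iff] at hs
        subst hs
        refine ⟨_, hmemU _ b2, ?_⟩
        rw [Subgroup.mem_bot, inv_mul_eq_one]
        exact (cOf_rep ω hω t1 _ ht1 ht2 _ b2).ext ω ((Rep.mul ω hω ht2 hr).congr ω e2))
  obtain ⟨hcard, -, hcov⟩ := hlev
  constructor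
  · rw [hcard, Subgroup.card_bot, mul_one, Finset.card_image_of_injOn, Finset.card_range]
    intro j hj j' hj' he
    exact cOf_injOn ω hω t1 t2 ht1 ht2 j (Finset.mem_range.mp hj) j' (Finset.mem_range.mp hj') he
  · intro h hh
    obtain ⟨u, hu, hk⟩ := hcov h hh
    obtain ⟨j, hj, rfl⟩ := hU u hu
    rw [Subgroup.mem_bot, inv_mul_eq_one] at hk
    exact ⟨j, hj, hk.symm⟩

end Sub

/-! ### Injectivity of the coding -/

theorem code_eq_of_cols {c c' : ℕ} (hc : c < 2 ^ 162) (hc' : c' < 2 ^ 162)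
    (h : ∀ k < 9, col c k = col c' k) : c = c' := by
  apply Nat.eq_of_testBit_eq
  intro i
  rcases Nat.lt_or_ge i 162 with hi | hi
  · have h1 := testBit_col c (i / 18) (i % 18)
    have h2 := testBit_col c' (i / 18) (i % 18)
    rw [h (i / 18) (by omega), h2] at h1
    have e : 18 * (i / 18) + i % 18 = i := Nat.div_add_mod i 18
    rw [e] at h1
    have hlt : i % 18 < 18 := Nat.mod_lt _ (by norm_num)
    simpa [hlt] using h1.symm
  · rw [Nat.testBit_lt_two_pow (lt_of_lt_of_le hc (Nat.pow_le_pow_right (by norm_num) hi)),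
      Nat.testBit_lt_two_pow (lt_of_lt_of_le hc' (Nat.pow_le_pow_right (by norm_num) hi))]

theorem ix_surj : ∀ k < 9, ∃ z : I9, ix z = k := by decide

section Top

variable {F : Type*} [Field F] [CharP F 2] [Finite F] (ω : F) (hω : ω ^ 2 = ω + 1)

include hω in
theorem semM_inj {c c' : ℕ} (hc : c < 2 ^ 162) (hc' : c' < 2 ^ 162)
    (h : semM ω c = semM ω c') : c = c' := by
  apply code_eq_of_cols hc hc'
  intro k hk
  obtain ⟨z, rfl⟩ := ix_surj k hk
  apply dec_inj ω hω (col_lt _ _) (col_lt _ _)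
  funext w
  have := congrFun (congrFun h w) z
  simpa [semM, Matrix.of_apply] using this

include hω in
theorem rep_inv {g : GL I9 F} {c c' : ℕ} (hg : Rep ω g c) (e : mmul c' c = IDc) :
    Rep ω g⁻¹ c' := by
  have h1 : semM ω c' * (g : Matrix I9 I9 F) = 1 := by
    rw [hg, ← semM_mmul ω hω, e, semM_one]
  rw [Rep]
  calc ((g⁻¹ : GL I9 F) : Matrix I9 I9 F)
      = (semM ω c' * (g : Matrix I9 I9 F)) * ((g⁻¹ : GL I9 F) : Matrix I9 I9 F) := by
        rw [h1, one_mul]
    _ = semM ω c' := by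
        rw [mul_assoc, ← Units.val_mul, mul_inv_cancel, Units.val_one, mul_one]

/-- The first generator of the centraliser. -/
noncomputable def cc1 : GL I9 F := uel ω hω 6490 * kel ω hω 3329

/-- The second generator of the centraliser. -/
noncomputable def cc2 : GL I9 F := uel ω hω 18451 * kel ω hω 3764

/-- The involution. -/
noncomputable def tcc : GL I9 F := uel ω hω 0 * kel ω hω 7

theorem cc1_rep : Rep ω (cc1 ω hω) C1c := by
  have r := Rep.mul ω hω (uel_rep ω hω 6490 (by norm_num)) (kel_rep ω hω 3329 (by norm_num))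
  rw [← V_sifts.2.1] at r
  exact r

theorem cc2_rep : Rep ω (cc2 ω hω) C2c := by
  have r := Rep.mul ω hω (uel_rep ω hω 18451 (by norm_num)) (kel_rep ω hω 3764 (by norm_num))
  rw [← V_sifts.2.2] at r
  exact r

theorem tcc_rep : Rep ω (tcc ω hω) Tcc := by
  have r := Rep.mul ω hω (uel_rep ω hω 0 (by norm_num)) (kel_rep ω hω 7 (by norm_num))
  rw [← V_sifts.1] at r
  exact r

theorem cc1_mem : cc1 ω hω ∈ threeJ3 F ω :=
  mul_mem (uel_mem ω hω _) (Kst_le ω hω (kel_mem ω hω _))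

theorem cc2_mem : cc2 ω hω ∈ threeJ3 F ω :=
  mul_mem (uel_mem ω hω _) (Kst_le ω hω (kel_mem ω hω _))

theorem tcc_mem : tcc ω hω ∈ threeJ3 F ω :=
  mul_mem (uel_mem ω hω _) (Kst_le ω hω (kel_mem ω hω _))

/-- The centraliser, inside `GL₉(4)`. -/
noncomputable def Cst : Subgroup (GL I9 F) := CCg (cc1 ω hω) (cc2 ω hω)

theorem Cst_le : Cst ω hω ≤ threeJ3 F ω := by
  rw [Cst, CCg, Subgroup.closure_le]
  rintro x (rfl | hx)
  · exact cc1_mem ω hω
  · rw [Set.mem_singleton_iff] at hx; subst hx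
    exact cc2_mem ω hω

theorem Cst_card : Nat.card (Cst ω hω) = 5760 :=
  (CC_level ω hω _ _ (cc1_rep ω hω) (cc2_rep ω hω)).1

/-- The elements of the centraliser. -/
noncomputable def cel (j : ℕ) : GL I9 F := cOf ω hω _ _ (cc1_rep ω hω) (cc2_rep ω hω) j

theorem cel_rep (j : ℕ) (h : j < 5760) : Rep ω (cel ω hω j) (CLt j) := cOf_rep _ _ _ _ _ _ j h

theorem cel_mem (j : ℕ) : cel ω hω j ∈ Cst ω hω := cOf_mem _ _ _ _ _ _ j

theorem cel_inj : ∀ j < 5760, ∀ j' < 5760, cel ω hω j = cel ω hω j' → j = j' :=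
  cOf_injOn _ _ _ _ _ _

theorem cel_zero : cel ω hω 0 = 1 := cOf_zero _ _ _ _ _ _

theorem Cst_elems : ∀ h ∈ Cst ω hω, ∃ j < 5760, h = cel ω hω j :=
  (CC_level ω hω _ _ (cc1_rep ω hω) (cc2_rep ω hω)).2

theorem tcc_sq : tcc ω hω * tcc ω hω = 1 := by
  have r := Rep.mul ω hω (tcc_rep ω hω) (tcc_rep ω hω)
  rw [V_comm.2.2.1] at r
  exact r.ext ω (rep_one ω)

theorem cc1_comm : cc1 ω hω * tcc ω hω = tcc ω hω * cc1 ω hω := by
  have r1 := Rep.mul ω hω (cc1_rep ω hω) (tcc_rep ω hω)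
  have r2 := Rep.mul ω hω (tcc_rep ω hω) (cc1_rep ω hω)
  rw [V_comm.1] at r1
  exact r1.ext ω r2

theorem cc2_comm : cc2 ω hω * tcc ω hω = tcc ω hω * cc2 ω hω := by
  have r1 := Rep.mul ω hω (cc2_rep ω hω) (tcc_rep ω hω)
  have r2 := Rep.mul ω hω (tcc_rep ω hω) (cc2_rep ω hω)
  rw [V_comm.2.1] at r1
  exact r1.ext ω r2

theorem Cst_le_centralizer : Cst ω hω ≤ Subgroup.centralizer {tcc ω hω} := by
  rw [Cst, CCg, Subgroup.closure_le]
  rintro x (rfl | hx)
  · rw [SetLike.mem_coe, Subgroup.mem_centralizer_singleton_iff]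
    exact cc1_comm ω hω
  · rw [Set.mem_singleton_iff] at hx; subst hx
    rw [SetLike.mem_coe, Subgroup.mem_centralizer_singleton_iff]
    exact cc2_comm ω hω

theorem cel_comm (j : ℕ) : cel ω hω j * tcc ω hω = tcc ω hω * cel ω hω j :=
  Subgroup.mem_centralizer_singleton_iff.mp (Cst_le_centralizer ω hω (cel_mem ω hω j))

end Top

end Cfsg.Agent.Helper8.J3M
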