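import Cfsg.Agent.Lib.Helper8.J3InvA
import Cfsg.Agent.Lib.Helper8.J3ChkVF

set_option autoImplicit false
set_option linter.unusedSectionVars false
set_option linter.unusedVariables false

/-! The class of the involution of `3·J₃` and the order of its centraliser. -/

open scoped MatrixGroups

namespace Cfsg.Agent.Helper8.J3M

open Cfsg.Agent.Helper8.F4P Cfsg.Spor

/-- The depth of a class element in the conjugation tree. -/
noncomputable def tdep (i : ℕ) : ℕ := Nat.shiftRight (TP i) 16

theorem chkT_at (i : ℕ) (hi : i < 26163) : chkT i = true := by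
  rcases Nat.lt_or_ge i 6541 with h | h
  · exact allRange_spec chkT_0 i (by omega) (by omega)
  rcases Nat.lt_or_ge i 13082 with h | h
  · exact allRange_spec chkT_1 i (by omega) (by omega)
  rcases Nat.lt_or_ge i 19623 with h | h
  · exact allRange_spec chkT_2 i (by omega) (by omega)
  exact allRange_spec chkT_3 i (by omega) (by omega)

theorem chkT_unpack (i : ℕ) (hi : i < 26163) :
    (i + 1 < 26163 → TT i < TT (i + 1)) ∧
    (tdep i = 0 → TT i = Tcc) ∧
    (tdep i ≠ 0 → ∃ p < 26163, tdep p < tdep i ∧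
      (TT i = mmul (mmul S1c (TT p)) S1h ∨ TT i = mmul (mmul S2c (TT p)) S2h)) := by
  have h := chkT_at i hi
  unfold chkT at h
  simp only [force_eq] at h
  obtain ⟨ha, hb⟩ := and_true' h
  refine ⟨?_, ?_, ?_⟩
  · intro h1
    have hc : Nat.blt (Nat.succ i) 26163 = true := by
      rw [Nat.blt_eq]; exact h1
    rw [hc] at ha
    exact blt_true ha
  · intro h0
    have hc : Nat.beq (Nat.shiftRight (TP i) 16) 0 = true := by
      have h0' : Nat.shiftRight (TP i) 16 = 0 := h0
      rw [h0']; rfl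
    rw [hc] at hb
    exact beq_true hb
  · intro h0
    have hc : Nat.beq (Nat.shiftRight (TP i) 16) 0 = false := by
      rw [Bool.eq_false_iff]
      intro h1
      exact h0 (beq_true h1)
    rw [hc] at hb
    obtain ⟨hb1, hb2⟩ := and_true' hb
    obtain ⟨hb3, hb4⟩ := and_true' hb2
    refine ⟨_, blt_true hb1, blt_true hb3, ?_⟩
    generalize Nat.mod (TP i) 32768 = p at hb4 ⊢
    cases hl : Nat.beq (Nat.mod (Nat.shiftRight (TP i) 15) 2) 0
    · rw [hl] at hb4
      right
      exact beq_true hb4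
    · rw [hl] at hb4
      left
      exact beq_true hb4

theorem TT_lt (i : ℕ) : TT i < 2 ^ 162 := by
  unfold TT tget
  exact Nat.mod_lt _ (Nat.two_pow_pos 162)

theorem TT_mono : ∀ j, j < 26163 → ∀ i, i < j → TT i < TT j := by
  intro j
  induction j with
  | zero => intro _ i hi; omega
  | succ j ih =>
    intro hj i hi
    have hstep : TT j < TT (j + 1) := (chkT_unpack j (by omega)).1 hj
    rcases Nat.lt_succ_iff_lt_or_eq.mp hi with h | h
    · exact lt_trans (ih (by omega) i h) hstep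
    · rw [h]; exact hstep

section Top

variable {F : Type*} [Field F] [CharP F 2] [Finite F] (ω : F) (hω : ω ^ 2 = ω + 1)

theorem gg1_inv_rep : Rep ω (gg1 ω hω)⁻¹ S1h := rep_inv ω hω (gg1_rep ω hω) S1h_mul

theorem gg2_inv_rep : Rep ω (gg2 ω hω)⁻¹ S2h := rep_inv ω hω (gg2_rep ω hω) S2h_mul

theorem exists_tel : ∀ d i, i < 26163 → tdep i = d →
    ∃ g : GL I9 F, Rep ω g (TT i) ∧ ∃ x ∈ threeJ3 F ω, g = x * tcc ω hω * x⁻¹ := by
  intro d
  induction d using Nat.strong_induction_on with
  | _ d ih =>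
    intro i hi hd
    obtain ⟨-, h0, h1⟩ := chkT_unpack i hi
    rcases Nat.eq_zero_or_pos d with hz | hpos
    · refine ⟨tcc ω hω, ?_, 1, one_mem _, by simp⟩
      rw [h0 (hd.trans hz)]
      exact tcc_rep ω hω
    · obtain ⟨p, hp, hdp, hcase⟩ := h1 (by omega)
      obtain ⟨g, hg, x, hx, hgx⟩ := ih (tdep p) (by omega) p hp rfl
      rcases hcase with e | e
      · refine ⟨gg1 ω hω * g * (gg1 ω hω)⁻¹, ?_, gg1 ω hω * x,
          mul_mem (gg1_mem ω hω) hx, ?_⟩
        · rw [e]
          exact Rep.mul ω hω (Rep.mul ω hω (gg1_rep ω hω) hg) (gg1_inv_rep ω hω)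
        · rw [hgx]; group
      · refine ⟨gg2 ω hω * g * (gg2 ω hω)⁻¹, ?_, gg2 ω hω * x,
          mul_mem (gg2_mem ω hω) hx, ?_⟩
        · rw [e]
          exact Rep.mul ω hω (Rep.mul ω hω (gg2_rep ω hω) hg) (gg2_inv_rep ω hω)
        · rw [hgx]; group

/-- The conjugating elements of the class of the involution. -/
noncomputable def txel (i : ℕ) : GL I9 F :=
  if h : i < 26163 then (exists_tel ω hω _ i h rfl).choose_spec.2.choose else 1

theorem txel_mem (i : ℕ) : txel ω hω i ∈ threeJ3 F ω := by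
  unfold txel
  split_ifs with h
  · exact (exists_tel ω hω _ i h rfl).choose_spec.2.choose_spec.1
  · exact one_mem _

theorem txel_rep (i : ℕ) (h : i < 26163) :
    Rep ω (txel ω hω i * tcc ω hω * (txel ω hω i)⁻¹) (TT i) := by
  unfold txel
  rw [dif_pos h]
  have h1 := (exists_tel ω hω _ i h rfl).choose_spec.1
  have h2 := (exists_tel ω hω _ i h rfl).choose_spec.2.choose_spec.2
  rw [h2] at h1
  exact h1

theorem txel_inj : ∀ i < 26163, ∀ j < 26163,
    txel ω hω i * tcc ω hω * (txel ω hω i)⁻¹ = txel ω hω j * tcc ω hω * (txel ω hω j)⁻¹ →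
      i = j := by
  intro i hi j hj he
  have r1 := txel_rep ω hω i hi
  have r2 := txel_rep ω hω j hj
  rw [he] at r1
  have hc : TT i = TT j := semM_inj ω hω (TT_lt i) (TT_lt j) (r1.symm.trans r2)
  rcases lt_trichotomy i j with h | h | h
  · exact absurd hc (ne_of_lt (TT_mono j hj i h))
  · exact h
  · exact absurd hc.symm (ne_of_lt (TT_mono i hi j h))

/-- The involution as an element of `3·J₃`. -/
noncomputable def tS : threeJ3 F ω := ⟨tcc ω hω, tcc_mem ω hω⟩

/-- The elements of the centraliser in `3·J₃`. -/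
noncomputable def celS (j : ℕ) : threeJ3 F ω := ⟨cel ω hω j, Cst_le ω hω (cel_mem ω hω j)⟩

/-- The centraliser, as a subgroup of `3·J₃`. -/
noncomputable def Csub : Subgroup (threeJ3 F ω) := (Cst ω hω).subgroupOf (threeJ3 F ω)

theorem Csub_card : Nat.card (Csub ω hω) = 5760 := by
  rw [← Cst_card ω hω]
  exact Nat.card_congr (Subgroup.subgroupOfEquivOfLe (Cst_le ω hω)).toEquiv

theorem Csub_le : Csub ω hω ≤ Subgroup.centralizer {tS ω hω} := by
  intro x hx
  rw [Subgroup.mem_centralizer_singleton_iff]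
  apply Subtype.ext
  have := Subgroup.mem_centralizer_singleton_iff.mp
    (Cst_le_centralizer ω hω (Subgroup.mem_subgroupOf.mp hx))
  exact this

theorem index_centralizer_ge :
    26163 ≤ (Subgroup.centralizer ({tS ω hω} : Set (threeJ3 F ω))).index := by
  classical
  let C := Subgroup.centralizer ({tS ω hω} : Set (threeJ3 F ω))
  let f : Fin 26163 → (threeJ3 F ω) ⧸ C := fun i =>
    ((⟨txel ω hω i, txel_mem ω hω i⟩ : threeJ3 F ω) : (threeJ3 F ω) ⧸ C)
  have hf : Function.Injective f := by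
    intro i j hij
    have h1 : (⟨txel ω hω i, txel_mem ω hω i⟩ : threeJ3 F ω)⁻¹ *
        ⟨txel ω hω j, txel_mem ω hω j⟩ ∈ C := QuotientGroup.eq.mp hij
    rw [Subgroup.mem_centralizer_singleton_iff] at h1
    have h2 := congrArg Subtype.val h1
    simp only [Subgroup.coe_mul, Subgroup.coe_inv] at h2
    have h3 : ((txel ω hω i)⁻¹ * txel ω hω j) * tcc ω hω =
        tcc ω hω * ((txel ω hω i)⁻¹ * txel ω hω j) := h2
    apply Fin.ext
    apply txel_inj ω hω i i.2 j j.2
    have h4 : txel ω hω j * tcc ω hω * (txel ω hω j)⁻¹ =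
        txel ω hω i * (((txel ω hω i)⁻¹ * txel ω hω j) * tcc ω hω) * (txel ω hω j)⁻¹ := by
      group
    rw [h4, h3]
    group
  have := Nat.card_le_card_of_injective f hf
  rw [Nat.card_eq_fintype_card, Fintype.card_fin] at this
  rw [Subgroup.index_eq_card]
  exact this

include hω in
theorem card_centralizer_tS :
    Nat.card (Subgroup.centralizer ({tS ω hω} : Set (threeJ3 F ω))) = 5760 := by
  have h1 := Subgroup.card_mul_index (Subgroup.centralizer ({tS ω hω} : Set (threeJ3 F ω)))
  rw [card_threeJ3 ω hω] at h1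
  have h2 := index_centralizer_ge ω hω
  have h3 : Nat.card (Csub ω hω) ≤
      Nat.card (Subgroup.centralizer ({tS ω hω} : Set (threeJ3 F ω))) :=
    Subgroup.card_le_of_le (Csub_le ω hω)
  rw [Csub_card ω hω] at h3
  nlinarith

theorem centralizer_eq : Subgroup.centralizer ({tS ω hω} : Set (threeJ3 F ω)) = Csub ω hω := by
  symm
  apply Subgroup.eq_of_le_of_card_ge (Csub_le ω hω)
  rw [card_centralizer_tS ω hω, Csub_card ω hω]

theorem centralizer_elems (c : threeJ3 F ω)
    (hc : c ∈ Subgroup.centralizer ({tS ω hω} : Set (threeJ3 F ω))) :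
    ∃ j < 5760, c = celS ω hω j := by
  rw [centralizer_eq ω hω] at hc
  obtain ⟨j, hj, e⟩ := Cst_elems ω hω _ (Subgroup.mem_subgroupOf.mp hc)
  exact ⟨j, hj, Subtype.ext e⟩

theorem celS_mem (j : ℕ) : celS ω hω j ∈ Subgroup.centralizer ({tS ω hω} : Set (threeJ3 F ω)) := by
  rw [centralizer_eq ω hω]
  exact Subgroup.mem_subgroupOf.mpr (cel_mem ω hω j)

theorem celS_inj : ∀ j < 5760, ∀ j' < 5760, celS ω hω j = celS ω hω j' → j = j' := by
  intro j hj j' hj' h
  exact cel_inj ω hω j hj j' hj' (congrArg Subtype.val h)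

theorem celS_zero : celS ω hω 0 = 1 := Subtype.ext (cel_zero ω hω)

theorem celS_mul {a b c : ℕ} (ha : a < 5760) (hb : b < 5760) (hc : c < 5760)
    (h : mmul (CLt a) (CLt b) = CLt c) : celS ω hω a * celS ω hω b = celS ω hω c := by
  apply Subtype.ext
  have r := Rep.mul ω hω (cel_rep ω hω a ha) (cel_rep ω hω b hb)
  rw [h] at r
  exact r.ext ω (cel_rep ω hω c hc)

theorem tS_sq : tS ω hω ^ 2 = 1 := by
  rw [pow_two]
  exact Subtype.ext (tcc_sq ω hω)

theorem tS_eq : tS ω hω = celS ω hω (QIt 1) := by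
  apply Subtype.ext
  have hlt : QIt 1 < 5760 := blt_true (allBelow_spec QIt_lt 1 (by norm_num))
  have r := cel_rep ω hω (QIt 1) hlt
  rw [QIt_01.2] at r
  exact (tcc_rep ω hω).ext ω r

theorem tS_ne_one : tS ω hω ≠ 1 := by
  intro h
  rw [tS_eq ω hω, ← celS_zero ω hω] at h
  have hlt : QIt 1 < 5760 := blt_true (allBelow_spec QIt_lt 1 (by norm_num))
  have h1 := celS_inj ω hω _ hlt 0 (by norm_num) h
  rw [← QIt_01.1] at h1
  have := distinctBelow_spec QIt_distinct 1 (by norm_num) 0 (by norm_num) h1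
  omega

/-- Elements coded in the class table are conjugate to the involution. -/
theorem conj_of_class (x : threeJ3 F ω) (i : ℕ) (hi : i < 26163)
    (hx : Rep ω (x : GL I9 F) (TT i)) : IsConj (tS ω hω) x := by
  rw [isConj_iff]
  refine ⟨⟨txel ω hω i, txel_mem ω hω i⟩, ?_⟩
  apply Subtype.ext
  exact (txel_rep ω hω i hi).ext ω hx

end Top

end Cfsg.Agent.Helper8.J3M
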