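import Cfsg.Agent.Lib.Helper8.J3InvB
import Cfsg.Agent.Lib.Helper8.J3ChkVG
import Cfsg.Agent.Lib.Helper8.J3ChkVH
import Cfsg.Agent.Lib.Helper8.InvCent

set_option autoImplicit false
set_option linter.unusedSectionVars false
set_option linter.unusedVariables false

/-! The normal extraspecial subgroup of order `32` of the involution centraliser of `3·J₃`. -/

open scoped MatrixGroups commutatorElement

namespace Cfsg.Agent.Helper8.J3M

open Cfsg.Agent.Helper8.F4P Cfsg.Spor Cfsg.Agent.Helper8.InvC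

/-! ### Boolean helpers -/

theorem or_true' {a b : Bool} (h : (a || b) = true) : a = true ∨ b = true := by
  cases a <;> cases b <;> simp_all

theorem cond_right {c x : Bool} (h : cond c x true = true) (hc : c = true) : x = true := by
  subst hc; exact h

theorem cond_left {c x : Bool} (h : cond c true x = true) (hc : c = false) : x = true := by
  subst hc; exact h

theorem not_true' {a : Bool} (h : (!a) = true) : a = false := by
  cases a <;> simp_all

theorem beq_false' {a b : ℕ} (h : Nat.beq a b = false) : a ≠ b := by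
  intro e
  subst e
  rw [Nat.beq_refl] at h
  cases h

theorem beq_of_eq {a b : ℕ} (h : a = b) : Nat.beq a b = true := by
  subst h; exact Nat.beq_refl a

theorem blt_false' {a b : ℕ} (h : ¬ a < b) : Nat.blt a b = false := by
  rw [Bool.eq_false_iff]
  intro h1
  exact h (blt_true h1)

/-! ### Unpacking the checks -/

theorem QIt_lt' (a : ℕ) (ha : a < 32) : QIt a < 5760 := blt_true (allBelow_spec QIt_lt a ha)

theorem chkQ_unpack (a b : ℕ) (ha : a < 32) (hb : b < 32) :
    qm a b < 32 ∧ mmul (CLt (QIt a)) (CLt (QIt b)) = CLt (QIt (qm a b)) := by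
  have h := allBelow_spec chkQ_all (a * 32 + b) (by omega)
  unfold chkQ at h
  simp only [force_eq] at h
  have e1 : Nat.div (a * 32 + b) 32 = a := by show (a * 32 + b) / 32 = a; omega
  have e2 : Nat.mod (a * 32 + b) 32 = b := by show (a * 32 + b) % 32 = b; omega
  rw [e1, e2] at h
  obtain ⟨h1, h2⟩ := and_true' h
  exact ⟨blt_true h1, beq_true h2⟩

theorem chkQN_unpack1 (a : ℕ) (ha : a < 32) :
    QNt a < 32 ∧ CLt (QIt (QNt a)) = mmul (mmul C1c (CLt (QIt a))) C1h := by
  have h := allBelow_spec chkQN_all a (by omega)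
  unfold chkQN at h
  simp only [force_eq] at h
  have e1 : Nat.div a 32 = 0 := by show a / 32 = 0; omega
  have e2 : Nat.mod a 32 = a := by show a % 32 = a; omega
  rw [e1, e2] at h
  obtain ⟨h1, h2⟩ := and_true' h
  exact ⟨blt_true h1, beq_true h2⟩

theorem chkQN_unpack2 (a : ℕ) (ha : a < 32) :
    QNt (32 + a) < 32 ∧ CLt (QIt (QNt (32 + a))) = mmul (mmul C2c (CLt (QIt a))) C2h := by
  have h := allBelow_spec chkQN_all (32 + a) (by omega)
  unfold chkQN at h
  simp only [force_eq] at h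
  have e1 : Nat.div (32 + a) 32 = 1 := by show (32 + a) / 32 = 1; omega
  have e2 : Nat.mod (32 + a) 32 = a := by show (32 + a) % 32 = a; omega
  rw [e1, e2] at h
  obtain ⟨h1, h2⟩ := and_true' h
  exact ⟨blt_true h1, beq_true h2⟩

theorem chkQF_unpack (a b : ℕ) (ha : a < 32) (hb : b < 32) :
    (qm a b = qm b a ∨ qm a b = qm (qm b a) 1) ∧ (qm a a = 0 ∨ qm a a = 1) ∧
    (qm a a = 0 → qm b b = 0 → qm a b = qm b a → a < 2 ∨ b < 2 ∨ b = a ∨ b = qm a 1) ∧
    (2 ≤ a → qm a (QWt a) ≠ qm (QWt a) a) ∧ QWt a < 32 := by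
  have h := allBelow_spec chkQF_all (a * 32 + b) (by omega)
  unfold chkQF at h
  simp only [force_eq] at h
  have e1 : Nat.div (a * 32 + b) 32 = a := by show (a * 32 + b) / 32 = a; omega
  have e2 : Nat.mod (a * 32 + b) 32 = b := by show (a * 32 + b) % 32 = b; omega
  rw [e1, e2] at h
  obtain ⟨h1, h⟩ := and_true' h
  obtain ⟨h2, h⟩ := and_true' h
  obtain ⟨h3, h⟩ := and_true' h
  obtain ⟨h4, h⟩ := and_true' h
  obtain ⟨h5, -⟩ := and_true' h
  refine ⟨?_, ?_, ?_, ?_, blt_true h5⟩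
  · rcases or_true' h1 with h | h
    · left; exact beq_true h
    · right; exact beq_true h
  · rcases or_true' h2 with h | h
    · left; exact beq_true h
    · right; exact beq_true h
  · intro ha0 hb0 hab
    have hc : (Nat.beq (qm a a) 0 && (Nat.beq (qm b b) 0 && Nat.beq (qm a b) (qm b a))) = true := by
      rw [beq_of_eq ha0, beq_of_eq hb0, beq_of_eq hab]; rfl
    have := cond_right h3 hc
    rcases or_true' this with h | h
    · left; exact blt_true h
    rcases or_true' h with h | h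
    · right; left; exact blt_true h
    rcases or_true' h with h | h
    · right; right; left; exact beq_true h
    · right; right; right; exact beq_true h
  · intro h2a
    have hc : Nat.blt a 2 = false := blt_false' (by omega)
    exact beq_false' (not_true' (cond_left h4 hc))

section Top

variable {F : Type*} [Field F] [CharP F 2] [Finite F] (ω : F) (hω : ω ^ 2 = ω + 1)

theorem cc1_inv_rep : Rep ω (cc1 ω hω)⁻¹ C1h := rep_inv ω hω (cc1_rep ω hω) V_inv.2.1

theorem cc2_inv_rep : Rep ω (cc2 ω hω)⁻¹ C2h := rep_inv ω hω (cc2_rep ω hω) V_inv.2.2.2.1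

/-- The elements of the subgroup of order `32`. -/
noncomputable def qe (a : ℕ) : threeJ3 F ω := celS ω hω (QIt a)

theorem qe_mul : ∀ a < 32, ∀ b < 32, qm a b < 32 ∧ qe ω hω a * qe ω hω b = qe ω hω (qm a b) := by
  intro a ha b hb
  obtain ⟨h1, h2⟩ := chkQ_unpack a b ha hb
  exact ⟨h1, celS_mul ω hω (QIt_lt' a ha) (QIt_lt' b hb) (QIt_lt' _ h1) h2⟩

theorem qe_zero : qe ω hω 0 = 1 := by
  unfold qe
  rw [QIt_01.1]
  exact celS_zero ω hω

theorem qe_inj : ∀ a < 32, ∀ b < 32, qe ω hω a = qe ω hω b → a = b := by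
  intro a ha b hb h
  exact distinctBelow_spec QIt_distinct a ha b hb
    (celS_inj ω hω _ (QIt_lt' a ha) _ (QIt_lt' b hb) h)

theorem qe_one : qe ω hω 1 = tS ω hω := (tS_eq ω hω).symm

instance finite_threeJ3 : Finite (threeJ3 F ω) := inferInstance

/-- The normal subgroup of order `32` of the centraliser. -/
noncomputable def Qs : Subgroup (threeJ3 F ω) :=
  listSubgroup (qe ω hω) 32 qm (by norm_num) (qe_zero ω hω) (qe_mul ω hω)

theorem mem_Qs {x : threeJ3 F ω} : x ∈ Qs ω hω ↔ ∃ a < 32, x = qe ω hω a := Iff.rfl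

theorem Qs_card : Nat.card (Qs ω hω) = 32 :=
  card_listSubgroup _ _ _ _ _ _ (qe_inj ω hω)

theorem Qs_le : Qs ω hω ≤ Subgroup.centralizer ({tS ω hω} : Set (threeJ3 F ω)) := by
  rintro x ⟨a, ha, rfl⟩
  exact celS_mem ω hω _

theorem qe_comm (a : ℕ) : qe ω hω a * qe ω hω 1 = qe ω hω 1 * qe ω hω a := by
  rw [qe_one]
  exact Subgroup.mem_centralizer_singleton_iff.mp (celS_mem ω hω _)

/-- Conjugation by the first generator of the centraliser. -/
theorem conj1_qe (a : ℕ) (ha : a < 32) :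
    (⟨cc1 ω hω, cc1_mem ω hω⟩ : threeJ3 F ω) * qe ω hω a * (⟨cc1 ω hω, cc1_mem ω hω⟩)⁻¹ ∈
      Qs ω hω := by
  obtain ⟨h1, h2⟩ := chkQN_unpack1 a ha
  refine ⟨QNt a, h1, ?_⟩
  apply Subtype.ext
  have r := Rep.mul ω hω (Rep.mul ω hω (cc1_rep ω hω) (cel_rep ω hω _ (QIt_lt' a ha)))
    (cc1_inv_rep ω hω)
  rw [← h2] at r
  exact r.ext ω (cel_rep ω hω _ (QIt_lt' _ h1))

theorem conj2_qe (a : ℕ) (ha : a < 32) :
    (⟨cc2 ω hω, cc2_mem ω hω⟩ : threeJ3 F ω) * qe ω hω a * (⟨cc2 ω hω, cc2_mem ω hω⟩)⁻¹ ∈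
      Qs ω hω := by
  obtain ⟨h1, h2⟩ := chkQN_unpack2 a ha
  refine ⟨QNt (32 + a), h1, ?_⟩
  apply Subtype.ext
  have r := Rep.mul ω hω (Rep.mul ω hω (cc2_rep ω hω) (cel_rep ω hω _ (QIt_lt' a ha)))
    (cc2_inv_rep ω hω)
  rw [← h2] at r
  exact r.ext ω (cel_rep ω hω _ (QIt_lt' _ h1))

theorem celS_step (p : ℕ) (hp : p < 5760) :
    celS ω hω (cx1 p) = ⟨cc1 ω hω, cc1_mem ω hω⟩ * celS ω hω p ∧
    celS ω hω (cx2 p) = ⟨cc2 ω hω, cc2_mem ω hω⟩ * celS ω hω p := by
  obtain ⟨b1, b2, e1, e2⟩ := chkC_unpack p hp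
  constructor
  · apply Subtype.ext
    have r := Rep.mul ω hω (cc1_rep ω hω) (cel_rep ω hω p hp)
    rw [e1] at r
    exact (cel_rep ω hω _ b1).ext ω r
  · apply Subtype.ext
    have r := Rep.mul ω hω (cc2_rep ω hω) (cel_rep ω hω p hp)
    rw [e2] at r
    exact (cel_rep ω hω _ b2).ext ω r

theorem Qs_normal : ∀ j, j < 5760 → ∀ q ∈ Qs ω hω,
    celS ω hω j * q * (celS ω hω j)⁻¹ ∈ Qs ω hω := by
  intro j
  induction j using Nat.strong_induction_on with
  | _ j ih =>
    intro hj q hq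
    rcases Nat.eq_zero_or_pos j with rfl | hpos
    · rw [celS_zero]; simpa using hq
    · obtain ⟨p, hp, hcase⟩ := parC_unpack j hpos hj
      have hq' := ih p hp (by omega) q hq
      obtain ⟨a, ha, hqa⟩ := hq'
      obtain ⟨s1, s2⟩ := celS_step ω hω p (by omega)
      rcases hcase with e | e
      · rw [← e, s1]
        have := conj1_qe ω hω a ha
        rw [← hqa] at this
        simpa [mul_assoc] using this
      · rw [← e, s2]
        have := conj2_qe ω hω a ha
        rw [← hqa] at this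
        simpa [mul_assoc] using this

theorem Qs_norm : ∀ c ∈ Subgroup.centralizer ({tS ω hω} : Set (threeJ3 F ω)), ∀ q ∈ Qs ω hω,
    c * q * c⁻¹ ∈ Qs ω hω := by
  intro c hc q hq
  obtain ⟨j, hj, rfl⟩ := centralizer_elems ω hω c hc
  exact Qs_normal ω hω j hj q hq

/-! ### The subgroup of order `32` is extraspecial -/

/-- The central involution inside the subgroup of order `32`. -/
noncomputable def zQ : Qs ω hω := ⟨qe ω hω 1, ⟨1, by norm_num, rfl⟩⟩

theorem zQ_central (w : Qs ω hω) : zQ ω hω * w = w * zQ ω hω := by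
  obtain ⟨w, a, ha, rfl⟩ := w
  apply Subtype.ext
  exact (qe_comm ω hω a).symm

theorem zQ_sq : zQ ω hω ^ 2 = 1 := by
  apply Subtype.ext
  show qe ω hω 1 ^ 2 = 1
  rw [qe_one, tS_sq]

theorem zQ_ne : zQ ω hω ≠ 1 := by
  intro h
  have := congrArg Subtype.val h
  exact tS_ne_one ω hω ((qe_one ω hω).symm.trans this)

/-- The element `x` of the subgroup of order `32` has index `a`. -/
def IsIdxQ (x : Qs ω hω) (a : ℕ) : Prop := (x : threeJ3 F ω) = qe ω hω a

theorem idxQ_exists (x : Qs ω hω) : ∃ a < 32, IsIdxQ ω hω x a := x.2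

theorem idxQ_mul {x y : Qs ω hω} {a b : ℕ} (hx : IsIdxQ ω hω x a) (hy : IsIdxQ ω hω y b)
    (ha : a < 32) (hb : b < 32) : IsIdxQ ω hω (x * y) (qm a b) := by
  unfold IsIdxQ at hx hy ⊢
  rw [Subgroup.coe_mul, hx, hy]
  exact (qe_mul ω hω a ha b hb).2

theorem idxQ_ext {x y : Qs ω hω} {a : ℕ} (hx : IsIdxQ ω hω x a) (hy : IsIdxQ ω hω y a) : x = y :=
  Subtype.ext (hx.trans hy.symm)

theorem idxQ_inj {x : Qs ω hω} {a b : ℕ} (hx : IsIdxQ ω hω x a) (hy : IsIdxQ ω hω x b)
    (ha : a < 32) (hb : b < 32) : a = b :=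
  qe_inj ω hω a ha b hb (hx.symm.trans hy)

theorem idxQ_one : IsIdxQ ω hω 1 0 := (qe_zero ω hω).symm

theorem idxQ_z : IsIdxQ ω hω (zQ ω hω) 1 := rfl

theorem qm_lt {a b : ℕ} (ha : a < 32) (hb : b < 32) : qm a b < 32 := (chkQ_unpack a b ha hb).1

theorem Qs_extraspecial : Cfsg.IsExtraspecial 2 (Qs ω hω) := by
  haveI : Fact (Nat.Prime 2) := ⟨Nat.prime_two⟩
  have hzT : zQ ω hω ∈ Subgroup.zpowers (zQ ω hω) := Subgroup.mem_zpowers _
  have hcomm : ∀ x y : Qs ω hω, ⁅x, y⁆ ∈ Subgroup.zpowers (zQ ω hω) := by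
    intro x y
    obtain ⟨a, ha, hxa⟩ := idxQ_exists ω hω x
    obtain ⟨b, hb, hyb⟩ := idxQ_exists ω hω y
    obtain ⟨f1, -, -, -, -⟩ := chkQF_unpack a b ha hb
    have hxy := idxQ_mul ω hω hxa hyb ha hb
    have hyx := idxQ_mul ω hω hyb hxa hb ha
    rcases f1 with e | e
    · rw [e] at hxy
      rw [commutatorElement_eq_one_iff_mul_comm.mpr (idxQ_ext ω hω hxy hyx)]
      exact one_mem _
    · rw [e] at hxy
      have hyxz := idxQ_mul ω hω hyx (idxQ_z ω hω) (qm_lt hb ha) (by norm_num)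
      have h1 : x * y = zQ ω hω * (y * x) := by
        rw [zQ_central]
        exact idxQ_ext ω hω hxy hyxz
      have h2 : ⁅x, y⁆ = zQ ω hω := by
        rw [commutatorElement_def, h1]
        group
      rw [h2]
      exact hzT
  have hpow : ∀ x : Qs ω hω, x ^ 2 ∈ Subgroup.zpowers (zQ ω hω) := by
    intro x
    obtain ⟨a, ha, hxa⟩ := idxQ_exists ω hω x
    obtain ⟨-, f2, -, -, -⟩ := chkQF_unpack a a ha ha
    have hxx := idxQ_mul ω hω hxa hxa ha ha
    rw [pow_two]
    rcases f2 with e | e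
    · rw [e] at hxx
      rw [idxQ_ext ω hω hxx (idxQ_one ω hω)]
      exact one_mem _
    · rw [e] at hxx
      rw [idxQ_ext ω hω hxx (idxQ_z ω hω)]
      exact hzT
  have hZT : Subgroup.center (Qs ω hω) ≤ Subgroup.zpowers (zQ ω hω) := by
    intro x hx
    obtain ⟨a, ha, hxa⟩ := idxQ_exists ω hω x
    rcases Nat.lt_or_ge a 2 with h2 | h2
    · rcases Nat.lt_or_ge a 1 with h1 | h1
      · have : a = 0 := by omega
        subst this
        rw [idxQ_ext ω hω hxa (idxQ_one ω hω)]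
        exact one_mem _
      · have : a = 1 := by omega
        subst this
        rw [idxQ_ext ω hω hxa (idxQ_z ω hω)]
        exact hzT
    · exfalso
      obtain ⟨-, -, -, f4, f5⟩ := chkQF_unpack a a ha ha
      have hne := f4 h2
      have hw : IsIdxQ ω hω ⟨qe ω hω (QWt a), ⟨QWt a, f5, rfl⟩⟩ (QWt a) := rfl
      have hcen := Subgroup.mem_center_iff.mp hx ⟨qe ω hω (QWt a), ⟨QWt a, f5, rfl⟩⟩
      have h1 := idxQ_mul ω hω hw hxa f5 ha
      have h2 := idxQ_mul ω hω hxa hw ha f5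
      rw [hcen] at h1
      exact hne (idxQ_inj ω hω h2 h1 (qm_lt ha f5) (qm_lt f5 ha))
  have hTZ : Subgroup.zpowers (zQ ω hω) ≤ Subgroup.center (Qs ω hω) := by
    rw [Subgroup.zpowers_le, Subgroup.mem_center_iff]
    intro g
    exact (zQ_central ω hω g).symm
  have hT : Nat.card (Subgroup.zpowers (zQ ω hω)) = 2 := by
    rw [Nat.card_zpowers]
    exact orderOf_eq_prime (zQ_sq ω hω) (zQ_ne ω hω)
  have hna : ∃ x y : Qs ω hω, x * y ≠ y * x := by
    obtain ⟨-, -, -, f4, f5⟩ := chkQF_unpack 2 2 (by norm_num) (by norm_num)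
    have hx : IsIdxQ ω hω ⟨qe ω hω 2, ⟨2, by norm_num, rfl⟩⟩ 2 := rfl
    have hw : IsIdxQ ω hω ⟨qe ω hω (QWt 2), ⟨QWt 2, f5, rfl⟩⟩ (QWt 2) := rfl
    refine ⟨⟨qe ω hω 2, ⟨2, by norm_num, rfl⟩⟩, ⟨qe ω hω (QWt 2), ⟨QWt 2, f5, rfl⟩⟩, ?_⟩
    intro h
    have h1 := idxQ_mul ω hω hx hw (by norm_num) f5
    have h2 := idxQ_mul ω hω hw hx f5 (by norm_num)
    rw [h] at h1
    exact f4 le_rfl (idxQ_inj ω hω h1 h2 (qm_lt (by norm_num) f5) (qm_lt f5 (by norm_num)))
  exact isExtraspecial_of_crit' (IsPGroup.of_card (n := 5) (by rw [Qs_card]; norm_num))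
    (Subgroup.zpowers (zQ ω hω)) hT hTZ hZT hcomm hpow hna

theorem Qs_noE8 : ∀ E : Subgroup (Qs ω hω), Cfsg.IsElementaryAbelian 2 E → Nat.card E ≤ 2 ^ 2 := by
  classical
  intro E ⟨hc, h2⟩
  have hcomm : ∀ x ∈ E, ∀ y ∈ E, x * y = y * x := by
    intro x hx y hy
    have := hc.is_comm.comm ⟨x, hx⟩ ⟨y, hy⟩
    exact congrArg Subtype.val this
  by_cases hall : ∀ x ∈ E, x = 1 ∨ x = zQ ω hω
  · have hsub : (E : Set (Qs ω hω)) ⊆ (({1, zQ ω hω} : Finset (Qs ω hω)) : Set (Qs ω hω)) := by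
      intro x hx
      rcases hall x hx with h | h
      · rw [h]; simp
      · rw [h]; simp
    have h1 : Nat.card E = (E : Set (Qs ω hω)).ncard := rfl
    rw [h1]
    calc (E : Set (Qs ω hω)).ncard
        ≤ ((({1, zQ ω hω} : Finset (Qs ω hω)) : Set (Qs ω hω))).ncard :=
          Set.ncard_le_ncard hsub (Finset.finite_toSet _)
      _ = ({1, zQ ω hω} : Finset (Qs ω hω)).card := Set.ncard_coe_finset _
      _ ≤ 2 := Finset.card_le_two
      _ ≤ 2 ^ 2 := by norm_num
  · push Not at hall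
    obtain ⟨x, hxE, hx1, hxz⟩ := hall
    obtain ⟨a, ha, hxa⟩ := idxQ_exists ω hω x
    have ha2 : 2 ≤ a := by
      by_contra hcon
      rcases Nat.lt_or_ge a 1 with h1 | h1
      · have : a = 0 := by omega
        subst this
        exact hx1 (idxQ_ext ω hω hxa (idxQ_one ω hω))
      · have : a = 1 := by omega
        subst this
        exact hxz (idxQ_ext ω hω hxa (idxQ_z ω hω))
    have haa : qm a a = 0 := by
      have h := h2 _ hxE
      have hxx := idxQ_mul ω hω hxa hxa ha ha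
      rw [← pow_two, h] at hxx
      exact (idxQ_inj ω hω (idxQ_one ω hω) hxx (by norm_num) (qm_lt ha ha)).symm
    have hxz' := idxQ_mul ω hω hxa (idxQ_z ω hω) ha (by norm_num)
    have hsub : (E : Set (Qs ω hω)) ⊆
        (({1, zQ ω hω, x, x * zQ ω hω} : Finset (Qs ω hω)) : Set (Qs ω hω)) := by
      intro y hyE
      obtain ⟨b, hb, hyb⟩ := idxQ_exists ω hω y
      have hbb : qm b b = 0 := by
        have h := h2 _ hyE
        have hyy := idxQ_mul ω hω hyb hyb hb hb
        rw [← pow_two, h] at hyy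
        exact (idxQ_inj ω hω (idxQ_one ω hω) hyy (by norm_num) (qm_lt hb hb)).symm
      have hab : qm a b = qm b a := by
        have h := hcomm _ hxE _ hyE
        have h1 := idxQ_mul ω hω hxa hyb ha hb
        have h2 := idxQ_mul ω hω hyb hxa hb ha
        rw [h] at h1
        exact idxQ_inj ω hω h1 h2 (qm_lt ha hb) (qm_lt hb ha)
      obtain ⟨-, -, f3, -, -⟩ := chkQF_unpack a b ha hb
      rcases f3 haa hbb hab with h | h | h | h
      · omega
      · rcases Nat.lt_or_ge b 1 with h1 | h1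
        · have : b = 0 := by omega
          subst this
          rw [idxQ_ext ω hω hyb (idxQ_one ω hω)]; simp
        · have : b = 1 := by omega
          subst this
          rw [idxQ_ext ω hω hyb (idxQ_z ω hω)]; simp
      · subst h
        rw [idxQ_ext ω hω hyb hxa]; simp
      · rw [h] at hyb
        rw [idxQ_ext ω hω hyb hxz']; simp
    have h1 : Nat.card E = (E : Set (Qs ω hω)).ncard := rfl
    rw [h1]
    calc (E : Set (Qs ω hω)).ncard
        ≤ _ := Set.ncard_le_ncard hsub (Finset.finite_toSet _)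
      _ = _ := Set.ncard_coe_finset _
      _ ≤ 4 := Finset.card_le_four
      _ = 2 ^ 2 := by norm_num

end Top

end Cfsg.Agent.Helper8.J3M
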