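import Cfsg.Agent.Lib.Helper8.J3InvC
import Cfsg.Agent.S3378

set_option autoImplicit false
set_option linter.unusedSectionVars false
set_option linter.unusedVariables false

/-! The complement `A₅`, a Sylow `2`-subgroup, and the structure of the involution centraliser
of `J₃`. -/

open scoped MatrixGroups commutatorElement

namespace Cfsg.Agent.Helper8.J3M

open Cfsg.Agent.Helper8.F4P Cfsg.Spor Cfsg.Agent.Helper8.InvC

theorem or_false' {a b : Bool} (h : (a || b) = false) : a = false ∧ b = false := by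
  cases a <;> cases b <;> simp_all

/-! ### Unpacking the checks -/

theorem HIt_lt' (a : ℕ) (ha : a < 60) : HIt a < 5760 := blt_true (allBelow_spec HIt_lt a ha)

theorem PIt_lt' (a : ℕ) (ha : a < 128) : PIt a < 5760 := blt_true (allBelow_spec PIt_lt a ha)

theorem chkH_unpack (a b : ℕ) (ha : a < 60) (hb : b < 60) :
    hm a b < 60 ∧ mmul (CLt (HIt a)) (CLt (HIt b)) = CLt (HIt (hm a b)) := by
  have h := allBelow_spec chkH_all (a * 60 + b) (by nlinarith)
  unfold chkH at h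
  simp only [force_eq] at h
  have e1 : Nat.div (a * 60 + b) 60 = a := by show (a * 60 + b) / 60 = a; omega
  have e2 : Nat.mod (a * 60 + b) 60 = b := by show (a * 60 + b) % 60 = b; omega
  rw [e1, e2] at h
  obtain ⟨h1, h2⟩ := and_true' h
  exact ⟨blt_true h1, beq_true h2⟩

theorem chkHF_unpack (c : ℕ) (hc : c < 60) :
    HAt c < 60 ∧ HBt c < 60 ∧ HVt c < 60 ∧ hm c (HVt c) = 0 ∧
      hm (hm (HAt c) (HBt c)) (hm (HVt (HAt c)) (HVt (HBt c))) = c := by
  have h := allBelow_spec chkHF_all c hc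
  unfold chkHF at h
  simp only [force_eq] at h
  obtain ⟨h1, h2⟩ := and_true' h
  obtain ⟨h1a, h1b⟩ := and_true' h1
  obtain ⟨h3, h4⟩ := and_true' h2
  obtain ⟨h3a, h3b⟩ := and_true' h3
  exact ⟨blt_true h1a, blt_true h1b, blt_true h3a, beq_true h3b, beq_true h4⟩

theorem chkHQ2_unpack (a b : ℕ) (ha : a < 60) (hb : b < 32) (h0 : a ≠ 0) :
    mmul (CLt (HIt a)) (CLt (QIt b)) < 2 ^ 162 ∧ mmul (CLt (HIt a)) (CLt (QIt b)) ≠ IDc ∧
      mmul (CLt (HIt a)) (CLt (QIt b)) ≠ U2 3 ∧ mmul (CLt (HIt a)) (CLt (QIt b)) ≠ U2 14 := by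
  have h := allBelow_spec chkHQ2_all (a * 32 + b) (by omega)
  unfold chkHQ2 at h
  simp only [force_eq] at h
  have e1 : Nat.div (a * 32 + b) 32 = a := by show (a * 32 + b) / 32 = a; omega
  have e2 : Nat.mod (a * 32 + b) 32 = b := by show (a * 32 + b) % 32 = b; omega
  rw [e1, e2] at h
  have hc : Nat.beq a 0 = false := by
    rw [Bool.eq_false_iff]
    intro h1
    exact h0 (beq_true h1)
  rw [hc] at h
  obtain ⟨h1, h2⟩ := and_true' h
  obtain ⟨h3, h4⟩ := or_false' (not_true' h2)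
  obtain ⟨h5, h6⟩ := or_false' h4
  exact ⟨blt_true h1, beq_false' h3, beq_false' h5, beq_false' h6⟩

/-- The multiplication table of the Sylow subgroup. -/
noncomputable def pm (a b : ℕ) : ℕ := PMt (Nat.add (Nat.mul a 128) b)

theorem chkP_unpack (a b : ℕ) (ha : a < 128) (hb : b < 128) :
    pm a b < 128 ∧ mmul (CLt (PIt a)) (CLt (PIt b)) = CLt (PIt (pm a b)) := by
  have h := allBelow_spec chkP_all (a * 128 + b) (by nlinarith)
  unfold chkP at h
  simp only [force_eq] at h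
  have e1 : Nat.div (a * 128 + b) 128 = a := by show (a * 128 + b) / 128 = a; omega
  have e2 : Nat.mod (a * 128 + b) 128 = b := by show (a * 128 + b) % 128 = b; omega
  rw [e1, e2] at h
  obtain ⟨h1, h2⟩ := and_true' h
  exact ⟨blt_true h1, beq_true h2⟩

theorem chkPI_unpack (a : ℕ) (ha : a < 128) (h0 : a ≠ 0) (hsq : pm a a = 0) :
    PHt a < 26163 ∧ CLt (PIt a) = TT (PHt a) := by
  have h := allBelow_spec chkPI_all a ha
  unfold chkPI at h
  have hc1 : Nat.beq a 0 = false := by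
    rw [Bool.eq_false_iff]
    intro h1
    exact h0 (beq_true h1)
  have hc2 : Nat.beq (PMt (Nat.add (Nat.mul a 128) a)) 0 = true := beq_of_eq hsq
  rw [hc1, hc2] at h
  obtain ⟨h1, h2⟩ := and_true' h
  exact ⟨blt_true h1, beq_true h2⟩

section Top

variable {F : Type*} [Field F] [CharP F 2] [Finite F] (ω : F) (hω : ω ^ 2 = ω + 1)

/-! ### The complement -/

/-- The elements of the complement of order `60`. -/
noncomputable def he (a : ℕ) : threeJ3 F ω := celS ω hω (HIt a)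

theorem he_mul : ∀ a < 60, ∀ b < 60, hm a b < 60 ∧ he ω hω a * he ω hω b = he ω hω (hm a b) := by
  intro a ha b hb
  obtain ⟨h1, h2⟩ := chkH_unpack a b ha hb
  exact ⟨h1, celS_mul ω hω (HIt_lt' a ha) (HIt_lt' b hb) (HIt_lt' _ h1) h2⟩

theorem he_zero : he ω hω 0 = 1 := by
  unfold he
  rw [HIt_0]
  exact celS_zero ω hω

theorem he_inj : ∀ a < 60, ∀ b < 60, he ω hω a = he ω hω b → a = b := by
  intro a ha b hb h
  exact distinctBelow_spec HIt_distinct a ha b hb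
    (celS_inj ω hω _ (HIt_lt' a ha) _ (HIt_lt' b hb) h)

/-- The complement of order `60` in the centraliser. -/
noncomputable def Hs : Subgroup (threeJ3 F ω) :=
  listSubgroup (he ω hω) 60 hm (by norm_num) (he_zero ω hω) (he_mul ω hω)

theorem Hs_card : Nat.card (Hs ω hω) = 60 :=
  card_listSubgroup _ _ _ _ _ _ (he_inj ω hω)

theorem Hs_le : Hs ω hω ≤ Subgroup.centralizer ({tS ω hω} : Set (threeJ3 F ω)) := by
  rintro x ⟨a, ha, rfl⟩
  exact celS_mem ω hω _

theorem he_inv (a : ℕ) (ha : a < 60) : he ω hω (HVt a) = (he ω hω a)⁻¹ := by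
  obtain ⟨-, -, hv, h0, -⟩ := chkHF_unpack a ha
  have := (he_mul ω hω a ha (HVt a) hv).2
  rw [h0, he_zero] at this
  exact (inv_eq_of_mul_eq_one_right this).symm

theorem Hs_comm (x : Hs ω hω) : ∃ y z : Hs ω hω, x = ⁅y, z⁆ := by
  obtain ⟨x, c, hc, rfl⟩ := x
  obtain ⟨ha, hb, -, -, e⟩ := chkHF_unpack c hc
  obtain ⟨-, -, hva, -, -⟩ := chkHF_unpack (HAt c) ha
  obtain ⟨-, -, hvb, -, -⟩ := chkHF_unpack (HBt c) hb
  refine ⟨⟨he ω hω (HAt c), ⟨HAt c, ha, rfl⟩⟩, ⟨he ω hω (HBt c), ⟨HBt c, hb, rfl⟩⟩, ?_⟩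
  apply Subtype.ext
  show he ω hω c = he ω hω (HAt c) * he ω hω (HBt c) * (he ω hω (HAt c))⁻¹ * (he ω hω (HBt c))⁻¹
  have h1 := (he_mul ω hω (HAt c) ha (HBt c) hb)
  have h2 := (he_mul ω hω (HVt (HAt c)) hva (HVt (HBt c)) hvb)
  have h3 := (he_mul ω hω _ h1.1 _ h2.1).2
  rw [e] at h3
  rw [← h3, ← h1.2, ← h2.2, he_inv ω hω _ ha, he_inv ω hω _ hb]
  group

theorem Hs_iso : Nonempty (Hs ω hω ≃* alternatingGroup (Fin 5)) := by
  apply Cfsg.Agent.S3378.iso_A5 (Hs_card ω hω)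
  intro hs
  haveI : Nontrivial (Hs ω hω) := by
    rw [← Finite.one_lt_card_iff_nontrivial, Hs_card]; norm_num
  have hlt := Group.IsSolvable.commutator_lt_top_of_nontrivial (Hs ω hω)
  apply hlt.ne
  rw [eq_top_iff]
  intro x _
  obtain ⟨y, z, rfl⟩ := Hs_comm ω hω x
  rw [commutator_def]
  exact Subgroup.commutator_mem_commutator (Subgroup.mem_top y) (Subgroup.mem_top z)

/-! ### The complement avoids the product of the normal subgroup and the centre -/

theorem Hs_Qs_center : ∀ h ∈ Hs ω hω, ∀ q ∈ Qs ω hω, ∀ z ∈ Subgroup.center (threeJ3 F ω),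
    h = q * z → h = 1 := by
  rintro h ⟨a, ha, rfl⟩ q hq z hz e
  rcases Nat.eq_zero_or_pos a with rfl | hpos
  · exact he_zero ω hω
  exfalso
  obtain ⟨b, hb, hqb⟩ := (Qs ω hω).inv_mem hq
  -- `h * q⁻¹ = z`
  have e2 : he ω hω a * qe ω hω b = z := by
    rw [← hqb, e]
    have hzc : ∀ g : threeJ3 F ω, g * z = z * g := Subgroup.mem_center_iff.mp hz
    rw [mul_assoc, ← hzc q⁻¹, ← mul_assoc, mul_inv_cancel, one_mul]
  obtain ⟨m1, m2, m3, m4⟩ := chkHQ2_unpack a b ha hb (by omega)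
  have r : Rep ω ((he ω hω a * qe ω hω b : threeJ3 F ω) : GL I9 F)
      (mmul (CLt (HIt a)) (CLt (QIt b))) :=
    Rep.mul ω hω (cel_rep ω hω _ (HIt_lt' a ha)) (cel_rep ω hω _ (QIt_lt' b hb))
  rw [e2] at r
  have hz' : z ∈ ((Subgroup.center (threeJ3 F ω) : Subgroup (threeJ3 F ω)) :
      Set (threeJ3 F ω)) := hz
  rw [center_eq ω hω] at hz'
  obtain ⟨s1, s2, s3, s4⟩ := scal_lt
  rcases hz' with rfl | rfl | hz'
  · have r0 : Rep ω ((zS ω hω 0 : threeJ3 F ω) : GL I9 F) (U2 0) := kel_rep ω hω 0 (by norm_num)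
    rw [s2] at r0
    exact m2 (semM_inj ω hω m1 s1 (r.symm.trans r0))
  · have r0 : Rep ω ((zS ω hω 3 : threeJ3 F ω) : GL I9 F) (U2 3) := kel_rep ω hω 3 (by norm_num)
    exact m3 (semM_inj ω hω m1 s3 (r.symm.trans r0))
  · rw [Set.mem_singleton_iff] at hz'
    subst hz'
    have r0 : Rep ω ((zS ω hω 14 : threeJ3 F ω) : GL I9 F) (U2 14) :=
      kel_rep ω hω 14 (by norm_num)
    exact m4 (semM_inj ω hω m1 s4 (r.symm.trans r0))

/-! ### A Sylow `2`-subgroup -/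

/-- The elements of the Sylow subgroup. -/
noncomputable def pe (a : ℕ) : threeJ3 F ω := celS ω hω (PIt a)

theorem pe_mul : ∀ a < 128, ∀ b < 128,
    pm a b < 128 ∧ pe ω hω a * pe ω hω b = pe ω hω (pm a b) := by
  intro a ha b hb
  obtain ⟨h1, h2⟩ := chkP_unpack a b ha hb
  exact ⟨h1, celS_mul ω hω (PIt_lt' a ha) (PIt_lt' b hb) (PIt_lt' _ h1) h2⟩

theorem pe_zero : pe ω hω 0 = 1 := by
  unfold pe
  rw [PIt_0]
  exact celS_zero ω hω

theorem pe_inj : ∀ a < 128, ∀ b < 128, pe ω hω a = pe ω hω b → a = b := by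
  intro a ha b hb h
  exact distinctBelow_spec PIt_distinct a ha b hb
    (celS_inj ω hω _ (PIt_lt' a ha) _ (PIt_lt' b hb) h)

/-- A Sylow `2`-subgroup of `3·J₃`. -/
noncomputable def Ps : Subgroup (threeJ3 F ω) :=
  listSubgroup (pe ω hω) 128 pm (by norm_num) (pe_zero ω hω) (pe_mul ω hω)

theorem Ps_card : Nat.card (Ps ω hω) = 2 ^ 7 := by
  rw [show (2 : ℕ) ^ 7 = 128 by norm_num]
  exact card_listSubgroup _ _ _ _ _ _ (pe_inj ω hω)

theorem Ps_involutions : ∀ x ∈ Ps ω hω, x ^ 2 = 1 → x ≠ 1 → IsConj (tS ω hω) x := by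
  rintro x ⟨a, ha, rfl⟩ h2 h1
  have h0 : a ≠ 0 := by
    rintro rfl
    exact h1 (pe_zero ω hω)
  have hsq : pm a a = 0 := by
    have := (pe_mul ω hω a ha a ha)
    rw [← pow_two, h2, ← pe_zero ω hω] at this
    exact (pe_inj ω hω 0 (by norm_num) _ this.1 this.2).symm
  obtain ⟨k1, k2⟩ := chkPI_unpack a ha h0 hsq
  apply conj_of_class ω hω _ (PHt a) k1
  have r := cel_rep ω hω _ (PIt_lt' a ha)
  rw [k2] at r
  exact r

/-! ### The statement -/

include hω in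
theorem involutions_conj_threeJ3 :
    ∀ x : threeJ3 F ω, x ^ 2 = 1 → x ≠ 1 → IsConj (tS ω hω) x := by
  apply conj_of_sylow (Ps ω hω) 7 (Ps_card ω hω) _ (tS ω hω) (Ps_involutions ω hω)
  rw [card_threeJ3 ω hω]
  norm_num

include hω in
theorem J3_involutions :
    (∀ x y : J3 F ω, orderOf x = 2 → orderOf y = 2 → IsConj x y) ∧
    ∃ t : J3 F ω, orderOf t = 2 ∧
      ∃ (Q : Subgroup ↥(Subgroup.centralizer ({t} : Set (J3 F ω)))) (_ : Q.Normal),
        Cfsg.IsExtraspecial 2 Q ∧ Nat.card Q = 32 ∧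
        (∀ E : Subgroup Q, Cfsg.IsElementaryAbelian 2 E → Nat.card E ≤ 2 ^ 2) ∧
        (∃ H : Subgroup ↥(Subgroup.centralizer ({t} : Set (J3 F ω))), Q.IsComplement' H) ∧
        Nonempty (↥(Subgroup.centralizer ({t} : Set (J3 F ω))) ⧸ Q ≃*
          ↥(alternatingGroup (Fin 5))) := by
  constructor
  · exact conj_quotient (Subgroup.center (threeJ3 F ω)) (card_center ω hω) (tS ω hω)
      (involutions_conj_threeJ3 ω hω)
  · have h := involution_centralizer_quotient (G := threeJ3 F ω) (card_center ω hω) (tS ω hω)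
      (tS_sq ω hω) (tS_ne_one ω hω) (Qs ω hω) (Hs ω hω) (Qs_le ω hω) (Hs_le ω hω)
      (card_centralizer_tS ω hω) (Qs_norm ω hω) (Qs_card ω hω) (Qs_extraspecial ω hω)
      (Qs_noE8 ω hω) (Hs_card ω hω) (Hs_iso ω hω) (Hs_Qs_center ω hω)
    exact ⟨QuotientGroup.mk' _ (tS ω hω), h.1, h.2⟩

end Top

end Cfsg.Agent.Helper8.J3M
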