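import Cfsg.Agent.Lib.Helper8.J3ChkIA
import Cfsg.Agent.Lib.Helper8.J3ChkIB
import Cfsg.Agent.Lib.Helper8.J3ChkIC
import Cfsg.Agent.Lib.Helper8.J3ChkID
import Cfsg.Agent.Lib.Helper8.J3ChkIE
import Cfsg.Agent.Lib.Helper8.J3ChkIF
import Cfsg.Agent.Lib.Helper8.J3ChkIG
import Cfsg.Agent.Lib.Helper8.J3ChkIH
import Cfsg.Agent.Lib.Helper8.J3ChkIZ

set_option autoImplicit false
set_option linter.unusedSectionVars false
set_option linter.unusedVariables false

/-! The orbits of `3·J₃` on the lines of its nine-space: the `23256` images of the first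
coordinate line, and transitivity on the isotropic lines. -/

open scoped MatrixGroups

namespace Cfsg.Agent.Helper8.J3M

open Cfsg.Agent.Helper8.F4P Cfsg.Spor

theorem chkIso_at (k : ℕ) (hk : k < 262144) : chkIso k = true := by
  rcases Nat.lt_or_ge k 32768 with h | h
  · exact allRange_spec chkIso_0 k (by omega) (by omega)
  rcases Nat.lt_or_ge k 65536 with h | h
  · exact allRange_spec chkIso_1 k (by omega) (by omega)
  rcases Nat.lt_or_ge k 98304 with h | h
  · exact allRange_spec chkIso_2 k (by omega) (by omega)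
  rcases Nat.lt_or_ge k 131072 with h | h
  · exact allRange_spec chkIso_3 k (by omega) (by omega)
  rcases Nat.lt_or_ge k 163840 with h | h
  · exact allRange_spec chkIso_4 k (by omega) (by omega)
  rcases Nat.lt_or_ge k 196608 with h | h
  · exact allRange_spec chkIso_5 k (by omega) (by omega)
  rcases Nat.lt_or_ge k 229376 with h | h
  · exact allRange_spec chkIso_6 k (by omega) (by omega)
  exact allRange_spec chkIso_7 k (by omega) (by omega)

/-- A coordinate of a coded vector is nonzero. -/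
def wbit (c i : ℕ) : Bool := c.testBit i || c.testBit (i + 9)

theorem mask_testBit (c i : ℕ) (hi : i < 9) :
    ((c ||| c >>> 9) &&& 511).testBit i = wbit c i := by
  rw [Nat.testBit_and, Nat.testBit_or, Nat.testBit_shiftRight, wbit, add_comm 9 i]
  have : (511 : ℕ).testBit i = true := by interval_cases i <;> decide
  rw [this, Bool.and_true]

theorem oddW_eq (c : ℕ) : oddW c =
    (wbit c 0 ^^ (wbit c 1 ^^ (wbit c 2 ^^ (wbit c 3 ^^ (wbit c 4 ^^
      (wbit c 5 ^^ (wbit c 6 ^^ (wbit c 7 ^^ wbit c 8)))))))) := by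
  have h1 : oddW c = PARMASK.testBit ((c ||| c >>> 9) &&& 511) := bit_check _ _
  have hm : (c ||| c >>> 9) &&& 511 < 512 := by
    have : (c ||| c >>> 9) &&& 511 ≤ 511 := Nat.and_le_right
    omega
  rw [h1, parmask_spec ⟨_, hm⟩]
  simp only [mask_testBit c _ (by norm_num : (0 : ℕ) < 9), mask_testBit c _ (by norm_num : (1 : ℕ) < 9),
    mask_testBit c _ (by norm_num : (2 : ℕ) < 9), mask_testBit c _ (by norm_num : (3 : ℕ) < 9),
    mask_testBit c _ (by norm_num : (4 : ℕ) < 9), mask_testBit c _ (by norm_num : (5 : ℕ) < 9),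
    mask_testBit c _ (by norm_num : (6 : ℕ) < 9), mask_testBit c _ (by norm_num : (7 : ℕ) < 9),
    mask_testBit c _ (by norm_num : (8 : ℕ) < 9)]

section

variable {F : Type*} [Field F] [CharP F 2] [Finite F] (ω : F) (hω : ω ^ 2 = ω + 1)

include hω in
theorem cube_bits (a b : Bool) : ((bF a : F) + bF b * ω) ^ 3 = bF (a || b) := by
  have h2 : (2 : F) = 0 := CharTwo.two_eq_zero
  cases a <;> cases b <;> simp only [bF, Bool.false_eq_true, if_false, if_true, Bool.or_false,
    Bool.or_true, Bool.or_self]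
  · ring
  · linear_combination (ω + 1) * hω + ω * h2
  · ring
  · linear_combination (ω + 4) * hω + (4 * ω + 2) * h2

include hω in
theorem dec_cube (c : ℕ) (z : I9) : (dec ω c z) ^ 3 = bF (wbit c (ix z)) := by
  rw [dec, cube_bits ω hω]
  rfl

include hω in
theorem sum_cube (c : ℕ) : ∑ z : I9, (dec ω c z) ^ 3 = (bF (oddW c) : F) := by
  obtain ⟨h0, h1, h2, h3, h4, h5, h6, h7, h8⟩ := ix_vals
  rw [sum9]
  simp only [dec_cube ω hω, h0, h1, h2, h3, h4, h5, h6, h7, h8]
  rw [oddW_eq]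
  simp only [bF_xor]
  ring

include hω in
/-- Every vector is coded. -/
theorem dec_surj (hF : Nat.card F = 4) (v : I9 → F) : ∃ c < 2 ^ 18, dec ω c = v := by
  classical
  have : Fintype F := Fintype.ofFinite F
  have hF' : Fintype.card F = 4 := by rw [← Nat.card_eq_fintype_card]; exact hF
  let f : Fin (2 ^ 18) → (I9 → F) := fun c => dec ω c.val
  have hinj : Function.Injective f := by
    intro a b h
    exact Fin.ext (dec_inj ω hω a.isLt b.isLt h)
  have hcard : Fintype.card (Fin (2 ^ 18)) = Fintype.card (I9 → F) := by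
    rw [Fintype.card_fin, Fintype.card_fun, hF']
    have : Fintype.card I9 = 9 := by decide
    rw [this]
    norm_num
  have hbij := (Fintype.bijective_iff_injective_and_card f).mpr ⟨hinj, hcard⟩
  obtain ⟨c, hc⟩ := hbij.2 v
  exact ⟨c.val, c.isLt, hc⟩

omit [Finite F] in
include hω in
theorem key_spec (c : ℕ) (hc : c < 2 ^ 18) : key c < 2 ^ 18 ∧
    ∃ l : F, l ≠ 0 ∧ dec ω (key c) = l • dec ω c := by
  have h0 := omega_ne_zero ω hω
  have hs1 := sw_lt c hc
  have hs2 := sw_lt _ hs1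
  rw [key_eq]
  rcases min_choice c (min (sw c) (sw (sw c))) with h | h
  · rw [h]
    exact ⟨hc, 1, one_ne_zero, by rw [one_smul]⟩
  · rw [h]
    rcases min_choice (sw c) (sw (sw c)) with h' | h'
    · rw [h']
      exact ⟨hs1, ω, h0, dec_sw ω hω c hc⟩
    · rw [h']
      refine ⟨hs2, ω * ω, mul_ne_zero h0 h0, ?_⟩
      rw [dec_sw ω hω _ hs1, dec_sw ω hω c hc, smul_smul]

end

/-! ### Unpacking the check -/

theorem chkIso_complete (k : ℕ) (hk : k < 2 ^ 18) (h0 : k ≠ 0) (hodd : oddW k = false) :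
    2 ≤ DI (key k) := by
  have h := chkIso_at k (by norm_num at hk ⊢; exact hk)
  unfold chkIso at h
  simp only [force_eq] at h
  obtain ⟨ha, -⟩ := and_true' h
  have hb : Nat.beq k 0 = false := by
    cases hc : Nat.beq k 0
    · rfl
    · exact absurd (beq_true hc) h0
  rw [hb, hodd] at ha
  exact Nat.le_of_ble_eq_true ha

theorem chkIso_tree (k : ℕ) (hk : k < 2 ^ 18) (he : 2 ≤ DI k) :
    k = B0c ∨ ∃ sh : ℕ, (sh = S1h ∨ sh = S2h) ∧ 2 ≤ DI (key (col (mmul sh k) 0)) ∧
      DI (key (col (mmul sh k) 0)) / 2 < DI k / 2 := by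
  have h := chkIso_at k (by norm_num at hk ⊢; exact hk)
  unfold chkIso at h
  simp only [force_eq] at h
  obtain ⟨-, hb⟩ := and_true' h
  have hlt : Nat.blt (DI k) 2 = false := by
    cases hc : Nat.blt (DI k) 2
    · rfl
    · have := blt_true hc; omega
  rw [hlt] at hb
  cases hd : Nat.beq (Nat.div (DI k) 2) 1
  · rw [hd] at hb
    right
    obtain ⟨h1, h2⟩ := and_true' hb
    refine ⟨cond (Nat.beq (Nat.mod (DI k) 2) 0) S1h S2h, ?_, Nat.le_of_ble_eq_true h1, blt_true h2⟩
    cases Nat.beq (Nat.mod (DI k) 2) 0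
    · right; rfl
    · left; rfl
  · rw [hd] at hb
    left
    exact beq_true hb

section Orbit

variable {F : Type*} [Field F] [CharP F 2] [Finite F] (ω : F) (hω : ω ^ 2 = ω + 1)

include hω in
theorem step_inv (s : GL I9 F) (sc sh : ℕ) (hs : Rep ω s sc) (hinv : mmul sc sh = IDc) (k : ℕ)
    (hk : k < 2 ^ 18) :
    (s : Matrix I9 I9 F).mulVec (dec ω (col (mmul sh k) 0)) = dec ω k := by
  rw [← semM_mulVec ω hω sh k hk, Matrix.mulVec_mulVec, hs, ← semM_mmul ω hω, hinv, semM_one,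
    Matrix.one_mulVec]

include hω in
theorem orbit_reach : ∀ d k : ℕ, k < 2 ^ 18 → 2 ≤ DI k → DI k / 2 = d →
    ∃ g ∈ threeJ3 F ω, ∃ c : F, c ≠ 0 ∧
      ((g : GL I9 F) : Matrix I9 I9 F).mulVec (dec ω B0c) = c • dec ω k := by
  intro d
  induction d using Nat.strong_induction_on with
  | _ d ih =>
    intro k hk he hd
    rcases chkIso_tree k hk he with rfl | ⟨sh, hsh, he', hlt⟩
    · exact ⟨1, one_mem _, 1, one_ne_zero, by rw [Units.val_one, Matrix.one_mulVec, one_smul]⟩
    · have hq : col (mmul sh k) 0 < 2 ^ 18 := col_lt _ _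
      obtain ⟨hp, l, hl, hdec⟩ := key_spec ω hω _ hq
      obtain ⟨g, hg, c, hc, hgc⟩ := ih _ (by rw [← hd]; exact hlt) _ hp he' rfl
      have key_step : ∀ (s : GL I9 F) (sc : ℕ), s ∈ threeJ3 F ω → Rep ω s sc → mmul sc sh = IDc →
          ∃ g ∈ threeJ3 F ω, ∃ c : F, c ≠ 0 ∧
            ((g : GL I9 F) : Matrix I9 I9 F).mulVec (dec ω B0c) = c • dec ω k := by
        intro s sc hsm hs hinv
        refine ⟨s * g, mul_mem hsm hg, c * l, mul_ne_zero hc hl, ?_⟩
        rw [Units.val_mul, ← Matrix.mulVec_mulVec, hgc, hdec, Matrix.mulVec_smul, Matrix.mulVec_smul,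
          step_inv ω hω s sc sh hs hinv k hk, smul_smul]
      rcases hsh with rfl | rfl
      · exact key_step (gg1 ω hω) S1c (gg1_mem ω hω) (gg1_rep ω hω) S_inv_codes.1
      · exact key_step (gg2 ω hω) S2c (gg2_mem ω hω) (gg2_rep ω hω) S_inv_codes.2

omit [Finite F] in
theorem dec_zero : dec ω 0 = 0 := by
  funext w
  simp [dec, bF]

include hω in
theorem reach_iso (hF : Nat.card F = 4) (v : I9 → F) (hv : v ≠ 0) (hv3 : ∑ z, (v z) ^ 3 = 0) :
    ∃ g ∈ threeJ3 F ω, ∃ c : F, c ≠ 0 ∧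
      ((g : GL I9 F) : Matrix I9 I9 F).mulVec (dec ω B0c) = c • v := by
  obtain ⟨k, hk, rfl⟩ := dec_surj ω hω hF v
  have hk0 : k ≠ 0 := by
    rintro rfl
    exact hv (dec_zero ω)
  have hodd : oddW k = false := by
    rw [sum_cube ω hω] at hv3
    cases h : oddW k
    · rfl
    · rw [h] at hv3
      simp [bF] at hv3
  have he := chkIso_complete k hk hk0 hodd
  obtain ⟨hp, l, hl, hdec⟩ := key_spec ω hω k hk
  obtain ⟨g, hg, c, hc, hgc⟩ := orbit_reach ω hω _ _ hp he rfl
  exact ⟨g, hg, c * l, mul_ne_zero hc hl, by rw [hgc, hdec, smul_smul]⟩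

include hω in
theorem iso_transitive (hF : Nat.card F = 4) (v w : I9 → F) (hv : v ≠ 0) (hw : w ≠ 0)
    (hv3 : ∑ z, (v z) ^ 3 = 0) (hw3 : ∑ z, (w z) ^ 3 = 0) :
    ∃ g ∈ threeJ3 F ω, ∃ c : F, c ≠ 0 ∧ ((g : GL I9 F) : Matrix I9 I9 F).mulVec v = c • w := by
  obtain ⟨g1, hg1, a, ha, e1⟩ := reach_iso ω hω hF v hv hv3
  obtain ⟨g2, hg2, b, hb, e2⟩ := reach_iso ω hω hF w hw hw3
  refine ⟨g2 * g1⁻¹, mul_mem hg2 (inv_mem hg1), a⁻¹ * b, mul_ne_zero (inv_ne_zero ha) hb, ?_⟩
  have hv' : v = a⁻¹ • ((g1 : GL I9 F) : Matrix I9 I9 F).mulVec (dec ω B0c) := by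
    rw [e1, smul_smul, inv_mul_cancel₀ ha, one_smul]
  have hinv : ((g1⁻¹ : GL I9 F) : Matrix I9 I9 F).mulVec
      (((g1 : GL I9 F) : Matrix I9 I9 F).mulVec (dec ω B0c)) = dec ω B0c := by
    rw [Matrix.mulVec_mulVec, ← Units.val_mul, inv_mul_cancel, Units.val_one, Matrix.one_mulVec]
  conv_lhs => rw [hv']
  rw [Units.val_mul, ← Matrix.mulVec_mulVec, Matrix.mulVec_smul, hinv, Matrix.mulVec_smul, e2,
    smul_smul]

end Orbit

/-! ### The images of the first coordinate line -/

section Lines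

variable {F : Type*} [Field F] [CharP F 2] [Finite F] (ω : F) (hω : ω ^ 2 = ω + 1)

/-- The first column of a matrix. -/
def colv (g : GL I9 F) : I9 → F := fun w => (g : Matrix I9 I9 F) w 0

omit [CharP F 2] [Finite F] in
theorem mulVec_e0 (g : GL I9 F) :
    (g : Matrix I9 I9 F).mulVec (Pi.single (0 : I9) (1 : F)) = colv g := by
  funext w
  simp [Matrix.mulVec, dotProduct, Pi.single_apply, colv]

omit [CharP F 2] [Finite F] in
theorem span_le_of_lineStab {u u' : GL I9 F} (h : u⁻¹ * u' ∈ lineStab (F := F)) :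
    Submodule.span F {colv u'} ≤ Submodule.span F {colv u} := by
  rw [Submodule.span_singleton_le_iff_mem, Submodule.mem_span_singleton]
  refine ⟨((u⁻¹ * u' : GL I9 F) : Matrix I9 I9 F) 0 0, ?_⟩
  funext w
  rw [Pi.smul_apply, smul_eq_mul]
  exact (col_of_mem_lineStab h w).symm

omit [CharP F 2] [Finite F] in
theorem span_eq_of_lineStab {u u' : GL I9 F} (h : u⁻¹ * u' ∈ lineStab (F := F)) :
    Submodule.span F {colv u'} = Submodule.span F {colv u} := by
  apply le_antisymm (span_le_of_lineStab h)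
  apply span_le_of_lineStab
  have : u'⁻¹ * u = (u⁻¹ * u')⁻¹ := by group
  rw [this]
  exact inv_mem h

omit [CharP F 2] [Finite F] in
theorem lineStab_of_span_eq {u u' : GL I9 F}
    (h : Submodule.span F {colv u'} = Submodule.span F {colv u}) : u⁻¹ * u' ∈ lineStab (F := F) := by
  have hmem : colv u' ∈ Submodule.span F {colv u} := by
    rw [← h]; exact Submodule.mem_span_singleton_self _
  obtain ⟨a, ha⟩ := Submodule.mem_span_singleton.mp hmem
  intro w hw
  rw [Units.val_mul, Matrix.mul_apply]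
  have e : ∀ y : I9, ((u⁻¹ : GL I9 F) : Matrix I9 I9 F) w y * (u' : Matrix I9 I9 F) y 0 =
      a * (((u⁻¹ : GL I9 F) : Matrix I9 I9 F) w y * (u : Matrix I9 I9 F) y 0) := by
    intro y
    have := congrFun ha y
    rw [Pi.smul_apply, smul_eq_mul] at this
    show _ * colv u' y = _
    rw [← this]
    show _ = a * (_ * colv u y)
    ring
  simp only [e]
  rw [← Finset.mul_sum, ← Matrix.mul_apply, ← Units.val_mul, inv_mul_cancel, Units.val_one,
    Matrix.one_apply_ne hw, mul_zero]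

include hω in
theorem lines_ncard : {L : Submodule F (I9 → F) | ∃ g ∈ threeJ3 F ω,
    L = Submodule.span F {((g : GL I9 F) : Matrix I9 I9 F).mulVec (Pi.single (0 : I9) (1 : F))}}.ncard =
      23256 := by
  let f : Fin 23256 → Submodule F (I9 → F) := fun i => Submodule.span F {colv (uel ω hω i.val)}
  have hset : {L : Submodule F (I9 → F) | ∃ g ∈ threeJ3 F ω,
      L = Submodule.span F {((g : GL I9 F) : Matrix I9 I9 F).mulVec (Pi.single (0 : I9) (1 : F))}} =
      f '' Set.univ := by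
    ext L
    constructor
    · rintro ⟨g, hg, rfl⟩
      obtain ⟨i, hi, j, hj, rfl⟩ := G_cover ω hω g hg
      refine ⟨⟨i, hi⟩, Set.mem_univ _, ?_⟩
      rw [mulVec_e0]
      symm
      apply span_eq_of_lineStab
      have : (uel ω hω i)⁻¹ * (uel ω hω i * kel ω hω j) = kel ω hω j := by group
      rw [this]
      exact Kst_le_lineStab ω hω (kel_mem ω hω j)
    · rintro ⟨i, -, rfl⟩
      exact ⟨uel ω hω i.val, uel_mem ω hω _, by rw [mulVec_e0]⟩
  have hinj : Function.Injective f := by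
    intro i i' h
    apply Fin.ext
    exact uu_inj ω hω _ _ (gg1_rep ω hω) (gg2_rep ω hω) i.val i.isLt i'.val i'.isLt
      (lineStab_of_span_eq h.symm)
  rw [hset, Set.ncard_image_of_injective _ hinj, Set.ncard_univ, Nat.card_fin]

end Lines

end Cfsg.Agent.Helper8.J3M
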