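import Cfsg.Agent.Lib.Helper8.J3Simple
import Cfsg.Agent.Lib.Helper8.J3ChkLA
import Cfsg.Agent.Lib.Helper8.J3ChkLB
import Cfsg.Agent.Lib.Helper8.J3ChkLC
import Cfsg.Agent.Lib.Helper8.J3ChkLD
import Cfsg.Agent.Lib.Helper8.J3ChkLE

set_option autoImplicit false
set_option linter.unusedSectionVars false
set_option linter.unusedVariables false

/-! The subgroup `3 × L₂(16):2` of order `24480` of `3·J₃`. -/

open scoped MatrixGroups

namespace Cfsg.Agent.Helper8.J3M

open Cfsg.Agent.Helper8.F4P Cfsg.Spor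

noncomputable def lx1 (j : ℕ) : ℕ := Nat.mod (CL j) 32768
noncomputable def lx2 (j : ℕ) : ℕ := Nat.shiftRight (CL j) 15

theorem chkL_at (j : ℕ) (hj : j < 24480) : chkL j = true := by
  rcases Nat.lt_or_ge j 6120 with h | h
  · exact allRange_spec chkL_0 j (by omega) (by omega)
  rcases Nat.lt_or_ge j 12240 with h | h
  · exact allRange_spec chkL_1 j (by omega) (by omega)
  rcases Nat.lt_or_ge j 18360 with h | h
  · exact allRange_spec chkL_2 j (by omega) (by omega)
  exact allRange_spec chkL_3 j (by omega) (by omega)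

theorem chkL_unpack (j : ℕ) (hj : j < 24480) :
    lx1 j < 24480 ∧ lx2 j < 24480 ∧ mmul L1c (UL j) = UL (lx1 j) ∧
      mmul L2c (UL j) = UL (lx2 j) := by
  have h := chkL_at j hj
  unfold chkL at h
  simp only [force_eq] at h
  obtain ⟨ha, hb⟩ := and_true' h
  obtain ⟨ha1, ha2⟩ := and_true' ha
  obtain ⟨hb1, hb2⟩ := and_true' hb
  exact ⟨blt_true ha1, blt_true ha2, beq_true hb1, beq_true hb2⟩

theorem parL_unpack (j : ℕ) (h0 : 0 < j) (hj : j < 24480) :
    ∃ p < j, lx1 p = j ∨ lx2 p = j := by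
  have h := allRange_spec chkParL_all j (by omega) (by omega)
  unfold chkParL at h
  simp only [force_eq] at h
  obtain ⟨ha, hb⟩ := and_true' h
  refine ⟨_, blt_true ha, ?_⟩
  generalize Nat.mod (PARL j) 32768 = p at hb ⊢
  cases hc : Nat.beq (Nat.shiftRight (PARL j) 15) 0
  · rw [hc] at hb
    right
    exact beq_true hb
  · rw [hc] at hb
    left
    exact beq_true hb

section Sub

variable {F : Type*} [Field F] [CharP F 2] [Finite F] (ω : F) (hω : ω ^ 2 = ω + 1)
variable (t1 t2 : GL I9 F) (ht1 : Rep ω t1 L1c) (ht2 : Rep ω t2 L2c)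

/-- The subgroup generated by two coded matrices. -/
def LLg : Subgroup (GL I9 F) := Subgroup.closure {t1, t2}

include hω ht1 ht2

theorem exists_rep_UL : ∀ j, j < 24480 → ∃ k ∈ LLg t1 t2, Rep ω k (UL j) := by
  intro j
  induction j using Nat.strong_induction_on with
  | _ j ih =>
    intro hj
    rcases Nat.eq_zero_or_pos j with rfl | hpos
    · exact ⟨1, one_mem _, by rw [UL_zero]; exact rep_one ω⟩
    · obtain ⟨p, hp, hcase⟩ := parL_unpack j hpos hj
      obtain ⟨u, hu, hru⟩ := ih p hp (by omega)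
      obtain ⟨-, -, e1, e2⟩ := chkL_unpack p (by omega)
      rcases hcase with ha | ha
      · rw [ha] at e1
        exact ⟨t1 * u, (LLg t1 t2).mul_mem (Subgroup.subset_closure (by simp)) hu,
          (Rep.mul ω hω ht1 hru).congr ω e1⟩
      · rw [ha] at e2
        exact ⟨t2 * u, (LLg t1 t2).mul_mem (Subgroup.subset_closure (by simp)) hu,
          (Rep.mul ω hω ht2 hru).congr ω e2⟩

/-- The element of the subgroup with a given index. -/
noncomputable def lOf (j : ℕ) : GL I9 F :=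
  if h : j < 24480 then (exists_rep_UL ω hω t1 t2 ht1 ht2 j h).choose else 1

theorem lOf_mem (j : ℕ) : lOf ω hω t1 t2 ht1 ht2 j ∈ LLg t1 t2 := by
  unfold lOf
  split_ifs with h
  · exact (exists_rep_UL ω hω t1 t2 ht1 ht2 j h).choose_spec.1
  · exact one_mem _

theorem lOf_rep (j : ℕ) (h : j < 24480) : Rep ω (lOf ω hω t1 t2 ht1 ht2 j) (UL j) := by
  unfold lOf
  rw [dif_pos h]
  exact (exists_rep_UL ω hω t1 t2 ht1 ht2 j h).choose_spec.2

theorem lOf_injOn : ∀ j < 24480, ∀ j' < 24480,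
    lOf ω hω t1 t2 ht1 ht2 j = lOf ω hω t1 t2 ht1 ht2 j' → j = j' := by
  intro j hj j' hj' he
  apply distinctBelow_spec regKeyL_distinct j hj j' hj'
  have r1 := lOf_rep ω hω t1 t2 ht1 ht2 j hj
  have r2 := lOf_rep ω hω t1 t2 ht1 ht2 j' hj'
  rw [he] at r1
  have hsem : semM ω (UL j) = semM ω (UL j') := r1.symm.trans r2
  have hB : BLc < 2 ^ 18 := BLc_lt
  have := semM_mulVec ω hω (UL j) BLc hB
  rw [hsem, semM_mulVec ω hω (UL j') BLc hB] at this
  exact (dec_inj ω hω (col_lt _ _) (col_lt _ _) this).symm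

theorem lOf_zero : lOf ω hω t1 t2 ht1 ht2 0 = 1 := by
  have := lOf_rep ω hω t1 t2 ht1 ht2 0 (by norm_num)
  rw [UL_zero] at this
  exact this.ext ω (rep_one ω)

theorem LL_level : Nat.card (LLg t1 t2) = 24480 ∧
    ∀ h ∈ LLg t1 t2, ∃ j < 24480, h = lOf ω hω t1 t2 ht1 ht2 j := by
  classical
  let U : Finset (GL I9 F) := (Finset.range 24480).image (lOf ω hω t1 t2 ht1 ht2)
  have hU : ∀ u ∈ U, ∃ j < 24480, u = lOf ω hω t1 t2 ht1 ht2 j := by
    intro u hu
    obtain ⟨j, hj, rfl⟩ := Finset.mem_image.mp hu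
    exact ⟨j, Finset.mem_range.mp hj, rfl⟩
  have hmemU : ∀ j < 24480, lOf ω hω t1 t2 ht1 ht2 j ∈ U := fun j hj =>
    Finset.mem_image.mpr ⟨j, Finset.mem_range.mpr hj, rfl⟩
  have hlev := BSGS.level (LLg t1 t2) ⊥ ⊥ {t1, t2} rfl bot_le le_rfl U
    (by rw [← lOf_zero ω hω t1 t2 ht1 ht2]; exact hmemU 0 (by norm_num))
    (by
      intro u hu
      obtain ⟨j, -, rfl⟩ := hU u hu
      exact lOf_mem ω hω t1 t2 ht1 ht2 j)
    (by
      intro u _ u' _ h
      rw [Subgroup.mem_bot, inv_mul_eq_one] at h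
      exact h)
    (by
      intro s hs u hu
      obtain ⟨j, hj, rfl⟩ := hU u hu
      obtain ⟨b1, b2, e1, e2⟩ := chkL_unpack j hj
      have hr := lOf_rep ω hω t1 t2 ht1 ht2 j hj
      rcases hs with rfl | hs
      · refine ⟨_, hmemU _ b1, ?_⟩
        rw [Subgroup.mem_bot, inv_mul_eq_one]
        exact (lOf_rep ω hω _ t2 ht1 ht2 _ b1).ext ω ((Rep.mul ω hω ht1 hr).congr ω e1)
      · rw [Set.mem_singleton_iff] at hs
        subst hs
        refine ⟨_, hmemU _ b2, ?_⟩
        rw [Subgroup.mem_bot, inv_mul_eq_one]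
        exact (lOf_rep ω hω t1 _ ht1 ht2 _ b2).ext ω ((Rep.mul ω hω ht2 hr).congr ω e2))
  obtain ⟨hcard, -, hcov⟩ := hlev
  constructor
  · rw [hcard, Subgroup.card_bot, mul_one, Finset.card_image_of_injOn, Finset.card_range]
    intro j hj j' hj' he
    exact lOf_injOn ω hω t1 t2 ht1 ht2 j (Finset.mem_range.mp hj) j' (Finset.mem_range.mp hj') he
  · intro h hh
    obtain ⟨u, hu, hk⟩ := hcov h hh
    obtain ⟨j, hj, rfl⟩ := hU u hu
    rw [Subgroup.mem_bot, inv_mul_eq_one] at hk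
    exact ⟨j, hj, hk.symm⟩

end Sub

section Top

variable {F : Type*} [Field F] [CharP F 2] [Finite F] (ω : F) (hω : ω ^ 2 = ω + 1)

/-- The first generator of the subgroup. -/
noncomputable def ll1 : GL I9 F := uel ω hω 43 * kel ω hω 3

/-- The second generator of the subgroup. -/
noncomputable def ll2 : GL I9 F := uel ω hω 8827 * kel ω hω 289

theorem ll1_rep : Rep ω (ll1 ω hω) L1c := by
  have r := Rep.mul ω hω (uel_rep ω hω 43 (by norm_num)) (kel_rep ω hω 3 (by norm_num))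
  rw [← L1c_sift] at r
  exact r

theorem ll2_rep : Rep ω (ll2 ω hω) L2c := by
  have r := Rep.mul ω hω (uel_rep ω hω 8827 (by norm_num)) (kel_rep ω hω 289 (by norm_num))
  rw [← L2c_sift] at r
  exact r

theorem ll1_mem : ll1 ω hω ∈ threeJ3 F ω :=
  mul_mem (uel_mem ω hω _) (Kst_le ω hω (kel_mem ω hω _))

theorem ll2_mem : ll2 ω hω ∈ threeJ3 F ω :=
  mul_mem (uel_mem ω hω _) (Kst_le ω hω (kel_mem ω hω _))

/-- The subgroup of order `24480` inside `GL₉(4)`. -/
noncomputable def Lst : Subgroup (GL I9 F) := LLg (ll1 ω hω) (ll2 ω hω)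

theorem Lst_le : Lst ω hω ≤ threeJ3 F ω := by
  rw [Lst, LLg, Subgroup.closure_le]
  rintro x (rfl | hx)
  · exact ll1_mem ω hω
  · rw [Set.mem_singleton_iff] at hx; subst hx
    exact ll2_mem ω hω

theorem Lst_card : Nat.card (Lst ω hω) = 24480 :=
  (LL_level ω hω _ _ (ll1_rep ω hω) (ll2_rep ω hω)).1

/-- The subgroup of order `24480` of `3·J₃`. -/
noncomputable def Lsub : Subgroup (threeJ3 F ω) := (Lst ω hω).subgroupOf (threeJ3 F ω)

theorem Lsub_card : Nat.card (Lsub ω hω) = 24480 := by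
  rw [← Lst_card ω hω]
  exact Nat.card_congr (Subgroup.subgroupOfEquivOfLe (Lst_le ω hω)).toEquiv

theorem Lsub_index : (Lsub ω hω).index = 6156 := by
  have h := Subgroup.card_mul_index (Lsub ω hω)
  rw [Lsub_card ω hω, card_threeJ3 ω hω] at h
  omega

theorem kel3_mem_Lst : kel ω hω 3 ∈ Lst ω hω := by
  have r := lOf_rep ω hω _ _ (ll1_rep ω hω) (ll2_rep ω hω) 18374 (by norm_num)
  rw [UL_centre.1] at r
  rw [(kel_rep ω hω 3 (by norm_num)).ext ω r]
  exact lOf_mem ω hω _ _ _ _ _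

theorem kel14_mem_Lst : kel ω hω 14 ∈ Lst ω hω := by
  have r := lOf_rep ω hω _ _ (ll1_rep ω hω) (ll2_rep ω hω) 721 (by norm_num)
  rw [UL_centre.2] at r
  rw [(kel_rep ω hω 14 (by norm_num)).ext ω r]
  exact lOf_mem ω hω _ _ _ _ _

theorem center_le_Lsub : Subgroup.center (threeJ3 F ω) ≤ Lsub ω hω := by
  intro x hx
  have hx' : x ∈ ((Subgroup.center (threeJ3 F ω) : Subgroup (threeJ3 F ω)) : Set (threeJ3 F ω)) := hx
  rw [center_eq ω hω] at hx'
  rcases hx' with rfl | rfl | hx'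
  · have : zS ω hω 0 = 1 := Subtype.ext (kel_zero ω hω)
    rw [this]; exact one_mem _
  · exact Subgroup.mem_subgroupOf.mpr (kel3_mem_Lst ω hω)
  · rw [Set.mem_singleton_iff] at hx'; subst hx'
    exact Subgroup.mem_subgroupOf.mpr (kel14_mem_Lst ω hω)

include hω in
theorem Lsub_ne_top : Lsub ω hω ≠ ⊤ := by
  intro h
  have := Lsub_index ω hω
  rw [h, Subgroup.index_top] at this
  omega

theorem core_Lsub (N : Subgroup (threeJ3 F ω)) (hN : N.Normal) (hNL : N ≤ Lsub ω hω) :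
    N ≤ Subgroup.center (threeJ3 F ω) := by
  rcases dichotomy ω hω N hN with h | h
  · exact core_central ω hω N hN h
  · exfalso
    apply Lsub_ne_top ω hω
    rw [eq_top_iff, ← h]
    exact hNL

end Top

end Cfsg.Agent.Helper8.J3M
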