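import Cfsg.Prelude.Def_Sporadic
import Cfsg.Agent.Lib.Helper8.J3L
import Cfsg.Agent.Lib.Helper8.CosetPerm

set_option autoImplicit false
set_option linter.unusedSectionVars false
set_option linter.unusedVariables false

/-! `J₃` as a transitive permutation group of degree `6156`. -/

open scoped MatrixGroups

namespace Cfsg.Agent.Helper8.J3M

open Cfsg.Agent.Helper8.F4P Cfsg.Spor

/-- A field with four elements contains a root of `x² = x + 1`. -/
theorem exists_omega4 (F : Type) [Field F] [Fintype F] (hF : Fintype.card F = 4) [CharP F 2] :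
    ∃ ω : F, ω ^ 2 = ω + 1 := by
  classical
  have h2 : (2 : F) = 0 := CharTwo.two_eq_zero
  have hex : ∃ x : F, x ≠ 0 ∧ x ≠ 1 := by
    by_contra hne
    replace hne : ∀ x : F, x ≠ 0 → x = 1 := by
      intro x hx
      by_contra h1
      exact hne ⟨x, hx, h1⟩
    have hsub : (Finset.univ : Finset F) ⊆ {0, 1} := by
      intro x _
      by_cases hx : x = 0
      · simp [hx]
      · simp [hne x hx]
    have := Finset.card_le_card hsub
    rw [Finset.card_univ, hF] at this
    have h3 : ({0, 1} : Finset F).card ≤ 2 := Finset.card_le_two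
    omega
  obtain ⟨x, hx0, hx1⟩ := hex
  refine ⟨x, ?_⟩
  have hpow : x ^ 3 = 1 := by
    have := FiniteField.pow_card_sub_one_eq_one x hx0
    rwa [hF] at this
  have hfac : (x - 1) * (x ^ 2 + x + 1) = 0 := by
    have : (x - 1) * (x ^ 2 + x + 1) = x ^ 3 - 1 := by ring
    rw [this, hpow, sub_self]
  rcases mul_eq_zero.mp hfac with h | h
  · exact absurd (sub_eq_zero.mp h) hx1
  · linear_combination h - (x + 1) * h2

section

variable {F : Type} [Field F] [CharP F 2] [Finite F] (ω : F) (hω : ω ^ 2 = ω + 1)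

include hω in
theorem exists_perm6156 : ∃ H : Subgroup (Equiv.Perm (Fin 6156)), Cfsg.IsJ3 H ∧
    MulAction.IsPretransitive H (Fin 6156) ∧
    Nat.card (MulAction.stabilizer H (0 : Fin 6156)) = 8160 := by
  have : Finite (threeJ3 F ω) := inferInstance
  obtain ⟨H, ⟨e⟩, hpre, hstab⟩ := BSGS.exists_coset_perm (Lsub ω hω) 6156 (Lsub_index ω hω)
    (center_le_Lsub ω hω) (core_Lsub ω hω)
  have hsimple : IsSimpleGroup (threeJ3 F ω ⧸ Subgroup.center (threeJ3 F ω)) := simple_J3 ω hω
  have hcard : Nat.card (threeJ3 F ω ⧸ Subgroup.center (threeJ3 F ω)) = 50232960 := card_J3 ω hω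
  have hH : Nat.card H = 50232960 := by
    rw [← hcard]; exact (Nat.card_congr e.toEquiv).symm
  refine ⟨H, ⟨e.symm.isSimpleGroup, hH⟩, hpre, ?_⟩
  have := hstab 0
  rw [hH] at this
  omega

end

theorem exists_J3_perm : ∃ H : Subgroup (Equiv.Perm (Fin 6156)), Cfsg.IsJ3 H ∧
    MulAction.IsPretransitive H (Fin 6156) ∧
    Nat.card (MulAction.stabilizer H (0 : Fin 6156)) = 8160 := by
  let _ : Fintype (GaloisField 2 2) := Fintype.ofFinite _
  have hcard : Fintype.card (GaloisField 2 2) = 4 := by
    rw [← Nat.card_eq_fintype_card, GaloisField.card 2 2 (by norm_num)]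
    norm_num
  have : CharP (GaloisField 2 2) 2 := inferInstance
  obtain ⟨ω, hω⟩ := exists_omega4 (GaloisField 2 2) hcard
  exact exists_perm6156 ω hω

end Cfsg.Agent.Helper8.J3M
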