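import Cfsg.Prelude.Def_Sporadic
import Cfsg.Agent.Lib.Helper8.J3Unitary

set_option autoImplicit false
set_option linter.unusedSectionVars false
set_option linter.unusedVariables false

/-! The embedding of `3·J₃` into `SU₉(2)`. -/

open scoped MatrixGroups

namespace Cfsg.Agent.Helper8.J3M

open Cfsg.Agent.Helper8.F4P Cfsg.Spor

/-- An identification of the index sets. -/
noncomputable def e9 : Fin 9 ≃ I9 := (Fintype.equivFinOfCardEq (by decide)).symm

/-- The centre is preserved by isomorphisms. -/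
theorem map_center_mulEquiv {A B : Type*} [Group A] [Group B] (e : A ≃* B) :
    (Subgroup.center A).map (e : A →* B) = Subgroup.center B := by
  ext x
  rw [Subgroup.mem_map]
  constructor
  · rintro ⟨y, hy, rfl⟩
    rw [Subgroup.mem_center_iff] at hy ⊢
    intro b
    obtain ⟨a, rfl⟩ := e.surjective b
    show e a * e y = e y * e a
    rw [← map_mul, ← map_mul, hy a]
  · intro hx
    refine ⟨e.symm x, ?_, ?_⟩
    · rw [Subgroup.mem_center_iff] at hx ⊢
      intro a
      apply e.injective
      rw [map_mul, map_mul, e.apply_symm_apply]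
      exact hx (e a)
    · exact e.apply_symm_apply x

/-- Transport of the centre and the central quotient along an isomorphism. -/
theorem transport_central {A B : Type*} [Group A] [Group B] (e : A ≃* B) (n m : ℕ)
    (h1 : Nat.card (Subgroup.center A) = n) (h2 : Nat.card (A ⧸ Subgroup.center A) = m)
    (h3 : IsSimpleGroup (A ⧸ Subgroup.center A)) :
    Nat.card (Subgroup.center B) = n ∧ IsSimpleGroup (B ⧸ Subgroup.center B) ∧
      Nat.card (B ⧸ Subgroup.center B) = m := by
  have q : A ⧸ Subgroup.center A ≃* B ⧸ Subgroup.center B :=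
    QuotientGroup.congr _ _ e (map_center_mulEquiv e)
  refine ⟨?_, ?_, ?_⟩
  · rw [← h1]; exact (Nat.card_congr (Subgroup.centerCongr e).toEquiv).symm
  · exact q.symm.isSimpleGroup
  · rw [← h2]; exact (Nat.card_congr q.toEquiv).symm

section

variable {F : Type} [Field F] [CharP F 2] [Finite F] (ω : F) (hω : ω ^ 2 = ω + 1)

omit [CharP F 2] [Finite F] in
theorem herm_reindex (M : Matrix I9 I9 F) (hM : ∀ u v : I9 → F, hform (M.mulVec u) (M.mulVec v) = hform u v)
    (u v : Fin 9 → F) :
    Cfsg.hermForm 9 F 2 ((M.submatrix e9 e9).mulVec u) ((M.submatrix e9 e9).mulVec v) =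
      Cfsg.hermForm 9 F 2 u v := by
  unfold Cfsg.hermForm
  rw [Matrix.submatrix_mulVec_equiv, Matrix.submatrix_mulVec_equiv]
  have h := hM (u ∘ e9.symm) (v ∘ e9.symm)
  unfold hform at h
  rw [← Equiv.sum_comp e9 (fun z => (M.mulVec (u ∘ e9.symm)) z * ((M.mulVec (v ∘ e9.symm)) z) ^ 2),
    ← Equiv.sum_comp e9 (fun z => (u ∘ e9.symm) z * ((v ∘ e9.symm) z) ^ 2)] at h
  simpa using h

/-- The embedding of `3·J₃` into the special unitary group. -/
noncomputable def toSU : threeJ3 F ω →* Cfsg.SU 9 F 2 :=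
  MonoidHom.mk' (fun g => ⟨⟨((g : GL I9 F) : Matrix I9 I9 F).submatrix e9 e9, by
      rw [Matrix.det_submatrix_equiv_self]; exact det_eq_one ω hω g⟩, by
      intro u v
      exact herm_reindex _ (threeJ3_le_UU ω hω g.2) u v⟩) (by
    intro a b
    apply Subtype.ext
    apply Subtype.ext
    show ((((a * b : threeJ3 F ω) : GL I9 F) : Matrix I9 I9 F)).submatrix e9 e9 =
      (((a : GL I9 F) : Matrix I9 I9 F)).submatrix e9 e9 *
        (((b : GL I9 F) : Matrix I9 I9 F)).submatrix e9 e9
    rw [Matrix.submatrix_mul_equiv]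
    rfl)

theorem toSU_injective : Function.Injective (toSU ω hω) := by
  intro a b h
  have h1 : ((a : GL I9 F) : Matrix I9 I9 F).submatrix e9 e9 =
      ((b : GL I9 F) : Matrix I9 I9 F).submatrix e9 e9 :=
    congrArg (fun x : Cfsg.SU 9 F 2 => ((x : Matrix.SpecialLinearGroup (Fin 9) F) :
      Matrix (Fin 9) (Fin 9) F)) h
  apply Subtype.ext
  apply Units.ext
  ext i j
  have := congrFun (congrFun h1 (e9.symm i)) (e9.symm j)
  simpa using this

include hω in
theorem exists_SU : ∃ H : Subgroup (Cfsg.SU 9 F 2), Nat.card (Subgroup.center H) = 3 ∧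
    Cfsg.IsJ3 (H ⧸ Subgroup.center H) := by
  refine ⟨(toSU ω hω).range, ?_⟩
  have e : threeJ3 F ω ≃* (toSU ω hω).range := MonoidHom.ofInjective (toSU_injective ω hω)
  have h := transport_central e 3 50232960 (card_center ω hω) (card_J3 ω hω) (simple_J3 ω hω)
  exact ⟨h.1, h.2.1, h.2.2⟩

end

end Cfsg.Agent.Helper8.J3M
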