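import Mathlib

set_option autoImplicit false

namespace Cfsg.Agent.Helper8.JPC

open Equiv Equiv.Perm MulAction Subgroup
open scoped Pointwise

universe u

/-- (W) Witt / Frattini lemma. -/
theorem witt {Ω : Type u} [Fintype Ω] [DecidableEq Ω] (G : Subgroup (Perm Ω)) (Δ : Finset Ω)
    (hk : IsMultiplyPretransitive G Ω Δ.card) (ℓ : ℕ) (hℓ : ℓ.Prime)
    (R : Subgroup (Perm Ω)) (hRG : R ≤ G) (hRΔ : ∀ r ∈ R, ∀ t ∈ Δ, r t = t)
    (hRp : IsPGroup ℓ R)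
    (hmax : ∀ R' : Subgroup (Perm Ω), R' ≤ G → (∀ r ∈ R', ∀ t ∈ Δ, r t = t) →
      IsPGroup ℓ R' → R ≤ R' → R' ≤ R)
    (σ : Perm Ω) (hσ : ∀ t, σ t ∈ Δ ↔ t ∈ Δ) :
    ∃ a ∈ G, (∀ r, a * r * a⁻¹ ∈ R ↔ r ∈ R) ∧ ∀ t ∈ Δ, a t = σ t := by
  classical
  have hℓF : Fact ℓ.Prime := ⟨hℓ⟩
  -- the pointwise fixer of `Δ` in `G`
  let D : Subgroup (Perm Ω) :=
    { carrier := {h | h ∈ G ∧ ∀ t ∈ Δ, h t = t}
      one_mem' := ⟨G.one_mem, fun t _ => rfl⟩
      mul_mem' := by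
        rintro a b ⟨ha, ha'⟩ ⟨hb, hb'⟩
        refine ⟨G.mul_mem ha hb, fun t ht => ?_⟩
        rw [Perm.mul_apply, hb' t ht, ha' t ht]
      inv_mem' := by
        rintro a ⟨ha, ha'⟩
        refine ⟨G.inv_mem ha, fun t ht => ?_⟩
        rw [Perm.inv_eq_iff_eq]
        exact (ha' t ht).symm }
  have hDmem : ∀ h, h ∈ D ↔ (h ∈ G ∧ ∀ t ∈ Δ, h t = t) := fun h => Iff.rfl
  have hRD : R ≤ D := fun r hr => (hDmem r).2 ⟨hRG hr, hRΔ r hr⟩
  -- `k`-transitivity gives `a₀`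
  let e : Fin Δ.card ≃ Δ := Δ.equivFin.symm
  let x : Fin Δ.card ↪ Ω :=
    ⟨fun i => (e i : Ω), fun i j hij => e.injective (Subtype.ext hij)⟩
  let x' : Fin Δ.card ↪ Ω :=
    ⟨fun i => σ (e i : Ω), fun i j hij => e.injective (Subtype.ext (σ.injective hij))⟩
  obtain ⟨a₀, ha₀⟩ := hk.exists_smul_eq x x'
  have ha₀Δ : ∀ t ∈ Δ, (a₀ : Perm Ω) t = σ t := by
    intro t ht
    obtain ⟨i, hi⟩ := e.surjective ⟨t, ht⟩
    have h1 := congrArg (fun f : Fin Δ.card ↪ Ω => f i) ha₀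
    simp only [Function.Embedding.smul_apply] at h1
    have h2 : x i = t := by show ((e i : Δ) : Ω) = t; rw [hi]
    have h3 : x' i = σ t := by show σ ((e i : Δ) : Ω) = σ t; rw [hi]
    rw [h2, h3] at h1
    exact h1
  have ha₀inv : ∀ t ∈ Δ, (a₀ : Perm Ω)⁻¹ t ∈ Δ := by
    intro t ht
    have hs : σ⁻¹ t ∈ Δ := by
      rw [← hσ]; simpa using ht
    have h1 : (a₀ : Perm Ω) (σ⁻¹ t) = t := by rw [ha₀Δ _ hs]; simp
    have h2 : (a₀ : Perm Ω)⁻¹ t = σ⁻¹ t := by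
      rw [Perm.inv_eq_iff_eq]; exact h1.symm
    rw [h2]; exact hs
  -- `a₀` normalizes `D`
  have ha₀D : ∀ h ∈ D, (a₀ : Perm Ω) * h * (a₀ : Perm Ω)⁻¹ ∈ D := by
    intro h hh
    obtain ⟨hhG, hhΔ⟩ := (hDmem h).1 hh
    refine (hDmem _).2 ⟨G.mul_mem (G.mul_mem a₀.2 hhG) (G.inv_mem a₀.2), fun t ht => ?_⟩
    rw [Perm.mul_apply, Perm.mul_apply, hhΔ _ (ha₀inv t ht)]
    simp
  -- Sylow subgroups of `D`
  have hfin : Finite ↥D := inferInstance
  let P : Sylow ℓ ↥D :=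
    { toSubgroup := R.subgroupOf D
      isPGroup' := by
        have : IsPGroup ℓ ↥R := hRp
        exact hRp.comap_subtype
      is_maximal' := by
        intro Q hQ hle
        apply le_antisymm _ hle
        intro q hq
        rw [Subgroup.mem_subgroupOf]
        have h1 : Q.map D.subtype ≤ R := by
          apply hmax
          · rintro _ ⟨z, _, rfl⟩
            exact ((hDmem _).1 z.2).1
          · rintro _ ⟨z, _, rfl⟩ t ht
            exact ((hDmem _).1 z.2).2 t ht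
          · exact hQ.map _
          · intro r hr
            exact ⟨⟨r, hRD hr⟩, hle (Subgroup.mem_subgroupOf.2 hr), rfl⟩
        exact h1 ⟨q, hq, rfl⟩ }
  -- the conjugate `R₁ = a₀ R a₀⁻¹`
  let R₁ : Subgroup (Perm Ω) := R.map (MulAut.conj (a₀ : Perm Ω)).toMonoidHom
  have hR₁D : R₁ ≤ D := by
    rintro _ ⟨r, hr, rfl⟩
    exact ha₀D r (hRD hr)
  have hcardR₁ : Nat.card R₁ = Nat.card R :=
    Subgroup.card_map_of_injective (MulAut.conj (a₀ : Perm Ω)).injective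
  have hcardP : Nat.card (R.subgroupOf D) = Nat.card R :=
    Nat.card_congr (Subgroup.subgroupOfEquivOfLe hRD).toEquiv
  have hcardP₁ : Nat.card (R₁.subgroupOf D) = ℓ ^ (Nat.card ↥D).factorization ℓ := by
    rw [Nat.card_congr (Subgroup.subgroupOfEquivOfLe hR₁D).toEquiv, hcardR₁, ← hcardP]
    exact P.card_eq_multiplicity
  let P₁ : Sylow ℓ ↥D := Sylow.ofCard (R₁.subgroupOf D) hcardP₁
  obtain ⟨h, hh⟩ := MulAction.exists_smul_eq ↥D P₁ P
  -- the element `a = h a₀`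
  refine ⟨(h : Perm Ω) * (a₀ : Perm Ω), G.mul_mem ((hDmem _).1 h.2).1 a₀.2, ?_, ?_⟩
  · -- normalizes `R`
    have hA : ∀ r ∈ R, (h : Perm Ω) * (a₀ : Perm Ω) * r * ((h : Perm Ω) * (a₀ : Perm Ω))⁻¹ ∈ R := by
      intro r hr
      have h1 : (a₀ : Perm Ω) * r * (a₀ : Perm Ω)⁻¹ ∈ R₁ := ⟨r, hr, rfl⟩
      let z : ↥D := ⟨(a₀ : Perm Ω) * r * (a₀ : Perm Ω)⁻¹, hR₁D h1⟩
      have hz : z ∈ (P₁ : Subgroup ↥D) := Subgroup.mem_subgroupOf.2 h1
      have h2 : h * z * h⁻¹ ∈ ((h • P₁ : Sylow ℓ ↥D) : Subgroup ↥D) := by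
        rw [Sylow.coe_subgroup_smul]
        exact Subgroup.smul_mem_pointwise_smul z (MulAut.conj h) _ hz
      rw [hh] at h2
      have h3 : ((h * z * h⁻¹ : ↥D) : Perm Ω) ∈ R := Subgroup.mem_subgroupOf.1 h2
      have h4 : ((h * z * h⁻¹ : ↥D) : Perm Ω) =
          (h : Perm Ω) * (a₀ : Perm Ω) * r * ((h : Perm Ω) * (a₀ : Perm Ω))⁻¹ := by
        show (h : Perm Ω) * ((a₀ : Perm Ω) * r * (a₀ : Perm Ω)⁻¹) * (h : Perm Ω)⁻¹ = _
        group
      rw [h4] at h3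
      exact h3
    set a : Perm Ω := (h : Perm Ω) * (a₀ : Perm Ω) with ha
    -- conjugation by `a` is injective on the finite group `R`, hence surjective
    let φ : ↥R → ↥R := fun r => ⟨a * r * a⁻¹, hA r r.2⟩
    have hφinj : Function.Injective φ := by
      intro r s hrs
      have h1 : a * (r : Perm Ω) * a⁻¹ = a * (s : Perm Ω) * a⁻¹ := congrArg Subtype.val hrs
      apply Subtype.ext
      have h2 := mul_right_cancel h1
      exact mul_left_cancel h2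
    have hφsurj : Function.Surjective φ := Finite.injective_iff_surjective.1 hφinj
    intro r
    constructor
    · intro hr
      obtain ⟨s, hs⟩ := hφsurj ⟨a * r * a⁻¹, hr⟩
      have h1 : a * (s : Perm Ω) * a⁻¹ = a * r * a⁻¹ := congrArg Subtype.val hs
      have h2 := mul_left_cancel (mul_right_cancel h1)
      rw [← h2]; exact s.2
    · intro hr
      exact hA r hr
  · intro t ht
    rw [Perm.mul_apply, ha₀Δ t ht]
    exact ((hDmem _).1 h.2).2 _ ((hσ t).2 ht)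

end Cfsg.Agent.Helper8.JPC
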