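import Cfsg.Agent.S5628

set_option autoImplicit false
set_option linter.unusedSectionVars false

/-! The projective plane over a finite field, as a set system on `ℙ F (Fin 3 → F)`, with the
faithful action of `PSL(3, F)`. -/

namespace Cfsg.Agent.Helper8.PG2

open Cfsg Finset Matrix
open scoped LinearAlgebra.Projectivization

variable {F : Type*} [Field F]

/-- The linear functional `v ↦ a ⬝ᵥ v`. -/
def dotL (a : Fin 3 → F) : (Fin 3 → F) →ₗ[F] F where
  toFun v := a ⬝ᵥ v
  map_add' := dotProduct_add a
  map_smul' c v := by simp [dotProduct_smul]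

theorem dotL_apply (a v : Fin 3 → F) : dotL a v = a ⬝ᵥ v := rfl

/-- Incidence of the point `P` with the line of equation `a`. -/
def On (a : Fin 3 → F) (P : ℙ F (Fin 3 → F)) : Prop := a ⬝ᵥ P.rep = 0

theorem on_mk (a v : Fin 3 → F) (hv : v ≠ 0) :
    On a (Projectivization.mk F v hv) ↔ a ⬝ᵥ v = 0 := by
  obtain ⟨c, hc⟩ := Projectivization.exists_smul_eq_mk_rep F v hv
  unfold On
  rw [← hc, Units.smul_def, dotProduct_smul, smul_eq_mul, mul_eq_zero]
  constructor
  · rintro (h | h)
    · exact absurd h c.ne_zero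
    · exact h
  · exact Or.inr

theorem finrank_ker_dotL {a : Fin 3 → F} (ha : a ≠ 0) :
    Module.finrank F (LinearMap.ker (dotL a)) = 2 := by
  have h1 := LinearMap.finrank_range_add_finrank_ker (dotL a)
  have h2 : LinearMap.range (dotL a) = ⊤ := by
    rw [LinearMap.range_eq_top]
    obtain ⟨i, hi⟩ : ∃ i, a i ≠ 0 := by
      by_contra h
      push Not at h
      exact ha (funext h)
    intro c
    refine ⟨Pi.single i (c / a i), ?_⟩
    rw [dotL_apply, dotProduct_single]
    field_simp
  rw [h2, finrank_top, Module.finrank_self, Module.finrank_fin_fun] at h1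
  omega

/-- The lines of the projective plane. -/
def lines (F : Type*) [Field F] : Set (Finset (ℙ F (Fin 3 → F))) :=
  {l | ∃ a : Fin 3 → F, a ≠ 0 ∧ ∀ P, P ∈ l ↔ On a P}

section fin

variable [Fintype F] [Fintype (ℙ F (Fin 3 → F))] [DecidableEq (ℙ F (Fin 3 → F))]

theorem card_line {l : Finset (ℙ F (Fin 3 → F))} (hl : l ∈ lines F) :
    l.card = Fintype.card F + 1 := by
  classical
  obtain ⟨a, ha, hla⟩ := hl
  have hW := finrank_ker_dotL ha
  have hc := Projectivization.card_of_finrank_two F (LinearMap.ker (dotL a)) hW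
  rw [Nat.card_eq_fintype_card (α := F)] at hc
  rw [← hc, ← Fintype.card_coe, ← Nat.card_eq_fintype_card]
  symm
  let W := LinearMap.ker (dotL a)
  have hinj : Function.Injective (W.subtype) := Submodule.injective_subtype W
  have hmem : ∀ Q : ℙ F W, Projectivization.map W.subtype hinj Q ∈ l := by
    intro Q
    induction Q using Projectivization.ind with
    | h w hw =>
      rw [Projectivization.map_mk, hla, on_mk]
      exact w.2
  apply Nat.card_congr
  refine Equiv.ofBijective (fun Q => ⟨Projectivization.map W.subtype hinj Q, hmem Q⟩) ⟨?_, ?_⟩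
  · intro Q Q' h
    exact Projectivization.map_injective W.subtype hinj (congrArg Subtype.val h)
  · rintro ⟨P, hP⟩
    induction P using Projectivization.ind with
    | h v hv =>
      rw [hla, on_mk] at hP
      have hvW : v ∈ W := hP
      have hne : (⟨v, hvW⟩ : W) ≠ 0 := by
        intro h
        exact hv (congrArg Subtype.val h)
      refine ⟨Projectivization.mk F ⟨v, hvW⟩ hne, ?_⟩
      apply Subtype.ext
      show Projectivization.map W.subtype hinj (Projectivization.mk F ⟨v, hvW⟩ hne) = _
      rw [Projectivization.map_mk]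
      rfl

theorem on_cross_of_on {a : Fin 3 → F} (ha : a ≠ 0) {P Q R : ℙ F (Fin 3 → F)}
    (hP : On a P) (hQ : On a Q) (hR : On a R) : On (crossProduct P.rep Q.rep) R := by
  unfold On at *
  have hdet : (Matrix.of ![R.rep, P.rep, Q.rep]).det = 0 := by
    rw [← exists_mulVec_eq_zero_iff]
    refine ⟨a, ha, ?_⟩
    funext i
    fin_cases i
    · simpa [Matrix.mulVec, dotProduct_comm] using hR
    · simpa [Matrix.mulVec, dotProduct_comm] using hP
    · simpa [Matrix.mulVec, dotProduct_comm] using hQ
  rw [dotProduct_comm, triple_product_eq_det]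
  exact hdet

theorem exists_line {P Q : ℙ F (Fin 3 → F)} (hPQ : P ≠ Q) :
    crossProduct P.rep Q.rep ≠ 0 ∧ On (crossProduct P.rep Q.rep) P ∧
      On (crossProduct P.rep Q.rep) Q := by
  refine ⟨?_, ?_, ?_⟩
  · rw [crossProduct_ne_zero_iff_linearIndependent]
    exact Projectivization.linearIndependent_pair_iff_ne.mpr hPQ
  · unfold On
    rw [dotProduct_comm]
    exact dot_self_cross _ _
  · unfold On
    rw [dotProduct_comm]
    exact dot_cross_self _ _

theorem lines_steiner (q : ℕ) (hF : Fintype.card F = q) :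
    IsSteinerSystem 2 (q + 1) (lines F) := by
  classical
  refine ⟨fun b hb => by rw [card_line hb, hF], ?_⟩
  intro s hs
  obtain ⟨P, Q, hPQ, rfl⟩ := card_eq_two.mp hs
  obtain ⟨h0, h1, h2⟩ := exists_line hPQ
  have hb0 : (univ.filter (fun R => On (crossProduct P.rep Q.rep) R)) ∈ lines F :=
    ⟨_, h0, fun R => by simp⟩
  refine ⟨univ.filter (fun R => On (crossProduct P.rep Q.rep) R), ⟨hb0, ?_⟩, ?_⟩
  · intro R hR
    simp only [mem_insert, mem_singleton] at hR
    rcases hR with rfl | rfl
    · simpa using h1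
    · simpa using h2
  · rintro b ⟨hb, hsb⟩
    obtain ⟨a, ha, hba⟩ := id hb
    apply eq_of_subset_of_card_le
    · intro R hR
      rw [mem_filter]
      refine ⟨mem_univ _, ?_⟩
      apply on_cross_of_on ha
      · exact (hba P).mp (hsb (by simp))
      · exact (hba Q).mp (hsb (by simp))
      · exact (hba R).mp hR
    · rw [card_line hb0, card_line hb]

theorem card_points (q : ℕ) (hF : Fintype.card F = q) :
    Fintype.card (ℙ F (Fin 3 → F)) = 1 + q + q ^ 2 := by
  have h := Projectivization.card_of_finrank F (Fin 3 → F) (n := 3) (Module.finrank_fin_fun F)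
  rw [Nat.card_eq_fintype_card, Nat.card_eq_fintype_card, hF] at h
  rw [h]
  simp [Finset.sum_range_succ]

end fin

section action

theorem sl_on (g : Matrix.SpecialLinearGroup (Fin 3) F) (a : Fin 3 → F)
    (P : ℙ F (Fin 3 → F)) : On (a ᵥ* (g⁻¹).1) (g • P) ↔ On a P := by
  induction P using Projectivization.ind with
  | h v hv =>
    rw [Projectivization.smul_mk, on_mk, on_mk]
    have : (g • v : Fin 3 → F) = g.1 *ᵥ v := rfl
    rw [this, ← dotProduct_mulVec, Matrix.mulVec_mulVec]
    have h2 : (g⁻¹).1 * g.1 = 1 := by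
      rw [← Matrix.SpecialLinearGroup.coe_mul, inv_mul_cancel]
      rfl
    rw [h2, Matrix.one_mulVec]

theorem vecMul_inv_ne_zero (g : Matrix.SpecialLinearGroup (Fin 3) F) {a : Fin 3 → F}
    (ha : a ≠ 0) : a ᵥ* (g⁻¹).1 ≠ 0 := by
  intro h
  apply ha
  have h2 : (g⁻¹).1 * g.1 = 1 := by
    rw [← Matrix.SpecialLinearGroup.coe_mul, inv_mul_cancel]
    rfl
  have := congrArg (fun b => b ᵥ* g.1) h
  simp only [Matrix.vecMul_vecMul, h2, Matrix.vecMul_one, Matrix.zero_vecMul] at this
  exact this

variable [Fintype (ℙ F (Fin 3 → F))] [DecidableEq (ℙ F (Fin 3 → F))]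

theorem perm_mem_aut (x : Matrix.ProjectiveSpecialLinearGroup (Fin 3) F) :
    Projectivization.PSLAction.toPermHom x ∈ setSystemAut (lines F) := by
  obtain ⟨g, rfl⟩ := QuotientGroup.mk_surjective x
  rw [Cfsg.Agent.S5628.mem_aut_iff]
  rintro l ⟨a, ha, hla⟩
  refine ⟨a ᵥ* (g⁻¹).1, vecMul_inv_ne_zero g ha, ?_⟩
  intro P
  have hact : ∀ Q : ℙ F (Fin 3 → F),
      Projectivization.PSLAction.toPermHom (QuotientGroup.mk g :
        Matrix.ProjectiveSpecialLinearGroup (Fin 3) F) Q = g • Q := fun Q => rfl
  rw [mem_image]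
  constructor
  · rintro ⟨Q, hQ, rfl⟩
    rw [hact, sl_on]
    exact (hla Q).mp hQ
  · intro hP
    refine ⟨g⁻¹ • P, ?_, ?_⟩
    · rw [hla, ← sl_on g a, smul_inv_smul]
      exact hP
    · rw [hact, smul_inv_smul]

/-- The action of `PSL(3, F)` on the plane, as a homomorphism to its automorphism group. -/
noncomputable def pslHom :
    Matrix.ProjectiveSpecialLinearGroup (Fin 3) F →* setSystemAut (lines F) :=
  (Projectivization.PSLAction.toPermHom).codRestrict _ perm_mem_aut

theorem pslHom_injective : Function.Injective (pslHom (F := F)) := by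
  intro x y h
  apply Matrix.ProjectiveSpecialLinearGroup.toPermHom_injective
  exact congrArg Subtype.val h

end action

/-- The plane over the field with four elements, packaged. -/
theorem exists_plane (F : Type) [Field F] [Fintype F] (hF : Fintype.card F = 4) :
    ∃ (X : Type) (_ : Fintype X) (_ : DecidableEq X) (L : Set (Finset X)),
      Fintype.card X = 21 ∧ IsSteinerSystem 2 5 L ∧
      ∃ φ : Matrix.ProjectiveSpecialLinearGroup (Fin 3) F →* setSystemAut L,
        Function.Injective φ := by
  classical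
  let _ : Fintype (ℙ F (Fin 3 → F)) := Fintype.ofFinite _
  refine ⟨ℙ F (Fin 3 → F), inferInstance, inferInstance, lines F, ?_, ?_, pslHom,
    pslHom_injective⟩
  · rw [card_points 4 hF]; norm_num
  · exact lines_steiner 4 hF

end Cfsg.Agent.Helper8.PG2
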