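import Cfsg.Agent.Lib.Helper8.PlaneAut
import Cfsg.Agent.Lib.Helper8.PG2
import Cfsg.Agent.Lib.Helper8.DerivedAut
import Cfsg.Agent.Lib.Helper5.PSL
import Cfsg.Agent.S2550
import Cfsg.Agent.S5626
import Cfsg.Agent.S0351

set_option autoImplicit false
set_option linter.unusedSectionVars false

/-! A subgroup of order 20160 of the automorphism group of a Steiner system S(5,8,24) fixing three
points is isomorphic to PSL(3,4). -/

namespace Cfsg.Agent.Helper8

open Cfsg Finset

section grp

/-- In a group of order at most `6 n`, a simple subgroup of order `n > 720` coincides with any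
subgroup of order `n`. -/
theorem eq_of_simple_of_small_index {A : Type*} [Group A] [Finite A] (K S : Subgroup A)
    (hS : IsSimpleGroup S) (n : ℕ) (hK : Nat.card K = n) (hS' : Nat.card S = n)
    (hA : Nat.card A ≤ 6 * n) (hn : 720 < n) : S = K := by
  classical
  have hidx : K.index ≤ 6 := by
    have h := K.index_mul_card
    rw [hK] at h
    by_contra hlt
    push Not at hlt
    have : 7 * n ≤ K.index * n := Nat.mul_le_mul_right n hlt
    omega
  let ψ : S →* Equiv.Perm (A ⧸ K) := (MulAction.toPermHom A (A ⧸ K)).comp S.subtype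
  have hle : S ≤ K := by
    rcases hS.eq_bot_or_eq_top_of_normal ψ.ker inferInstance with hker | hker
    · exfalso
      have hinj : Function.Injective ψ := (MonoidHom.ker_eq_bot_iff ψ).mp hker
      have h1 : Nat.card S ≤ Nat.card (Equiv.Perm (A ⧸ K)) :=
        Nat.card_le_card_of_injective ψ hinj
      have h2 : Nat.card (Equiv.Perm (A ⧸ K)) = (K.index).factorial := by
        have : Fintype (A ⧸ K) := Fintype.ofFinite _
        rw [Nat.card_eq_fintype_card, Fintype.card_perm, Subgroup.index,
          Nat.card_eq_fintype_card]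
      have h3 : (K.index).factorial ≤ Nat.factorial 6 := Nat.factorial_le hidx
      have h4 : Nat.factorial 6 = 720 := rfl
      omega
    · intro s hs
      have h1 : (⟨s, hs⟩ : S) ∈ ψ.ker := by rw [hker]; trivial
      rw [MonoidHom.mem_ker] at h1
      have h2 := congrArg (fun σ : Equiv.Perm (A ⧸ K) => σ ((1 : A) : A ⧸ K)) h1
      simp only [ψ, MonoidHom.comp_apply, Subgroup.subtype_apply, MulAction.toPermHom_apply,
        MulAction.toPerm_apply, Equiv.Perm.coe_one, id_eq] at h2
      rw [MulAction.Quotient.smul_mk, smul_eq_mul, mul_one, QuotientGroup.eq] at h2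
      simpa using h2
  exact Subgroup.eq_of_le_of_card_ge hle (by rw [hK, hS'])

end grp

section plane

variable {X : Type} [Fintype X] [DecidableEq X]

/-- A subgroup of order 20160 of the automorphism group of a plane of order 4 is `PSL(3, 4)`. -/
theorem plane_subgroup_iso (hX : Fintype.card X = 21) {D : Set (Finset X)}
    (hD : IsSteinerSystem 2 5 D) (K : Subgroup (setSystemAut D)) (hK : Nat.card K = 20160)
    (F : Type) [Field F] [Fintype F] (hF : Fintype.card F = 4) :
    Nonempty (K ≃* Matrix.ProjectiveSpecialLinearGroup (Fin 3) F) := by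
  obtain ⟨X', instF, instD, L', hX', hL', φ, hφ⟩ := PG2.exists_plane F hF
  obtain ⟨e, he⟩ := Cfsg.Agent.S5626.result hX' hX hL' hD
  let Φ : Matrix.ProjectiveSpecialLinearGroup (Fin 3) F →* setSystemAut D :=
    (autCongr e he).toMonoidHom.comp φ
  have hΦ : Function.Injective Φ := (autCongr e he).injective.comp hφ
  let E : Matrix.ProjectiveSpecialLinearGroup (Fin 3) F ≃* Φ.range := MonoidHom.ofInjective hΦ
  have hsimple : IsSimpleGroup (Matrix.ProjectiveSpecialLinearGroup (Fin 3) F) :=
    Cfsg.Agent.Helper5.psl_isSimpleGroup (by simp)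
  have hSs : IsSimpleGroup Φ.range := E.symm.isSimpleGroup
  have hcard : Nat.card Φ.range = 20160 := by
    rw [← Nat.card_congr E.toEquiv]
    exact Cfsg.Agent.S2550.card_psl34 hF
  have hA : Nat.card (setSystemAut D) ≤ 6 * 20160 := card_planeAut_le hX hD
  have heq : Φ.range = K :=
    eq_of_simple_of_small_index K Φ.range hSs 20160 hK hcard hA (by norm_num)
  exact ⟨(MulEquiv.subgroupCongr heq.symm).trans E.symm⟩

end plane

section res

variable {α : Type*} [Fintype α] [DecidableEq α] (r : α)

/-- Restriction to the points other than `r`, on a group of permutations fixing `r`. -/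
def resHom (K : Subgroup (Equiv.Perm α)) (hK : ∀ g ∈ K, g r = r) :
    K →* Equiv.Perm {a : α // a ≠ r} where
  toFun g := resPerm r g.1 (hK g.1 g.2)
  map_one' := by
    ext x
    rfl
  map_mul' g g' := resPerm_mul r g.1 g'.1 (hK g.1 g.2) (hK g'.1 g'.2)

theorem resHom_apply (K : Subgroup (Equiv.Perm α)) (hK : ∀ g ∈ K, g r = r) (g : K)
    (x : {a : α // a ≠ r}) : ((resHom r K hK g x : {a : α // a ≠ r}) : α) = g.1 x := rfl

theorem resHom_injective (K : Subgroup (Equiv.Perm α)) (hK : ∀ g ∈ K, g r = r) :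
    Function.Injective (resHom r K hK) := by
  intro g g' h
  apply Subtype.ext
  ext x
  by_cases hx : x = r
  · rw [hx, hK g.1 g.2, hK g'.1 g'.2]
  · have := congrArg (fun s : Equiv.Perm {a : α // a ≠ r} => ((s ⟨x, hx⟩ : {a : α // a ≠ r}) : α)) h
    exact this

theorem resHom_range_le {B : Set (Finset α)} (K : Subgroup (Equiv.Perm α))
    (hK : ∀ g ∈ K, g r = r) (hKB : K ≤ setSystemAut B) :
    (resHom r K hK).range ≤ setSystemAut (dLines B r) := by
  rintro _ ⟨g, rfl⟩
  exact res_mem_aut r (hKB g.2) (hK g.1 g.2)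

theorem resHom_range_fix (K : Subgroup (Equiv.Perm α)) (hK : ∀ g ∈ K, g r = r)
    (q : {a : α // a ≠ r}) (hq : ∀ g ∈ K, g (q : α) = q) :
    ∀ h ∈ (resHom r K hK).range, h q = q := by
  rintro _ ⟨g, rfl⟩
  apply Subtype.ext
  rw [resHom_apply]
  exact hq g.1 g.2

theorem card_resHom_range (K : Subgroup (Equiv.Perm α)) (hK : ∀ g ∈ K, g r = r) :
    Nat.card (resHom r K hK).range = Nat.card K :=
  (Nat.card_congr (MonoidHom.ofInjective (resHom_injective r K hK)).toEquiv).symm

end res

section golay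

variable {α : Type} [Fintype α] [DecidableEq α]

/-- A group of order 20160 of automorphisms of an S(5,8,24) fixing three points is `PSL(3,4)`. -/
theorem three_point_stabilizer_iso (hα : Fintype.card α = 24) {B : Set (Finset α)}
    (hB : IsSteinerSystem 5 8 B) (p q r : α) (hpq : p ≠ q) (hpr : p ≠ r) (hqr : q ≠ r)
    (K : Subgroup (Equiv.Perm α)) (hKB : K ≤ setSystemAut B)
    (hKp : ∀ g ∈ K, g p = p) (hKq : ∀ g ∈ K, g q = q) (hKr : ∀ g ∈ K, g r = r)
    (hK : Nat.card K = 20160)
    (F : Type) [Field F] [Fintype F] (hF : Fintype.card F = 4) :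
    Nonempty (K ≃* Matrix.ProjectiveSpecialLinearGroup (Fin 3) F) := by
  -- first restriction
  let q1 : {a : α // a ≠ p} := ⟨q, hpq.symm⟩
  let r1 : {a : α // a ≠ p} := ⟨r, hpr.symm⟩
  have hq1r1 : r1 ≠ q1 := fun h => hqr (congrArg Subtype.val h).symm
  let K1 := (resHom p K hKp).range
  have hK1B : K1 ≤ setSystemAut (dLines B p) := resHom_range_le p K hKp hKB
  have hK1q : ∀ h ∈ K1, h q1 = q1 := resHom_range_fix p K hKp q1 hKq
  have hK1r : ∀ h ∈ K1, h r1 = r1 := resHom_range_fix p K hKp r1 hKr
  have hK1 : Nat.card K1 = 20160 := (card_resHom_range p K hKp).trans hK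
  have hB1 : IsSteinerSystem 4 7 (dLines B p) := Cfsg.Agent.S0351.result (t := 4) (k := 7) hB p
  have hα1 : Fintype.card {a : α // a ≠ p} = 23 := card_subtype_ne p 23 hα
  -- second restriction
  let r2 : {a : {a : α // a ≠ p} // a ≠ q1} := ⟨r1, hq1r1⟩
  let K2 := (resHom q1 K1 hK1q).range
  have hK2B : K2 ≤ setSystemAut (dLines (dLines B p) q1) := resHom_range_le q1 K1 hK1q hK1B
  have hK2r : ∀ h ∈ K2, h r2 = r2 := resHom_range_fix q1 K1 hK1q r2 hK1r
  have hK2 : Nat.card K2 = 20160 := (card_resHom_range q1 K1 hK1q).trans hK1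
  have hB2 : IsSteinerSystem 3 6 (dLines (dLines B p) q1) :=
    Cfsg.Agent.S0351.result (t := 3) (k := 6) hB1 q1
  have hα2 : Fintype.card {a : {a : α // a ≠ p} // a ≠ q1} = 22 := card_subtype_ne q1 22 hα1
  -- third restriction
  let K3 := (resHom r2 K2 hK2r).range
  have hK3B : K3 ≤ setSystemAut (dLines (dLines (dLines B p) q1) r2) :=
    resHom_range_le r2 K2 hK2r hK2B
  have hK3 : Nat.card K3 = 20160 := (card_resHom_range r2 K2 hK2r).trans hK2
  have hB3 : IsSteinerSystem 2 5 (dLines (dLines (dLines B p) q1) r2) :=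
    Cfsg.Agent.S0351.result (t := 2) (k := 5) hB2 r2
  have hα3 : Fintype.card {a : {a : {a : α // a ≠ p} // a ≠ q1} // a ≠ r2} = 21 :=
    card_subtype_ne r2 21 hα2
  -- the plane
  have hK3' : Nat.card (K3.subgroupOf (setSystemAut (dLines (dLines (dLines B p) q1) r2)))
      = 20160 := by
    rw [Nat.card_congr (Subgroup.subgroupOfEquivOfLe hK3B).toEquiv]
    exact hK3
  obtain ⟨E⟩ := plane_subgroup_iso hα3 hB3
    (K3.subgroupOf (setSystemAut (dLines (dLines (dLines B p) q1) r2))) hK3' F hF
  let E1 : K ≃* K1 := MonoidHom.ofInjective (resHom_injective p K hKp)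
  let E2 : K1 ≃* K2 := MonoidHom.ofInjective (resHom_injective q1 K1 hK1q)
  let E3 : K2 ≃* K3 := MonoidHom.ofInjective (resHom_injective r2 K2 hK2r)
  exact ⟨((E1.trans E2).trans E3).trans ((Subgroup.subgroupOfEquivOfLe hK3B).symm.trans E)⟩

end golay

end Cfsg.Agent.Helper8
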