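import Mathlib
import Cfsg.Agent.S1017
import Cfsg.Agent.Lib.Helper17.Simple
import Cfsg.Agent.Lib.Helper17.SylowLink
import Cfsg.Agent.Lib.Helper17.EmbedNormalizer
import Cfsg.Agent.Lib.Helper75.FixKill
import Cfsg.Agent.Lib.Helper30.SVSylKit

/-!
# No simple group of order 459648 = 2^7 * 3^3 * 7 * 19 (S1022), part A:
the sieve `n_19 ∈ {96, 1008}`, the case `n_19 = 96`, and the key tool for `n_19 = 1008`.
-/

set_option autoImplicit false

namespace Cfsg.Agent.Helper8.O459648

open Cfsg.Agent.Helper17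

universe u

variable {G : Type u} [Group G] [Finite G]

instance fact_prime_nineteen : Fact (Nat.Prime 19) := ⟨by norm_num⟩

instance fact_prime_seven : Fact (Nat.Prime 7) := ⟨by norm_num⟩

theorem card_eq_pow (hG : Nat.card G = 459648) : Nat.card G = 19 ^ 1 * 24192 := by
  rw [hG]; norm_num

theorem not_comm [IsSimpleGroup G] (hG : Nat.card G = 459648) : ¬ IsMulCommutative G := by
  apply not_comm_of_not_prime
  rw [hG]
  norm_num

theorem card_sylow19 (hG : Nat.card G = 459648) (P : Sylow 19 G) :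
    Nat.card (P : Subgroup G) = 19 := by
  have := sylow_card_eq P (card_eq_pow hG) (by norm_num)
  simpa using this

theorem divisors_aux :
    ∀ d ∈ Nat.divisors 24192, d % 19 = 1 → d = 1 ∨ d = 96 ∨ d = 1008 := by
  decide +kernel

theorem divisors_aux2 :
    ∀ d ∈ Nat.divisors 3024, d % 19 = 1 → d = 1 ∨ d = 1008 := by
  decide +kernel

/-- the sieve -/
theorem n19_cases [IsSimpleGroup G] (hG : Nat.card G = 459648) :
    Nat.card (Sylow 19 G) = 96 ∨ Nat.card (Sylow 19 G) = 1008 := by
  obtain ⟨hd, hm⟩ := sylow_count (G := G) (p := 19) (card_eq_pow hG) (by norm_num)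
  have hne := sylow_count_ne_one (G := G) (p := 19) (card_eq_pow hG) (by norm_num) one_ne_zero
    (by norm_num)
  have := divisors_aux _ (Nat.mem_divisors.2 ⟨hd, by norm_num⟩) hm
  tauto

/-- case (A): `n_19 = 96` -/
theorem false_of_ninetysix [IsSimpleGroup G] (hG : Nat.card G = 459648)
    (h96 : Nat.card (Sylow 19 G) = 96) : False := by
  obtain ⟨P⟩ : Nonempty (Sylow 19 G) := inferInstance
  have hP := card_sylow19 hG P
  have hN : Nat.card ↥(Subgroup.normalizer ((P : Subgroup G) : Set G)) = 4788 := by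
    have := card_normalizer_mul_sylow_count P
    rw [h96, hG] at this
    omega
  obtain ⟨e, he, -, heq⟩ := exists_e P hP (by rw [hG]; norm_num)
  have h7 : 7 ∣ Nat.card ↥(Subgroup.centralizer ((P : Subgroup G) : Set G)) := by
    rw [hN] at heq
    have h7' : (7 : ℕ) ∣ Nat.card ↥(Subgroup.centralizer ((P : Subgroup G) : Set G)) * e := by
      rw [heq]; norm_num
    rcases (Nat.Prime.dvd_mul (by norm_num)).1 h7' with h | h
    · exact h
    · exfalso
      have := Nat.dvd_trans h he
      norm_num at this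
  obtain ⟨f, m', hfix⟩ := Cfsg.Agent.Helper75.FixKill.exists_fix (G := G)
    (by rw [hG]; norm_num) (p := 19) (r := 7) (by norm_num) P hP (by rw [h96]; norm_num) h7
  unfold Cfsg.Agent.Helper75.FixKill.FixOK at hfix
  obtain ⟨-, hf1, hf2, -, hf3, -⟩ := hfix
  rw [h96] at hf2 hf3
  omega

end Cfsg.Agent.Helper8.O459648
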