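import Mathlib
import Cfsg.Agent.Lib.Helper8.O459648A

/-!
# No simple group of order 459648 (S1022), part B: the key tool.
-/

set_option autoImplicit false

namespace Cfsg.Agent.Helper8.O459648

open Cfsg.Agent.Helper17

universe u

variable {G : Type u} [Group G] [Finite G]

/-- the key tool: a proper subgroup containing `P` and a subgroup of order `8` of `N(P)` lies in
`N(P)` -/
theorem key_tool [IsSimpleGroup G] (hG : Nat.card G = 459648) (P : Sylow 19 G)
    (T : Subgroup G) (hT : Nat.card T = 8)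
    (hTN : T ≤ Subgroup.normalizer ((P : Subgroup G) : Set G))
    (X : Subgroup G) (hPX : (P : Subgroup G) ≤ X) (hTX : T ≤ X) (hX : X ≠ ⊤) :
    X ≤ Subgroup.normalizer ((P : Subgroup G) : Set G) := by
  have hP := card_sylow19 hG P
  have hcard := Cfsg.Agent.S1017.card_eq_card_mul X P hPX
  have hmod := Cfsg.Agent.Helper30.SV.card_sylow_le_modEq_one X P hPX
  have h19 : 19 ∣ Nat.card ↥(Subgroup.normalizer ((P : Subgroup G) : Set G) ⊓ X) := by
    have h := Subgroup.card_dvd_of_le
      (le_inf (Subgroup.le_normalizer (H := (P : Subgroup G))) hPX)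
    rwa [hP] at h
  have h8 : 8 ∣ Nat.card ↥(Subgroup.normalizer ((P : Subgroup G) : Set G) ⊓ X) := by
    have h := Subgroup.card_dvd_of_le (le_inf hTN hTX)
    rwa [hT] at h
  have h152 : 152 ∣ Nat.card ↥(Subgroup.normalizer ((P : Subgroup G) : Set G) ⊓ X) := by
    have hc : Nat.Coprime 19 8 := by norm_num
    have := hc.mul_dvd_of_dvd_of_dvd h19 h8
    simpa using this
  obtain ⟨k, hk⟩ := h152
  have hXG : Nat.card X ∣ 459648 := by rw [← hG]; exact Subgroup.card_subgroup_dvd_card X
  have hsk : Nat.card {Q : Sylow 19 G // (Q : Subgroup G) ≤ X} * k ∣ 3024 := by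
    rw [hcard, hk] at hXG
    have h2 : 152 * (Nat.card {Q : Sylow 19 G // (Q : Subgroup G) ≤ X} * k) ∣ 152 * 3024 := by
      have e1 : Nat.card {Q : Sylow 19 G // (Q : Subgroup G) ≤ X} * (152 * k) =
          152 * (Nat.card {Q : Sylow 19 G // (Q : Subgroup G) ≤ X} * k) := by ring
      rw [e1] at hXG
      exact hXG
    exact Nat.dvd_of_mul_dvd_mul_left (by norm_num) h2
  have hs3024 : Nat.card {Q : Sylow 19 G // (Q : Subgroup G) ≤ X} ∣ 3024 :=
    Dvd.dvd.trans (Dvd.intro _ rfl) hsk
  rcases divisors_aux2 _ (Nat.mem_divisors.2 ⟨hs3024, by norm_num⟩) hmod with h1 | h1008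
  · -- one Sylow 19-subgroup inside `X`
    intro x hx
    have hsub : Subsingleton {Q : Sylow 19 G // (Q : Subgroup G) ≤ X} :=
      (Nat.card_eq_one_iff_unique.1 h1).1
    have hxP : ((x • P : Sylow 19 G) : Subgroup G) ≤ X := by
      intro g hg
      rw [Cfsg.Agent.S1017.mem_smul_sylow_iff] at hg
      have h1 : x⁻¹ * g * x ∈ X := hPX hg
      have h2 : x * (x⁻¹ * g * x) * x⁻¹ ∈ X := X.mul_mem (X.mul_mem hx h1) (X.inv_mem hx)
      have e : x * (x⁻¹ * g * x) * x⁻¹ = g := by group
      rwa [e] at h2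
    have heq : (⟨x • P, hxP⟩ : {Q : Sylow 19 G // (Q : Subgroup G) ≤ X}) = ⟨P, hPX⟩ :=
      Subsingleton.elim _ _
    have heq' : x • P = P := congrArg Subtype.val heq
    exact Sylow.smul_eq_iff_mem_normalizer.1 heq'
  · -- all Sylow 19-subgroups inside `X`: index at most `3`
    exfalso
    have hidx := X.index_mul_card
    rw [hcard, h1008, hk, hG] at hidx
    have hik : 153216 * (X.index * k) = 153216 * 3 := by nlinarith [hidx]
    have hik' : X.index * k = 3 := Nat.eq_of_mul_eq_mul_left (by norm_num) hik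
    have hdvd : X.index ∣ 3 := Dvd.intro _ hik'
    have hle : X.index ≤ 3 := Nat.le_of_dvd (by norm_num) hdvd
    have hfac := two_mul_card_dvd_factorial (not_comm hG) X hX
    rw [hG] at hfac
    have h0 : X.index ≠ 0 := Subgroup.index_ne_zero_of_finite
    have h1 : X.index ≠ 1 := fun h => hX (Subgroup.index_eq_one.1 h)
    interval_cases h : X.index
    · exact h0 rfl
    · exact h1 rfl
    · norm_num [Nat.factorial] at hfac
    · norm_num [Nat.factorial] at hfac

end Cfsg.Agent.Helper8.O459648
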