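import Mathlib
import Cfsg.Agent.Lib.Helper8.O459648B

/-!
# No simple group of order 459648 (S1022), part C: the case `n_19 = 1008`.
-/

set_option autoImplicit false

namespace Cfsg.Agent.Helper8.O459648

open Cfsg.Agent.Helper17

universe u

variable {G : Type u} [Group G] [Finite G]

/-- an element of a `2`-subgroup `S` normalizing a proper subgroup `T`, outside `T`, with square in `T` -/
theorem exists_normalizing (S T : Subgroup G) (hS : Nat.card S = 128) (hT : Nat.card T = 8)
    (hTS : T ≤ S) :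
    ∃ x : G, x ∈ S ∧ x ∉ T ∧ x * x ∈ T ∧ (∀ t ∈ T, x * t * x⁻¹ ∈ T) ∧ (∀ t ∈ T, x⁻¹ * t * x ∈ T) := by
  classical
  have hSp : IsPGroup 2 ↥S := IsPGroup.of_card (n := 7) (by rw [hS]; norm_num)
  have hTlt : T.subgroupOf S < ⊤ := by
    rw [lt_top_iff_ne_top]
    intro h
    have h1 : S ≤ T := Subgroup.subgroupOf_eq_top.1 h
    have h2 := Subgroup.card_le_of_le h1
    rw [hS, hT] at h2
    omega
  have hnil : Group.IsNilpotent ↥S := hSp.isNilpotent
  have hnorm := Group.normalizerCondition_of_isNilpotent (G := ↥S) _ hTlt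
  obtain ⟨y', hy'N, hy'T⟩ := SetLike.exists_of_lt hnorm
  -- the subgroup of elements of `S` normalizing `T`
  let M : Subgroup G := Subgroup.normalizer (T : Set G) ⊓ S
  have hyS : (y' : G) ∈ S := y'.2
  have hyT : (y' : G) ∉ T := fun h => hy'T (Subgroup.mem_subgroupOf.2 h)
  have hyM : (y' : G) ∈ M := by
    refine ⟨?_, hyS⟩
    show (y' : G) ∈ Subgroup.normalizer (T : Set G)
    rw [Subgroup.mem_normalizer_iff]
    intro g
    rw [Subgroup.mem_normalizer_iff] at hy'N
    constructor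
    · intro hg
      have := (hy'N ⟨g, hTS hg⟩).1 (Subgroup.mem_subgroupOf.2 hg)
      exact Subgroup.mem_subgroupOf.1 this
    · intro hg
      have hgS : g ∈ S := by
        have h1 : (y' : G) * g * (y' : G)⁻¹ ∈ S := hTS hg
        have h2 : (y' : G)⁻¹ * ((y' : G) * g * (y' : G)⁻¹) * (y' : G) ∈ S :=
          S.mul_mem (S.mul_mem (S.inv_mem hyS) h1) hyS
        have e : (y' : G)⁻¹ * ((y' : G) * g * (y' : G)⁻¹) * (y' : G) = g := by group
        rwa [e] at h2
      have := (hy'N ⟨g, hgS⟩).2 (Subgroup.mem_subgroupOf.2 hg)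
      exact Subgroup.mem_subgroupOf.1 this
  -- minimal power of two
  have h7 : ∃ k : ℕ, (y' : G) ^ (2 ^ k) ∈ T := by
    refine ⟨7, ?_⟩
    have h1 : y' ^ Nat.card ↥S = 1 := pow_card_eq_one'
    rw [hS] at h1
    have h2 : (y' : G) ^ 128 = 1 := by
      have := congrArg (Subtype.val) h1
      simpa using this
    have e : (2 : ℕ) ^ 7 = 128 := by norm_num
    rw [e, h2]
    exact T.one_mem
  have hk0 : Nat.find h7 ≠ 0 := by
    intro h0
    have := Nat.find_spec h7
    rw [h0] at this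
    simp at this
    exact hyT this
  obtain ⟨j, hj⟩ : ∃ j, Nat.find h7 = j + 1 := Nat.exists_eq_succ_of_ne_zero hk0
  refine ⟨(y' : G) ^ (2 ^ j), ?_, ?_, ?_, ?_, ?_⟩
  · exact S.pow_mem hyS _
  · exact Nat.find_min h7 (by omega)
  · have := Nat.find_spec h7
    rw [hj, pow_succ, pow_mul, pow_two] at this
    exact this
  · have hxM : (y' : G) ^ (2 ^ j) ∈ M := M.pow_mem hyM _
    have hxN : (y' : G) ^ (2 ^ j) ∈ Subgroup.normalizer (T : Set G) := hxM.1
    rw [Subgroup.mem_normalizer_iff] at hxN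
    intro t ht
    exact (hxN t).1 ht
  · have hxM : (y' : G) ^ (2 ^ j) ∈ M := M.pow_mem hyM _
    have hxN : (y' : G) ^ (2 ^ j) ∈ Subgroup.normalizer (T : Set G) := hxM.1
    rw [Subgroup.mem_normalizer_iff''] at hxN
    intro t ht
    exact (hxN t).1 ht

end Cfsg.Agent.Helper8.O459648
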