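import Mathlib
import Cfsg.Agent.Lib.Helper8.O459648C

/-!
# No simple group of order 459648 (S1022), part D: the case `n_19 = 1008` and the result.
-/

set_option autoImplicit false

namespace Cfsg.Agent.Helper8.O459648

open Cfsg.Agent.Helper17

universe u

variable {G : Type u} [Group G] [Finite G]

omit [Finite G] in
theorem relIndex_mul_card' (H K : Subgroup G) (h : H ≤ K) :
    H.relIndex K * Nat.card H = Nat.card K := by
  have h1 := (H.subgroupOf K).card_mul_index
  rw [Nat.card_congr (Subgroup.subgroupOfEquivOfLe h).toEquiv] at h1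
  rw [Subgroup.relIndex, ← h1]
  ring

/-- case (B): `n_19 = 1008` -/
theorem false_of_thousandeight [IsSimpleGroup G] (hG : Nat.card G = 459648)
    (h1008 : Nat.card (Sylow 19 G) = 1008) : False := by
  classical
  obtain ⟨P⟩ : Nonempty (Sylow 19 G) := inferInstance
  have hP := card_sylow19 hG P
  have hN : Nat.card ↥(Subgroup.normalizer ((P : Subgroup G) : Set G)) = 456 := by
    have := card_normalizer_mul_sylow_count P
    rw [h1008, hG] at this
    omega
  have hCN : Subgroup.centralizer ((P : Subgroup G) : Set G) ≤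
      Subgroup.normalizer ((P : Subgroup G) : Set G) := Subgroup.centralizer_le_normalizer _
  obtain ⟨e, he, -, heq⟩ := exists_e P hP (by rw [hG]; norm_num)
  rw [hN] at heq
  have h4C : 2 ^ 2 ∣ Nat.card ↥(Subgroup.centralizer ((P : Subgroup G) : Set G)) := by
    have he6 : e ∣ 6 := by
      have h1 : e ∣ 456 := Dvd.intro_left _ heq
      have h2 := Nat.dvd_gcd he h1
      norm_num at h2
      exact h2
    have hle : e ≤ 6 := Nat.le_of_dvd (by norm_num) he6
    interval_cases e <;> omega
  obtain ⟨Y0, hY0C, hY0⟩ := exists_subgroup_le_card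
    (Subgroup.centralizer ((P : Subgroup G) : Set G)) 2 2 h4C
  have hY0N : Y0 ≤ Subgroup.normalizer ((P : Subgroup G) : Set G) := hY0C.trans hCN
  have hY0p : IsPGroup 2 ↥(Y0.subgroupOf (Subgroup.normalizer ((P : Subgroup G) : Set G))) := by
    apply IsPGroup.of_card (n := 2)
    rw [Nat.card_congr (Subgroup.subgroupOfEquivOfLe hY0N).toEquiv, hY0]
  obtain ⟨Q, hQ⟩ := hY0p.exists_le_sylow
  obtain ⟨T, hTdef⟩ : ∃ T : Subgroup G, T = (Q : Subgroup
      ↥(Subgroup.normalizer ((P : Subgroup G) : Set G))).map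
      (Subgroup.normalizer ((P : Subgroup G) : Set G)).subtype := ⟨_, rfl⟩
  have hT : Nat.card T = 8 := by
    rw [hTdef, Subgroup.card_map_of_injective (Subgroup.subtype_injective _)]
    have := sylow_card_eq Q (k := 3) (m := 57) (by rw [hN]; norm_num) (by norm_num)
    simpa using this
  have hTN : T ≤ Subgroup.normalizer ((P : Subgroup G) : Set G) := by
    rw [hTdef]; exact Subgroup.map_subtype_le _
  have hY0T : Y0 ≤ T := by
    intro y hy
    rw [hTdef]
    exact ⟨⟨y, hY0N hy⟩, hQ (Subgroup.mem_subgroupOf.2 hy), rfl⟩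
  have hTp : IsPGroup 2 ↥T := IsPGroup.of_card (n := 3) (by rw [hT]; norm_num)
  obtain ⟨S, hTS⟩ := hTp.exists_le_sylow
  have hS : Nat.card (S : Subgroup G) = 128 := by
    have := sylow_card_eq S (k := 7) (m := 3591) (by rw [hG]; norm_num) (by norm_num)
    simpa using this
  -- `N ⊓ S = T`
  have hNS : Subgroup.normalizer ((P : Subgroup G) : Set G) ⊓ (S : Subgroup G) = T := by
    symm
    apply Subgroup.eq_of_le_of_card_ge (le_inf hTN hTS)
    have d1 : Nat.card ↥(Subgroup.normalizer ((P : Subgroup G) : Set G) ⊓ (S : Subgroup G)) ∣ 456 := by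
      rw [← hN]; exact Subgroup.card_dvd_of_le inf_le_left
    have d2 : Nat.card ↥(Subgroup.normalizer ((P : Subgroup G) : Set G) ⊓ (S : Subgroup G)) ∣ 128 := by
      rw [← hS]; exact Subgroup.card_dvd_of_le inf_le_right
    have d3 := Nat.dvd_gcd d1 d2
    have d4 : Nat.card ↥(Subgroup.normalizer ((P : Subgroup G) : Set G) ⊓ (S : Subgroup G)) ∣ 8 := by
      norm_num at d3; exact d3
    rw [hT]
    exact Nat.le_of_dvd (by norm_num) d4
  -- the key tool, specialised
  have key : ∀ X : Subgroup G, (P : Subgroup G) ≤ X → T ≤ X → X ≠ ⊤ →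
      X ≤ Subgroup.normalizer ((P : Subgroup G) : Set G) :=
    fun X h1 h2 h3 => key_tool hG P T hT hTN X h1 h2 h3
  obtain ⟨x, hxS, hxT, hxx, hx1, hx2⟩ := exists_normalizing (S : Subgroup G) T hS hT hTS
  -- `Y = T ⊓ C`
  obtain ⟨Y, hYdef⟩ : ∃ Y : Subgroup G,
      Y = T ⊓ Subgroup.centralizer ((P : Subgroup G) : Set G) := ⟨_, rfl⟩
  have hYT : Y ≤ T := by rw [hYdef]; exact inf_le_left
  have hYC : Y ≤ Subgroup.centralizer ((P : Subgroup G) : Set G) := by rw [hYdef]; exact inf_le_right
  have hY0Y : Y0 ≤ Y := by rw [hYdef]; exact le_inf hY0T hY0C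
  have hY4 : 4 ∣ Nat.card Y := by
    have := Subgroup.card_dvd_of_le hY0Y
    rw [hY0] at this
    simpa using this
  have hY8 : Nat.card Y ∣ 8 := by
    rw [← hT]; exact Subgroup.card_dvd_of_le hYT
  -- `C` is normalized by `N`, so `Y` is normal in `T`
  have hCnorm : ∀ n ∈ Subgroup.normalizer ((P : Subgroup G) : Set G),
      ∀ c ∈ Subgroup.centralizer ((P : Subgroup G) : Set G),
      n * c * n⁻¹ ∈ Subgroup.centralizer ((P : Subgroup G) : Set G) := by
    intro n hn c hc
    rw [Subgroup.mem_centralizer_iff] at hc ⊢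
    intro p hp
    have hp' : n⁻¹ * p * n ∈ ((P : Subgroup G) : Set G) := by
      have := (Subgroup.mem_normalizer_iff''.1 hn p).1 hp
      exact this
    have h1 := hc _ hp'
    calc p * (n * c * n⁻¹) = n * ((n⁻¹ * p * n) * c) * n⁻¹ := by group
      _ = n * (c * (n⁻¹ * p * n)) * n⁻¹ := by rw [h1]
      _ = n * c * n⁻¹ * p := by group
  have hYnorm : ∀ t ∈ T, ∀ y ∈ Y, t * y * t⁻¹ ∈ Y := by
    intro t ht y hy
    rw [hYdef] at hy ⊢
    exact ⟨T.mul_mem (T.mul_mem ht hy.1) (T.inv_mem ht), hCnorm t (hTN ht) y hy.2⟩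
  -- `Y` is not normal in `G`
  have hY1 : Nat.card Y ≠ 1 := by
    intro h; rw [h] at hY4; omega
  have hYG : Nat.card Y ≠ Nat.card G := by
    intro h
    rw [h, hG] at hY8
    omega
  -- `N_S(Y) ≤ T`
  have hNY : ∀ g ∈ (S : Subgroup G), (∀ y ∈ Y, g * y * g⁻¹ ∈ Y) → g ∈ T := by
    intro g hgS hg
    have hgN : g ∈ Subgroup.normalizer (Y : Set G) := by
      rw [Subgroup.mem_normalizer_iff]
      intro y
      constructor
      · exact hg y
      · intro hy
        -- conjugation by `g` is injective from the finite set `Y` to itself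
        have hinj : Function.Injective (fun y : Y => (⟨g * y * g⁻¹, hg y y.2⟩ : Y)) := by
          intro a b hab
          have := congrArg Subtype.val hab
          simp only [mul_left_inj, mul_right_inj] at this
          exact Subtype.ext this
        have hsurj := Finite.surjective_of_injective hinj
        obtain ⟨a, ha⟩ := hsurj ⟨g * y * g⁻¹, hy⟩
        have := congrArg Subtype.val ha
        simp only [mul_left_inj, mul_right_inj] at this
        rw [← this]
        exact a.2
    have hX : Subgroup.normalizer (Y : Set G) ≠ ⊤ := by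
      intro htop
      have hn : Y.Normal := Subgroup.normalizer_eq_top_iff.1 htop
      exact normal_card_absurd Y hn hY1 hYG
    have hPX : (P : Subgroup G) ≤ Subgroup.normalizer (Y : Set G) := by
      intro p hp
      rw [Subgroup.mem_normalizer_iff]
      intro y
      have hcomm : ∀ y ∈ Y, p * y * p⁻¹ = y := by
        intro y hy
        have := (Subgroup.mem_centralizer_iff.1 (hYC hy)) p hp
        rw [this]; group
      constructor
      · intro hy
        rw [hcomm y hy]; exact hy
      · intro hy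
        have h1 := hcomm _ hy
        have e : p * (p * y * p⁻¹) * p⁻¹ = p * y * p⁻¹ := h1
        have e2 : p * y * p⁻¹ = y := mul_left_cancel (mul_right_cancel e)
        rw [← e2]; exact hy
    have hTX : T ≤ Subgroup.normalizer (Y : Set G) := by
      intro t ht
      rw [Subgroup.mem_normalizer_iff]
      intro y
      constructor
      · exact hYnorm t ht y
      · intro hy
        have := hYnorm t⁻¹ (T.inv_mem ht) _ hy
        have e : t⁻¹ * (t * y * t⁻¹) * t⁻¹⁻¹ = y := by group
        rwa [e] at this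
    have := key _ hPX hTX hX hgN
    rw [← hNS]
    exact ⟨this, hgS⟩
  -- the conjugate `Y' = x Y x⁻¹`
  by_cases hxY : ∀ y ∈ Y, x * y * x⁻¹ ∈ Y
  · exact hxT (hNY x hxS hxY)
  · push Not at hxY
    obtain ⟨y1, hy1, hy1'⟩ := hxY
    -- `|Y| = 4`
    have hYle : Nat.card Y ≤ 8 := Nat.le_of_dvd (by norm_num) hY8
    have hYc : Nat.card Y = 4 := by
      rcases Nat.lt_or_ge (Nat.card Y) 8 with hlt | hge
      · obtain ⟨c, hc⟩ := hY4
        obtain ⟨d, hd⟩ := hY8
        have hc0 : c ≠ 0 := by
          rintro rfl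
          rw [hc] at hY1
          have hpos : 0 < Nat.card Y := Nat.card_pos
          omega
        have : c < 2 := by omega
        have : c = 1 := by omega
        rw [hc, this]
      · exfalso
        have hYeq : Y = T := Subgroup.eq_of_le_of_card_ge hYT (by rw [hT]; exact hge)
        apply hy1'
        rw [hYeq] at hy1 ⊢
        exact hx1 y1 hy1
    -- the conjugate
    obtain ⟨Y', hY'def⟩ : ∃ Y' : Subgroup G, Y' = Y.map (MulAut.conj x).toMonoidHom := ⟨_, rfl⟩
    have hmemY' : ∀ g, g ∈ Y' ↔ ∃ y ∈ Y, x * y * x⁻¹ = g := by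
      intro g
      rw [hY'def, Subgroup.mem_map]
      simp [MulAut.conj_apply]
    have hY'c : Nat.card Y' = 4 := by
      rw [hY'def, Subgroup.card_map_of_injective (MulAut.conj x).injective, hYc]
    have hY'T : Y' ≤ T := by
      intro g hg
      obtain ⟨y, hy, rfl⟩ := (hmemY' g).1 hg
      exact hx1 y (hYT hy)
    have hY'norm : ∀ t ∈ T, ∀ g ∈ Y', t * g * t⁻¹ ∈ Y' := by
      intro t ht g hg
      obtain ⟨y, hy, rfl⟩ := (hmemY' g).1 hg
      refine (hmemY' _).2 ⟨(x⁻¹ * t * x) * y * (x⁻¹ * t * x)⁻¹, hYnorm _ (hx2 t ht) y hy, ?_⟩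
      group
    -- `D = Y ⊓ Y'`
    have hDT : Y ⊓ Y' ≤ T := inf_le_left.trans hYT
    have hDcard : Nat.card ↥(Y ⊓ Y') = 2 := by
      have hle := Subgroup.relIndex_inf_le (H := Y) (K := Y') (L := T)
      have h1 := relIndex_mul_card' Y T hYT
      have h2 := relIndex_mul_card' Y' T hY'T
      have h3 := relIndex_mul_card' (Y ⊓ Y') T hDT
      rw [hYc, hT] at h1
      rw [hY'c, hT] at h2
      rw [hT] at h3
      have r1 : Y.relIndex T = 2 := by omega
      have r2 : Y'.relIndex T = 2 := by omega
      rw [r1, r2] at hle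
      have hd4 : Nat.card ↥(Y ⊓ Y') ∣ 4 := by
        rw [← hYc]; exact Subgroup.card_dvd_of_le inf_le_left
      have hd4le : Nat.card ↥(Y ⊓ Y') ≤ 4 := Nat.le_of_dvd (by norm_num) hd4
      have hne4 : Nat.card ↥(Y ⊓ Y') ≠ 4 := by
        intro h4
        have hDY : Y ⊓ Y' = Y := Subgroup.eq_of_le_of_card_ge inf_le_left (by rw [h4, hYc])
        have hDY' : Y ⊓ Y' = Y' := Subgroup.eq_of_le_of_card_ge inf_le_right (by rw [h4, hY'c])
        apply hy1'
        have : x * y1 * x⁻¹ ∈ Y' := (hmemY' _).2 ⟨y1, hy1, rfl⟩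
        rw [← hDY', hDY] at this
        exact this
      have hpos : 0 < Nat.card ↥(Y ⊓ Y') := Nat.card_pos
      have hge2 : 2 ≤ Nat.card ↥(Y ⊓ Y') := by nlinarith
      interval_cases hcd : Nat.card ↥(Y ⊓ Y')
      · rfl
      · omega
      · exact absurd rfl hne4
    obtain ⟨z', hz'1, hz'uniq⟩ := (Nat.card_eq_two_iff' (1 : ↥(Y ⊓ Y'))).1 hDcard
    have hzD : (z' : G) ∈ Y ⊓ Y' := z'.2
    have hz1 : (z' : G) ≠ 1 := fun h => hz'1 (Subtype.ext h)
    have hzuniq : ∀ w ∈ Y ⊓ Y', w ≠ 1 → w = (z' : G) := by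
      intro w hw hw1
      have := hz'uniq ⟨w, hw⟩ (fun h => hw1 (congrArg Subtype.val h))
      exact congrArg Subtype.val this
    have hconj_ne : ∀ g : G, g * (z' : G) * g⁻¹ ≠ 1 := by
      intro g h
      apply hz1
      have e : (z' : G) = g⁻¹ * (g * (z' : G) * g⁻¹) * g := by group
      rw [e, h]
      group
    -- `T` centralizes `z`
    have hTz : ∀ t ∈ T, t * (z' : G) * t⁻¹ = (z' : G) := by
      intro t ht
      apply hzuniq _ ⟨hYnorm t ht _ hzD.1, hY'norm t ht _ hzD.2⟩ (hconj_ne t)
    -- `x` centralizes `z`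
    have hxz : x * (z' : G) * x⁻¹ = (z' : G) := by
      apply hzuniq _ ⟨?_, ?_⟩ (hconj_ne x)
      · obtain ⟨y, hy, hyz⟩ := (hmemY' _).1 hzD.2
        rw [← hyz]
        have := hYnorm (x * x) hxx y hy
        have e : x * x * y * (x * x)⁻¹ = x * (x * y * x⁻¹) * x⁻¹ := by group
        rwa [e] at this
      · exact (hmemY' _).2 ⟨_, hzD.1, rfl⟩
    -- the centralizer of `z`
    have hX : Subgroup.centralizer ({(z' : G)} : Set G) ≠ ⊤ := by
      intro htop
      have hzc : (z' : G) ∈ Subgroup.center G := by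
        rw [Subgroup.mem_center_iff]
        intro g
        have hg : g ∈ Subgroup.centralizer ({(z' : G)} : Set G) := by rw [htop]; trivial
        rw [Subgroup.mem_centralizer_iff] at hg
        exact (hg _ rfl).symm
      have hcn : (Subgroup.center G).Normal := inferInstance
      rcases hcn.eq_bot_or_eq_top with hb | ht
      · rw [hb, Subgroup.mem_bot] at hzc
        exact hz1 hzc
      · apply not_comm hG
        refine ⟨⟨fun a b => ?_⟩⟩
        have ha : a ∈ Subgroup.center G := by rw [ht]; trivial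
        rw [Subgroup.mem_center_iff] at ha
        exact (ha b).symm
    have hPX : (P : Subgroup G) ≤ Subgroup.centralizer ({(z' : G)} : Set G) := by
      intro p hp
      rw [Subgroup.mem_centralizer_iff]
      intro h hh
      rw [Set.mem_singleton_iff] at hh
      rw [hh]
      exact ((Subgroup.mem_centralizer_iff.1 (hYC hzD.1)) p hp).symm
    have hTX : T ≤ Subgroup.centralizer ({(z' : G)} : Set G) := by
      intro t ht
      rw [Subgroup.mem_centralizer_iff]
      intro h hh
      rw [Set.mem_singleton_iff] at hh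
      rw [hh]
      have := hTz t ht
      calc (z' : G) * t = (t * (z' : G) * t⁻¹) * t := by rw [this]
        _ = t * (z' : G) := by group
    have hxX : x ∈ Subgroup.centralizer ({(z' : G)} : Set G) := by
      rw [Subgroup.mem_centralizer_iff]
      intro h hh
      rw [Set.mem_singleton_iff] at hh
      rw [hh]
      calc (z' : G) * x = (x * (z' : G) * x⁻¹) * x := by rw [hxz]
        _ = x * (z' : G) := by group
    have hxN := key _ hPX hTX hX hxX
    apply hxT
    rw [← hNS]
    exact ⟨hxN, hxS⟩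

/-- no simple group of order `459648 = 2^7 * 3^3 * 7 * 19` -/
theorem no_459648 [IsSimpleGroup G] : Nat.card G ≠ 459648 := by
  intro hG
  rcases n19_cases hG with h | h
  · exact false_of_ninetysix hG h
  · exact false_of_thousandeight hG h

end Cfsg.Agent.Helper8.O459648
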