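import Mathlib
import Cfsg.Prelude.Def_FusionSystem
import Cfsg.Agent.Lib.Helper87.Om7Defs
import Cfsg.Agent.Lib.Helper43.SpinorSum
import Cfsg.Agent.Lib.Helper8.Om7API2a

/-!
# OM7 (API2b) for helper87's server (S2647): membership in `Ω` via the spinor norm criterion
-/

set_option autoImplicit false

namespace Cfsg.Agent.Helper8.Om7

open Matrix QuadraticMap Cfsg.Agent.Helper36.QuadInv Cfsg.Agent.Helper36.OmegaTrans
  Cfsg.Agent.Helper43 Cfsg.Agent.Helper87.Om7

variable {F : Type*} [Field F] [Fintype F] [DecidableEq F] {ι : Type} [Fintype ι] [DecidableEq ι]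
variable {Q : QuadraticForm F (ι → F)} {c : F} {f : Fin 7 → ι → F}

/-- matrix of a product of two reflections -/
theorem h8_coe_refl_mul {u v : ι → F} (hu : Q u ≠ 0) (hv : Q v ≠ 0) :
    (((reflIso' Q u * reflIso' Q v : OG F ⇑Q) : GL ι F) : Matrix ι ι F) =
      ([u, v].map (fun v => Cfsg.reflectionMatrix (⇑Q) v)).prod := by
  rw [Subgroup.coe_mul, Units.val_mul, reflIso'_coe Q hu, reflIso'_coe Q hv]
  simp

/-- spinor criterion for a product of two reflections -/
theorem h8_refl_mul_mem_iff (h2 : (2 : F) ≠ 0) (hQ : (polarBilin Q).Nondegenerate)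
    {u v : ι → F} (hu : Q u ≠ 0) (hv : Q v ≠ 0) :
    reflIso' Q u * reflIso' Q v ∈ Cfsg.Omega F ⇑Q ↔ IsSquare (Q u * Q v) := by
  have h := mem_Omega_iff_of_list_all Q h2 hQ (reflIso' Q u * reflIso' Q v) [u, v]
    (by
      intro w hw
      simp only [List.mem_cons, List.not_mem_nil, or_false] at hw
      rcases hw with rfl | rfl
      · exact hu
      · exact hv)
    (h8_coe_refl_mul hu hv)
  rw [h]
  simp

theorem D_mem_Omega (hF : Frame Q c f) {i j : Fin 7} (hij : i ≠ j) :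
    D Q f i j ∈ Cfsg.Omega F ⇑Q := by
  unfold D
  rw [h8_refl_mul_mem_iff hF.two hF.nd (h8_Q_ne hF i) (h8_Q_ne hF j), hF.norm, hF.norm]
  exact ⟨c, rfl⟩

theorem W_mem_Omega (hF : Frame Q c f) {a b p q : Fin 7} (hab : a ≠ b) (hpq : p ≠ q) :
    W Q f a b p q ∈ Cfsg.Omega F ⇑Q := by
  unfold W
  rw [h8_refl_mul_mem_iff hF.two hF.nd (h8_Q_sub_ne hF hab) (h8_Q_sub_ne hF hpq),
    h8_Q_sub hF hab, h8_Q_sub hF hpq]
  exact ⟨2 * c, rfl⟩

/-- `Ω ≤ SO` (commutators have determinant `1`) -/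
theorem det_eq_one_of_mem_Omega {x : OG F ⇑Q} (hx : x ∈ Cfsg.Omega F ⇑Q) :
    ((x : GL ι F) : Matrix ι ι F).det = 1 := by
  have hmem : x ∈ commutator ↥(Cfsg.isometryGroup F ⇑Q) := hx
  have h1 := Abelianization.commutator_subset_ker
    (Matrix.GeneralLinearGroup.det.comp (Subgroup.subtype (Cfsg.isometryGroup F ⇑Q))) hmem
  rw [MonoidHom.mem_ker] at h1
  have h3 := congrArg (fun u : Fˣ => (u : F)) h1
  exact h3

/-- a single reflection is not in `Ω` -/
theorem refl_not_mem_Omega (hF : Frame Q c f) (i : Fin 7) :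
    reflIso' Q (f i) ∉ Cfsg.Omega F ⇑Q := by
  have h := mem_Omega_iff_of_list_all Q hF.two hF.nd (reflIso' Q (f i)) [f i]
    (by
      intro w hw
      simp only [List.mem_cons, List.not_mem_nil, or_false] at hw
      subst hw
      exact h8_Q_ne hF i)
    (by rw [reflIso'_coe Q (h8_Q_ne hF i)]; simp)
  rw [h]
  simp

/-- THE place where `q ≡ ±3 (mod 8)` enters: spinor norm `2 c²` -/
theorem R_not_mem_Omega (hF : Frame Q c f) (h2 : ¬ IsSquare (2 : F)) :
    reflIso' Q (f 4 - f 5) * reflIso' Q (f 6) ∉ Cfsg.Omega F ⇑Q := by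
  have h45 : (4 : Fin 7) ≠ 5 := by decide
  rw [h8_refl_mul_mem_iff hF.two hF.nd (h8_Q_sub_ne hF h45) (h8_Q_ne hF 6), h8_Q_sub hF h45,
    hF.norm]
  rintro ⟨s, hs⟩
  apply h2
  refine ⟨s / c, ?_⟩
  have hc := hF.c0
  field_simp
  linear_combination hs

end Cfsg.Agent.Helper8.Om7
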