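import Cfsg.Agent.Lib.Helper8.HSGraphIso
import Cfsg.Agent.Lib.Helper8.Ext23

set_option autoImplicit false
set_option linter.unusedSectionVars false
set_option linter.unusedVariables false

/-! Isomorphic set systems have isomorphic point-block graphs. -/

namespace Cfsg.Agent.Helper8

open Cfsg Finset

variable {α β : Type*} [Fintype α] [DecidableEq α] [Fintype β] [DecidableEq β]

/-- The bijection between the blocks of two isomorphic set systems. -/
def blockCongr (e : α ≃ β) {B : Set (Finset α)} {B' : Set (Finset β)}
    (he : (fun b : Finset α => b.image e) '' B = B') : B ≃ B' where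
  toFun b := ⟨b.1.image e, iso_mem e he b.2⟩
  invFun b' := ⟨b'.1.image e.symm, iso_mem e.symm (iso_symm e he) b'.2⟩
  left_inv b := by
    apply Subtype.ext
    show (b.1.image e).image e.symm = b.1
    rw [image_image]
    simp
  right_inv b' := by
    apply Subtype.ext
    show (b'.1.image e.symm).image e = b'.1
    rw [image_image]
    simp

/-- The vertex bijection between the point-block graphs. -/
def pbgEquiv (e : α ≃ β) {B : Set (Finset α)} {B' : Set (Finset β)}
    (he : (fun b : Finset α => b.image e) '' B = B') : Option (α ⊕ B) ≃ Option (β ⊕ B') :=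
  Equiv.optionCongr (Equiv.sumCongr e (blockCongr e he))

theorem pbgEquiv_adj (e : α ≃ β) {B : Set (Finset α)} {B' : Set (Finset β)}
    (he : (fun b : Finset α => b.image e) '' B = B') (x y : Option (α ⊕ B)) :
    (pointBlockGraph B').Adj (pbgEquiv e he x) (pbgEquiv e he y) ↔ (pointBlockGraph B).Adj x y := by
  have key : ∀ x y : Option (α ⊕ B),
      ((pointBlockGraph B').Adj (pbgEquiv e he x) (pbgEquiv e he y) ↔ (pointBlockGraph B).Adj x y) ∨
      ((pointBlockGraph B').Adj (pbgEquiv e he y) (pbgEquiv e he x) ↔ (pointBlockGraph B).Adj y x) := by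
    intro x y
    rcases x with _ | (p | b) <;> rcases y with _ | (q | c)
    · left
      exact ⟨fun h => absurd h (SimpleGraph.irrefl _), fun h => absurd h (SimpleGraph.irrefl _)⟩
    · left
      exact ⟨fun _ => pbg_adj_none_pt _ _, fun _ => pbg_adj_none_pt _ _⟩
    · left
      exact ⟨fun h => absurd h (pbg_not_adj_none_blk _ _), fun h => absurd h (pbg_not_adj_none_blk _ _)⟩
    · right
      exact ⟨fun _ => pbg_adj_none_pt _ _, fun _ => pbg_adj_none_pt _ _⟩
    · left
      exact ⟨fun h => absurd h (pbg_not_adj_pt_pt _ _ _), fun h => absurd h (pbg_not_adj_pt_pt _ _ _)⟩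
    · left
      show (pointBlockGraph B').Adj (some (Sum.inl (e p))) (some (Sum.inr (blockCongr e he c))) ↔ _
      rw [pbg_adj_pt_blk, pbg_adj_pt_blk]
      show e p ∈ c.1.image e ↔ p ∈ c.1
      exact e.injective.mem_finset_image
    · right
      exact ⟨fun h => absurd h (pbg_not_adj_none_blk _ _), fun h => absurd h (pbg_not_adj_none_blk _ _)⟩
    · right
      show (pointBlockGraph B').Adj (some (Sum.inl (e q))) (some (Sum.inr (blockCongr e he b))) ↔ _
      rw [pbg_adj_pt_blk, pbg_adj_pt_blk]
      show e q ∈ b.1.image e ↔ q ∈ b.1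
      exact e.injective.mem_finset_image
    · left
      show (pointBlockGraph B').Adj (some (Sum.inr (blockCongr e he b)))
        (some (Sum.inr (blockCongr e he c))) ↔ _
      rw [pbg_adj_blk_blk, pbg_adj_blk_blk]
      have h1 : blockCongr e he b ≠ blockCongr e he c ↔ b ≠ c :=
        (blockCongr e he).injective.ne_iff
      have h2 : Disjoint ((blockCongr e he b : B') : Finset β) ((blockCongr e he c : B') : Finset β) ↔
          Disjoint (b : Finset α) (c : Finset α) := by
        show Disjoint (b.1.image e) (c.1.image e) ↔ _
        exact Finset.disjoint_image e.injective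
      rw [h1, h2]
  rcases key x y with h | h
  · exact h
  · rw [SimpleGraph.adj_comm, h, SimpleGraph.adj_comm]

/-- Isomorphic set systems have isomorphic point-block graphs. -/
def pbgCongr (e : α ≃ β) {B : Set (Finset α)} {B' : Set (Finset β)}
    (he : (fun b : Finset α => b.image e) '' B = B') : pointBlockGraph B ≃g pointBlockGraph B' where
  toEquiv := pbgEquiv e he
  map_rel_iff' := by
    intro x y
    exact pbgEquiv_adj e he x y

theorem pbgCongr_none (e : α ≃ β) {B : Set (Finset α)} {B' : Set (Finset β)}
    (he : (fun b : Finset α => b.image e) '' B = B') : pbgCongr e he none = none := rfl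

theorem pbgCongr_pt (e : α ≃ β) {B : Set (Finset α)} {B' : Set (Finset β)}
    (he : (fun b : Finset α => b.image e) '' B = B') (p : α) :
    pbgCongr e he (some (Sum.inl p)) = some (Sum.inl (e p)) := rfl

end Cfsg.Agent.Helper8
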