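import Cfsg.Agent.Lib.Helper8.F4Pack

set_option autoImplicit false

/-! Tables packed into trees of big numbers, kernel-friendly loops, and a distinctness check. -/

namespace Cfsg.Agent.Helper8.F4P

/-- A binary tree of chunks. -/
inductive DT where
  | leaf (n : ℕ) : DT
  | node (l r : DT) : DT

/-- The chunk at position `i` in a tree of depth `d` (written with the recursor, which the kernel
evaluates much faster than the compiled structural recursion). -/
noncomputable def DT.get (t : DT) : ℕ → ℕ → ℕ :=
  DT.rec (motive := fun _ => ℕ → ℕ → ℕ) (fun n _ _ => n)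
    (fun _ _ ihl ihr d i =>
      cond (Nat.beq (Nat.mod (Nat.shiftRight i (Nat.pred d)) 2) 1) (ihr (Nat.pred d) i)
        (ihl (Nat.pred d) i)) t

/-- Entry `i` of a table with `cs` entries of `w` bits per chunk. -/
noncomputable def tget (t : DT) (d cs w i : ℕ) : ℕ :=
  Nat.mod (Nat.shiftRight (t.get d (Nat.div i cs)) (Nat.mul w (Nat.mod i cs))) (Nat.pow 2 w)

/-- A bounded universal check, by a kernel-friendly recursion. -/
def allBelow (n : ℕ) (f : ℕ → Bool) : Bool :=
  Nat.rec (motive := fun _ => Bool) true (fun i ih => cond (f i) ih false) n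

theorem allBelow_succ (n : ℕ) (f : ℕ → Bool) :
    allBelow (n + 1) f = cond (f n) (allBelow n f) false := rfl

theorem allBelow_spec {n : ℕ} {f : ℕ → Bool} (h : allBelow n f = true) : ∀ i < n, f i = true := by
  induction n with
  | zero => intro i hi; omega
  | succ n ih =>
    rw [allBelow_succ] at h
    intro i hi
    cases hf : f n
    · rw [hf] at h; cases h
    · rw [hf] at h
      rcases Nat.lt_succ_iff_lt_or_eq.mp hi with h1 | h1
      · exact ih h i h1
      · rw [h1]; exact hf

/-- Checks on a range `lo ≤ i < lo + cnt`. -/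
def allRange (lo cnt : ℕ) (f : ℕ → Bool) : Bool := allBelow cnt fun i => f (Nat.add lo i)

theorem allRange_spec {lo cnt : ℕ} {f : ℕ → Bool} (h : allRange lo cnt f = true) :
    ∀ i, lo ≤ i → i < lo + cnt → f i = true := by
  intro i h1 h2
  have := allBelow_spec h (i - lo) (by omega)
  have e : Nat.add lo (i - lo) = i := by show lo + (i - lo) = i; omega
  rw [e] at this; exact this

/-- Distinctness of the values `f 0, …, f (n - 1)` by marking bits. -/
def distinctGo (f : ℕ → ℕ) (n : ℕ) : ℕ → Bool :=
  Nat.rec (motive := fun _ => ℕ → Bool) (fun _ => true)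
    (fun i ih m => force (f i) fun x =>
      cond (Nat.beq (Nat.land (Nat.shiftRight m x) 1) 1) false
        (force (Nat.lor m (Nat.shiftLeft 1 x)) ih)) n

theorem distinctGo_succ (f : ℕ → ℕ) (n m : ℕ) :
    distinctGo f (n + 1) m = cond (Nat.beq (Nat.land (Nat.shiftRight m (f n)) 1) 1) false
      (distinctGo f n (Nat.lor m (Nat.shiftLeft 1 (f n)))) := by
  have : distinctGo f (n + 1) m = force (f n) fun x =>
      cond (Nat.beq (Nat.land (Nat.shiftRight m x) 1) 1) false
        (force (Nat.lor m (Nat.shiftLeft 1 x)) (distinctGo f n)) := rfl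
  rw [this, force_eq, force_eq]

theorem bit_check (m x : ℕ) : Nat.beq (Nat.land (Nat.shiftRight m x) 1) 1 = m.testBit x := by
  show Nat.beq ((m >>> x) &&& 1) 1 = m.testBit x
  rw [Nat.testBit, Nat.and_comm]
  cases h : (1 &&& m >>> x) with
  | zero => rfl
  | succ k =>
    have : 1 &&& m >>> x ≤ 1 := Nat.and_le_left
    have hk : k = 0 := by omega
    subst hk; rfl

theorem distinctGo_spec (f : ℕ → ℕ) : ∀ (n m : ℕ), distinctGo f n m = true →
    (∀ i < n, m.testBit (f i) = false) ∧ ∀ i < n, ∀ j < n, f i = f j → i = j := by
  intro n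
  induction n with
  | zero => intro m _; exact ⟨fun i hi => by omega, fun i hi => by omega⟩
  | succ n ih =>
    intro m h
    rw [distinctGo_succ, bit_check] at h
    cases hb : m.testBit (f n)
    · rw [hb] at h
      obtain ⟨h1, h2⟩ := ih _ h
      have hbit : ∀ i < n, m.testBit (f i) = false ∧ f i ≠ f n := by
        intro i hi
        have := h1 i hi
        change (m ||| 1 <<< f n).testBit (f i) = false at this
        rw [Nat.testBit_or, Bool.or_eq_false_iff] at this
        refine ⟨this.1, fun he => ?_⟩
        have h3 := this.2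
        rw [he, Nat.one_shiftLeft, Nat.testBit_two_pow_self] at h3
        cases h3
      constructor
      · intro i hi
        rcases Nat.lt_succ_iff_lt_or_eq.mp hi with h3 | h3
        · exact (hbit i h3).1
        · rw [h3]; exact hb
      · intro i hi j hj hij
        rcases Nat.lt_succ_iff_lt_or_eq.mp hi with h3 | h3 <;>
          rcases Nat.lt_succ_iff_lt_or_eq.mp hj with h4 | h4
        · exact h2 i h3 j h4 hij
        · rw [h4] at hij; exact absurd hij (hbit i h3).2
        · rw [h3] at hij; exact absurd hij.symm (hbit j h4).2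
        · rw [h3, h4]
    · rw [hb] at h; cases h

/-- The distinctness check. -/
def distinctBelow (n : ℕ) (f : ℕ → ℕ) : Bool := distinctGo f n 0

theorem distinctBelow_spec {n : ℕ} {f : ℕ → ℕ} (h : distinctBelow n f = true) :
    ∀ i < n, ∀ j < n, f i = f j → i = j := (distinctGo_spec f n 0 h).2

end Cfsg.Agent.Helper8.F4P
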