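import Cfsg.Agent.Lib.Helper48.Pet.Basic

/-!
# PET piece (4T) `fourTerm` for S1472 (helper48's server): no nontrivial 4-term relation (backup by helper8).
-/

set_option autoImplicit false

namespace Cfsg.Agent.Helper8.Pet
open Cfsg.Agent.Helper48.Pet

section comm
variable {A : Type*} [CommGroup A]

theorem h8_cm1 (yj yjk y0 yk ykg ygk yg : A) (e1 : yj * yjk⁻¹ = y0 * yk⁻¹ * ykg * ygk⁻¹) :
    yj * yk * ykg⁻¹ * yg⁻¹ = yjk * y0 * yg⁻¹ * ygk⁻¹ := by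
  have h : yj = y0 * yk⁻¹ * ykg * ygk⁻¹ * yjk := by
    rw [← e1]; group
  rw [h]
  apply Additive.ofMul.injective
  simp only [ofMul_mul, ofMul_inv]
  abel

theorem h8_cm2 (yj yk ykg yg : A) : yj * yk * ykg⁻¹ * yg⁻¹ = (yj * yg⁻¹) * (yk * ykg⁻¹) := by
  apply Additive.ofMul.injective
  simp only [ofMul_mul, ofMul_inv]
  abel

theorem h8_cm3 (yj yk ykg yg : A) (h : yj * yk * ykg⁻¹ * yg⁻¹ = 1) : yk * ykg⁻¹ = yg * yj⁻¹ := by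
  have h' : yj = yg * ykg * yk⁻¹ := by
    have := congrArg (fun x => x * yg * ykg * yk⁻¹) h
    simp only [one_mul] at this
    rw [← this]
    apply Additive.ofMul.injective
    simp only [ofMul_mul, ofMul_inv]
    abel
  rw [h']
  apply Additive.ofMul.injective
  simp only [ofMul_mul, ofMul_inv]
  abel

theorem h8_cm4 (ya yb y0 : A) : yb * y0⁻¹ * (ya * yb⁻¹) * (y0 * ya⁻¹) = 1 := by
  apply Additive.ofMul.injective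
  simp only [ofMul_mul, ofMul_inv, ofMul_one]
  abel

end comm

variable {G : Type*} [Group G] {F : Type*} [Field F] {p q : ℕ}
variable (C : Cfg G F p q)

/-- `Q` as a commutative group. -/
@[reducible] def h8_commQ : CommGroup ↥C.Q :=
  { (inferInstance : Group ↥C.Q) with
    mul_comm := fun a b => Subtype.ext (C.Q_comm a a.2 b b.2) }

/-- `σ^a y = s^a y s^-a` as an element of `Q`. -/
def h8_Y (a : ℤ) : ↥C.Q := ⟨C.s ^ a * C.y * C.s ^ (-a), C.s_zpow_conj_mem_Q a C.y_mem⟩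

theorem h8_Y_coe (a : ℤ) : ((h8_Y C a : ↥C.Q) : G) = C.s ^ a * C.y * C.s ^ (-a) := rfl

/-- `D(a,b) = (σ^a - σ^b) y ∈ Q1`. -/
theorem h8_D_mem (hQ : C.Q1Facts) (a b : ℤ) :
    C.s ^ a * C.y * C.s ^ (-a) * (C.s ^ b * C.y * C.s ^ (-b))⁻¹ ∈ C.Q1 := by
  have h1 : C.t ^ (b - a) * C.s ^ (-(b - a)) ∈ C.Q1 := hQ.2.2.1 (b - a)
  have h2 := hQ.2.1 a _ h1
  have e : C.s ^ a * (C.t ^ (b - a) * C.s ^ (-(b - a))) * C.s ^ (-a)
      = C.s ^ a * C.y * C.s ^ (-a) * (C.s ^ b * C.y * C.s ^ (-b))⁻¹ := by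
    rw [C.t_zpow]
    group
  rw [← e]
  exact h2

/-- `t^-b D(a,b) t^a = s^(a-b)`. -/
theorem h8_line (a b : ℤ) :
    C.t ^ (-b) * (C.s ^ a * C.y * C.s ^ (-a) * (C.s ^ b * C.y * C.s ^ (-b))⁻¹) * C.t ^ a = C.s ^ (a - b) := by
  let _ := h8_commQ C
  have hc := h8_cm4 (h8_Y C a) (h8_Y C b) (h8_Y C 0)
  have hc' : (C.s ^ b * C.y * C.s ^ (-b)) * (C.s ^ (0:ℤ) * C.y * C.s ^ (-(0:ℤ)))⁻¹ *
          (C.s ^ a * C.y * C.s ^ (-a) * (C.s ^ b * C.y * C.s ^ (-b))⁻¹) *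
          ((C.s ^ (0:ℤ) * C.y * C.s ^ (-(0:ℤ))) * (C.s ^ a * C.y * C.s ^ (-a))⁻¹) = 1 :=
    congrArg Subtype.val hc
  have e : C.t ^ (-b) * (C.s ^ a * C.y * C.s ^ (-a) * (C.s ^ b * C.y * C.s ^ (-b))⁻¹) * C.t ^ a
      = C.s ^ (-b) * ((C.s ^ b * C.y * C.s ^ (-b)) * (C.s ^ (0:ℤ) * C.y * C.s ^ (-(0:ℤ)))⁻¹ *
          (C.s ^ a * C.y * C.s ^ (-a) * (C.s ^ b * C.y * C.s ^ (-b))⁻¹) *
          ((C.s ^ (0:ℤ) * C.y * C.s ^ (-(0:ℤ))) * (C.s ^ a * C.y * C.s ^ (-a))⁻¹)) * C.s ^ a := by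
    rw [C.t_zpow, C.t_zpow]
    group
  rw [e, hc']
  group

/-- (4T) no nontrivial 4-term relation. -/
theorem fourTerm [Finite G] (hQ : C.Q1Facts) (h2 : C.TwoPoint) (hT : C.ThetaPow) : C.FourTerm := by
  intro j k g hk hrel
  let _ := h8_commQ C
  by_cases hgk : (g : F) = (k : F)
  · exact Or.inr hgk
  left
  -- Step A: the relation in terms of the `Y a`
  have hL : C.s ^ j * C.t ^ (-k) * C.s ^ (g - j)
      = (C.s ^ j * C.y * C.s ^ (-j)) * (C.s ^ (j - k) * C.y * C.s ^ (-(j - k)))⁻¹ * C.s ^ (g - k) := by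
    rw [C.t_zpow]; group
  have hR : C.t ^ k * C.s ^ g * C.t ^ (-(2 * k))
      = (C.s ^ (0:ℤ) * C.y * C.s ^ (-(0:ℤ))) * (C.s ^ k * C.y * C.s ^ (-k))⁻¹ *
          (C.s ^ (k + g) * C.y * C.s ^ (-(k + g))) * (C.s ^ (g - k) * C.y * C.s ^ (-(g - k)))⁻¹ *
          C.s ^ (g - k) := by
    rw [C.t_zpow, C.t_zpow]; group
  rw [hL, hR] at hrel
  have hE1 := mul_right_cancel hrel
  -- Step B: lift to `Q`
  have e1 : h8_Y C j * (h8_Y C (j - k))⁻¹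
      = h8_Y C 0 * (h8_Y C k)⁻¹ * h8_Y C (k + g) * (h8_Y C (g - k))⁻¹ := by
    apply Subtype.ext
    exact hE1
  -- Step C
  have e2 := h8_cm1 _ _ _ (h8_Y C k) _ _ (h8_Y C g) e1
  have e2' : (C.s ^ j * C.y * C.s ^ (-j)) * (C.s ^ k * C.y * C.s ^ (-k)) *
      (C.s ^ (k + g) * C.y * C.s ^ (-(k + g)))⁻¹ * (C.s ^ g * C.y * C.s ^ (-g))⁻¹
      = (C.s ^ (j - k) * C.y * C.s ^ (-(j - k))) * (C.s ^ (0:ℤ) * C.y * C.s ^ (-(0:ℤ))) *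
        (C.s ^ g * C.y * C.s ^ (-g))⁻¹ * (C.s ^ (g - k) * C.y * C.s ^ (-(g - k)))⁻¹ :=
    congrArg Subtype.val e2
  -- Step D, E: `w`
  obtain ⟨w, hw⟩ : ∃ w : G, w = (C.s ^ j * C.y * C.s ^ (-j)) * (C.s ^ k * C.y * C.s ^ (-k)) *
      (C.s ^ (k + g) * C.y * C.s ^ (-(k + g)))⁻¹ * (C.s ^ g * C.y * C.s ^ (-g))⁻¹ := ⟨_, rfl⟩
  have hwconj : C.s ^ (-k) * w * C.s ^ k
      = (C.s ^ (j - k) * C.y * C.s ^ (-(j - k))) * (C.s ^ (0:ℤ) * C.y * C.s ^ (-(0:ℤ))) *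
        (C.s ^ g * C.y * C.s ^ (-g))⁻¹ * (C.s ^ (g - k) * C.y * C.s ^ (-(g - k)))⁻¹ := by
    rw [hw]; group
  have hwfix : C.s ^ k * w * C.s ^ (-k) = w := by
    have h1 : C.s ^ (-k) * w * C.s ^ k = w := by
      rw [hwconj, ← e2', hw]
    calc C.s ^ k * w * C.s ^ (-k) = C.s ^ k * (C.s ^ (-k) * w * C.s ^ k) * C.s ^ (-k) := by rw [h1]
      _ = w := by group
  have hwQ1 : w ∈ C.Q1 := by
    have c2 := h8_cm2 (h8_Y C j) (h8_Y C k) (h8_Y C (k + g)) (h8_Y C g)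
    have c2' : (C.s ^ j * C.y * C.s ^ (-j)) * (C.s ^ k * C.y * C.s ^ (-k)) *
        (C.s ^ (k + g) * C.y * C.s ^ (-(k + g)))⁻¹ * (C.s ^ g * C.y * C.s ^ (-g))⁻¹
        = ((C.s ^ j * C.y * C.s ^ (-j)) * (C.s ^ g * C.y * C.s ^ (-g))⁻¹) *
          ((C.s ^ k * C.y * C.s ^ (-k)) * (C.s ^ (k + g) * C.y * C.s ^ (-(k + g)))⁻¹) :=
      congrArg Subtype.val c2
    rw [hw, c2']
    exact Subgroup.mul_mem _ (h8_D_mem C hQ j g) (h8_D_mem C hQ k (k + g))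
  have hw1 : w = 1 := hQ.2.2.2.2.1 k hk w hwQ1 hwfix
  -- Step G
  have e3 : h8_Y C j * h8_Y C k * (h8_Y C (k + g))⁻¹ * (h8_Y C g)⁻¹ = 1 := by
    apply Subtype.ext
    show (C.s ^ j * C.y * C.s ^ (-j)) * (C.s ^ k * C.y * C.s ^ (-k)) *
      (C.s ^ (k + g) * C.y * C.s ^ (-(k + g)))⁻¹ * (C.s ^ g * C.y * C.s ^ (-g))⁻¹ = 1
    rw [← hw, hw1]
  have e4 := h8_cm3 _ _ _ _ e3
  have e4' : (C.s ^ k * C.y * C.s ^ (-k)) * (C.s ^ (k + g) * C.y * C.s ^ (-(k + g)))⁻¹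
      = (C.s ^ g * C.y * C.s ^ (-g)) * (C.s ^ j * C.y * C.s ^ (-j))⁻¹ :=
    congrArg Subtype.val e4
  -- Step H, I: `τ`
  obtain ⟨τ, hτ⟩ : ∃ τ : G, τ = C.s ^ k * C.y * C.s ^ (-k) * (C.s ^ (k + g) * C.y * C.s ^ (-(k + g)))⁻¹ :=
    ⟨_, rfl⟩
  have hτQ1 : τ ∈ C.Q1 := by rw [hτ]; exact h8_D_mem C hQ k (k + g)
  have hH1 : C.t ^ (-(k + g)) * τ * C.t ^ k ∈ C.H := by
    rw [hτ, h8_line C k (k + g)]
    exact C.s_zpow_mem_H _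
  have hH2 : C.t ^ (-j) * τ * C.t ^ g ∈ C.H := by
    rw [hτ, e4', h8_line C g j]
    exact C.s_zpow_mem_H _
  have hne : ((k - g : ℤ) : F) ≠ 0 := by
    intro h0
    apply hgk
    push_cast at h0
    exact (sub_eq_zero.mp h0).symm
  have hτ1 : τ = 1 := h2 τ hτQ1 k g (k + g) j hne hH1 hH2
  -- Step J
  have hyg : C.y * C.s ^ g * C.y⁻¹ = C.s ^ g := by
    have h1 : C.s ^ k * C.y * C.s ^ (-k) = C.s ^ (k + g) * C.y * C.s ^ (-(k + g)) := by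
      rw [hτ] at hτ1
      exact mul_inv_eq_one.mp hτ1
    have h2' : C.y = C.s ^ g * C.y * C.s ^ (-g) := by
      calc C.y = C.s ^ (-k) * (C.s ^ k * C.y * C.s ^ (-k)) * C.s ^ k := by group
        _ = C.s ^ (-k) * (C.s ^ (k + g) * C.y * C.s ^ (-(k + g))) * C.s ^ k := by rw [h1]
        _ = C.s ^ g * C.y * C.s ^ (-g) := by group
    calc C.y * C.s ^ g * C.y⁻¹ = (C.s ^ g * C.y * C.s ^ (-g)) * C.s ^ g * C.y⁻¹ := by rw [← h2']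
      _ = C.s ^ g := by group
  have htg : C.t ^ g = C.s ^ g := by rw [C.t_zpow, hyg]
  apply C.s_zpow_not_norm_U g
  intro ν
  have htg' : C.s ^ (-g) = C.t ^ (-g) := by rw [zpow_neg, zpow_neg, htg]
  rw [← htg, htg', hT.2 g ν]
  exact ⟨_, rfl⟩

end Cfsg.Agent.Helper8.Pet
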