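import Mathlib

set_option autoImplicit false

namespace Cfsg.Agent.Helper8.Pet

open Polynomial

/-- geometric sum: `(p^q - 1)/(p-1) = ∑_{i<q} p^i`. -/
theorem h8_geom (p q : ℕ) (hp : 2 ≤ p) : (p ^ q - 1) / (p - 1) = ∑ i ∈ Finset.range q, p ^ i :=
  (Nat.geomSum_eq hp q).symm

theorem h8_pow_char_pow {F : Type*} [Field F] {p : ℕ} [Fact p.Prime] [CharP F p]
    (w : F) (hw : w ^ p = w) (i : ℕ) : w ^ (p ^ i) = w := by
  induction i with
  | zero => simp
  | succ i ih => rw [pow_succ, pow_mul, ih, hw]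

/-- In a field of characteristic `p`, if `(e + w δ)^n = 1` (with `n = (p^q-1)/(p-1)`, `q ≠ 0`) for all `w`
in a finite set `S` of elements of the prime field (`w^p = w`), and `δ ≠ 0`, then `#S ≤ q`. -/
theorem h8_card_le_of_norm_one {F : Type*} [Field F] {p q : ℕ} [Fact p.Prime] [CharP F p]
    (hq : q ≠ 0) (e δ : F) (hδ : δ ≠ 0) (S : Finset F) (hS : ∀ w ∈ S, w ^ p = w)
    (h : ∀ w ∈ S, (e + w * δ) ^ ((p ^ q - 1) / (p - 1)) = 1) : S.card ≤ q := by
  classical
  have hp' : p.Prime := Fact.out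
  rw [h8_geom p q hp'.two_le] at h
  obtain ⟨g, hg⟩ : ∃ g : F[X], g =
      (∏ i ∈ Finset.range q, (C (δ ^ (p ^ i)) * X + C (e ^ (p ^ i)))) - C 1 := ⟨_, rfl⟩
  have hlin : ∀ i ∈ Finset.range q, (C (δ ^ (p ^ i)) * X + C (e ^ (p ^ i)) : F[X]) ≠ 0 := by
    intro i _ h0
    have h1 := congrArg (fun f : F[X] => f.natDegree) h0
    simp only [natDegree_zero] at h1
    rw [natDegree_linear (pow_ne_zero _ hδ)] at h1
    exact one_ne_zero h1
  have hdeg : g.natDegree = q := by
    rw [hg, natDegree_sub_C, natDegree_prod _ _ hlin]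
    have : ∀ i ∈ Finset.range q, (C (δ ^ (p ^ i)) * X + C (e ^ (p ^ i)) : F[X]).natDegree = 1 := by
      intro i _
      exact natDegree_linear (pow_ne_zero _ hδ)
    rw [Finset.sum_congr rfl this]
    simp
  have hg0 : g ≠ 0 := by
    intro h0
    rw [h0, natDegree_zero] at hdeg
    exact hq hdeg.symm
  have hroot : ∀ w ∈ S, eval w g = 0 := by
    intro w hw
    rw [hg, eval_sub, eval_prod, eval_C, sub_eq_zero, ← h w hw, ← Finset.prod_pow_eq_pow_sum]
    apply Finset.prod_congr rfl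
    intro i _
    rw [eval_add, eval_mul, eval_C, eval_C, eval_X, add_pow_char_pow, mul_pow,
      h8_pow_char_pow w (hS w hw) i]
    ring
  have hsub : S.val ⊆ g.roots := by
    intro x hx
    rw [mem_roots hg0]
    exact hroot x (Finset.mem_val.mp hx)
  have := card_le_degree_of_subset_roots hsub
  rw [hdeg] at this
  exact this

end Cfsg.Agent.Helper8.Pet
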