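import Cfsg.Agent.Lib.Helper48.Pet.Basic

/-!
# PET piece (Q1) `q1Facts` for S1472 (helper48's server): basic facts on `Q1`.
-/

set_option autoImplicit false

namespace Cfsg.Agent.Helper8.Pet
open Cfsg.Agent.Helper48.Pet

variable {G : Type*} [Group G] {F : Type*} [Field F] {p q : ℕ}
variable (C : Cfg G F p q)

/-- generators of `Q1` -/
theorem h8_gen_mem (i : ℤ) : C.s ^ i * (C.t * C.s⁻¹) * C.s ^ (-i) ∈ C.Q1 :=
  Subgroup.subset_closure ⟨i, rfl⟩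

/-- (2) `Q1` is stable under conjugation by powers of `s`. -/
theorem h8_s_conj_mem (i : ℤ) {m : G} (hm : m ∈ C.Q1) : C.s ^ i * m * C.s ^ (-i) ∈ C.Q1 := by
  unfold Cfg.Q1 at hm
  induction hm using Subgroup.closure_induction with
  | mem x hx =>
    obtain ⟨j, rfl⟩ := hx
    have : C.s ^ i * (C.s ^ j * (C.t * C.s⁻¹) * C.s ^ (-j)) * C.s ^ (-i)
        = C.s ^ (i + j) * (C.t * C.s⁻¹) * C.s ^ (-(i + j)) := by
      rw [zpow_add, neg_add, zpow_add]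
      group
    rw [this]
    exact h8_gen_mem C (i + j)
  | one =>
    have : C.s ^ i * 1 * C.s ^ (-i) = 1 := by group
    rw [this]
    exact Subgroup.one_mem _
  | mul a b _ _ iha ihb =>
    have : C.s ^ i * (a * b) * C.s ^ (-i) = (C.s ^ i * a * C.s ^ (-i)) * (C.s ^ i * b * C.s ^ (-i)) := by
      group
    rw [this]
    exact Subgroup.mul_mem _ iha ihb
  | inv a _ iha =>
    have : C.s ^ i * a⁻¹ * C.s ^ (-i) = (C.s ^ i * a * C.s ^ (-i))⁻¹ := by group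
    rw [this]
    exact Subgroup.inv_mem _ iha

/-- (3) `t^i s^-i ∈ Q1`. -/
theorem h8_ts_mem (i : ℤ) : C.t ^ i * C.s ^ (-i) ∈ C.Q1 := by
  induction i using Int.induction_on with
  | zero => simp
  | succ n ih =>
    have : C.t ^ ((n : ℤ) + 1) * C.s ^ (-((n : ℤ) + 1))
        = (C.t ^ (n : ℤ) * C.s ^ (-(n : ℤ))) * (C.s ^ (n : ℤ) * (C.t * C.s⁻¹) * C.s ^ (-(n : ℤ))) := by
      rw [zpow_add, neg_add, zpow_add]
      group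
    rw [this]
    exact Subgroup.mul_mem _ ih (h8_gen_mem C n)
  | pred n ih =>
    have : C.t ^ (-(n : ℤ) - 1) * C.s ^ (-(-(n : ℤ) - 1))
        = (C.t ^ (-(n : ℤ)) * C.s ^ (-(-(n : ℤ)))) *
          (C.s ^ (-(n : ℤ) - 1) * (C.t * C.s⁻¹) * C.s ^ (-(-(n : ℤ) - 1)))⁻¹ := by
      rw [sub_eq_add_neg, zpow_add, neg_add, zpow_add]
      group
    rw [this]
    exact Subgroup.mul_mem _ ih (Subgroup.inv_mem _ (h8_gen_mem C _))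

/-- (4) `t^i` and `s^i` act in the same way on `Q1`. -/
theorem h8_t_conj_eq (i : ℤ) {m : G} (hm : m ∈ C.Q1) :
    C.t ^ i * m * C.t ^ (-i) = C.s ^ i * m * C.s ^ (-i) := by
  have ha : C.t ^ i * C.s ^ (-i) ∈ C.Q := C.Q1_le_Q (h8_ts_mem C i)
  have hb : C.s ^ i * m * C.s ^ (-i) ∈ C.Q := C.s_zpow_conj_mem_Q i (C.Q1_le_Q hm)
  have hcomm := C.Q_comm _ ha _ hb
  have e1 : C.t ^ i * m * C.t ^ (-i)
      = (C.t ^ i * C.s ^ (-i)) * (C.s ^ i * m * C.s ^ (-i)) * (C.t ^ i * C.s ^ (-i))⁻¹ := by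
    group
  rw [e1, hcomm]
  group

/-- every element of `Q1` is of the form `m' (s m' s⁻¹)⁻¹` with `m' ∈ Q`. -/
theorem h8_exists_comm {m : G} (hm : m ∈ C.Q1) :
    ∃ m' ∈ C.Q, m = m' * (C.s * m' * C.s⁻¹)⁻¹ := by
  have hsQ : ∀ {x : G}, x ∈ C.Q → C.s * x * C.s⁻¹ ∈ C.Q := fun {x} hx => C.Q_norm x hx
  unfold Cfg.Q1 at hm
  induction hm using Subgroup.closure_induction with
  | mem x hx =>
    obtain ⟨j, rfl⟩ := hx
    refine ⟨C.s ^ j * C.y * C.s ^ (-j), C.s_zpow_conj_mem_Q j C.y_mem, ?_⟩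
    unfold Cfg.t Cfg.s
    group
  | one => exact ⟨1, Subgroup.one_mem _, by group⟩
  | mul a b _ _ iha ihb =>
    obtain ⟨m1, hm1, rfl⟩ := iha
    obtain ⟨m2, hm2, rfl⟩ := ihb
    refine ⟨m1 * m2, Subgroup.mul_mem _ hm1 hm2, ?_⟩
    have h1 : C.s * m1 * C.s⁻¹ ∈ C.Q := hsQ hm1
    have h2 : C.s * m2 * C.s⁻¹ ∈ C.Q := hsQ hm2
    have c1 : (C.s * m1 * C.s⁻¹)⁻¹ * m2 = m2 * (C.s * m1 * C.s⁻¹)⁻¹ :=
      C.Q_comm _ (Subgroup.inv_mem _ h1) _ hm2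
    have c2 : (C.s * m1 * C.s⁻¹)⁻¹ * (C.s * m2 * C.s⁻¹)⁻¹
        = (C.s * m2 * C.s⁻¹)⁻¹ * (C.s * m1 * C.s⁻¹)⁻¹ :=
      C.Q_comm _ (Subgroup.inv_mem _ h1) _ (Subgroup.inv_mem _ h2)
    have e : C.s * (m1 * m2) * C.s⁻¹ = (C.s * m1 * C.s⁻¹) * (C.s * m2 * C.s⁻¹) := by group
    rw [e]
    calc m1 * (C.s * m1 * C.s⁻¹)⁻¹ * (m2 * (C.s * m2 * C.s⁻¹)⁻¹)
        = m1 * ((C.s * m1 * C.s⁻¹)⁻¹ * m2) * (C.s * m2 * C.s⁻¹)⁻¹ := by group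
      _ = m1 * (m2 * (C.s * m1 * C.s⁻¹)⁻¹) * (C.s * m2 * C.s⁻¹)⁻¹ := by rw [c1]
      _ = m1 * m2 * ((C.s * m1 * C.s⁻¹)⁻¹ * (C.s * m2 * C.s⁻¹)⁻¹) := by group
      _ = m1 * m2 * ((C.s * m2 * C.s⁻¹)⁻¹ * (C.s * m1 * C.s⁻¹)⁻¹) := by rw [c2]
      _ = m1 * m2 * (C.s * m1 * C.s⁻¹ * (C.s * m2 * C.s⁻¹))⁻¹ := by
          rw [mul_inv_rev (C.s * m1 * C.s⁻¹) (C.s * m2 * C.s⁻¹)]
  | inv a _ iha =>
    obtain ⟨m1, hm1, rfl⟩ := iha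
    refine ⟨m1⁻¹, Subgroup.inv_mem _ hm1, ?_⟩
    have h1 : C.s * m1 * C.s⁻¹ ∈ C.Q := hsQ hm1
    have c1 : (C.s * m1 * C.s⁻¹) * m1⁻¹ = m1⁻¹ * (C.s * m1 * C.s⁻¹) :=
      C.Q_comm _ h1 _ (Subgroup.inv_mem _ hm1)
    have e : C.s * m1⁻¹ * C.s⁻¹ = (C.s * m1 * C.s⁻¹)⁻¹ := by group
    rw [e, inv_inv, mul_inv_rev, inv_inv, c1]

/-- telescoping: if `a = m' (s m' s⁻¹)⁻¹` commutes with `s` then `a^n = m' (s^n m' s^-n)⁻¹`. -/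
theorem h8_telescope {a m' : G} (ha : a = m' * (C.s * m' * C.s⁻¹)⁻¹) (hs : C.s * a * C.s⁻¹ = a) (n : ℕ) :
    a ^ n = m' * (C.s ^ n * m' * (C.s ^ n)⁻¹)⁻¹ := by
  have hsn : ∀ n : ℕ, C.s ^ n * a * (C.s ^ n)⁻¹ = a := by
    intro n
    induction n with
    | zero => simp
    | succ n ih =>
      have : C.s ^ (n + 1) * a * (C.s ^ (n + 1))⁻¹ = C.s ^ n * (C.s * a * C.s⁻¹) * (C.s ^ n)⁻¹ := by
        rw [pow_succ]; group
      rw [this, hs, ih]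
  induction n with
  | zero => simp
  | succ n ih =>
    have h2 : C.s ^ n * a * (C.s ^ n)⁻¹
        = (C.s ^ n * m' * (C.s ^ n)⁻¹) * (C.s ^ (n + 1) * m' * (C.s ^ (n + 1))⁻¹)⁻¹ := by
      rw [ha, pow_succ]; group
    calc a ^ (n + 1) = a ^ n * a := pow_succ a n
      _ = a ^ n * (C.s ^ n * a * (C.s ^ n)⁻¹) := by rw [hsn n]
      _ = m' * (C.s ^ n * m' * (C.s ^ n)⁻¹)⁻¹ *
            ((C.s ^ n * m' * (C.s ^ n)⁻¹) * (C.s ^ (n + 1) * m' * (C.s ^ (n + 1))⁻¹)⁻¹) := by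
          rw [ih, h2]
      _ = m' * (C.s ^ (n + 1) * m' * (C.s ^ (n + 1))⁻¹)⁻¹ := by group

/-- (5), case `k = 1`. -/
theorem h8_fixed_one {m : G} (hm : m ∈ C.Q1) (hs : C.s * m * C.s⁻¹ = m) : m = 1 := by
  obtain ⟨m', hm', hmm⟩ := h8_exists_comm C hm
  have hp := h8_telescope C hmm hs p
  rw [C.s_pow_p] at hp
  have : m ^ p = 1 := by rw [hp]; group
  exact C.eq_one_of_mem_Q_of_pow_p (C.Q1_le_Q hm) this

/-- (5) `C_{Q1}(s^k) = 1` for `k ≢ 0`. -/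
theorem h8_fixed {k : ℤ} (hk : (k : F) ≠ 0) {m : G} (hm : m ∈ C.Q1)
    (hs : C.s ^ k * m * C.s ^ (-k) = m) : m = 1 := by
  obtain ⟨k', hk'⟩ := C.exists_inv_cast k hk
  -- `s = (s^k)^k'`
  have hs1 : C.s ^ (k * k') = C.s ^ (1 : ℤ) := by
    apply C.s_zpow_eq
    push_cast
    rw [mul_comm]
    exact hk'
  have hcomm : C.s ^ k * m = m * C.s ^ k := by
    calc C.s ^ k * m = (C.s ^ k * m * C.s ^ (-k)) * C.s ^ k := by group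
      _ = m * C.s ^ k := by rw [hs]
  have hcomm' : ∀ j : ℤ, (C.s ^ k) ^ j * m = m * (C.s ^ k) ^ j := by
    intro j
    exact ((Commute.zpow_left (show Commute (C.s ^ k) m from hcomm) j)).eq
  have h1 := hcomm' k'
  rw [← zpow_mul, hs1, zpow_one] at h1
  apply h8_fixed_one C hm
  rw [h1]
  group

/-- `(X a)^p = 1` -/
theorem h8_X_pow_p (a : F) : C.X a ^ p = 1 := by
  have _ := C.hchar
  have h := C.X_zsmul (p : ℤ) a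
  rw [zpow_natCast] at h
  rw [← h]
  have : ((p : ℤ) : F) = 0 := by
    rw [Int.cast_natCast]
    exact CharP.cast_eq_zero F p
  rw [this, zero_mul, C.X_zero]

/-- (6) `Q1 ∩ H = 1`. -/
theorem h8_inter_H {m : G} (hm : m ∈ C.Q1) (hH : m ∈ C.H) : m = 1 := by
  obtain ⟨c', hc'⟩ := C.conj_X_mem hH 1
  -- `c := m s m⁻¹ s⁻¹`
  have hcP : m * C.s * m⁻¹ * C.s⁻¹ = C.X (c' - 1) := by
    rw [C.X_sub]
    unfold Cfg.s
    rw [hc']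
  have hcQ : m * C.s * m⁻¹ * C.s⁻¹ ∈ C.Q1 := by
    have h1 : C.s ^ (1 : ℤ) * m⁻¹ * C.s ^ (-(1 : ℤ)) ∈ C.Q1 := h8_s_conj_mem C 1 (Subgroup.inv_mem _ hm)
    have : m * C.s * m⁻¹ * C.s⁻¹ = m * (C.s ^ (1 : ℤ) * m⁻¹ * C.s ^ (-(1 : ℤ))) := by group
    rw [this]
    exact Subgroup.mul_mem _ hm h1
  have hpow : (m * C.s * m⁻¹ * C.s⁻¹) ^ p = 1 := by
    rw [hcP]
    exact h8_X_pow_p C _
  have h1 : m * C.s * m⁻¹ * C.s⁻¹ = 1 := C.eq_one_of_mem_Q_of_pow_p (C.Q1_le_Q hcQ) hpow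
  apply h8_fixed_one C hm
  have : C.s * m * C.s⁻¹ = (m * C.s * m⁻¹ * C.s⁻¹)⁻¹ * m := by group
  rw [this, h1]
  group

/-- (Q1) facts on `Q1`. -/
theorem q1Facts [Finite G] : C.Q1Facts := by
  refine ⟨C.Q1_le_Q, ?_, ?_, ?_, ?_, ?_⟩
  · intro i m hm
    exact h8_s_conj_mem C i hm
  · intro i
    exact h8_ts_mem C i
  · intro i m hm
    exact h8_t_conj_eq C i hm
  · intro k hk m hm hs
    exact h8_fixed C hk hm hs
  · intro m hm hH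
    exact h8_inter_H C hm hH

end Cfsg.Agent.Helper8.Pet
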