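import Cfsg.Agent.Lib.Helper8.SteinerThrough

set_option autoImplicit false
set_option linter.unusedSectionVars false

/-! The projective plane of order 4 as an abstract Steiner system S(2,5,21): basic counts, dual
moment identities, arcs (independent sets) and their extension numbers. -/

namespace Cfsg.Agent.Helper8

open Cfsg Finset

variable {α : Type*} [Fintype α] [DecidableEq α]

/-- A set of points is an arc (independent) when no line meets it in more than two points. -/
def Arc (L : Set (Finset α)) (S : Finset α) : Prop := ∀ l ∈ L, (l ∩ S).card ≤ 2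

theorem Arc.mono {L : Set (Finset α)} {S T : Finset α} (hTS : T ⊆ S) (hS : Arc L S) : Arc L T :=
  fun l hl => (card_le_card (inter_subset_inter_left hTS)).trans (hS l hl)

theorem plane_sums (hα : Fintype.card α = 21) {L : Set (Finset α)}
    (hL : IsSteinerSystem 2 5 L) (Z : Finset α) :
    (blocksF L).card = 21 ∧ ∑ l ∈ blocksF L, (Z ∩ l).card = 5 * Z.card ∧
      ∑ l ∈ blocksF L, Nat.choose (Z ∩ l).card 2 = Nat.choose Z.card 2 := by
  have h0 := moment_set hL Z 0 (by norm_num)
  have h1 := moment_set hL Z 1 (by norm_num)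
  have h2 := moment_set hL Z 2 (by norm_num)
  rw [hα] at h0 h1 h2
  norm_num [Nat.choose] at h0 h1 h2
  refine ⟨?_, ?_, ?_⟩ <;> omega

theorem pencil_sums (hα : Fintype.card α = 21) {L : Set (Finset α)}
    (hL : IsSteinerSystem 2 5 L) (x : α) (Z : Finset α) (hxZ : x ∉ Z) :
    ((blocksF L).filter (fun l => x ∈ l)).card = 5 ∧
      ∑ l ∈ (blocksF L).filter (fun l => x ∈ l), (Z ∩ l).card = Z.card := by
  have hd : Disjoint ({x} : Finset α) Z := by
    rw [disjoint_singleton_left]; exact hxZ
  have h0 := moment_through hL {x} Z hd 0 (by simp)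
  have h1 := moment_through hL {x} Z hd 1 (by simp)
  rw [hα] at h0 h1
  simp only [card_singleton, singleton_subset_iff] at h0 h1
  norm_num [Nat.choose] at h0 h1
  refine ⟨?_, ?_⟩ <;> omega

/-- Two distinct lines meet in exactly one point. -/
theorem line_inter (hα : Fintype.card α = 21) {L : Set (Finset α)}
    (hL : IsSteinerSystem 2 5 L) {l l' : Finset α} (hl : l ∈ L) (hl' : l' ∈ L) (hne : l ≠ l') :
    (l ∩ l').card = 1 := by
  have h0 := moment_erase hL hl 0 (by norm_num)
  have h1 := moment_erase hL hl 1 (by norm_num)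
  rw [hα] at h0 h1
  norm_num [Nat.choose] at h0 h1
  have hi : ∀ c ∈ (blocksF L).erase l, (l ∩ c).card ≤ 1 := by
    intro c hc
    rw [mem_erase_blocksF] at hc
    have := card_inter_lt hL hl hc.2 (Ne.symm hc.1)
    omega
  have key := termwise ((blocksF L).erase l) (fun c => (l ∩ c).card)
    (fun n => n) (fun _ => 1) 1 hi (by intro n hn; exact hn)
    (by
      show ∑ c ∈ (blocksF L).erase l, (l ∩ c).card = ∑ c ∈ (blocksF L).erase l, 1
      rw [sum_const, smul_eq_mul, mul_one]; omega)
  exact key l' (mem_erase_blocksF.mpr ⟨Ne.symm hne, hl'⟩)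

/-- First dual moment: a family `M` of lines covers `5 |M|` point-line incidences. -/
theorem dual_moment1 {L : Set (Finset α)} (hL : IsSteinerSystem 2 5 L)
    (M : Finset (Finset α)) (hM : ∀ l ∈ M, l ∈ L) :
    ∑ x : α, (M.filter (fun l => x ∈ l)).card = 5 * M.card := by
  have h1 := Finset.sum_card_bipartiteAbove_eq_sum_card_bipartiteBelow
    (s := (univ : Finset α)) (t := M) (r := fun x l => x ∈ l)
  have hr : ∀ l ∈ M, ((univ : Finset α).bipartiteBelow (fun x l => x ∈ l) l).card = 5 := by
    intro l hl
    rw [← hL.1 l (hM l hl)]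
    congr 1
    ext x
    simp [bipartiteBelow]
  rw [Finset.sum_congr rfl hr, sum_const, smul_eq_mul, mul_comm] at h1
  rw [← h1]
  rfl

/-- Second dual moment: any two lines of `M` meet in exactly one point. -/
theorem dual_moment2 (hα : Fintype.card α = 21) {L : Set (Finset α)}
    (hL : IsSteinerSystem 2 5 L) (M : Finset (Finset α)) (hM : ∀ l ∈ M, l ∈ L) :
    ∑ x : α, Nat.choose (M.filter (fun l => x ∈ l)).card 2 = Nat.choose M.card 2 := by
  have h1 := Finset.sum_card_bipartiteAbove_eq_sum_card_bipartiteBelow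
    (s := (univ : Finset α)) (t := powersetCard 2 M) (r := fun x P => ∀ l ∈ P, x ∈ l)
  have hl : ∀ x ∈ (univ : Finset α),
      ((powersetCard 2 M).bipartiteAbove (fun x P => ∀ l ∈ P, x ∈ l) x).card =
        Nat.choose (M.filter (fun l => x ∈ l)).card 2 := by
    intro x _
    rw [← card_powersetCard]
    congr 1
    ext P
    simp only [bipartiteAbove, mem_filter, mem_powersetCard]
    constructor
    · rintro ⟨⟨hPM, hP2⟩, hx⟩
      exact ⟨fun l hl => mem_filter.mpr ⟨hPM hl, hx l hl⟩, hP2⟩
    · rintro ⟨hPM, hP2⟩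
      exact ⟨⟨fun l hl => (mem_filter.mp (hPM hl)).1, hP2⟩, fun l hl => (mem_filter.mp (hPM hl)).2⟩
  have hr : ∀ P ∈ powersetCard 2 M,
      ((univ : Finset α).bipartiteBelow (fun x P => ∀ l ∈ P, x ∈ l) P).card = 1 := by
    intro P hP
    rw [mem_powersetCard] at hP
    obtain ⟨a, b, hab, rfl⟩ := card_eq_two.mp hP.2
    have ha : a ∈ L := hM a (hP.1 (by simp))
    have hb : b ∈ L := hM b (hP.1 (by simp))
    rw [← line_inter hα hL ha hb hab]
    congr 1
    ext x
    simp [bipartiteBelow]
  rw [Finset.sum_congr rfl hl, Finset.sum_congr rfl hr, sum_const, card_powersetCard,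
    smul_eq_mul, mul_one] at h1
  exact h1

/-! ### Arcs -/

theorem arc_insert_iff {L : Set (Finset α)} {S : Finset α} {x : α} (hx : x ∉ S) :
    Arc L (insert x S) ↔ Arc L S ∧ ∀ l ∈ L, x ∈ l → (l ∩ S).card ≤ 1 := by
  constructor
  · intro h
    refine ⟨h.mono (subset_insert x S), ?_⟩
    intro l hl hxl
    have := h l hl
    rw [inter_insert_of_mem hxl, card_insert_of_notMem (fun h' => hx (mem_inter.mp h').2)] at this
    omega
  · rintro ⟨hS, hx1⟩ l hl
    by_cases hxl : x ∈ l
    · rw [inter_insert_of_mem hxl, card_insert_of_notMem (fun h' => hx (mem_inter.mp h').2)]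
      have := hx1 l hl hxl
      omega
    · rw [inter_insert_of_notMem hxl]
      exact hS l hl

/-- The lines missing a point set. -/
noncomputable def missing (L : Set (Finset α)) (S : Finset α) : Finset (Finset α) :=
  (blocksF L).filter (fun l => (S ∩ l).card = 0)

theorem missing_sub {L : Set (Finset α)} (S : Finset α) : ∀ l ∈ missing L S, l ∈ L := by
  intro l hl
  exact mem_blocksF.mp (mem_filter.mp hl).1

theorem missing_card (hα : Fintype.card α = 21) {L : Set (Finset α)}
    (hL : IsSteinerSystem 2 5 L) {S : Finset α} (hS : Arc L S) :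
    (missing L S).card + 5 * S.card = 21 + Nat.choose S.card 2 := by
  obtain ⟨h0, h1, h2⟩ := plane_sums hα hL S
  rw [missing, card_filter]
  have hid : ∀ l ∈ blocksF L, (if (S ∩ l).card = 0 then 1 else 0) + (S ∩ l).card =
      1 + Nat.choose (S ∩ l).card 2 := by
    intro l hl
    have := hS l (mem_blocksF.mp hl)
    rw [inter_comm] at this
    interval_cases (S ∩ l).card <;> decide
  have hs := Finset.sum_congr rfl hid
  rw [Finset.sum_add_distrib, Finset.sum_add_distrib, h1, h2, sum_const, h0, smul_eq_mul,
    mul_one] at hs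
  omega

/-- Local data at a point `x` off an arc `S`: the number `c` of lines through `x` missing `S`
and the number `a` of secants through `x`. -/
theorem arc_point_data (hα : Fintype.card α = 21) {L : Set (Finset α)}
    (hL : IsSteinerSystem 2 5 L) {S : Finset α} (hS : Arc L S) {x : α} (hx : x ∉ S) :
    ∃ a : ℕ, ((missing L S).filter (fun l => x ∈ l)).card + S.card = 5 + a ∧ 2 * a ≤ S.card ∧
      (Arc L (insert x S) ↔ a = 0) := by
  obtain ⟨h5, hsum⟩ := pencil_sums hα hL x S hx
  set Px := (blocksF L).filter (fun l => x ∈ l) with hPx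
  refine ⟨(Px.filter (fun l => (S ∩ l).card = 2)).card, ?_, ?_, ?_⟩
  · have hc : (missing L S).filter (fun l => x ∈ l) = Px.filter (fun l => (S ∩ l).card = 0) := by
      rw [missing, hPx, filter_comm]
    rw [hc, card_filter, card_filter]
    have hid : ∀ l ∈ Px, (if (S ∩ l).card = 0 then 1 else 0) + (S ∩ l).card =
        1 + (if (S ∩ l).card = 2 then 1 else 0) := by
      intro l hl
      have := hS l (mem_blocksF.mp (mem_filter.mp hl).1)
      rw [inter_comm] at this
      interval_cases (S ∩ l).card <;> decide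
    have hs := Finset.sum_congr rfl hid
    rw [Finset.sum_add_distrib, Finset.sum_add_distrib, hsum, sum_const, h5, smul_eq_mul,
      mul_one] at hs
    exact hs
  · rw [card_filter, ← hsum, Finset.mul_sum]
    apply Finset.sum_le_sum
    intro l _
    split_ifs with h
    · omega
    · omega
  · rw [arc_insert_iff hx, card_eq_zero, filter_eq_empty_iff]
    constructor
    · rintro ⟨_, h1⟩ l hl
      have hl' := mem_filter.mp hl
      have := h1 l (mem_blocksF.mp hl'.1) hl'.2
      rw [inter_comm] at this
      omega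
    · intro h
      refine ⟨hS, ?_⟩
      intro l hl hxl
      have h2 := hS l hl
      have h3 := h (mem_filter.mpr ⟨mem_blocksF.mpr hl, hxl⟩)
      rw [inter_comm] at h2
      rw [inter_comm]
      omega

theorem missing_filter_of_mem {L : Set (Finset α)} {S : Finset α} {x : α} (hx : x ∈ S) :
    ((missing L S).filter (fun l => x ∈ l)).card = 0 := by
  rw [card_eq_zero, filter_eq_empty_iff]
  intro l hl hxl
  have := (mem_filter.mp hl).2
  rw [card_eq_zero] at this
  have hm : x ∈ S ∩ l := mem_inter.mpr ⟨hx, hxl⟩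
  rw [this] at hm
  exact notMem_empty x hm

/-- Dual moments of the missing lines of an arc, summed over the points off the arc. -/
theorem arc_dual_sums (hα : Fintype.card α = 21) {L : Set (Finset α)}
    (hL : IsSteinerSystem 2 5 L) (S : Finset α) :
    ∑ x ∈ univ \ S, ((missing L S).filter (fun l => x ∈ l)).card = 5 * (missing L S).card ∧
    ∑ x ∈ univ \ S, Nat.choose ((missing L S).filter (fun l => x ∈ l)).card 2 =
      Nat.choose (missing L S).card 2 ∧ (univ \ S).card + S.card = 21 := by
  have d1 := dual_moment1 hL (missing L S) (missing_sub S)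
  have d2 := dual_moment2 hα hL (missing L S) (missing_sub S)
  have hz1 : ∑ x ∈ S, ((missing L S).filter (fun l => x ∈ l)).card = 0 :=
    Finset.sum_eq_zero (fun x hx => missing_filter_of_mem hx)
  have hz2 : ∑ x ∈ S, Nat.choose ((missing L S).filter (fun l => x ∈ l)).card 2 = 0 :=
    Finset.sum_eq_zero (fun x hx => by rw [missing_filter_of_mem hx]; rfl)
  rw [← Finset.sum_sdiff (subset_univ S), hz1, add_zero] at d1
  rw [← Finset.sum_sdiff (subset_univ S), hz2, add_zero] at d2
  refine ⟨d1, d2, ?_⟩
  rw [card_sdiff_of_subset (subset_univ S), card_univ, hα]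
  have := card_le_univ S
  omega

/-- The extension points of an arc. -/
noncomputable def extPts (L : Set (Finset α)) (S : Finset α) : Finset α := by
  classical exact (univ \ S).filter (fun x => Arc L (insert x S))

theorem mem_extPts {L : Set (Finset α)} {S : Finset α} {x : α} :
    x ∈ extPts L S ↔ x ∉ S ∧ Arc L (insert x S) := by
  classical
  simp [extPts]

/-- Extension numbers: an arc with 2, 3, 4, 5 points has 16, 9, 2, 1 extension points. -/
theorem extPts_card (hα : Fintype.card α = 21) {L : Set (Finset α)}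
    (hL : IsSteinerSystem 2 5 L) {S : Finset α} (hS : Arc L S) :
    (S.card = 2 → (extPts L S).card = 16) ∧ (S.card = 3 → (extPts L S).card = 9) ∧
    (S.card = 4 → (extPts L S).card = 2) ∧ (S.card = 5 → (extPts L S).card = 1) := by
  classical
  obtain ⟨d1, d2, hc⟩ := arc_dual_sums hα hL S
  have hM := missing_card hα hL hS
  have hdata : ∀ x ∈ univ \ S, ∃ a : ℕ,
      ((missing L S).filter (fun l => x ∈ l)).card + S.card = 5 + a ∧ 2 * a ≤ S.card ∧
      (Arc L (insert x S) ↔ a = 0) := by
    intro x hx
    exact arc_point_data hα hL hS (mem_sdiff.mp hx).2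
  have hcard : (extPts L S).card =
      ∑ x ∈ univ \ S, if Arc L (insert x S) then 1 else 0 := by
    rw [extPts, card_filter]
  refine ⟨?_, ?_, ?_, ?_⟩
  · intro hk
    rw [hk] at hM hc
    norm_num [Nat.choose] at hM
    have hid : ∀ x ∈ univ \ S, (if Arc L (insert x S) then 1 else 0) +
        ((missing L S).filter (fun l => x ∈ l)).card = 4 := by
      intro x hx
      obtain ⟨a, h1, h2, h3⟩ := hdata x hx
      rw [hk] at h1 h2
      by_cases h : Arc L (insert x S)
      · have := h3.mp h; rw [if_pos h]; omega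
      · have : a ≠ 0 := fun h0 => h (h3.mpr h0)
        rw [if_neg h]; omega
    have hs := Finset.sum_congr rfl hid
    rw [Finset.sum_add_distrib, d1, sum_const, smul_eq_mul, ← hcard] at hs
    omega
  · intro hk
    rw [hk] at hM hc
    norm_num [Nat.choose] at hM
    have hid : ∀ x ∈ univ \ S, (if Arc L (insert x S) then 1 else 0) +
        ((missing L S).filter (fun l => x ∈ l)).card = 3 := by
      intro x hx
      obtain ⟨a, h1, h2, h3⟩ := hdata x hx
      rw [hk] at h1 h2
      by_cases h : Arc L (insert x S)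
      · have := h3.mp h; rw [if_pos h]; omega
      · have : a ≠ 0 := fun h0 => h (h3.mpr h0)
        rw [if_neg h]; omega
    have hs := Finset.sum_congr rfl hid
    rw [Finset.sum_add_distrib, d1, sum_const, smul_eq_mul, ← hcard] at hs
    omega
  · intro hk
    rw [hk] at hM hc
    norm_num [Nat.choose] at hM
    have hM7 : (missing L S).card = 7 := by omega
    rw [hM7] at d1 d2
    have hid : ∀ x ∈ univ \ S, (if Arc L (insert x S) then 1 else 0) +
        2 * ((missing L S).filter (fun l => x ∈ l)).card =
        3 + Nat.choose ((missing L S).filter (fun l => x ∈ l)).card 2 := by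
      intro x hx
      obtain ⟨a, h1, h2, h3⟩ := hdata x hx
      rw [hk] at h1 h2
      have ha : a = 0 ∨ a = 1 ∨ a = 2 := by omega
      rcases ha with rfl | rfl | rfl
      · have hc1 : ((missing L S).filter (fun l => x ∈ l)).card = 1 := by omega
        rw [if_pos (h3.mpr rfl), hc1]; decide
      · have hc1 : ((missing L S).filter (fun l => x ∈ l)).card = 2 := by omega
        rw [if_neg (fun h => by simpa using h3.mp h), hc1]; decide
      · have hc1 : ((missing L S).filter (fun l => x ∈ l)).card = 3 := by omega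
        rw [if_neg (fun h => by simpa using h3.mp h), hc1]; decide
    have hs := Finset.sum_congr rfl hid
    rw [Finset.sum_add_distrib, Finset.sum_add_distrib, ← Finset.mul_sum, d1, d2, sum_const,
      smul_eq_mul, ← hcard] at hs
    have e72 : Nat.choose 7 2 = 21 := by decide
    rw [e72] at hs
    omega
  · intro hk
    rw [hk] at hM hc
    norm_num [Nat.choose] at hM
    have hM6 : (missing L S).card = 6 := by omega
    rw [hM6] at d1 d2
    have hid : ∀ x ∈ univ \ S, (if Arc L (insert x S) then 1 else 0) +
        ((missing L S).filter (fun l => x ∈ l)).card =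
        1 + Nat.choose ((missing L S).filter (fun l => x ∈ l)).card 2 := by
      intro x hx
      obtain ⟨a, h1, h2, h3⟩ := hdata x hx
      rw [hk] at h1 h2
      have ha : a = 0 ∨ a = 1 ∨ a = 2 := by omega
      rcases ha with rfl | rfl | rfl
      · have hc1 : ((missing L S).filter (fun l => x ∈ l)).card = 0 := by omega
        rw [if_pos (h3.mpr rfl), hc1]; decide
      · have hc1 : ((missing L S).filter (fun l => x ∈ l)).card = 1 := by omega
        rw [if_neg (fun h => by simpa using h3.mp h), hc1]; decide
      · have hc1 : ((missing L S).filter (fun l => x ∈ l)).card = 2 := by omega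
        rw [if_neg (fun h => by simpa using h3.mp h), hc1]; decide
    have hs := Finset.sum_congr rfl hid
    rw [Finset.sum_add_distrib, Finset.sum_add_distrib, d1, d2, sum_const,
      smul_eq_mul, ← hcard] at hs
    have e62 : Nat.choose 6 2 = 15 := by decide
    rw [e62] at hs
    omega

/-- The arcs with `k` points, as a `Finset`. -/
noncomputable def arcsF (L : Set (Finset α)) (k : ℕ) : Finset (Finset α) := by
  classical exact (powersetCard k univ).filter (Arc L)

theorem mem_arcsF {L : Set (Finset α)} {k : ℕ} {S : Finset α} :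
    S ∈ arcsF L k ↔ S.card = k ∧ Arc L S := by
  classical
  simp [arcsF, mem_powersetCard]

/-- Arcs through a given `k`-arc `T` with one more point correspond to the extension points. -/
theorem card_arcs_above {L : Set (Finset α)} {k : ℕ} {T : Finset α} (hT : T.card = k) :
    ((arcsF L (k + 1)).filter (fun S => T ⊆ S)).card = (extPts L T).card := by
  symm
  apply Finset.card_bij (fun x _ => insert x T)
  · intro x hx
    rw [mem_extPts] at hx
    rw [mem_filter, mem_arcsF, card_insert_of_notMem hx.1, hT]
    exact ⟨⟨rfl, hx.2⟩, subset_insert x T⟩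
  · intro x hx y hy hxy
    rw [mem_extPts] at hx hy
    have : x ∈ insert y T := by rw [← hxy]; exact mem_insert_self x T
    rcases mem_insert.mp this with h | h
    · exact h
    · exact absurd h hx.1
  · intro S hS
    rw [mem_filter, mem_arcsF] at hS
    obtain ⟨⟨hSc, hSa⟩, hTS⟩ := hS
    have h1 : (S \ T).card = 1 := by
      rw [card_sdiff_of_subset hTS, hSc, hT]; omega
    obtain ⟨x, hx⟩ := card_eq_one.mp h1
    have hxS : x ∈ S \ T := by rw [hx]; exact mem_singleton_self x
    have hins : insert x T = S := by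
      rw [← sdiff_union_of_subset hTS, hx]
      rfl
    refine ⟨x, ?_, hins⟩
    rw [mem_extPts]
    refine ⟨(mem_sdiff.mp hxS).2, ?_⟩
    rw [hins]; exact hSa

/-- One step of the arc count. -/
theorem arcs_step {L : Set (Finset α)} (k e : ℕ)
    (hext : ∀ S ∈ arcsF L k, (extPts L S).card = e) :
    (arcsF L (k + 1)).card * (k + 1) = (arcsF L k).card * e := by
  have h1 := Finset.sum_card_bipartiteAbove_eq_sum_card_bipartiteBelow
    (s := arcsF L k) (t := arcsF L (k + 1)) (r := fun T S => T ⊆ S)
  have hl : ∀ T ∈ arcsF L k,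
      ((arcsF L (k + 1)).bipartiteAbove (fun T S => T ⊆ S) T).card = e := by
    intro T hT
    have := card_arcs_above (L := L) (mem_arcsF.mp hT).1
    rw [hext T hT] at this
    exact this
  have hr : ∀ S ∈ arcsF L (k + 1),
      ((arcsF L k).bipartiteBelow (fun T S => T ⊆ S) S).card = k + 1 := by
    intro S hS
    rw [mem_arcsF] at hS
    have : (arcsF L k).bipartiteBelow (fun T S => T ⊆ S) S = powersetCard k S := by
      ext T
      simp only [bipartiteBelow, mem_filter, mem_arcsF, mem_powersetCard]
      constructor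
      · rintro ⟨⟨hc, _⟩, hTS⟩; exact ⟨hTS, hc⟩
      · rintro ⟨hTS, hc⟩; exact ⟨⟨hc, hS.2.mono hTS⟩, hTS⟩
    rw [this, card_powersetCard, hS.1, Nat.choose_succ_self_right]
  rw [Finset.sum_congr rfl hl, Finset.sum_congr rfl hr, sum_const, sum_const, smul_eq_mul,
    smul_eq_mul] at h1
  exact h1.symm

theorem card_arcsF_two (hα : Fintype.card α = 21) (L : Set (Finset α)) :
    (arcsF L 2).card = 210 := by
  classical
  have : arcsF L 2 = powersetCard 2 (univ : Finset α) := by
    ext S
    rw [mem_arcsF, mem_powersetCard]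
    constructor
    · rintro ⟨h, _⟩; exact ⟨subset_univ S, h⟩
    · rintro ⟨_, h⟩
      refine ⟨h, fun l _ => ?_⟩
      rw [← h]; exact card_le_card inter_subset_right
  rw [this, card_powersetCard, card_univ, hα]
  decide

theorem card_arcsF_three (hα : Fintype.card α = 21) {L : Set (Finset α)}
    (hL : IsSteinerSystem 2 5 L) : (arcsF L 3).card = 1120 := by
  have h : (arcsF L 3).card * 3 = (arcsF L 2).card * 16 := arcs_step (L := L) 2 16
    (fun S hS => (extPts_card hα hL (mem_arcsF.mp hS).2).1 (mem_arcsF.mp hS).1)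
  rw [card_arcsF_two hα L] at h
  omega

theorem card_arcsF_four (hα : Fintype.card α = 21) {L : Set (Finset α)}
    (hL : IsSteinerSystem 2 5 L) : (arcsF L 4).card = 2520 := by
  have h : (arcsF L 4).card * 4 = (arcsF L 3).card * 9 := arcs_step (L := L) 3 9
    (fun S hS => (extPts_card hα hL (mem_arcsF.mp hS).2).2.1 (mem_arcsF.mp hS).1)
  rw [card_arcsF_three hα hL] at h
  omega

/-- Every 4-arc lies in exactly one hyperoval (6-arc), namely itself plus its two extension
points. -/
theorem hyperoval_of_four_arc (hα : Fintype.card α = 21) {L : Set (Finset α)}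
    (hL : IsSteinerSystem 2 5 L) {S : Finset α} (hS : S ∈ arcsF L 4) :
    S ∪ extPts L S ∈ arcsF L 6 ∧ ∀ H ∈ arcsF L 6, S ⊆ H → H = S ∪ extPts L S := by
  obtain ⟨hS4, hSa⟩ := mem_arcsF.mp hS
  have he2 : (extPts L S).card = 2 := (extPts_card hα hL hSa).2.2.1 hS4
  have huniq : ∀ H ∈ arcsF L 6, S ⊆ H → H = S ∪ extPts L S := by
    intro H hH hSH
    obtain ⟨hH6, hHa⟩ := mem_arcsF.mp hH
    have hsub : H \ S ⊆ extPts L S := by
      intro x hx
      rw [mem_sdiff] at hx
      rw [mem_extPts]
      refine ⟨hx.2, hHa.mono ?_⟩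
      exact insert_subset hx.1 hSH
    have hc : (H \ S).card = 2 := by
      rw [card_sdiff_of_subset hSH, hH6, hS4]
    have heq : H \ S = extPts L S := eq_of_subset_of_card_le hsub (by rw [he2, hc])
    rw [← heq, union_sdiff_of_subset hSH]
  refine ⟨?_, huniq⟩
  -- existence
  obtain ⟨q, hq⟩ : ∃ q, q ∈ extPts L S := by
    rw [← Finset.Nonempty, ← card_pos, he2]; norm_num
  obtain ⟨hqS, hqa⟩ := mem_extPts.mp hq
  have hS5 : (insert q S).card = 5 := by rw [card_insert_of_notMem hqS, hS4]
  have he1 : (extPts L (insert q S)).card = 1 := (extPts_card hα hL hqa).2.2.2 hS5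
  obtain ⟨q', hq'⟩ : ∃ q', q' ∈ extPts L (insert q S) := by
    rw [← Finset.Nonempty, ← card_pos, he1]; norm_num
  obtain ⟨hq'S, hq'a⟩ := mem_extPts.mp hq'
  have hH : insert q' (insert q S) ∈ arcsF L 6 := by
    rw [mem_arcsF, card_insert_of_notMem hq'S, hS5]
    exact ⟨rfl, hq'a⟩
  have := huniq _ hH ((subset_insert q S).trans (subset_insert q' _))
  rw [← this]; exact hH

theorem card_arcsF_six (hα : Fintype.card α = 21) {L : Set (Finset α)}
    (hL : IsSteinerSystem 2 5 L) : (arcsF L 6).card = 168 := by
  have h1 := Finset.sum_card_bipartiteAbove_eq_sum_card_bipartiteBelow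
    (s := arcsF L 4) (t := arcsF L 6) (r := fun T S => T ⊆ S)
  have hl : ∀ T ∈ arcsF L 4,
      ((arcsF L 6).bipartiteAbove (fun T S => T ⊆ S) T).card = 1 := by
    intro T hT
    obtain ⟨hH, huniq⟩ := hyperoval_of_four_arc hα hL hT
    rw [card_eq_one]
    refine ⟨T ∪ extPts L T, ?_⟩
    ext H
    simp only [bipartiteAbove, mem_filter, mem_singleton]
    constructor
    · rintro ⟨hH6, hTH⟩; exact huniq H hH6 hTH
    · rintro rfl; exact ⟨hH, subset_union_left⟩
  have hr : ∀ S ∈ arcsF L 6,
      ((arcsF L 4).bipartiteBelow (fun T S => T ⊆ S) S).card = 15 := by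
    intro S hS
    rw [mem_arcsF] at hS
    have : (arcsF L 4).bipartiteBelow (fun T S => T ⊆ S) S = powersetCard 4 S := by
      ext T
      simp only [bipartiteBelow, mem_filter, mem_arcsF, mem_powersetCard]
      constructor
      · rintro ⟨⟨hc, _⟩, hTS⟩; exact ⟨hTS, hc⟩
      · rintro ⟨hTS, hc⟩; exact ⟨⟨hc, hS.2.mono hTS⟩, hTS⟩
    rw [this, card_powersetCard, hS.1]
    decide
  rw [Finset.sum_congr rfl hl, Finset.sum_congr rfl hr, sum_const, sum_const, smul_eq_mul,
    smul_eq_mul, card_arcsF_four hα hL] at h1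
  omega

end Cfsg.Agent.Helper8
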