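import Cfsg.Agent.Lib.Helper8.Plane4

set_option autoImplicit false
set_option linter.unusedSectionVars false

/-! Hyperovals of the plane of order 4 through a given arc, and the number of hyperovals meeting a
given hyperoval in 0 or 2 points (55). -/

namespace Cfsg.Agent.Helper8

open Cfsg Finset

variable {α : Type*} [Fintype α] [DecidableEq α]

/-- The `k`-arcs containing `T`. -/
noncomputable def arcsAbove (L : Set (Finset α)) (T : Finset α) (k : ℕ) : Finset (Finset α) :=
  (arcsF L k).filter (fun S => T ⊆ S)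

theorem mem_arcsAbove {L : Set (Finset α)} {T S : Finset α} {k : ℕ} :
    S ∈ arcsAbove L T k ↔ (S.card = k ∧ Arc L S) ∧ T ⊆ S := by
  rw [arcsAbove, mem_filter, mem_arcsF]

/-- One step of the count of arcs above `T`. -/
theorem arcsAbove_step {L : Set (Finset α)} (T : Finset α) (k e : ℕ)
    (hext : ∀ S ∈ arcsAbove L T k, (extPts L S).card = e) :
    (arcsAbove L T (k + 1)).card * (k + 1 - T.card) = (arcsAbove L T k).card * e := by
  have h1 := Finset.sum_card_bipartiteAbove_eq_sum_card_bipartiteBelow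
    (s := arcsAbove L T k) (t := arcsAbove L T (k + 1)) (r := fun S S' => S ⊆ S')
  have hl : ∀ S ∈ arcsAbove L T k,
      ((arcsAbove L T (k + 1)).bipartiteAbove (fun S S' => S ⊆ S') S).card = e := by
    intro S hS
    have hS' := mem_arcsAbove.mp hS
    rw [← hext S hS, ← card_arcs_above (L := L) hS'.1.1]
    congr 1
    ext S'
    simp only [bipartiteAbove, mem_filter, mem_arcsAbove, mem_arcsF]
    constructor
    · rintro ⟨⟨h1, _⟩, h3⟩; exact ⟨h1, h3⟩
    · rintro ⟨h1, h3⟩; exact ⟨⟨h1, hS'.2.trans h3⟩, h3⟩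
  have hr : ∀ S' ∈ arcsAbove L T (k + 1),
      ((arcsAbove L T k).bipartiteBelow (fun S S' => S ⊆ S') S').card = k + 1 - T.card := by
    intro S' hS'
    obtain ⟨⟨hc, ha⟩, hTS'⟩ := mem_arcsAbove.mp hS'
    have : (S' \ T).card = k + 1 - T.card := by rw [card_sdiff_of_subset hTS', hc]
    rw [← this]
    symm
    apply Finset.card_bij (fun x _ => S'.erase x)
    · intro x hx
      obtain ⟨hxS', hxT⟩ := mem_sdiff.mp hx
      simp only [bipartiteBelow, mem_filter, mem_arcsAbove]
      refine ⟨⟨⟨?_, ha.mono (erase_subset x S')⟩, ?_⟩, erase_subset x S'⟩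
      · rw [card_erase_of_mem hxS', hc]; rfl
      · intro t ht
        exact mem_erase.mpr ⟨fun h => hxT (h ▸ ht), hTS' ht⟩
    · intro x hx y hy hxy
      obtain ⟨hxS', -⟩ := mem_sdiff.mp hx
      by_contra hne
      have : x ∈ S'.erase y := mem_erase.mpr ⟨hne, hxS'⟩
      rw [← hxy] at this
      exact (notMem_erase x S') this
    · intro S hS
      simp only [bipartiteBelow, mem_filter, mem_arcsAbove] at hS
      obtain ⟨⟨⟨hSc, _⟩, hTS⟩, hSS'⟩ := hS
      have h1 : (S' \ S).card = 1 := by
        rw [card_sdiff_of_subset hSS', hc, hSc]; omega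
      obtain ⟨x, hx⟩ := card_eq_one.mp h1
      have hxm : x ∈ S' \ S := by rw [hx]; exact mem_singleton_self x
      obtain ⟨hxS', hxS⟩ := mem_sdiff.mp hxm
      refine ⟨x, mem_sdiff.mpr ⟨hxS', fun h => hxS (hTS h)⟩, ?_⟩
      have : S' = insert x S := by
        rw [← sdiff_union_of_subset hSS', hx]; rfl
      rw [this, erase_insert hxS]
  rw [Finset.sum_congr rfl hl, Finset.sum_congr rfl hr, sum_const, sum_const, smul_eq_mul,
    smul_eq_mul] at h1
  exact h1.symm

theorem arcsAbove_self {L : Set (Finset α)} {T : Finset α} (hT : Arc L T) :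
    arcsAbove L T T.card = {T} := by
  ext S
  rw [mem_arcsAbove, mem_singleton]
  constructor
  · rintro ⟨⟨hc, _⟩, hTS⟩
    exact (eq_of_subset_of_card_le hTS (by rw [hc])).symm
  · rintro rfl; exact ⟨⟨rfl, hT⟩, Subset.refl _⟩

theorem arc_of_card_le_two {L : Set (Finset α)} {S : Finset α} (h : S.card ≤ 2) : Arc L S :=
  fun _ _ => (card_le_card inter_subset_right).trans h

theorem extPts_card_one (hα : Fintype.card α = 21) {L : Set (Finset α)} {S : Finset α}
    (h1 : S.card = 1) : (extPts L S).card = 20 := by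
  classical
  have : extPts L S = univ \ S := by
    ext x
    rw [mem_extPts, mem_sdiff]
    constructor
    · rintro ⟨hx, _⟩; exact ⟨mem_univ x, hx⟩
    · rintro ⟨_, hx⟩
      refine ⟨hx, arc_of_card_le_two ?_⟩
      rw [card_insert_of_notMem hx, h1]
  rw [this, card_sdiff_of_subset (subset_univ S), card_univ, hα, h1]

/-- The number of 4-arcs through a given arc with 4, 3, 2, 1 points. -/
theorem card_arcsAbove_four (hα : Fintype.card α = 21) {L : Set (Finset α)}
    (hL : IsSteinerSystem 2 5 L) {T : Finset α} (hT : Arc L T) :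
    (T.card = 4 → (arcsAbove L T 4).card = 1) ∧ (T.card = 3 → (arcsAbove L T 4).card = 9) ∧
    (T.card = 2 → (arcsAbove L T 4).card = 72) ∧ (T.card = 1 → (arcsAbove L T 4).card = 480) := by
  have hself := arcsAbove_self hT
  have e1 : ∀ S ∈ arcsAbove L T 1, (extPts L S).card = 20 :=
    fun S hS => extPts_card_one hα (mem_arcsAbove.mp hS).1.1
  have e2 : ∀ S ∈ arcsAbove L T 2, (extPts L S).card = 16 :=
    fun S hS => (extPts_card hα hL (mem_arcsAbove.mp hS).1.2).1 (mem_arcsAbove.mp hS).1.1
  have e3 : ∀ S ∈ arcsAbove L T 3, (extPts L S).card = 9 :=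
    fun S hS => (extPts_card hα hL (mem_arcsAbove.mp hS).1.2).2.1 (mem_arcsAbove.mp hS).1.1
  have s1 : (arcsAbove L T 2).card * (2 - T.card) = (arcsAbove L T 1).card * 20 :=
    arcsAbove_step T 1 20 e1
  have s2 : (arcsAbove L T 3).card * (3 - T.card) = (arcsAbove L T 2).card * 16 :=
    arcsAbove_step T 2 16 e2
  have s3 : (arcsAbove L T 4).card * (4 - T.card) = (arcsAbove L T 3).card * 9 :=
    arcsAbove_step T 3 9 e3
  refine ⟨?_, ?_, ?_, ?_⟩
  · intro h; rw [← h, hself, card_singleton]
  · intro h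
    rw [h] at hself s3
    rw [hself, card_singleton] at s3
    omega
  · intro h
    rw [h] at hself s2 s3
    rw [hself, card_singleton] at s2
    omega
  · intro h
    rw [h] at hself s1 s2 s3
    rw [hself, card_singleton] at s1
    omega

/-- The number of hyperovals through a given arc with 4, 3, 2, 1 points: 1, 3, 12, 48. -/
theorem card_hyperovals_above (hα : Fintype.card α = 21) {L : Set (Finset α)}
    (hL : IsSteinerSystem 2 5 L) {T : Finset α} (hT : Arc L T) :
    (T.card = 4 → (arcsAbove L T 6).card = 1) ∧ (T.card = 3 → (arcsAbove L T 6).card = 3) ∧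
    (T.card = 2 → (arcsAbove L T 6).card = 12) ∧ (T.card = 1 → (arcsAbove L T 6).card = 48) := by
  have key : T.card ≤ 4 → (arcsAbove L T 6).card * Nat.choose (6 - T.card) (4 - T.card) =
      (arcsAbove L T 4).card := by
    intro hT4
    have h1 := Finset.sum_card_bipartiteAbove_eq_sum_card_bipartiteBelow
      (s := arcsAbove L T 4) (t := arcsAbove L T 6) (r := fun S O => S ⊆ O)
    have hl : ∀ S ∈ arcsAbove L T 4,
        ((arcsAbove L T 6).bipartiteAbove (fun S O => S ⊆ O) S).card = 1 := by
      intro S hS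
      obtain ⟨hS4, hTS⟩ := mem_arcsAbove.mp hS
      obtain ⟨hH, huniq⟩ := hyperoval_of_four_arc hα hL (mem_arcsF.mpr hS4)
      rw [card_eq_one]
      refine ⟨S ∪ extPts L S, ?_⟩
      ext O
      simp only [bipartiteAbove, mem_filter, mem_arcsAbove, mem_singleton]
      constructor
      · rintro ⟨⟨hO6, _⟩, hSO⟩; exact huniq O (mem_arcsF.mpr hO6) hSO
      · rintro rfl
        exact ⟨⟨mem_arcsF.mp hH, hTS.trans subset_union_left⟩, subset_union_left⟩
    have hr : ∀ O ∈ arcsAbove L T 6,
        ((arcsAbove L T 4).bipartiteBelow (fun S O => S ⊆ O) O).card =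
          Nat.choose (6 - T.card) (4 - T.card) := by
      intro O hO
      obtain ⟨⟨hO6, hOa⟩, hTO⟩ := mem_arcsAbove.mp hO
      rw [← hO6, ← card_between T O hTO 4 hT4]
      congr 1
      ext S
      simp only [bipartiteBelow, mem_filter, mem_arcsAbove, mem_powersetCard]
      constructor
      · rintro ⟨⟨⟨hc, _⟩, hTS⟩, hSO⟩; exact ⟨⟨hSO, hc⟩, hTS⟩
      · rintro ⟨⟨hSO, hc⟩, hTS⟩; exact ⟨⟨⟨hc, hOa.mono hSO⟩, hTS⟩, hSO⟩
    rw [Finset.sum_congr rfl hl, Finset.sum_congr rfl hr, sum_const, sum_const, smul_eq_mul,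
      smul_eq_mul, mul_one] at h1
    exact h1.symm
  obtain ⟨a4, a3, a2, a1⟩ := card_arcsAbove_four hα hL hT
  refine ⟨?_, ?_, ?_, ?_⟩
  · intro h
    have := key (by omega)
    rw [h, a4 h] at this
    norm_num [Nat.choose] at this
    exact this
  · intro h
    have := key (by omega)
    rw [h, a3 h] at this
    norm_num [Nat.choose] at this
    omega
  · intro h
    have := key (by omega)
    rw [h, a2 h] at this
    have e : Nat.choose (6 - 2) (4 - 2) = 6 := by decide
    rw [e] at this
    omega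
  · intro h
    have := key (by omega)
    rw [h, a1 h] at this
    have e : Nat.choose (6 - 1) (4 - 1) = 10 := by decide
    rw [e] at this
    omega

/-- Moments of the intersection sizes of a hyperoval with all hyperovals. -/
theorem hyperoval_moments (hα : Fintype.card α = 21) {L : Set (Finset α)}
    (hL : IsSteinerSystem 2 5 L) {O : Finset α} (hO : O ∈ arcsF L 6) :
    (arcsF L 6).card = 168 ∧ ∑ O' ∈ arcsF L 6, (O ∩ O').card = 288 ∧
    ∑ O' ∈ arcsF L 6, Nat.choose (O ∩ O').card 2 = 180 ∧
    ∑ O' ∈ arcsF L 6, Nat.choose (O ∩ O').card 3 = 60 ∧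
    ∑ O' ∈ arcsF L 6, Nat.choose (O ∩ O').card 4 = 15 := by
  obtain ⟨hO6, hOa⟩ := mem_arcsF.mp hO
  have key : ∀ j lam : ℕ, (∀ T ∈ powersetCard j O, (arcsAbove L T 6).card = lam) →
      ∑ O' ∈ arcsF L 6, Nat.choose (O ∩ O').card j = Nat.choose 6 j * lam := by
    intro j lam hlam
    have h1 := Finset.sum_card_bipartiteAbove_eq_sum_card_bipartiteBelow
      (s := powersetCard j O) (t := arcsF L 6) (r := fun T O' => T ⊆ O')
    have hl : ∀ T ∈ powersetCard j O,
        ((arcsF L 6).bipartiteAbove (fun T O' => T ⊆ O') T).card = lam := by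
      intro T hT
      rw [← hlam T hT]
      rfl
    have hr : ∀ O' ∈ arcsF L 6,
        ((powersetCard j O).bipartiteBelow (fun T O' => T ⊆ O') O').card =
          Nat.choose (O ∩ O').card j := by
      intro O' _
      rw [← card_powersetCard]
      congr 1
      ext T
      simp only [bipartiteBelow, mem_filter, mem_powersetCard, subset_inter_iff]
      tauto
    rw [Finset.sum_congr rfl hl, Finset.sum_congr rfl hr, sum_const, card_powersetCard, hO6,
      smul_eq_mul] at h1
    exact h1.symm
  have hsub : ∀ j, ∀ T ∈ powersetCard j O, Arc L T ∧ T.card = j := by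
    intro j T hT
    rw [mem_powersetCard] at hT
    exact ⟨hOa.mono hT.1, hT.2⟩
  refine ⟨card_arcsF_six hα hL, ?_, ?_, ?_, ?_⟩
  · have := key 1 48 (fun T hT =>
      (card_hyperovals_above hα hL (hsub 1 T hT).1).2.2.2 (hsub 1 T hT).2)
    simp only [Nat.choose_one_right] at this
    rw [this]
  · have := key 2 12 (fun T hT =>
      (card_hyperovals_above hα hL (hsub 2 T hT).1).2.2.1 (hsub 2 T hT).2)
    rw [this]; decide
  · have := key 3 3 (fun T hT =>
      (card_hyperovals_above hα hL (hsub 3 T hT).1).2.1 (hsub 3 T hT).2)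
    rw [this]; decide
  · have := key 4 1 (fun T hT =>
      (card_hyperovals_above hα hL (hsub 4 T hT).1).1 (hsub 4 T hT).2)
    rw [this]; decide

/-- Exactly 55 hyperovals meet a given hyperoval in 0 or 2 points. -/
theorem card_even_hyperovals (hα : Fintype.card α = 21) {L : Set (Finset α)}
    (hL : IsSteinerSystem 2 5 L) {O : Finset α} (hO : O ∈ arcsF L 6) :
    ((arcsF L 6).filter (fun O' => (O ∩ O').card = 0 ∨ (O ∩ O').card = 2)).card = 55 := by
  classical
  obtain ⟨hO6, hOa⟩ := mem_arcsF.mp hO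
  obtain ⟨h0, h1, h2, h3, h4⟩ := hyperoval_moments hα hL hO
  rw [← Finset.add_sum_erase _ _ hO, inter_self, hO6] at h1 h2 h3 h4
  rw [← Finset.card_erase_add_one hO] at h0
  have e64 : Nat.choose 6 4 = 15 := by decide
  rw [e64] at h4
  norm_num [Nat.choose] at h1 h2 h3
  set E := (arcsF L 6).erase O with hE
  -- intersections with other hyperovals have at most 3 points
  have hle : ∀ O' ∈ E, (O ∩ O').card ≤ 3 := by
    intro O' hO'
    have hz : Nat.choose (O ∩ O').card 4 = 0 := by
      have h40 : ∑ O' ∈ E, Nat.choose (O ∩ O').card 4 = 0 := by omega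
      exact (Finset.sum_eq_zero_iff.mp h40) O' hO'
    by_contra hgt
    have : 4 ≤ (O ∩ O').card := by omega
    have := Nat.choose_pos this
    omega
  have hfilt : (arcsF L 6).filter (fun O' => (O ∩ O').card = 0 ∨ (O ∩ O').card = 2) =
      E.filter (fun O' => (O ∩ O').card = 0 ∨ (O ∩ O').card = 2) := by
    ext O'
    simp only [mem_filter, hE, mem_erase]
    constructor
    · rintro ⟨hm, hc⟩
      refine ⟨⟨?_, hm⟩, hc⟩
      rintro rfl
      rw [inter_self, hO6] at hc
      omega
    · rintro ⟨⟨_, hm⟩, hc⟩; exact ⟨hm, hc⟩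
  rw [hfilt, card_filter]
  have hid : ∀ O' ∈ E, (if (O ∩ O').card = 0 ∨ (O ∩ O').card = 2 then 1 else 0) +
      (O ∩ O').card + 4 * Nat.choose (O ∩ O').card 3 = 1 + 2 * Nat.choose (O ∩ O').card 2 := by
    intro O' hO'
    have := hle O' hO'
    interval_cases (O ∩ O').card <;> decide
  have hs := Finset.sum_congr rfl hid
  rw [Finset.sum_add_distrib, Finset.sum_add_distrib, Finset.sum_add_distrib, ← Finset.mul_sum,
    ← Finset.mul_sum, sum_const, smul_eq_mul, mul_one] at hs
  omega

end Cfsg.Agent.Helper8
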