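import Cfsg.Agent.S5628

set_option autoImplicit false
set_option linter.unusedSectionVars false

/-! The automorphism group of a projective plane of order 4 has at most 168 · 720 elements. -/

open scoped Pointwise

namespace Cfsg.Agent.Helper8

open Cfsg Finset

section planeaut

variable {α : Type*} [Fintype α] [DecidableEq α]

theorem arc_image {L : Set (Finset α)} {g : Equiv.Perm α} (hg : g ∈ setSystemAut L)
    {S : Finset α} (hS : Arc L S) : Arc L (S.image g) := by
  intro l hl
  have hginv : g⁻¹ ∈ setSystemAut L := inv_mem hg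
  rw [Cfsg.Agent.S5628.mem_aut_iff] at hginv
  have h1 := hS _ (hginv l hl)
  have h2 : l ∩ S.image g = (l.image (g⁻¹ : Equiv.Perm α) ∩ S).image g := by
    ext x
    simp only [mem_inter, mem_image]
    constructor
    · rintro ⟨hxl, y, hy, rfl⟩
      exact ⟨y, ⟨⟨g y, hxl, by simp⟩, hy⟩, rfl⟩
    · rintro ⟨y, ⟨⟨z, hz, rfl⟩, hy⟩, rfl⟩
      exact ⟨by simpa using hz, _, hy, rfl⟩
  rw [h2, card_image_of_injective _ g.injective]
  exact h1

theorem aut_smul_eq_image {L : Set (Finset α)} (g : setSystemAut L) (H : Finset α) :
    (g • H : Finset α) = H.image (g : Equiv.Perm α) := by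
  ext y
  simp [Finset.mem_smul_finset, Subgroup.smul_def]

theorem card_planeAut_le (hα : Fintype.card α = 21) {L : Set (Finset α)}
    (hL : IsSteinerSystem 2 5 L) : Nat.card (setSystemAut L) ≤ 120960 := by
  classical
  obtain ⟨H, hH⟩ : (arcsF L 6).Nonempty := by
    rw [← card_pos, card_arcsF_six hα hL]; norm_num
  have hH6 : H.card = 6 := (mem_arcsF.mp hH).1
  -- orbit-stabiliser
  have h1 : Nat.card (setSystemAut L) =
      Nat.card (MulAction.orbit (setSystemAut L) H) *
        Nat.card (MulAction.stabilizer (setSystemAut L) H) := by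
    rw [← Nat.card_congr (MulAction.orbitEquivQuotientStabilizer (setSystemAut L) H).symm]
    exact Subgroup.card_eq_card_quotient_mul_card_subgroup _
  -- orbit bound
  have h2 : Nat.card (MulAction.orbit (setSystemAut L) H) ≤ 168 := by
    rw [← card_arcsF_six hα hL, ← Nat.card_eq_finsetCard]
    apply Nat.card_le_card_of_injective
      (fun x : MulAction.orbit (setSystemAut L) H => (⟨x.1, by
        obtain ⟨g, hg⟩ := x.2
        have hg' : H.image (g : Equiv.Perm α) = x.1 := (aut_smul_eq_image g H).symm.trans hg
        rw [← hg', mem_arcsF, card_image_of_injective _ (g : Equiv.Perm α).injective]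
        exact ⟨hH6, arc_image g.2 (mem_arcsF.mp hH).2⟩⟩ : {S // S ∈ arcsF L 6}))
    intro x y hxy
    apply Subtype.ext
    exact congrArg (fun z : {S // S ∈ arcsF L 6} => z.1) hxy
  -- stabiliser bound
  have h3 : Nat.card (MulAction.stabilizer (setSystemAut L) H) ≤ 720 := by
    have hmem : ∀ g : MulAction.stabilizer (setSystemAut L) H, ∀ x,
        x ∈ H ↔ ((g : setSystemAut L) : Equiv.Perm α) x ∈ H := by
      intro g x
      have hg : ((g : setSystemAut L) • H : Finset α) = H := g.2
      have himg : H.image ((g : setSystemAut L) : Equiv.Perm α) = H :=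
        (aut_smul_eq_image (g : setSystemAut L) H).symm.trans hg
      have hiff := fun y => Finset.ext_iff.mp himg y
      constructor
      · intro hx
        exact (hiff _).mp (mem_image_of_mem _ hx)
      · intro hx
        obtain ⟨y, hy, hyx⟩ := mem_image.mp ((hiff _).mpr hx)
        rw [← Equiv.injective _ hyx]
        exact hy
    have hc : Nat.card (Equiv.Perm {x // x ∈ H}) = 720 := by
      rw [Nat.card_eq_fintype_card, Fintype.card_perm, Fintype.card_coe, hH6]
      rfl
    rw [← hc]
    apply Nat.card_le_card_of_injective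
      (fun g : MulAction.stabilizer (setSystemAut L) H =>
        Equiv.Perm.subtypePerm ((g : setSystemAut L) : Equiv.Perm α)
          (fun x => (hmem g x).symm))
    intro g g' hgg'
    apply Subtype.ext
    apply Subtype.ext
    -- g'⁻¹ * g fixes H pointwise
    have hfix : ∀ a ∈ H, (((g' : setSystemAut L) : Equiv.Perm α)⁻¹ *
        ((g : setSystemAut L) : Equiv.Perm α)) a = a := by
      intro a ha
      have := congrArg (fun s : Equiv.Perm {x // x ∈ H} => ((s ⟨a, ha⟩ : {x // x ∈ H}) : α)) hgg'
      simp only [Equiv.Perm.subtypePerm_apply] at this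
      rw [Equiv.Perm.mul_apply, this]
      simp
    have hmemaut : (((g' : setSystemAut L) : Equiv.Perm α)⁻¹ *
        ((g : setSystemAut L) : Equiv.Perm α)) ∈ setSystemAut L :=
      mul_mem (inv_mem (g' : setSystemAut L).2) (g : setSystemAut L).2
    rw [Cfsg.Agent.S5628.mem_aut_iff] at hmemaut
    have hone : (((g' : setSystemAut L) : Equiv.Perm α)⁻¹ *
        ((g : setSystemAut L) : Equiv.Perm α)) = 1 := by
      ext x
      exact Cfsg.Agent.S5628.rigid hα hL hH _ hmemaut hfix x
    exact (inv_mul_eq_one.mp hone).symm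
  calc Nat.card (setSystemAut L) = _ := h1
    _ ≤ 168 * 720 := Nat.mul_le_mul h2 h3
    _ = 120960 := by norm_num

end planeaut

end Cfsg.Agent.Helper8
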