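import Mathlib
import Cfsg.Prelude.Def_FusionSystem
import Cfsg.Prelude.Def_KGroupFacts
import Cfsg.Agent.Lib.Helper87.Psl3Defs

/-!
# PSL3F lemma server (helper87, S5318): piece (N5) `conj_M0`

`N(P2)` maps `M0` to `M0^{±1}`.
-/

set_option autoImplicit false

namespace Cfsg.Agent.Helper8.Psl3

open Matrix Cfsg Cfsg.Agent.Helper87.Psl3

variable {F : Type*} [Field F]

local notation "SL3" => Matrix.SpecialLinearGroup (Fin 3) F
local notation "GL2" => GL (Fin 2) F

theorem h8_rot_inj {a b c d : F} (h : rot a b = rot c d) : a = c ∧ b = d := by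
  have e00 := congrFun (congrFun h 0) 0
  have e01 := congrFun (congrFun h 0) 1
  simp [rot] at e00 e01
  exact ⟨e00, e01⟩

theorem h8_M0_mem_Eu : (M0 : GL2) ∈ Eu := (mem_Eu_iff _).2 ⟨0, 1, rfl⟩

theorem h8_M0_sq_val : ((M0 * M0 : GL2) : Matrix (Fin 2) (Fin 2) F) = rot (-1) 0 := by
  rw [Units.val_mul, M0_val, rot_mul]; congr 1 <;> ring

theorem h8_M0_pow_four : (M0 : GL2) ^ (2 ^ 2) = 1 := by
  apply Units.ext
  have h : (M0 : GL2) ^ (2 ^ 2) = (M0 * M0) * (M0 * M0) := by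
    rw [show (2 : ℕ) ^ 2 = 2 + 2 by norm_num, pow_add, pow_two]
  rw [h, Units.val_mul, h8_M0_sq_val, rot_mul, Units.val_one, ← rot_one]; congr 1 <;> ring

theorem h8_M0_mem_P2 : (M0 : GL2) ∈ P2 := ⟨h8_M0_mem_Eu, 2, h8_M0_pow_four⟩

/-- a matrix `rot a 0` is scalar, hence commutes with everything -/
theorem h8_rot_zero_comm (a : F) (M : Matrix (Fin 2) (Fin 2) F) : rot a 0 * M = M * rot a 0 := by
  ext i j
  fin_cases i <;> fin_cases j <;> simp [rot, Matrix.mul_apply, Fin.sum_univ_two, mul_comm]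

theorem h8_central_of_rot_zero {Y : GL2} {a : F}
    (h : (Y : Matrix (Fin 2) (Fin 2) F) = rot a 0) (X : GL2) : Y * X = X * Y := by
  apply Units.ext
  rw [Units.val_mul, Units.val_mul, h, h8_rot_zero_comm]

theorem h8_M0_inv_val : (((M0 : GL2)⁻¹ : GL2) : Matrix (Fin 2) (Fin 2) F) = rot 0 (-1) := rfl

theorem conj_M0 (h2 : (2 : F) ≠ 0) (X : GL2)
    (hX : X ∈ Subgroup.normalizer ((P2 : Subgroup GL2) : Set GL2)) :
    X * M0 * X⁻¹ = M0 ∨ X * M0 * X⁻¹ = M0⁻¹ := by
  have hY : X * M0 * X⁻¹ ∈ (P2 : Subgroup GL2) :=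
    (Subgroup.mem_normalizer_iff.1 hX M0).1 h8_M0_mem_P2
  obtain ⟨a, b, hab⟩ := (mem_Eu_iff _).1 hY.1
  -- the square of the conjugate is the conjugate of the (central) square
  have hsqc : (M0 * M0 : GL2) * X⁻¹ = X⁻¹ * (M0 * M0) :=
    h8_central_of_rot_zero h8_M0_sq_val X⁻¹
  have hsq : (X * M0 * X⁻¹) * (X * M0 * X⁻¹) = M0 * M0 := by
    have : (X * M0 * X⁻¹) * (X * M0 * X⁻¹) = X * ((M0 * M0) * X⁻¹) := by group
    rw [this, hsqc]; group
  have hv : (((X * M0 * X⁻¹) * (X * M0 * X⁻¹) : GL2) : Matrix (Fin 2) (Fin 2) F) =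
      ((M0 * M0 : GL2) : Matrix (Fin 2) (Fin 2) F) := by rw [hsq]
  rw [Units.val_mul, hab, h8_M0_sq_val, rot_mul] at hv
  obtain ⟨e1, e2⟩ := h8_rot_inj hv
  have hab0 : a * b = 0 := by
    have : (2 : F) * (a * b) = 0 := by linear_combination e2
    rcases mul_eq_zero.1 this with h | h
    · exact absurd h h2
    · exact h
  rcases mul_eq_zero.1 hab0 with ha | hb
  · -- a = 0, b² = 1
    subst ha
    have hb2 : (b - 1) * (b + 1) = 0 := by linear_combination -e1
    rcases mul_eq_zero.1 hb2 with h | h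
    · left
      apply Units.ext
      rw [hab, M0_val]
      have : b = 1 := by linear_combination h
      rw [this]
    · right
      apply Units.ext
      rw [hab, h8_M0_inv_val]
      have : b = -1 := by linear_combination h
      rw [this]
  · -- b = 0: the conjugate is scalar, impossible
    exfalso
    subst hb
    have hc : (X * M0 * X⁻¹) * X = X * (X * M0 * X⁻¹) := h8_central_of_rot_zero hab X
    have hM : (M0 : GL2) = X * M0 * X⁻¹ := by
      have h1 : (X * M0 * X⁻¹) * X = X * M0 := by group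
      rw [h1] at hc
      exact mul_left_cancel hc
    have hv2 : ((M0 : GL2) : Matrix (Fin 2) (Fin 2) F) =
        ((X * M0 * X⁻¹ : GL2) : Matrix (Fin 2) (Fin 2) F) := by rw [← hM]
    rw [hab, M0_val] at hv2
    obtain ⟨_, e4⟩ := h8_rot_inj hv2
    exact one_ne_zero e4

end Cfsg.Agent.Helper8.Psl3
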