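import Mathlib
import Cfsg.Prelude.Def_FusionSystem
import Cfsg.Prelude.Def_KGroupFacts
import Cfsg.Agent.Lib.Helper87.Psl3Defs

/-!
# PSL3F lemma server (helper87, S5318): piece (NORM) `normalizer_S3`

Assembly of the normalizer of `S3` from the pieces (N1), (CEN), (CHAR), (N5), (N6), which enter as
explicit hypotheses.
-/

set_option autoImplicit false

namespace Cfsg.Agent.Helper8.Psl3

open Matrix Cfsg Cfsg.Agent.Helper87.Psl3

variable {F : Type*} [Field F]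

local notation "SL3" => Matrix.SpecialLinearGroup (Fin 3) F
local notation "GL2" => GL (Fin 2) F

theorem h8n_iota_injective : Function.Injective (iota : GL2 →* SL3) := by
  intro X Y h
  have hm : iotaMat X = iotaMat Y := by
    have := congrArg (fun g : SL3 => (g : Matrix (Fin 3) (Fin 3) F)) h
    simpa using this
  have e00 := congrFun (congrFun hm 0) 0
  have e01 := congrFun (congrFun hm 0) 1
  have e10 := congrFun (congrFun hm 1) 0
  have e11 := congrFun (congrFun hm 1) 1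
  simp [iotaMat] at e00 e01 e10 e11
  apply Units.ext
  ext i j
  fin_cases i <;> fin_cases j
  · exact e00
  · exact e01
  · exact e10
  · exact e11

theorem h8n_iota_mem_S3_iff (Z : GL2) : iota Z ∈ (S3 : Subgroup SL3) ↔ Z ∈ (S2 : Subgroup GL2) :=
  Subgroup.mem_map_iff_mem h8n_iota_injective

theorem h8n_tau_mem_S2 : (tau : GL2) ∈ (S2 : Subgroup GL2) :=
  (le_sup_right : Subgroup.zpowers tau ≤ P2 ⊔ Subgroup.zpowers tau) (Subgroup.mem_zpowers tau)

theorem h8n_P2_le_S2 : (P2 : Subgroup GL2) ≤ S2 :=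
  (le_sup_left : P2 ≤ P2 ⊔ Subgroup.zpowers tau)

theorem h8n_tau_conj_M0 : (tau : GL2) * M0 * tau⁻¹ = M0⁻¹ := by
  apply Units.ext
  have h1 : (((tau : GL2)⁻¹ : GL2) : Matrix (Fin 2) (Fin 2) F) = !![1, 0; 0, -1] := rfl
  have h2 : (((M0 : GL2)⁻¹ : GL2) : Matrix (Fin 2) (Fin 2) F) = rot 0 (-1) := rfl
  rw [Units.val_mul, Units.val_mul, h1, h2, tau_val, M0_val]
  ext i j
  fin_cases i <;> fin_cases j <;> simp [rot, Matrix.mul_apply, Fin.sum_univ_two]

theorem h8n_sc_comm (c : Fˣ) (X : GL2) : sc c * X = X * sc c :=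
  Matrix.GeneralLinearGroup.scalar_commute c X

/-- from `g = iota X ∈ N(S3)` get `X ∈ N(S2)` -/
theorem h8n_normalizer_of_iota (X : GL2)
    (hg : iota X ∈ Subgroup.normalizer ((S3 : Subgroup SL3) : Set SL3)) :
    X ∈ Subgroup.normalizer ((S2 : Subgroup GL2) : Set GL2) := by
  rw [Subgroup.mem_normalizer_iff] at hg ⊢
  intro Z
  have h := hg (iota Z)
  have e : iota X * iota Z * (iota X)⁻¹ = (iota (X * Z * X⁻¹) : SL3) := by
    rw [map_mul, map_mul, map_inv]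
  rw [e, h8n_iota_mem_S3_iff, h8n_iota_mem_S3_iff] at h
  exact h

theorem h8n_mem_Eu_of_conj {X : GL2} (h : X * M0 * X⁻¹ = M0) : X ∈ (Eu : Subgroup GL2) := by
  intro Y hY
  rw [Set.mem_singleton_iff] at hY
  subst hY
  have : X * M0 = M0 * X := by
    calc X * M0 = (X * M0 * X⁻¹) * X := by group
      _ = M0 * X := by rw [h]
  exact this.symm

theorem normalizer_S3 (h2 : (2 : F) ≠ 0)
    (hN1 : ∀ g : SL3, g ∈ Subgroup.normalizer ((S3 : Subgroup SL3) : Set SL3) → g * zz = zz * g)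
    (hCEN : ∀ g : SL3, g * zz = zz * g → ∃ X : GL2, g = iota X)
    (hCHAR : ∀ X : GL2, X ∈ Subgroup.normalizer ((S2 : Subgroup GL2) : Set GL2) →
      X ∈ Subgroup.normalizer ((P2 : Subgroup GL2) : Set GL2))
    (hN5 : ∀ X : GL2, X ∈ Subgroup.normalizer ((P2 : Subgroup GL2) : Set GL2) →
      X * M0 * X⁻¹ = M0 ∨ X * M0 * X⁻¹ = M0⁻¹)
    (hN6 : ∀ X : GL2, X ∈ Eu → X ∈ Subgroup.normalizer ((S2 : Subgroup GL2) : Set GL2) →
      ∃ Y ∈ (P2 : Subgroup GL2), ∃ c : Fˣ, Odd (orderOf c) ∧ X = Y * sc c)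
    (g : SL3) (hg : g ∈ Subgroup.normalizer ((S3 : Subgroup SL3) : Set SL3)) :
    ∃ s ∈ (S3 : Subgroup SL3), ∃ c : Fˣ, Odd (orderOf c) ∧ g = s * iota (sc c) := by
  obtain ⟨X, rfl⟩ := hCEN g (hN1 g hg)
  have hXN : X ∈ Subgroup.normalizer ((S2 : Subgroup GL2) : Set GL2) := h8n_normalizer_of_iota X hg
  rcases hN5 X (hCHAR X hXN) with h | h
  · -- X centralizes M0
    obtain ⟨Y, hY, c, hc, hXY⟩ := hN6 X (h8n_mem_Eu_of_conj h) hXN
    refine ⟨iota Y, (h8n_iota_mem_S3_iff Y).2 (h8n_P2_le_S2 hY), c, hc, ?_⟩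
    rw [hXY, map_mul]
  · -- X inverts M0: replace X by X * tau
    have hconj : (X * tau) * M0 * (X * tau)⁻¹ = M0 := by
      have e : (X * tau) * M0 * (X * tau)⁻¹ = X * (tau * M0 * tau⁻¹) * X⁻¹ := by group
      rw [e, h8n_tau_conj_M0]
      have e2 : X * M0⁻¹ * X⁻¹ = (X * M0 * X⁻¹)⁻¹ := by group
      rw [e2, h, inv_inv]
    have hXtN : X * tau ∈ Subgroup.normalizer ((S2 : Subgroup GL2) : Set GL2) :=
      Subgroup.mul_mem _ hXN (Subgroup.le_normalizer h8n_tau_mem_S2)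
    obtain ⟨Y, hY, c, hc, hXY⟩ := hN6 (X * tau) (h8n_mem_Eu_of_conj hconj) hXtN
    have hX : X = (Y * tau⁻¹) * sc c := by
      have e : X = (X * tau) * tau⁻¹ := by group
      rw [e, hXY, mul_assoc, mul_assoc, h8n_sc_comm]
    refine ⟨iota (Y * tau⁻¹), (h8n_iota_mem_S3_iff _).2
      (Subgroup.mul_mem _ (h8n_P2_le_S2 hY) (Subgroup.inv_mem _ h8n_tau_mem_S2)), c, hc, ?_⟩
    rw [← map_mul, ← hX]

end Cfsg.Agent.Helper8.Psl3
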