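import Mathlib
import Cfsg.Prelude.Def_RootSubgroups
import Cfsg.Agent.Lib.Helper83.Conj
import Cfsg.Agent.Lib.Helper83.CommMod
import Cfsg.Agent.Lib.Helper83.RankOne
import Cfsg.Agent.Lib.Helper83.RankOneNormal
import Cfsg.Agent.Lib.Helper83.RootBasic
import Cfsg.Agent.Lib.Helper83.RootLemmas
import Cfsg.Agent.Lib.Helper83.Root30
import Cfsg.Agent.Lib.Helper83.R2N1
import Cfsg.Agent.Lib.Helper83.R2E
import Cfsg.Agent.Lib.Helper83.R2G
import Cfsg.Agent.Lib.Helper83.R3Defs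
import Cfsg.Agent.Lib.Helper94.RootComm
import Cfsg.Agent.Lib.Helper94.RootMap
import Cfsg.Agent.S5029

set_option autoImplicit false

namespace Cfsg.Agent.Helper8.R3

open Cfsg Cfsg.Agent.Helper83 Cfsg.Agent.Helper83.R2 Cfsg.Agent.Helper83.R3 Cfsg.Agent.Helper94
open scoped commutatorElement

variable {G : Type*} [Group G] {S : Set (Subgroup G)} {N : Subgroup G}

/-- (CS) `C_S(A) ⊆ C_S(n A n⁻¹)` for `n ∈ N`. -/
theorem centralizing_subset (c : NCtx S N) (hIA : InfCentral S N) :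
    ∀ A ∈ S, ∀ n ∈ N, centralizingMembers S A ⊆ centralizingMembers S (conjBy A n) := by
  have hNn : N.Normal := c.normal
  intro A hA n hn E hE
  obtain ⟨hES, hEA⟩ := hE
  refine ⟨hES, ?_⟩
  -- `E' = conjBy E n⁻¹`
  have hE'S : conjBy E n⁻¹ ∈ S := c.root.hS.conj_mem E hES n⁻¹
  have hEAbot : ⁅E, A⁆ = ⊥ := Subgroup.commutator_eq_bot_iff_le_centralizer.2 hEA
  -- `⁅E', A⁆ ≤ N`
  have hle : ⁅conjBy E n⁻¹, A⁆ ≤ N := by
    have h1 : conjBy E n⁻¹ ≤ E ⊔ ⁅N, E⁆ := conjBy_le_sup_commutator (E := N) (B := E) (N.inv_mem hn)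
    have h2 : ⁅N, E⁆ ≤ N := by
      rw [Subgroup.commutator_comm]
      exact Subgroup.commutator_le_right E N
    have h3 : conjBy E n⁻¹ ≤ E ⊔ N := h1.trans (sup_le_sup_left h2 E)
    have hnorm : E ⊔ N ≤ Subgroup.normalizer (N : Set G) := by
      rw [Subgroup.normalizer_eq_top]
      exact le_top
    have h4 : ⁅E ⊔ N, A⁆ ≤ N := by
      apply commutator_sup_le hnorm
      · rw [hEAbot]
        exact bot_le
      · exact Subgroup.commutator_le_left N A
    exact (Subgroup.commutator_mono h3 le_rfl).trans h4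
  have hbot : ⁅conjBy E n⁻¹, A⁆ = ⊥ := by
    rcases c.root.hS.pair _ hE'S A hA with h | h | h
    · exact h
    · exfalso
      have h1 : ⁅conjBy E n⁻¹, A⁆ ≤ conjBy E n⁻¹ ⊔ A := by
        rw [Subgroup.commutator_le]
        intro x hx y hy
        rw [commutatorElement_def]
        exact Subgroup.mul_mem _ (Subgroup.mul_mem _ (Subgroup.mul_mem _
          (Subgroup.mem_sup_left hx) (Subgroup.mem_sup_right hy))
          (Subgroup.mem_sup_left (Subgroup.inv_mem _ hx)))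
          (Subgroup.mem_sup_right (Subgroup.inv_mem _ hy))
      have h2 : ⁅conjBy E n⁻¹, A⁆ ≤ N ⊓ (conjBy E n⁻¹ ⊔ A) := le_inf hle h1
      have h3 := h2.trans (hIA _ hE'S A hA h)
      have h4 : ⁅conjBy E n⁻¹, A⁆ ≤ Subgroup.centralizer (A : Set G) := by
        intro x hx
        have hx' := h3 hx
        rw [Subgroup.mem_centralizer_iff] at hx' ⊢
        intro y hy
        exact hx' y (Subgroup.mem_sup_right hy)
      exact rankOne_comm_not_central h (c.root.hS.commutative A hA) h4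
    · exfalso
      exact c.noMem _ h.1 hle
  -- conclusion
  intro e he
  rw [Subgroup.mem_centralizer_iff]
  intro x hx
  rw [SetLike.mem_coe, mem_conjBy] at hx
  have he' : n⁻¹ * e * n ∈ conjBy E n⁻¹ := by
    have h0 := conj_mem_conjBy (g := n⁻¹) he
    rwa [inv_inv] at h0
  have hcm := commute_of_comm_eq_bot hbot _ he' _ hx
  -- `(n⁻¹ e n) (n⁻¹ x n) = (n⁻¹ x n) (n⁻¹ e n)`
  have h5 : n⁻¹ * (e * x) * n = n⁻¹ * (x * e) * n := by
    calc n⁻¹ * (e * x) * n = (n⁻¹ * e * n) * (n⁻¹ * x * n) := by group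
      _ = (n⁻¹ * x * n) * (n⁻¹ * e * n) := hcm
      _ = n⁻¹ * (x * e) * n := by group
  have h6 := mul_left_cancel (mul_right_cancel h5)
  exact h6.symm

end Cfsg.Agent.Helper8.R3
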