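import Mathlib
import Cfsg.Prelude.Def_RootSubgroups
import Cfsg.Agent.Lib.Helper83.Conj
import Cfsg.Agent.Lib.Helper83.CommMod
import Cfsg.Agent.Lib.Helper83.RankOne
import Cfsg.Agent.Lib.Helper83.RankOneNormal
import Cfsg.Agent.Lib.Helper83.RootBasic
import Cfsg.Agent.Lib.Helper83.RootLemmas
import Cfsg.Agent.Lib.Helper83.Root30
import Cfsg.Agent.Lib.Helper83.R2N1
import Cfsg.Agent.Lib.Helper83.R2E
import Cfsg.Agent.Lib.Helper83.R2G
import Cfsg.Agent.Lib.Helper83.R3Defs
import Cfsg.Agent.Lib.Helper94.RootComm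
import Cfsg.Agent.Lib.Helper94.RootMap
import Cfsg.Agent.S5029

set_option autoImplicit false

namespace Cfsg.Agent.Helper8.R3

open Cfsg Cfsg.Agent.Helper83 Cfsg.Agent.Helper83.R2 Cfsg.Agent.Helper83.R3 Cfsg.Agent.Helper94
open scoped commutatorElement

variable {G : Type*} [Group G] {S : Set (Subgroup G)} {N : Subgroup G}

/-- (LC) `N ≤ Z(G)`. -/
theorem le_center (c : NCtx S N) (hIA : InfCentral S N)
    (hnorm : ∀ A ∈ S, ∀ n ∈ N, conjBy A n = A) : N ≤ Subgroup.center G := by
  have hNn : N.Normal := c.normal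
  have key : ∀ A ∈ S, A ≤ Subgroup.centralizer (N : Set G) := by
    intro A hA
    obtain ⟨B, hB, hr⟩ := c.root.partner A hA
    have h1 : A ⊓ N = ⊥ := by
      rw [eq_bot_iff]
      intro x hx
      have hxA : x ∈ A := hx.1
      have hxN : x ∈ N := hx.2
      have h2 : x ∈ N ⊓ (A ⊔ B) := ⟨hxN, Subgroup.mem_sup_left hxA⟩
      have h3 := hIA A hA B hB hr h2
      have h4 : x ∈ Subgroup.centralizer (B : Set G) := by
        rw [Subgroup.mem_centralizer_iff] at h3 ⊢
        intro y hy
        exact h3 y (Subgroup.mem_sup_right hy)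
      have h5 : x ∈ A ⊓ Subgroup.normalizer (B : Set G) :=
        ⟨hxA, centralizer_le_normalizer' B h4⟩
      rw [rankOne_inf_normalizer hr] at h5
      exact h5
    have h2 : ⁅A, N⁆ ≤ A ⊓ N := by
      apply le_inf
      · have hNA : N ≤ Subgroup.normalizer (A : Set G) := fun n hn =>
          conjBy_eq_self_iff.1 (hnorm A hA n hn)
        rw [Subgroup.commutator_comm]
        exact Subgroup.le_normalizer_iff_commutator_le_right.1 hNA
      · exact Subgroup.commutator_le_right A N
    rw [h1, le_bot_iff] at h2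
    exact Subgroup.commutator_eq_bot_iff_le_centralizer.1 h2
  have htop : Subgroup.centralizer (N : Set G) = ⊤ := by
    rw [eq_top_iff, ← c.root.hS.generates]
    exact iSup₂_le key
  intro n hn
  rw [Subgroup.mem_center_iff]
  intro g
  have hg : g ∈ Subgroup.centralizer (N : Set G) := by
    rw [htop]
    exact Subgroup.mem_top g
  rw [Subgroup.mem_centralizer_iff] at hg
  exact (hg n hn).symm

end Cfsg.Agent.Helper8.R3
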