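import Mathlib
import Cfsg.Prelude.Def_RootSubgroups
import Cfsg.Agent.Lib.Helper83.Conj
import Cfsg.Agent.Lib.Helper83.CommMod
import Cfsg.Agent.Lib.Helper83.RankOne
import Cfsg.Agent.Lib.Helper83.RankOneNormal
import Cfsg.Agent.Lib.Helper83.RootBasic
import Cfsg.Agent.Lib.Helper83.RootLemmas
import Cfsg.Agent.Lib.Helper83.Root30
import Cfsg.Agent.Lib.Helper83.R2N1
import Cfsg.Agent.Lib.Helper83.R2E
import Cfsg.Agent.Lib.Helper83.R2G
import Cfsg.Agent.Lib.Helper83.R3Defs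
import Cfsg.Agent.Lib.Helper94.RootComm
import Cfsg.Agent.Lib.Helper94.RootMap
import Cfsg.Agent.S5029

set_option autoImplicit false

namespace Cfsg.Agent.Helper8.R3

open Cfsg Cfsg.Agent.Helper83 Cfsg.Agent.Helper83.R2 Cfsg.Agent.Helper83.R3 Cfsg.Agent.Helper94
open scoped commutatorElement

variable {G : Type*} [Group G] {S : Set (Subgroup G)} {N : Subgroup G}

/-- (SF) Small case, final contradiction. -/
theorem sm_final (hS : IsRootSubgroupSet S) {A B C : Subgroup G} (hA : A ∈ S) (hB : B ∈ S)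
    (hr : IsRankOnePair A B) (hC : C ∈ S) (hcase : RootCommutatorCase S A C)
    (hcomm : ∀ E ∈ S, E ≤ A ⊔ ⁅A, C⁆ → E ≠ A → ⁅B, E⁆ = ⊥) : False := by
  have hD : ⁅A, C⁆ ∈ S := hcase.1
  have hDne : ⁅A, C⁆ ≠ ⊥ := hS.ne_bot _ hD
  have hDA : ⁅A, C⁆ ≠ A := by
    intro h
    apply hDne
    have h1 : A ≤ Subgroup.centralizer (C : Set G) := by
      have h2 := commutatorCase_le_centralizer_right hcase
      rwa [h] at h2
    exact Subgroup.commutator_eq_bot_iff_le_centralizer.2 h1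
  have hAD : A ⊓ ⁅A, C⁆ = ⊥ := by
    rcases root_inf_eq_bot_or_eq hS hA hB hr _ hD with h | h
    · exact h
    · exact absurd h.symm hDA
  obtain ⟨c, hc, hc1⟩ := exists_mem_ne_one_of_ne_bot (hS.ne_bot C hC)
  have hE1S : conjBy A c ∈ S := hS.conj_mem A hA c
  have hE1le : conjBy A c ≤ A ⊔ ⁅A, C⁆ := by
    have h1 := conjBy_le_sup_commutator (E := C) (B := A) hc
    rwa [Subgroup.commutator_comm] at h1
  have hE1ne : conjBy A c ≠ A := by
    intro h
    apply hDne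
    rw [← hcase.2.2.2 c hc hc1, Subgroup.closure_eq_bot_iff]
    rintro _ ⟨a, ha, rfl⟩
    have h1 : c * a⁻¹ * c⁻¹ ∈ A := by
      have h0 := conj_mem_conjBy (g := c) (A.inv_mem ha)
      rwa [h] at h0
    have h2 : a * c * a⁻¹ * c⁻¹ ∈ A := by
      have h0 := A.mul_mem ha h1
      have e : a * (c * a⁻¹ * c⁻¹) = a * c * a⁻¹ * c⁻¹ := by group
      rwa [e] at h0
    have h3 : a * c * a⁻¹ * c⁻¹ ∈ ⁅A, C⁆ := Subgroup.commutator_mem_commutator ha hc
    have h4 : a * c * a⁻¹ * c⁻¹ ∈ A ⊓ ⁅A, C⁆ := ⟨h2, h3⟩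
    rw [hAD, Subgroup.mem_bot] at h4
    exact h4
  have hBE1 := hcomm _ hE1S hE1le hE1ne
  have hBD := hcomm _ hD le_sup_right hDA
  apply rankOne_commutator_ne_bot hr
  apply comm_eq_bot_of_commute
  intro a ha b hb
  have e1 : c * a * c⁻¹ ∈ conjBy A c := conj_mem_conjBy ha
  have e2 : a⁻¹ * c * a * c⁻¹ ∈ ⁅A, C⁆ := by
    have h0 := Subgroup.commutator_mem_commutator (A.inv_mem ha) hc
    rw [commutatorElement_def, inv_inv] at h0
    exact h0
  have k1 : Commute b (c * a * c⁻¹) := commute_of_comm_eq_bot hBE1 b hb _ e1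
  have k2 : Commute b (a⁻¹ * c * a * c⁻¹) := commute_of_comm_eq_bot hBD b hb _ e2
  have ha_eq : (c * a * c⁻¹) * (a⁻¹ * c * a * c⁻¹)⁻¹ = a := by group
  have k := k1.mul_right k2.inv_right
  rw [ha_eq] at k
  exact k.eq.symm

end Cfsg.Agent.Helper8.R3
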