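import Mathlib
import Cfsg.Agent.Lib.Helper93.RU0
import Cfsg.Agent.Lib.Helper35.RJ0
import Cfsg.Agent.Lib.Helper82.RUA
import Cfsg.Agent.Lib.Helper87.RJP

/-!
# RJ server (helper35, S2279): helper8's own copy of the T-calculus (TA/TI/TS), so that the downstream
pieces (LA), (LS), (L1), (R1) do not wait.
-/

set_option autoImplicit false

namespace Cfsg.Agent.Helper8.RJ

open Matrix Cfsg.Agent.Helper93.RU Cfsg.Agent.Helper35.RJ

variable {F : Type*} [Field F] {m : ℕ}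

theorem h8_pi_small (i : ℕ) (hi : i ≤ m + 1) : piZ m F (i : ℤ) = 0 := by
  rw [Cfsg.Agent.Helper87.RJ.pi_nat, Nat.choose_eq_zero_of_lt (by omega), Nat.cast_zero]

theorem h8_pi_window (d : ℕ) (hd : d ≤ m + 1) : piZ m F ((d : ℤ) - 0) = 0 := by
  rw [sub_zero]; exact h8_pi_small d hd

theorem h8_dot (j k : ℤ) (hjk : piZ m F (j - k) = 0) (x : F) :
    (x • phV m F k) ⬝ᵥ aV m F j = 0 := by
  rw [smul_dotProduct, Cfsg.Agent.Helper87.RJ.pair, hjk, smul_zero]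

theorem h8_Tjk_add (j k : ℤ) (hjk : piZ m F (j - k) = 0) (x y : F) :
    Tjk (m := m) j k x * Tjk j k y = Tjk j k (x + y) := by
  unfold Tjk
  rw [Cfsg.Agent.Helper82.RU.tvS_mul _ _ _ (h8_dot j k hjk x) (h8_dot j k hjk y), add_smul]

theorem h8_Tjk_inv (j k : ℤ) (hjk : piZ m F (j - k) = 0) (x : F) :
    (Tjk (m := m) j k x)⁻¹ = Tjk j k (-x) := by
  unfold Tjk
  rw [Cfsg.Agent.Helper82.RU.tvS_inv _ _ (h8_dot j k hjk x), neg_smul]

theorem h8_Tjk_shift (i j k : ℤ) (hjk : piZ m F (j - k) = 0) (x : F) :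
    (uEl m F) ^ i * Tjk j k x * ((uEl m F) ^ i)⁻¹ = Tjk (j + i) (k + i) x := by
  unfold Tjk
  rw [(Cfsg.Agent.Helper82.RU.tvS_conj ((uEl m F) ^ i) _ _ (h8_dot j k hjk x)).2]
  congr 1
  · unfold aV
    rw [Matrix.mulVec_mulVec, ← Matrix.SpecialLinearGroup.coe_mul, ← _root_.zpow_add, add_comm i j]
  · unfold phV
    rw [Matrix.smul_vecMul, Matrix.vecMul_vecMul, ← _root_.zpow_neg,
      ← Matrix.SpecialLinearGroup.coe_mul, ← _root_.zpow_add, neg_add k i]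

end Cfsg.Agent.Helper8.RJ
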