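import Mathlib
import Cfsg.Agent.Lib.Helper93.RU0
import Cfsg.Agent.Lib.Helper35.RJ0
import Cfsg.Agent.Lib.Helper82.RUA
import Cfsg.Agent.Lib.Helper87.RJP
import Cfsg.Agent.Lib.Helper8.RJT

/-!
# RJ server (helper35, S2279): piece (LA) `Lam_addSubgroup`, and the hypothesis-forms of
(LS) `Lam_step`, (R1) `seed`, (L1) `Lam_seed` (with (R2) `step_up` / (R1a) `seed_abs` as hypotheses).
-/

set_option autoImplicit false

namespace Cfsg.Agent.Helper8.RJ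

open Matrix Cfsg.Agent.Helper93.RU Cfsg.Agent.Helper35.RJ

variable {F : Type*} [Field F] {m : ℕ}

/-- (LA) -/
theorem Lam_addSubgroup (H : Subgroup (SLm m F)) (d : ℕ) (hd : d ≤ m + 1) :
    ∃ L : AddSubgroup F, (L : Set F) = Lam H d := by
  have hz : (0 : F) ∈ Lam H d := by
    show Tjk (m := m) (d : ℤ) 0 (0 : F) ∈ H
    have h1 : Tjk (m := m) (d : ℤ) 0 (0 : F) = 1 := by
      unfold Tjk
      rw [zero_smul, Cfsg.Agent.Helper82.RU.tvS_zero]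
    rw [h1]; exact H.one_mem
  have ha : ∀ {x y : F}, x ∈ Lam H d → y ∈ Lam H d → x + y ∈ Lam H d := by
    intro x y hx hy
    show Tjk (m := m) (d : ℤ) 0 (x + y) ∈ H
    rw [← h8_Tjk_add _ _ (h8_pi_window d hd)]
    exact H.mul_mem hx hy
  have hn : ∀ {x : F}, x ∈ Lam H d → -x ∈ Lam H d := by
    intro x hx
    show Tjk (m := m) (d : ℤ) 0 (-x) ∈ H
    rw [← h8_Tjk_inv _ _ (h8_pi_window d hd)]
    exact H.inv_mem hx
  exact ⟨{ carrier := Lam H d, zero_mem' := hz, add_mem' := ha, neg_mem' := hn }, rfl⟩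

/-- (LS) with (R2) `step_up` (at `j = 1`) as a hypothesis -/
theorem h8_Lam_step_of (H : Subgroup (SLm m F)) (lam : F)
    (hstep : ∀ (x : F) (d : ℕ), d ≤ m → sK lam 1 ∈ H → Tjk (m := m) ((1 : ℤ) + d) 1 x ∈ H →
      Tjk (m := m) ((1 : ℤ) + d) (1 - 1) (lam * x) ∈ H)
    (hu : uEl m F ∈ H) (hs : ∀ k : ℤ, sK lam k ∈ H)
    (d : ℕ) (hd : d ≤ m) (x : F) (hx : x ∈ Lam H d) : lam * x ∈ Lam H (d + 1) := by
  have hx' : Tjk (m := m) (d : ℤ) 0 x ∈ H := hx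
  have hsh := h8_Tjk_shift (m := m) (F := F) 1 (d : ℤ) 0 (h8_pi_window d (by omega)) x
  have hJ : (uEl m F) ^ (1 : ℤ) ∈ H := H.zpow_mem hu 1
  have h1 : Tjk (m := m) ((d : ℤ) + 1) (0 + 1) x ∈ H := by
    rw [← hsh]
    exact H.mul_mem (H.mul_mem hJ hx') (H.inv_mem hJ)
  have e1 : ((d : ℤ) + 1) = 1 + (d : ℤ) := by ring
  have e2 : ((0 : ℤ) + 1) = 1 := by norm_num
  rw [e1, e2] at h1
  have h2 := hstep x d hd (hs 1) h1
  have e3 : ((1 : ℤ) - 1) = 0 := by norm_num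
  rw [e3] at h2
  show Tjk (m := m) ((d + 1 : ℕ) : ℤ) 0 (lam * x) ∈ H
  have e4 : (((d + 1 : ℕ) : ℤ)) = 1 + (d : ℤ) := by push_cast; ring
  rw [e4]; exact h2

/-- (R1) with (R1a) `seed_abs` (at the concrete vectors) as a hypothesis -/
theorem h8_seed_of (hm : 1 ≤ m) (lam : F)
    (habs : ∀ (am a0 a1 φm φ0 φ1 : Fin (m + 3) → F) (ε ν : F), ε * ε = 1 →
      φm ⬝ᵥ am = 0 → φm ⬝ᵥ a0 = 0 → φm ⬝ᵥ a1 = 0 →
      φ0 ⬝ᵥ am = ε → φ0 ⬝ᵥ a0 = 0 → φ0 ⬝ᵥ a1 = 0 →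
      φ1 ⬝ᵥ am = ν → φ1 ⬝ᵥ a0 = ε → φ1 ⬝ᵥ a1 = 0 →
      (tvS a0 (lam • φ0) * (tvS a1 (lam • φ1))⁻¹ * (tvS am (lam • φm) * (tvS a0 (lam • φ0))⁻¹) *
          (tvS a0 (lam • φ0) * (tvS a1 (lam • φ1))⁻¹)⁻¹ *
          (tvS am (lam • φm) * (tvS a0 (lam • φ0))⁻¹)⁻¹) *
        (tvS am (lam • φm) * (tvS a0 (lam • φ0))⁻¹) *
        (tvS a0 (lam • φ0) * (tvS a1 (lam • φ1))⁻¹ * (tvS am (lam • φm) * (tvS a0 (lam • φ0))⁻¹) *
          (tvS a0 (lam • φ0) * (tvS a1 (lam • φ1))⁻¹)⁻¹ *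
          (tvS am (lam • φm) * (tvS a0 (lam • φ0))⁻¹)⁻¹)⁻¹ *
        (tvS am (lam • φm) * (tvS a0 (lam • φ0))⁻¹)⁻¹ = tvS a1 (lam ^ 3 • φm)) :
    let s0 := sK (m := m) lam 0
    let s1 := sK (m := m) lam 1
    let c := s1 * s0 * s1⁻¹ * s0⁻¹
    c * s0 * c⁻¹ * s0⁻¹ = Tjk 1 (-1) (lam ^ 3) := by
  intro s0 s1 c
  have p0 : piZ m F 0 = 0 := by
    have := h8_pi_small (m := m) (F := F) 0 (by omega); simpa using this
  have p1 : piZ m F 1 = 0 := by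
    have := h8_pi_small (m := m) (F := F) 1 (by omega); simpa using this
  have p2 : piZ m F 2 = 0 := by
    have := h8_pi_small (m := m) (F := F) 2 (by omega); simpa using this
  have hε : piZ m F (-1) * piZ m F (-1) = 1 := by
    rw [Cfsg.Agent.Helper87.RJ.pi_neg_one, ← pow_add, ← two_mul, pow_mul]; simp
  have key := habs (aV m F (-1)) (aV m F 0) (aV m F 1) (phV m F (-1)) (phV m F 0)
    (phV m F 1) (piZ m F (-1)) (piZ m F (-2)) hε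
    (by rw [Cfsg.Agent.Helper87.RJ.pair]; norm_num; exact p0)
    (by rw [Cfsg.Agent.Helper87.RJ.pair]; norm_num; exact p1)
    (by rw [Cfsg.Agent.Helper87.RJ.pair]; norm_num; exact p2)
    (by rw [Cfsg.Agent.Helper87.RJ.pair]; norm_num)
    (by rw [Cfsg.Agent.Helper87.RJ.pair]; norm_num; exact p0)
    (by rw [Cfsg.Agent.Helper87.RJ.pair]; norm_num; exact p1)
    (by rw [Cfsg.Agent.Helper87.RJ.pair]; norm_num)
    (by rw [Cfsg.Agent.Helper87.RJ.pair]; norm_num)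
    (by rw [Cfsg.Agent.Helper87.RJ.pair]; norm_num; exact p0)
  have e1 : ((0 : ℤ) - 1) = -1 := by norm_num
  have e2 : ((1 : ℤ) - 1) = 0 := by norm_num
  have hs0 : s0 = tvS (aV m F (-1)) (lam • phV m F (-1)) * (tvS (aV m F 0) (lam • phV m F 0))⁻¹ := by
    show sK (m := m) lam 0 = _
    unfold sK Tjk
    rw [e1]
  have hs1 : s1 = tvS (aV m F 0) (lam • phV m F 0) * (tvS (aV m F 1) (lam • phV m F 1))⁻¹ := by
    show sK (m := m) lam 1 = _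
    unfold sK Tjk
    rw [e2]
  have hc : c = s1 * s0 * s1⁻¹ * s0⁻¹ := rfl
  rw [hc, hs0, hs1]
  exact key

/-- (L1) from (R1) -/
theorem h8_Lam_seed_of (hm : 1 ≤ m) (H : Subgroup (SLm m F)) (lam : F)
    (hseed : sK (m := m) lam 1 * sK lam 0 * (sK lam 1)⁻¹ * (sK lam 0)⁻¹ * sK lam 0 *
      (sK (m := m) lam 1 * sK lam 0 * (sK lam 1)⁻¹ * (sK lam 0)⁻¹)⁻¹ * (sK lam 0)⁻¹ =
      Tjk 1 (-1) (lam ^ 3))
    (hu : uEl m F ∈ H)
    (hs : ∀ k : ℤ, sK lam k ∈ H) : lam ^ 3 ∈ Lam H 2 := by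
  have h0 := hs 0
  have h1 := hs 1
  have hc : sK (m := m) lam 1 * sK lam 0 * (sK lam 1)⁻¹ * (sK lam 0)⁻¹ ∈ H :=
    H.mul_mem (H.mul_mem (H.mul_mem h1 h0) (H.inv_mem h1)) (H.inv_mem h0)
  have hT : Tjk (m := m) 1 (-1) (lam ^ 3) ∈ H := by
    rw [← hseed]
    exact H.mul_mem (H.mul_mem (H.mul_mem hc h0) (H.inv_mem hc)) (H.inv_mem h0)
  have p2 : piZ m F ((1 : ℤ) - (-1)) = 0 := by
    have := h8_pi_small (m := m) (F := F) 2 (by omega)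
    have e : ((1 : ℤ) - (-1)) = ((2 : ℕ) : ℤ) := by norm_num
    rw [e]; exact this
  have hsh := h8_Tjk_shift (m := m) (F := F) 1 1 (-1) p2 (lam ^ 3)
  have hJ : (uEl m F) ^ (1 : ℤ) ∈ H := H.zpow_mem hu 1
  have h2 : Tjk (m := m) ((1 : ℤ) + 1) (-1 + 1) (lam ^ 3) ∈ H := by
    rw [← hsh]
    exact H.mul_mem (H.mul_mem hJ hT) (H.inv_mem hJ)
  have e1 : ((1 : ℤ) + 1) = ((2 : ℕ) : ℤ) := by norm_num
  have e2 : ((-1 : ℤ) + 1) = 0 := by norm_num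
  rw [e1, e2] at h2
  exact h2

end Cfsg.Agent.Helper8.RJ
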