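import Mathlib
import Cfsg.Agent.Lib.Helper93.RU0
import Cfsg.Agent.Lib.Helper35.RJ0
import Cfsg.Agent.Lib.Helper8.RJLA
import Cfsg.Agent.Lib.Helper40.RJR1

/-!
# RJ server (helper35, S2279): piece (L1) `Lam_seed`.
-/

set_option autoImplicit false

namespace Cfsg.Agent.Helper8.RJ

open Matrix Cfsg.Agent.Helper93.RU Cfsg.Agent.Helper35.RJ

variable {F : Type*} [Field F] {m : ℕ}

/-- (L1) -/
theorem Lam_seed (hm : 1 ≤ m) (H : Subgroup (SLm m F)) (lam : F) (hu : uEl m F ∈ H)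
    (hs : ∀ k : ℤ, sK lam k ∈ H) : lam ^ 3 ∈ Lam H 2 :=
  h8_Lam_seed_of hm H lam (Cfsg.Agent.Helper40.RJ.seed (m := m) hm lam) hu hs

end Cfsg.Agent.Helper8.RJ
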