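import Mathlib

set_option autoImplicit false

namespace Cfsg.Agent.Helper8.RPD

universe u

/-- (EL2) an abelian minimal normal subgroup of even order has exponent 2 -/
theorem min_normal_sq {G : Type u} [Group G] [Finite G] (N : Subgroup G) (hN : N.Normal)
    (hcomm : ∀ a ∈ N, ∀ b ∈ N, a * b = b * a)
    (hmin : ∀ M : Subgroup G, M.Normal → M ≤ N → M = ⊥ ∨ M = N)
    (heven : Even (Nat.card ↥N)) : ∀ a ∈ N, a * a = 1 := by
  classical
  -- the 2-torsion subgroup of N
  let M : Subgroup G :=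
    { carrier := {a | a ∈ N ∧ a * a = 1}
      one_mem' := ⟨N.one_mem, by simp⟩
      mul_mem' := by
        rintro a b ⟨ha, ha2⟩ ⟨hb, hb2⟩
        refine ⟨N.mul_mem ha hb, ?_⟩
        calc a * b * (a * b) = a * (b * a) * b := by group
          _ = a * (a * b) * b := by rw [hcomm b hb a ha]
          _ = (a * a) * (b * b) := by group
          _ = 1 := by rw [ha2, hb2, one_mul]
      inv_mem' := by
        rintro a ⟨ha, ha2⟩
        refine ⟨N.inv_mem ha, ?_⟩
        have : a⁻¹ * a⁻¹ = (a * a)⁻¹ := by group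
        rw [this, ha2, inv_one] }
  have hMmem : ∀ a, a ∈ M ↔ (a ∈ N ∧ a * a = 1) := fun a => Iff.rfl
  have hMN : M ≤ N := fun a ha => ((hMmem a).1 ha).1
  have hMnormal : M.Normal := by
    refine ⟨fun a ha g => ?_⟩
    obtain ⟨haN, ha2⟩ := (hMmem a).1 ha
    refine (hMmem _).2 ⟨hN.conj_mem a haN g, ?_⟩
    calc g * a * g⁻¹ * (g * a * g⁻¹) = g * (a * a) * g⁻¹ := by group
      _ = 1 := by rw [ha2]; group
  have h2 : 2 ∣ Nat.card ↥N := even_iff_two_dvd.1 heven
  have : Fact (Nat.Prime 2) := ⟨Nat.prime_two⟩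
  obtain ⟨x, hx⟩ := exists_prime_orderOf_dvd_card' (G := ↥N) 2 h2
  have hx1 : x ≠ 1 := by
    intro h
    rw [h, orderOf_one] at hx
    omega
  have hx2 : x * x = 1 := by
    have := pow_orderOf_eq_one x
    rw [hx, pow_two] at this
    exact this
  have hxM : (x : G) ∈ M := by
    refine (hMmem _).2 ⟨x.2, ?_⟩
    have := congrArg (fun y : ↥N => (y : G)) hx2
    simpa using this
  rcases hmin M hMnormal hMN with h | h
  · exfalso
    rw [h, Subgroup.mem_bot] at hxM
    exact hx1 (Subtype.ext hxM)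
  · intro a ha
    have : a ∈ M := h ▸ ha
    exact ((hMmem a).1 this).2

end Cfsg.Agent.Helper8.RPD
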