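import Mathlib

set_option autoImplicit false

namespace Cfsg.Agent.Helper8.RPD

universe u

/-- (QUOT) if `G ⧸ N` has a normal Sylow `p`-subgroup then `P N ⊴ G` and `|P N : N|` is a
power of `p` -/
theorem sup_normal_of_quotient {G : Type u} [Group G] [Finite G] (p : ℕ) [Fact p.Prime]
    (N : Subgroup G) [N.Normal]
    (hq : ∀ P' : Sylow p (G ⧸ N), (P' : Subgroup (G ⧸ N)).Normal) (P : Sylow p G) :
    ((P : Subgroup G) ⊔ N).Normal ∧ ∃ k : ℕ, N.relIndex ((P : Subgroup G) ⊔ N) = p ^ k := by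
  classical
  constructor
  · have hsurj : Function.Surjective (QuotientGroup.mk' N) := QuotientGroup.mk'_surjective N
    have hn : ((P.mapSurjective hsurj : Sylow p (G ⧸ N)) : Subgroup (G ⧸ N)).Normal :=
      hq (P.mapSurjective hsurj)
    rw [Sylow.coe_mapSurjective] at hn
    have hc : (((P : Subgroup G).map (QuotientGroup.mk' N)).comap (QuotientGroup.mk' N)).Normal :=
      hn.comap _
    rw [Subgroup.comap_map_eq, QuotientGroup.ker_mk'] at hc
    exact hc
  · rw [Subgroup.relIndex_sup_right]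
    have hdvd : N.relIndex (P : Subgroup G) ∣ Nat.card (P : Subgroup G) :=
      Subgroup.relIndex_dvd_card N (P : Subgroup G)
    obtain ⟨n, hn⟩ := IsPGroup.iff_card.1 P.2
    rw [hn] at hdvd
    obtain ⟨k, -, hk⟩ := (Nat.dvd_prime_pow (Fact.out : p.Prime)).1 hdvd
    exact ⟨k, hk⟩

end Cfsg.Agent.Helper8.RPD
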