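import Mathlib
import Cfsg.Agent.Lib.Helper98.RT0
import Cfsg.Agent.Lib.Helper82.RUA
import Cfsg.Agent.Lib.Helper78.RUD1
import Cfsg.Agent.Lib.Helper44.RUD2
import Cfsg.Agent.Lib.Helper21.RUE1

/-!
# RT project (S2278), piece (K11): from `e₂ ∈ W` and `y ∈ H` all `e_k ∈ W`.
-/

set_option autoImplicit false

namespace Cfsg.Agent.Helper8.RT

open Matrix Cfsg.Agent.Helper93.RU Cfsg.Agent.Helper98.RT

variable {F : Type*} [Field F]

theorem k11_det (n w : F) : (Ymat n w).det = 1 := by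
  rw [Matrix.det_fin_three]
  simp [Ymat]

theorem k11_yEl_val (n w : F) : (yEl n w).1 = Ymat n w := by
  have h : yEl n w = ⟨Ymat n w, k11_det n w⟩ := dif_pos (k11_det n w)
  rw [h]

theorem k11_col2 (n w : F) :
    (eV 1 : Fin (0 + 3) → F) = Ymat n w *ᵥ eV 2 + (-w) • eV 2 := by
  ext i
  fin_cases i <;> simp [Ymat, eV]

theorem k11_col1 (n w : F) :
    (eV 0 : Fin (0 + 3) → F) =
      Ymat n w *ᵥ eV 1 + ((-(3 - w)) • eV 1 + (-((3 - w) * w - n - 3)) • eV 2) := by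
  ext i
  fin_cases i <;> simp [Ymat, eV]

/-- (K11) -/
theorem all_mem_W (H : Subgroup (G3 F)) (n w : F) (hy : yEl n w ∈ H) (h2 : eV 2 ∈ Wset H)
    (k : Fin (0 + 3)) : eV k ∈ Wset H := by
  have hv1 : (yEl n w).1 *ᵥ eV 2 ∈ Wset H := Cfsg.Agent.Helper44.RU.W_conj H _ hy _ h2
  rw [k11_yEl_val] at hv1
  have h1 : (eV 1 : Fin (0 + 3) → F) ∈ Wset H := by
    rw [k11_col2 n w]
    exact Cfsg.Agent.Helper78.RU.W_add H _ _ hv1 (Cfsg.Agent.Helper44.RU.W_smul H _ _ h2)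
  have hv0 : (yEl n w).1 *ᵥ eV 1 ∈ Wset H := Cfsg.Agent.Helper44.RU.W_conj H _ hy _ h1
  rw [k11_yEl_val] at hv0
  have h0 : (eV 0 : Fin (0 + 3) → F) ∈ Wset H := by
    rw [k11_col1 n w]
    exact Cfsg.Agent.Helper78.RU.W_add H _ _ hv0
      (Cfsg.Agent.Helper78.RU.W_add H _ _ (Cfsg.Agent.Helper44.RU.W_smul H _ _ h1)
        (Cfsg.Agent.Helper44.RU.W_smul H _ _ h2))
  fin_cases k
  · exact h0
  · exact h1
  · exact h2

end Cfsg.Agent.Helper8.RT
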