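import Mathlib
import Cfsg.Agent.Lib.Helper98.RT0
import Cfsg.Agent.Lib.Helper82.RUA
import Cfsg.Agent.Lib.Helper78.RUD1
import Cfsg.Agent.Lib.Helper44.RUD2
import Cfsg.Agent.Lib.Helper21.RUE1

/-!
# RT project (S2278), piece (S2): `q = 2`.  Explicit words over `ZMod 2`, pushed forward along the
ring isomorphism `ZMod 2 ≃+* F`.
-/

set_option autoImplicit false

namespace Cfsg.Agent.Helper8.RT

open Matrix Cfsg.Agent.Helper93.RU Cfsg.Agent.Helper98.RT

variable {F : Type*} [Field F]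

/-- the Jordan block over `ZMod 2` -/
def s2U : Matrix (Fin (0 + 3)) (Fin (0 + 3)) (ZMod 2) := !![1, 1, 0; 0, 1, 1; 0, 0, 1]

/-- the antidiagonal permutation matrix over `ZMod 2` -/
def s2G : Matrix (Fin (0 + 3)) (Fin (0 + 3)) (ZMod 2) := !![0, 0, 1; 0, 1, 0; 1, 0, 0]

/-- the transpose of the Jordan block -/
def s2V : Matrix (Fin (0 + 3)) (Fin (0 + 3)) (ZMod 2) := !![1, 0, 0; 1, 1, 0; 0, 1, 1]

theorem s2U_det : s2U.det = 1 := by
  rw [Matrix.det_fin_three]; decide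

theorem s2G_det : s2G.det = 1 := by
  rw [Matrix.det_fin_three]; decide

theorem s2V_det : s2V.det = 1 := by
  rw [Matrix.det_fin_three]; decide

/-- `u₀` -/
def s2u : SLm 0 (ZMod 2) := ⟨s2U, s2U_det⟩

/-- `g₀` -/
def s2g : SLm 0 (ZMod 2) := ⟨s2G, s2G_det⟩

/-- `v₀` -/
def s2v : SLm 0 (ZMod 2) := ⟨s2V, s2V_det⟩

theorem s2_mul_val (A B : Matrix (Fin (0 + 3)) (Fin (0 + 3)) (ZMod 2)) :
    A * B = Matrix.of fun i j => A i 0 * B 0 j + A i 1 * B 1 j + A i 2 * B 2 j := by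
  ext i j
  rw [Matrix.mul_apply, Fin.sum_univ_three]
  rfl

theorem s2v_eq : s2g * s2u * s2g⁻¹ = s2v := by
  rw [mul_inv_eq_iff_eq_mul]
  apply Subtype.ext
  show s2G * s2U = s2V * s2G
  decide

theorem s2_word (i j : Fin (0 + 3)) (hij : i ≠ j) :
    (Matrix.SpecialLinearGroup.transvection hij (1 : ZMod 2) : SLm 0 (ZMod 2)) ∈
      Subgroup.closure ({s2u, s2v} : Set (SLm 0 (ZMod 2))) := by
  have hu : s2u ∈ Subgroup.closure ({s2u, s2v} : Set (SLm 0 (ZMod 2))) :=
    Subgroup.subset_closure (by simp)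
  have hv : s2v ∈ Subgroup.closure ({s2u, s2v} : Set (SLm 0 (ZMod 2))) :=
    Subgroup.subset_closure (by simp)
  have h01 : (Matrix.SpecialLinearGroup.transvection (show (0 : Fin (0 + 3)) ≠ 1 by decide)
      (1 : ZMod 2) : SLm 0 (ZMod 2)) = s2v * s2u * s2v * s2u * s2u * s2v := by
    apply Subtype.ext
    show Matrix.transvection (0 : Fin (0 + 3)) 1 (1 : ZMod 2) = s2V * s2U * s2V * s2U * s2U * s2V
    decide
  have h02 : (Matrix.SpecialLinearGroup.transvection (show (0 : Fin (0 + 3)) ≠ 2 by decide)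
      (1 : ZMod 2) : SLm 0 (ZMod 2)) = s2u * s2u := by
    apply Subtype.ext
    show Matrix.transvection (0 : Fin (0 + 3)) 2 (1 : ZMod 2) = s2U * s2U
    decide
  have h10 : (Matrix.SpecialLinearGroup.transvection (show (1 : Fin (0 + 3)) ≠ 0 by decide)
      (1 : ZMod 2) : SLm 0 (ZMod 2)) = s2u * s2v * s2v * s2u * s2v * s2u := by
    apply Subtype.ext
    show Matrix.transvection (1 : Fin (0 + 3)) 0 (1 : ZMod 2) = s2U * s2V * s2V * s2U * s2V * s2U
    decide
  have h12 : (Matrix.SpecialLinearGroup.transvection (show (1 : Fin (0 + 3)) ≠ 2 by decide)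
      (1 : ZMod 2) : SLm 0 (ZMod 2)) = s2v * s2u * s2u * s2v * s2u * s2v := by
    apply Subtype.ext
    show Matrix.transvection (1 : Fin (0 + 3)) 2 (1 : ZMod 2) = s2V * s2U * s2U * s2V * s2U * s2V
    decide
  have h20 : (Matrix.SpecialLinearGroup.transvection (show (2 : Fin (0 + 3)) ≠ 0 by decide)
      (1 : ZMod 2) : SLm 0 (ZMod 2)) = s2v * s2v := by
    apply Subtype.ext
    show Matrix.transvection (2 : Fin (0 + 3)) 0 (1 : ZMod 2) = s2V * s2V
    decide
  have h21 : (Matrix.SpecialLinearGroup.transvection (show (2 : Fin (0 + 3)) ≠ 1 by decide)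
      (1 : ZMod 2) : SLm 0 (ZMod 2)) = s2u * s2v * s2u * s2v * s2v * s2u := by
    apply Subtype.ext
    show Matrix.transvection (2 : Fin (0 + 3)) 1 (1 : ZMod 2) = s2U * s2V * s2U * s2V * s2V * s2U
    decide
  fin_cases i <;> fin_cases j
  · exact absurd rfl hij
  · rw [h01]; exact mul_mem (mul_mem (mul_mem (mul_mem (mul_mem hv hu) hv) hu) hu) hv
  · rw [h02]; exact mul_mem hu hu
  · rw [h10]; exact mul_mem (mul_mem (mul_mem (mul_mem (mul_mem hu hv) hv) hu) hv) hu
  · exact absurd rfl hij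
  · rw [h12]; exact mul_mem (mul_mem (mul_mem (mul_mem (mul_mem hv hu) hu) hv) hu) hv
  · rw [h20]; exact mul_mem hv hv
  · rw [h21]; exact mul_mem (mul_mem (mul_mem (mul_mem (mul_mem hu hv) hu) hv) hv) hu
  · exact absurd rfl hij

theorem s2_closure : Subgroup.closure ({s2u, s2v} : Set (SLm 0 (ZMod 2))) = ⊤ := by
  rw [eq_top_iff]
  intro A _
  have : Nontrivial (Fin (0 + 3)) := ⟨⟨0, 1, by decide⟩⟩
  refine Cfsg.Agent.Helper5.transvection_induction
    (fun B => B ∈ Subgroup.closure ({s2u, s2v} : Set (SLm 0 (ZMod 2)))) ?_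
    (fun A B hA hB => mul_mem hA hB) A
  intro i j hij c
  have hc : c = 0 ∨ c = 1 := by revert c; decide
  rcases hc with rfl | rfl
  · show (Matrix.SpecialLinearGroup.transvection hij (0 : ZMod 2) : SLm 0 (ZMod 2)) ∈ _
    rw [Matrix.SpecialLinearGroup.transvection_coeff_zero]
    exact one_mem _
  · exact s2_word i j hij

theorem s2_nil : (s2U - 1) ^ 3 = 0 := by
  rw [pow_succ, pow_two]
  decide

theorem s2_sq_ne : (s2U - 1) ^ (3 - 1) ≠ 0 := by
  show (s2U - 1) ^ 2 ≠ 0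
  rw [pow_two]
  decide

/-- (S2) -/
theorem small_two [Fintype F] (h : Fintype.card F = 2) :
    ∃ u g : G3 F, IsNilpotent (u.1 - 1) ∧ (u.1 - 1) ^ (3 - 1) ≠ 0 ∧
      Subgroup.closure ({u, g * u * g⁻¹} : Set (G3 F)) = ⊤ := by
  have e : ZMod 2 ≃+* F := ZMod.ringEquivOfPrime F Nat.prime_two h
  let f : SLm 0 (ZMod 2) →* SLm 0 F := Matrix.SpecialLinearGroup.map (e : ZMod 2 →+* F)
  let f' : SLm 0 F →* SLm 0 (ZMod 2) := Matrix.SpecialLinearGroup.map (e.symm : F →+* ZMod 2)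
  have hsurj : Function.Surjective f := by
    intro A
    refine ⟨f' A, ?_⟩
    apply Subtype.ext
    ext i j
    simp [f, f', Matrix.SpecialLinearGroup.map_apply_coe]
  have hval : (f s2u).1 - 1 = (e : ZMod 2 →+* F).mapMatrix (s2U - 1) := by
    rw [map_sub, map_one]; rfl
  refine ⟨f s2u, f s2g, ?_, ?_, ?_⟩
  · refine ⟨3, ?_⟩
    rw [hval, ← map_pow, s2_nil, map_zero]
  · rw [hval, ← map_pow]
    intro h0
    have hinj : Function.Injective
        ((e : ZMod 2 →+* F).mapMatrix (m := Fin (0 + 3))) := by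
      intro A B hAB
      ext i j
      have := congrFun (congrFun hAB i) j
      simpa using this
    exact s2_sq_ne (hinj (by rw [h0, map_zero]))
  · rw [← map_inv, ← map_mul, ← map_mul, s2v_eq]
    have himg : ({f s2u, f s2v} : Set (G3 F)) = f '' {s2u, s2v} := by rw [Set.image_pair]
    rw [himg, ← MonoidHom.map_closure, s2_closure, ← MonoidHom.range_eq_map, MonoidHom.range_eq_top]
    exact hsurj

end Cfsg.Agent.Helper8.RT
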