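import Mathlib
import Cfsg.Agent.Lib.Helper98.RT0
import Cfsg.Agent.Lib.Helper82.RUA
import Cfsg.Agent.Lib.Helper78.RUD1
import Cfsg.Agent.Lib.Helper44.RUD2
import Cfsg.Agent.Lib.Helper21.RUE1
import Cfsg.Agent.Lib.Helper72.F4

/-!
# RT project (S2278), piece (S4): `q = 4`.  Explicit words over the computable model
`Cfsg.Agent.Helper72.F4`, pushed forward along a ring isomorphism `F4 ≃+* F`.
-/

set_option autoImplicit false

namespace Cfsg.Agent.Helper8.RT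

open Matrix Cfsg.Agent.Helper93.RU Cfsg.Agent.Helper98.RT

open Cfsg.Agent.Helper72 in
/-- the generator `w` of `F4` -/
def s4w : Cfsg.Agent.Helper72.F4 := ((0 : ZMod 2), (1 : ZMod 2))

section model

open Cfsg.Agent.Helper72

/-- explicit matrix -/
def s4Um : Matrix (Fin (0 + 3)) (Fin (0 + 3)) F4 := !![1, 1, 0; 0, 1, 1; 0, 0, 1]

/-- explicit matrix -/
def s4Gm : Matrix (Fin (0 + 3)) (Fin (0 + 3)) F4 := !![0, 0, 1; 0, 1, 0; 1, s4w, 0]

/-- explicit matrix -/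
def s4Vm : Matrix (Fin (0 + 3)) (Fin (0 + 3)) F4 := !![1, 0, 0; 1, 1, 0; s4w, 1, 1]

/-- explicit matrix -/
def s4UIm : Matrix (Fin (0 + 3)) (Fin (0 + 3)) F4 := !![1, 1, 1; 0, 1, 1; 0, 0, 1]

/-- explicit matrix -/
def s4VIm : Matrix (Fin (0 + 3)) (Fin (0 + 3)) F4 := !![1, 0, 0; 1, 1, 0; (s4w + 1), 1, 1]

theorem s4Um_det : s4Um.det = 1 := by
  rw [Matrix.det_fin_three]; decide +kernel

theorem s4Gm_det : s4Gm.det = 1 := by
  rw [Matrix.det_fin_three]; decide +kernel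

theorem s4Vm_det : s4Vm.det = 1 := by
  rw [Matrix.det_fin_three]; decide +kernel

theorem s4UIm_det : s4UIm.det = 1 := by
  rw [Matrix.det_fin_three]; decide +kernel

theorem s4VIm_det : s4VIm.det = 1 := by
  rw [Matrix.det_fin_three]; decide +kernel

/-- element of `SL_3(F4)` -/
def s4u : SLm 0 F4 := ⟨s4Um, s4Um_det⟩

/-- element of `SL_3(F4)` -/
def s4g : SLm 0 F4 := ⟨s4Gm, s4Gm_det⟩

/-- element of `SL_3(F4)` -/
def s4v : SLm 0 F4 := ⟨s4Vm, s4Vm_det⟩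

/-- element of `SL_3(F4)` -/
def s4ui : SLm 0 F4 := ⟨s4UIm, s4UIm_det⟩

/-- element of `SL_3(F4)` -/
def s4vi : SLm 0 F4 := ⟨s4VIm, s4VIm_det⟩

theorem s4v_eq : s4g * s4u * s4g⁻¹ = s4v := by
  rw [mul_inv_eq_iff_eq_mul]
  apply Subtype.ext
  show s4Gm * s4Um = s4Vm * s4Gm
  decide +kernel

theorem s4ui_eq : s4ui = s4u⁻¹ := by
  rw [eq_inv_iff_mul_eq_one]
  apply Subtype.ext
  show s4UIm * s4Um = 1
  decide +kernel

theorem s4vi_eq : s4vi = s4v⁻¹ := by
  rw [eq_inv_iff_mul_eq_one]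
  apply Subtype.ext
  show s4VIm * s4Vm = 1
  decide +kernel

theorem s4_w01_1 : (Matrix.SpecialLinearGroup.transvection (show (0 : Fin (0 + 3)) ≠ 1 by decide)
    (1 : F4) : SLm 0 F4) = s4u * s4v * s4ui * s4vi * s4ui * s4v * s4v * s4ui * s4v * s4ui * s4v * s4ui * s4v * s4v := by
  apply Subtype.ext
  show Matrix.transvection (0 : Fin (0 + 3)) 1 (1 : F4) = s4Um * s4Vm * s4UIm * s4VIm * s4UIm * s4Vm * s4Vm * s4UIm * s4Vm * s4UIm * s4Vm * s4UIm * s4Vm * s4Vm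
  decide +kernel

theorem s4_w01_2 : (Matrix.SpecialLinearGroup.transvection (show (0 : Fin (0 + 3)) ≠ 1 by decide)
    (s4w : F4) : SLm 0 F4) = s4v * s4u * s4v * s4u * s4vi * s4u * s4v * s4v * s4u * s4v * s4u * s4u * s4v := by
  apply Subtype.ext
  show Matrix.transvection (0 : Fin (0 + 3)) 1 (s4w : F4) = s4Vm * s4Um * s4Vm * s4Um * s4VIm * s4Um * s4Vm * s4Vm * s4Um * s4Vm * s4Um * s4Um * s4Vm
  decide +kernel

theorem s4_w01_3 : (Matrix.SpecialLinearGroup.transvection (show (0 : Fin (0 + 3)) ≠ 1 by decide)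
    ((s4w + 1) : F4) : SLm 0 F4) = s4v * s4u * s4u * s4v * s4ui * s4v * s4v * s4ui * s4vi * s4ui * s4v * s4ui * s4v := by
  apply Subtype.ext
  show Matrix.transvection (0 : Fin (0 + 3)) 1 ((s4w + 1) : F4) = s4Vm * s4Um * s4Um * s4Vm * s4UIm * s4Vm * s4Vm * s4UIm * s4VIm * s4UIm * s4Vm * s4UIm * s4Vm
  decide +kernel

theorem s4_w02_1 : (Matrix.SpecialLinearGroup.transvection (show (0 : Fin (0 + 3)) ≠ 2 by decide)
    (1 : F4) : SLm 0 F4) = s4u * s4u := by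
  apply Subtype.ext
  show Matrix.transvection (0 : Fin (0 + 3)) 2 (1 : F4) = s4Um * s4Um
  decide +kernel

theorem s4_w02_2 : (Matrix.SpecialLinearGroup.transvection (show (0 : Fin (0 + 3)) ≠ 2 by decide)
    (s4w : F4) : SLm 0 F4) = s4u * s4v * s4v * s4u * s4u * s4vi * s4u * s4u * s4v * s4v := by
  apply Subtype.ext
  show Matrix.transvection (0 : Fin (0 + 3)) 2 (s4w : F4) = s4Um * s4Vm * s4Vm * s4Um * s4Um * s4VIm * s4Um * s4Um * s4Vm * s4Vm
  decide +kernel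

theorem s4_w02_3 : (Matrix.SpecialLinearGroup.transvection (show (0 : Fin (0 + 3)) ≠ 2 by decide)
    ((s4w + 1) : F4) : SLm 0 F4) = s4u * s4v * s4v * s4u * s4u * s4v * s4u * s4u * s4v * s4v := by
  apply Subtype.ext
  show Matrix.transvection (0 : Fin (0 + 3)) 2 ((s4w + 1) : F4) = s4Um * s4Vm * s4Vm * s4Um * s4Um * s4Vm * s4Um * s4Um * s4Vm * s4Vm
  decide +kernel

theorem s4_w10_1 : (Matrix.SpecialLinearGroup.transvection (show (1 : Fin (0 + 3)) ≠ 0 by decide)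
    (1 : F4) : SLm 0 F4) = s4u * s4v * s4v * s4ui * s4v * s4v * s4u * s4v * s4v * s4ui := by
  apply Subtype.ext
  show Matrix.transvection (1 : Fin (0 + 3)) 0 (1 : F4) = s4Um * s4Vm * s4Vm * s4UIm * s4Vm * s4Vm * s4Um * s4Vm * s4Vm * s4UIm
  decide +kernel

theorem s4_w10_2 : (Matrix.SpecialLinearGroup.transvection (show (1 : Fin (0 + 3)) ≠ 0 by decide)
    (s4w : F4) : SLm 0 F4) = s4u * s4v * s4u * s4u * s4vi * s4ui * s4v * s4v * s4u * s4v * s4u * s4u * s4vi * s4ui := by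
  apply Subtype.ext
  show Matrix.transvection (1 : Fin (0 + 3)) 0 (s4w : F4) = s4Um * s4Vm * s4Um * s4Um * s4VIm * s4UIm * s4Vm * s4Vm * s4Um * s4Vm * s4Um * s4Um * s4VIm * s4UIm
  decide +kernel

theorem s4_w10_3 : (Matrix.SpecialLinearGroup.transvection (show (1 : Fin (0 + 3)) ≠ 0 by decide)
    ((s4w + 1) : F4) : SLm 0 F4) = s4u * s4vi * s4u * s4u * s4v * s4ui * s4v * s4v * s4u * s4vi * s4u * s4u * s4v * s4ui := by
  apply Subtype.ext
  show Matrix.transvection (1 : Fin (0 + 3)) 0 ((s4w + 1) : F4) = s4Um * s4VIm * s4Um * s4Um * s4Vm * s4UIm * s4Vm * s4Vm * s4Um * s4VIm * s4Um * s4Um * s4Vm * s4UIm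
  decide +kernel

theorem s4_w12_1 : (Matrix.SpecialLinearGroup.transvection (show (1 : Fin (0 + 3)) ≠ 2 by decide)
    (1 : F4) : SLm 0 F4) = s4ui * s4v * s4u * s4vi * s4u * s4v * s4v * s4u * s4v * s4u * s4v * s4u * s4v * s4v := by
  apply Subtype.ext
  show Matrix.transvection (1 : Fin (0 + 3)) 2 (1 : F4) = s4UIm * s4Vm * s4Um * s4VIm * s4Um * s4Vm * s4Vm * s4Um * s4Vm * s4Um * s4Vm * s4Um * s4Vm * s4Vm
  decide +kernel

theorem s4_w12_2 : (Matrix.SpecialLinearGroup.transvection (show (1 : Fin (0 + 3)) ≠ 2 by decide)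
    (s4w : F4) : SLm 0 F4) = s4v * s4u * s4u * s4v * s4u * s4v * s4v * s4u * s4vi * s4u * s4v * s4u * s4v := by
  apply Subtype.ext
  show Matrix.transvection (1 : Fin (0 + 3)) 2 (s4w : F4) = s4Vm * s4Um * s4Um * s4Vm * s4Um * s4Vm * s4Vm * s4Um * s4VIm * s4Um * s4Vm * s4Um * s4Vm
  decide +kernel

theorem s4_w12_3 : (Matrix.SpecialLinearGroup.transvection (show (1 : Fin (0 + 3)) ≠ 2 by decide)
    ((s4w + 1) : F4) : SLm 0 F4) = s4v * s4ui * s4v * s4ui * s4vi * s4ui * s4v * s4v * s4ui * s4v * s4u * s4u * s4v := by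
  apply Subtype.ext
  show Matrix.transvection (1 : Fin (0 + 3)) 2 ((s4w + 1) : F4) = s4Vm * s4UIm * s4Vm * s4UIm * s4VIm * s4UIm * s4Vm * s4Vm * s4UIm * s4Vm * s4Um * s4Um * s4Vm
  decide +kernel

theorem s4_w20_1 : (Matrix.SpecialLinearGroup.transvection (show (2 : Fin (0 + 3)) ≠ 0 by decide)
    (1 : F4) : SLm 0 F4) = s4v * s4v := by
  apply Subtype.ext
  show Matrix.transvection (2 : Fin (0 + 3)) 0 (1 : F4) = s4Vm * s4Vm
  decide +kernel

theorem s4_w20_2 : (Matrix.SpecialLinearGroup.transvection (show (2 : Fin (0 + 3)) ≠ 0 by decide)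
    (s4w : F4) : SLm 0 F4) = s4u * s4u * s4v * s4v * s4u * s4v * s4v * s4u * s4u * s4vi := by
  apply Subtype.ext
  show Matrix.transvection (2 : Fin (0 + 3)) 0 (s4w : F4) = s4Um * s4Um * s4Vm * s4Vm * s4Um * s4Vm * s4Vm * s4Um * s4Um * s4VIm
  decide +kernel

theorem s4_w20_3 : (Matrix.SpecialLinearGroup.transvection (show (2 : Fin (0 + 3)) ≠ 0 by decide)
    ((s4w + 1) : F4) : SLm 0 F4) = s4u * s4u * s4v * s4v * s4u * s4v * s4v * s4u * s4u * s4v := by
  apply Subtype.ext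
  show Matrix.transvection (2 : Fin (0 + 3)) 0 ((s4w + 1) : F4) = s4Um * s4Um * s4Vm * s4Vm * s4Um * s4Vm * s4Vm * s4Um * s4Um * s4Vm
  decide +kernel

theorem s4_w21_1 : (Matrix.SpecialLinearGroup.transvection (show (2 : Fin (0 + 3)) ≠ 1 by decide)
    (1 : F4) : SLm 0 F4) = s4ui * s4v * s4v * s4u * s4v * s4v * s4ui * s4v * s4v * s4u := by
  apply Subtype.ext
  show Matrix.transvection (2 : Fin (0 + 3)) 1 (1 : F4) = s4UIm * s4Vm * s4Vm * s4Um * s4Vm * s4Vm * s4UIm * s4Vm * s4Vm * s4Um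
  decide +kernel

theorem s4_w21_2 : (Matrix.SpecialLinearGroup.transvection (show (2 : Fin (0 + 3)) ≠ 1 by decide)
    (s4w : F4) : SLm 0 F4) = s4u * s4v * s4v * s4u * s4vi * s4u * s4vi * s4u * s4v * s4v * s4u * s4vi * s4u * s4vi := by
  apply Subtype.ext
  show Matrix.transvection (2 : Fin (0 + 3)) 1 (s4w : F4) = s4Um * s4Vm * s4Vm * s4Um * s4VIm * s4Um * s4VIm * s4Um * s4Vm * s4Vm * s4Um * s4VIm * s4Um * s4VIm
  decide +kernel

theorem s4_w21_3 : (Matrix.SpecialLinearGroup.transvection (show (2 : Fin (0 + 3)) ≠ 1 by decide)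
    ((s4w + 1) : F4) : SLm 0 F4) = s4u * s4v * s4v * s4u * s4v * s4u * s4v * s4u * s4v * s4v * s4u * s4v * s4u * s4v := by
  apply Subtype.ext
  show Matrix.transvection (2 : Fin (0 + 3)) 1 ((s4w + 1) : F4) = s4Um * s4Vm * s4Vm * s4Um * s4Vm * s4Um * s4Vm * s4Um * s4Vm * s4Vm * s4Um * s4Vm * s4Um * s4Vm
  decide +kernel

theorem s4_word (i j : Fin (0 + 3)) (hij : i ≠ j) (c : F4) :
    (Matrix.SpecialLinearGroup.transvection hij c : SLm 0 F4) ∈
      Subgroup.closure ({s4u, s4v} : Set (SLm 0 F4)) := by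
  have hu : s4u ∈ Subgroup.closure ({s4u, s4v} : Set (SLm 0 F4)) :=
    Subgroup.subset_closure (by simp)
  have hv : s4v ∈ Subgroup.closure ({s4u, s4v} : Set (SLm 0 F4)) :=
    Subgroup.subset_closure (by simp)
  have hU : s4ui ∈ Subgroup.closure ({s4u, s4v} : Set (SLm 0 F4)) := by
    rw [s4ui_eq]; exact inv_mem hu
  have hV : s4vi ∈ Subgroup.closure ({s4u, s4v} : Set (SLm 0 F4)) := by
    rw [s4vi_eq]; exact inv_mem hv
  have hc : c = 0 ∨ c = 1 ∨ c = s4w ∨ c = s4w + 1 := by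
    revert c; decide +kernel
  rcases hc with rfl | rfl | rfl | rfl
  · rw [Matrix.SpecialLinearGroup.transvection_coeff_zero]
    exact one_mem _
  · fin_cases i <;> fin_cases j
    · exact absurd rfl hij
    · rw [s4_w01_1]
      exact (mul_mem (mul_mem (mul_mem (mul_mem (mul_mem (mul_mem (mul_mem (mul_mem (mul_mem (mul_mem (mul_mem (mul_mem (mul_mem hu hv) hU) hV) hU) hv) hv) hU) hv) hU) hv) hU) hv) hv)
    · rw [s4_w02_1]
      exact (mul_mem hu hu)
    · rw [s4_w10_1]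
      exact (mul_mem (mul_mem (mul_mem (mul_mem (mul_mem (mul_mem (mul_mem (mul_mem (mul_mem hu hv) hv) hU) hv) hv) hu) hv) hv) hU)
    · exact absurd rfl hij
    · rw [s4_w12_1]
      exact (mul_mem (mul_mem (mul_mem (mul_mem (mul_mem (mul_mem (mul_mem (mul_mem (mul_mem (mul_mem (mul_mem (mul_mem (mul_mem hU hv) hu) hV) hu) hv) hv) hu) hv) hu) hv) hu) hv) hv)
    · rw [s4_w20_1]
      exact (mul_mem hv hv)
    · rw [s4_w21_1]
      exact (mul_mem (mul_mem (mul_mem (mul_mem (mul_mem (mul_mem (mul_mem (mul_mem (mul_mem hU hv) hv) hu) hv) hv) hU) hv) hv) hu)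
    · exact absurd rfl hij
  · fin_cases i <;> fin_cases j
    · exact absurd rfl hij
    · rw [s4_w01_2]
      exact (mul_mem (mul_mem (mul_mem (mul_mem (mul_mem (mul_mem (mul_mem (mul_mem (mul_mem (mul_mem (mul_mem (mul_mem hv hu) hv) hu) hV) hu) hv) hv) hu) hv) hu) hu) hv)
    · rw [s4_w02_2]
      exact (mul_mem (mul_mem (mul_mem (mul_mem (mul_mem (mul_mem (mul_mem (mul_mem (mul_mem hu hv) hv) hu) hu) hV) hu) hu) hv) hv)
    · rw [s4_w10_2]
      exact (mul_mem (mul_mem (mul_mem (mul_mem (mul_mem (mul_mem (mul_mem (mul_mem (mul_mem (mul_mem (mul_mem (mul_mem (mul_mem hu hv) hu) hu) hV) hU) hv) hv) hu) hv) hu) hu) hV) hU)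
    · exact absurd rfl hij
    · rw [s4_w12_2]
      exact (mul_mem (mul_mem (mul_mem (mul_mem (mul_mem (mul_mem (mul_mem (mul_mem (mul_mem (mul_mem (mul_mem (mul_mem hv hu) hu) hv) hu) hv) hv) hu) hV) hu) hv) hu) hv)
    · rw [s4_w20_2]
      exact (mul_mem (mul_mem (mul_mem (mul_mem (mul_mem (mul_mem (mul_mem (mul_mem (mul_mem hu hu) hv) hv) hu) hv) hv) hu) hu) hV)
    · rw [s4_w21_2]
      exact (mul_mem (mul_mem (mul_mem (mul_mem (mul_mem (mul_mem (mul_mem (mul_mem (mul_mem (mul_mem (mul_mem (mul_mem (mul_mem hu hv) hv) hu) hV) hu) hV) hu) hv) hv) hu) hV) hu) hV)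
    · exact absurd rfl hij
  · fin_cases i <;> fin_cases j
    · exact absurd rfl hij
    · rw [s4_w01_3]
      exact (mul_mem (mul_mem (mul_mem (mul_mem (mul_mem (mul_mem (mul_mem (mul_mem (mul_mem (mul_mem (mul_mem (mul_mem hv hu) hu) hv) hU) hv) hv) hU) hV) hU) hv) hU) hv)
    · rw [s4_w02_3]
      exact (mul_mem (mul_mem (mul_mem (mul_mem (mul_mem (mul_mem (mul_mem (mul_mem (mul_mem hu hv) hv) hu) hu) hv) hu) hu) hv) hv)
    · rw [s4_w10_3]
      exact (mul_mem (mul_mem (mul_mem (mul_mem (mul_mem (mul_mem (mul_mem (mul_mem (mul_mem (mul_mem (mul_mem (mul_mem (mul_mem hu hV) hu) hu) hv) hU) hv) hv) hu) hV) hu) hu) hv) hU)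
    · exact absurd rfl hij
    · rw [s4_w12_3]
      exact (mul_mem (mul_mem (mul_mem (mul_mem (mul_mem (mul_mem (mul_mem (mul_mem (mul_mem (mul_mem (mul_mem (mul_mem hv hU) hv) hU) hV) hU) hv) hv) hU) hv) hu) hu) hv)
    · rw [s4_w20_3]
      exact (mul_mem (mul_mem (mul_mem (mul_mem (mul_mem (mul_mem (mul_mem (mul_mem (mul_mem hu hu) hv) hv) hu) hv) hv) hu) hu) hv)
    · rw [s4_w21_3]
      exact (mul_mem (mul_mem (mul_mem (mul_mem (mul_mem (mul_mem (mul_mem (mul_mem (mul_mem (mul_mem (mul_mem (mul_mem (mul_mem hu hv) hv) hu) hv) hu) hv) hu) hv) hv) hu) hv) hu) hv)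
    · exact absurd rfl hij

theorem s4_closure : Subgroup.closure ({s4u, s4v} : Set (SLm 0 F4)) = ⊤ := by
  rw [eq_top_iff]
  intro A _
  have : Nontrivial (Fin (0 + 3)) := ⟨⟨0, 1, by decide⟩⟩
  refine Cfsg.Agent.Helper5.transvection_induction
    (fun B => B ∈ Subgroup.closure ({s4u, s4v} : Set (SLm 0 F4))) ?_
    (fun A B hA hB => mul_mem hA hB) A
  intro i j hij c
  exact s4_word i j hij c

theorem s4_nil : (s4Um - 1) ^ 3 = 0 := by
  rw [pow_succ, pow_two]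
  decide +kernel

theorem s4_sq_ne : (s4Um - 1) ^ (3 - 1) ≠ 0 := by
  show (s4Um - 1) ^ 2 ≠ 0
  rw [pow_two]
  decide +kernel

end model

variable {F : Type*} [Field F]

/-- (S4) -/
theorem small_four [Fintype F] (h : Fintype.card F = 4) :
    ∃ u g : G3 F, IsNilpotent (u.1 - 1) ∧ (u.1 - 1) ^ (3 - 1) ≠ 0 ∧
      Subgroup.closure ({u, g * u * g⁻¹} : Set (G3 F)) = ⊤ := by
  have e : Cfsg.Agent.Helper72.F4 ≃+* F :=
    FiniteField.ringEquivOfCardEq (by rw [Cfsg.Agent.Helper72.F4.card_F4, h])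
  let f : SLm 0 Cfsg.Agent.Helper72.F4 →* SLm 0 F :=
    Matrix.SpecialLinearGroup.map (e : Cfsg.Agent.Helper72.F4 →+* F)
  let f' : SLm 0 F →* SLm 0 Cfsg.Agent.Helper72.F4 :=
    Matrix.SpecialLinearGroup.map (e.symm : F →+* Cfsg.Agent.Helper72.F4)
  have hsurj : Function.Surjective f := by
    intro A
    refine ⟨f' A, ?_⟩
    apply Subtype.ext
    ext i j
    simp [f, f', Matrix.SpecialLinearGroup.map_apply_coe]
  have hval : (f s4u).1 - 1 = (e : Cfsg.Agent.Helper72.F4 →+* F).mapMatrix (s4Um - 1) := by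
    rw [map_sub, map_one]; rfl
  refine ⟨f s4u, f s4g, ?_, ?_, ?_⟩
  · refine ⟨3, ?_⟩
    rw [hval, ← map_pow, s4_nil, map_zero]
  · rw [hval, ← map_pow]
    intro h0
    have hinj : Function.Injective
        ((e : Cfsg.Agent.Helper72.F4 →+* F).mapMatrix (m := Fin (0 + 3))) := by
      intro A B hAB
      ext i j
      have := congrFun (congrFun hAB i) j
      simpa using this
    exact s4_sq_ne (hinj (by rw [h0, map_zero]))
  · rw [← map_inv, ← map_mul, ← map_mul, s4v_eq]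
    have himg : ({f s4u, f s4v} : Set (G3 F)) = f '' {s4u, s4v} := by rw [Set.image_pair]
    rw [himg, ← MonoidHom.map_closure, s4_closure, ← MonoidHom.range_eq_map, MonoidHom.range_eq_top]
    exact hsurj

end Cfsg.Agent.Helper8.RT
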