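import Mathlib
import Cfsg.Agent.Lib.Helper31.SCHDefs

/-!
# SCH (P8) `index_center` (helper8, for helper31's SCH server, S4394)
-/

set_option autoImplicit false

namespace Cfsg.Agent.Helper8.SCH
open Cfsg Cfsg.Agent.Helper31.SCH

section P
variable {P : Type*} [Group P] [Finite P] {p : ℕ} [Fact p.Prime]

omit [Finite P] in
/-- `cmt a (x y) = cmt a x * cmt a y` when `cmt a y` is central -/
theorem h8_cmt_mul_right (a x y : P) (hc : cmt a y ∈ Subgroup.center P) :
    cmt a (x * y) = cmt a x * cmt a y := by
  have h1 : y * a⁻¹ * y⁻¹ = a⁻¹ * cmt a y := by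
    unfold cmt
    group
  have h2 : x⁻¹ * cmt a y = cmt a y * x⁻¹ := (Subgroup.mem_center_iff.mp hc x⁻¹)
  calc cmt a (x * y) = a * x * (y * a⁻¹ * y⁻¹) * x⁻¹ := by unfold cmt; group
    _ = a * x * (a⁻¹ * cmt a y) * x⁻¹ := by rw [h1]
    _ = a * x * a⁻¹ * (cmt a y * x⁻¹) := by group
    _ = a * x * a⁻¹ * (x⁻¹ * cmt a y) := by rw [h2]
    _ = cmt a x * cmt a y := by unfold cmt; group

omit [Finite P] in
/-- `cmt (x y) g = cmt x g * cmt y g` when `cmt y g` is central -/
theorem h8_cmt_mul_left (x y g : P) (hc : cmt y g ∈ Subgroup.center P) :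
    cmt (x * y) g = cmt x g * cmt y g := by
  have h2 : x⁻¹ * cmt y g = cmt y g * x⁻¹ := (Subgroup.mem_center_iff.mp hc x⁻¹)
  have h3 : g * x⁻¹ * g⁻¹ * cmt y g = cmt y g * (g * x⁻¹ * g⁻¹) :=
    (Subgroup.mem_center_iff.mp hc (g * x⁻¹ * g⁻¹))
  calc cmt (x * y) g = x * cmt y g * (g * x⁻¹ * g⁻¹) := by unfold cmt; group
    _ = x * (g * x⁻¹ * g⁻¹ * cmt y g) := by rw [h3]; group
    _ = cmt x g * cmt y g := by unfold cmt; group

/-- (P8) [M-L] no `α` here. -/
theorem index_center (hP : IsPGroup p P)
    (hcc : ∀ x y : P, cmt x y ∈ Subgroup.center P)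
    (hstar : ∀ a : P, a ∉ Subgroup.center P → ∀ x y : P, ∃ b : P, cmt x y = cmt a b)
    (hna : ∃ a b : P, a * b ≠ b * a) (H : Subgroup P)
    (hHab : ∀ x ∈ H, ∀ y ∈ H, x * y = y * x) (hZH : Subgroup.center P ≤ H) (hidx : H.index = p) :
    (Subgroup.center P).index = p ^ 2 := by
  classical
  have hp : p.Prime := Fact.out
  -- an element outside `H`
  have hHtop : H ≠ ⊤ := by
    intro h
    rw [h, Subgroup.index_top] at hidx
    exact hp.one_lt.ne hidx
  obtain ⟨g, hg⟩ : ∃ g : P, g ∉ H := by
    by_contra hcon
    push Not at hcon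
    exact hHtop (eq_top_iff.mpr fun x _ => hcon x)
  -- `H ⊔ zpowers g = ⊤`
  have hsup : H ⊔ Subgroup.zpowers g = ⊤ := by
    have hle : H ≤ H ⊔ Subgroup.zpowers g := le_sup_left
    have h1 := Subgroup.relIndex_mul_index hle
    rw [hidx] at h1
    have h2 : (H ⊔ Subgroup.zpowers g).index ∣ p := ⟨_, by rw [← h1, mul_comm]⟩
    rcases (Nat.dvd_prime hp).mp h2 with h3 | h3
    · exact Subgroup.index_eq_one.mp h3
    · exfalso
      rw [h3] at h1
      have h4 : H.relIndex (H ⊔ Subgroup.zpowers g) = 1 := by
        have hp0 : 0 < p := hp.pos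
        nlinarith
      have h5 := Subgroup.relIndex_eq_one.mp h4
      exact hg (h5 (le_sup_right (a := H) (Subgroup.mem_zpowers g)))
  -- an element commuting with `H` and `g` is central
  have hcent : ∀ c : P, (∀ h ∈ H, h * c = c * h) → g * c = c * g → c ∈ Subgroup.center P := by
    intro c hcH hcg
    have hle : H ⊔ Subgroup.zpowers g ≤ Subgroup.centralizer ({c} : Set P) := by
      apply sup_le
      · intro h hh
        rw [Subgroup.mem_centralizer_iff]
        intro y hy
        rw [Set.mem_singleton_iff] at hy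
        rw [hy]
        exact (hcH h hh).symm
      · rw [Subgroup.zpowers_le]
        rw [Subgroup.mem_centralizer_iff]
        intro y hy
        rw [Set.mem_singleton_iff] at hy
        rw [hy]
        exact hcg.symm
    rw [hsup] at hle
    rw [Subgroup.mem_center_iff]
    intro x
    have := hle (Subgroup.mem_top x)
    rw [Subgroup.mem_centralizer_iff] at this
    exact (this c rfl).symm
  -- an element of `H` outside the centre
  obtain ⟨a, haH, haZ⟩ : ∃ a ∈ H, a ∉ Subgroup.center P := by
    by_contra hcon
    push Not at hcon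
    -- then `g` is central and `P` is abelian
    have hgZ : g ∈ Subgroup.center P := by
      apply hcent g
      · intro h hh
        exact (Subgroup.mem_center_iff.mp (hcon h hh) g).symm
      · rfl
    have hall : ∀ x : P, x ∈ Subgroup.center P := by
      intro x
      have hx : x ∈ H ⊔ Subgroup.zpowers g := by rw [hsup]; exact Subgroup.mem_top x
      have hle : H ⊔ Subgroup.zpowers g ≤ Subgroup.center P := by
        apply sup_le
        · exact fun h hh => hcon h hh
        · rw [Subgroup.zpowers_le]
          exact hgZ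
      exact hle hx
    obtain ⟨x, y, hxy⟩ := hna
    exact hxy (Subgroup.mem_center_iff.mp (hall y) x)
  -- the homomorphism `b ↦ cmt a b`
  let φ : P →* P :=
    { toFun := fun b => cmt a b
      map_one' := by unfold cmt; group
      map_mul' := fun x y => h8_cmt_mul_right a x y (hcc a y) }
  have hφker : φ.ker.index = p := by
    have hle : H ≤ φ.ker := by
      intro h hh
      rw [MonoidHom.mem_ker]
      show cmt a h = 1
      unfold cmt
      rw [hHab a haH h hh]
      group
    have hne : φ.ker ≠ ⊤ := by
      intro htop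
      apply haZ
      rw [Subgroup.mem_center_iff]
      intro x
      have hx : x ∈ φ.ker := by rw [htop]; exact Subgroup.mem_top x
      rw [MonoidHom.mem_ker] at hx
      have hx' : a * x * a⁻¹ * x⁻¹ = 1 := hx
      have : a * x = x * a := by
        have h := congrArg (fun t => t * x * a) hx'
        simpa [mul_assoc] using h
      exact this.symm
    have h1 := Subgroup.index_dvd_of_le hle
    rw [hidx] at h1
    rcases (Nat.dvd_prime hp).mp h1 with h3 | h3
    · exact absurd (Subgroup.index_eq_one.mp h3) hne
    · exact h3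
  have hφrange : Nat.card φ.range = p := by
    rw [← Subgroup.index_ker]
    exact hφker
  -- the homomorphism `h ↦ cmt h g` on `H`
  let f : ↥H →* P :=
    { toFun := fun h => cmt (h : P) g
      map_one' := by unfold cmt; simp
      map_mul' := fun x y => by
        show cmt ((x : P) * (y : P)) g = _
        exact h8_cmt_mul_left (x : P) (y : P) g (hcc y g) }
  have hfrange : f.range ≤ φ.range := by
    rintro _ ⟨h, rfl⟩
    obtain ⟨b, hb⟩ := hstar a haZ (h : P) g
    exact ⟨b, hb.symm⟩
  have hfker : f.ker = (Subgroup.center P).subgroupOf H := by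
    ext h
    rw [MonoidHom.mem_ker, Subgroup.mem_subgroupOf]
    show cmt (h : P) g = 1 ↔ _
    constructor
    · intro h1
      apply hcent
      · intro h' hh'
        exact hHab h' hh' h h.2
      · have h1' : (h : P) * g * (h : P)⁻¹ * g⁻¹ = 1 := h1
        have h2 := congrArg (fun t => t * g * (h : P)) h1'
        simp only [mul_assoc, inv_mul_cancel, mul_one, one_mul] at h2
        exact h2.symm
    · intro hz
      unfold cmt
      rw [(Subgroup.mem_center_iff.mp hz g).symm]
      group
  have hrel : (Subgroup.center P).relIndex H = p := by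
    have h1 : Nat.card f.range = (Subgroup.center P).relIndex H := by
      rw [← Subgroup.index_ker, hfker]
      rfl
    have h2 : Nat.card f.range ∣ Nat.card φ.range := Subgroup.card_dvd_of_le hfrange
    rw [hφrange, h1] at h2
    rcases (Nat.dvd_prime hp).mp h2 with h3 | h3
    · exfalso
      have h4 := Subgroup.relIndex_eq_one.mp h3
      exact haZ (h4 haH)
    · exact h3
  have := Subgroup.relIndex_mul_index hZH
  rw [hrel, hidx] at this
  rw [← this, pow_two]

end P

end Cfsg.Agent.Helper8.SCH
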