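import Mathlib
import Cfsg.Agent.Lib.Helper40.Sp4Exc.Defs

/-!
# SPX lemma server (helper40, S0814 + S2600): piece (F) `phiMat_phiMat`

Generated certificates: each entry of `phiMat (phiMat g)` is `g i j * (signed 3×3 minor)` (Sylvester, `ring`),
and the signed minor equals `g i j` modulo the symplectic relations and `2 = 0`
(`adj g = det g • g⁻¹`, `g⁻¹ = J⁻¹ gᵀ J`, `det g = - Pf (g J gᵀ)`).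
-/

set_option autoImplicit false
set_option maxHeartbeats 1600000
set_option linter.unusedVariables false
set_option linter.unusedSimpArgs false

namespace Cfsg.Agent.Helper8.SPX

open Cfsg Cfsg.Agent.Helper40.Sp4Exc

section
variable {F : Type*} [Field F] (g : Matrix (Fin 2 ⊕ Fin 2) (Fin 2 ⊕ Fin 2) F)

theorem h8f_h01 (hg : g * Matrix.J (Fin 2) F * g.transpose = Matrix.J (Fin 2) F) :
    g (Sum.inl 0) (Sum.inr 1) * g (Sum.inl 1) (Sum.inl 1) + g (Sum.inl 0) (Sum.inr 0) * g (Sum.inl 1) (Sum.inl 0) + -(g (Sum.inl 0) (Sum.inl 1) * g (Sum.inl 1) (Sum.inr 1)) + -(g (Sum.inl 0) (Sum.inl 0) * g (Sum.inl 1) (Sum.inr 0)) = (0) := by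
  have h := congrFun (congrFun hg (Sum.inl 0)) (Sum.inl 1)
  simp [Matrix.mul_apply, Matrix.J, Fintype.sum_sum_type, Fin.sum_univ_two, Matrix.fromBlocks,
    Matrix.one_apply] at h
  linear_combination h

theorem h8f_h02 (hg : g * Matrix.J (Fin 2) F * g.transpose = Matrix.J (Fin 2) F) :
    g (Sum.inl 0) (Sum.inr 1) * g (Sum.inr 0) (Sum.inl 1) + g (Sum.inl 0) (Sum.inr 0) * g (Sum.inr 0) (Sum.inl 0) + -(g (Sum.inl 0) (Sum.inl 1) * g (Sum.inr 0) (Sum.inr 1)) + -(g (Sum.inl 0) (Sum.inl 0) * g (Sum.inr 0) (Sum.inr 0)) = (-1) := by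
  have h := congrFun (congrFun hg (Sum.inl 0)) (Sum.inr 0)
  simp [Matrix.mul_apply, Matrix.J, Fintype.sum_sum_type, Fin.sum_univ_two, Matrix.fromBlocks,
    Matrix.one_apply] at h
  linear_combination h

theorem h8f_h03 (hg : g * Matrix.J (Fin 2) F * g.transpose = Matrix.J (Fin 2) F) :
    g (Sum.inl 0) (Sum.inr 1) * g (Sum.inr 1) (Sum.inl 1) + g (Sum.inl 0) (Sum.inr 0) * g (Sum.inr 1) (Sum.inl 0) + -(g (Sum.inl 0) (Sum.inl 1) * g (Sum.inr 1) (Sum.inr 1)) + -(g (Sum.inl 0) (Sum.inl 0) * g (Sum.inr 1) (Sum.inr 0)) = (0) := by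
  have h := congrFun (congrFun hg (Sum.inl 0)) (Sum.inr 1)
  simp [Matrix.mul_apply, Matrix.J, Fintype.sum_sum_type, Fin.sum_univ_two, Matrix.fromBlocks,
    Matrix.one_apply] at h
  linear_combination h

theorem h8f_h12 (hg : g * Matrix.J (Fin 2) F * g.transpose = Matrix.J (Fin 2) F) :
    g (Sum.inl 1) (Sum.inr 1) * g (Sum.inr 0) (Sum.inl 1) + g (Sum.inl 1) (Sum.inr 0) * g (Sum.inr 0) (Sum.inl 0) + -(g (Sum.inl 1) (Sum.inl 1) * g (Sum.inr 0) (Sum.inr 1)) + -(g (Sum.inl 1) (Sum.inl 0) * g (Sum.inr 0) (Sum.inr 0)) = (0) := by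
  have h := congrFun (congrFun hg (Sum.inl 1)) (Sum.inr 0)
  simp [Matrix.mul_apply, Matrix.J, Fintype.sum_sum_type, Fin.sum_univ_two, Matrix.fromBlocks,
    Matrix.one_apply] at h
  linear_combination h

theorem h8f_h13 (hg : g * Matrix.J (Fin 2) F * g.transpose = Matrix.J (Fin 2) F) :
    g (Sum.inl 1) (Sum.inr 1) * g (Sum.inr 1) (Sum.inl 1) + g (Sum.inl 1) (Sum.inr 0) * g (Sum.inr 1) (Sum.inl 0) + -(g (Sum.inl 1) (Sum.inl 1) * g (Sum.inr 1) (Sum.inr 1)) + -(g (Sum.inl 1) (Sum.inl 0) * g (Sum.inr 1) (Sum.inr 0)) = (-1) := by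
  have h := congrFun (congrFun hg (Sum.inl 1)) (Sum.inr 1)
  simp [Matrix.mul_apply, Matrix.J, Fintype.sum_sum_type, Fin.sum_univ_two, Matrix.fromBlocks,
    Matrix.one_apply] at h
  linear_combination h

theorem h8f_h23 (hg : g * Matrix.J (Fin 2) F * g.transpose = Matrix.J (Fin 2) F) :
    g (Sum.inr 0) (Sum.inr 1) * g (Sum.inr 1) (Sum.inl 1) + g (Sum.inr 0) (Sum.inr 0) * g (Sum.inr 1) (Sum.inl 0) + -(g (Sum.inr 0) (Sum.inl 1) * g (Sum.inr 1) (Sum.inr 1)) + -(g (Sum.inr 0) (Sum.inl 0) * g (Sum.inr 1) (Sum.inr 0)) = (0) := by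
  have h := congrFun (congrFun hg (Sum.inr 0)) (Sum.inr 1)
  simp [Matrix.mul_apply, Matrix.J, Fintype.sum_sum_type, Fin.sum_univ_two, Matrix.fromBlocks,
    Matrix.one_apply] at h
  linear_combination h

theorem h8f_minor_00 (h2 : (2 : F) = 0)
    (h01 : g (Sum.inl 0) (Sum.inr 1) * g (Sum.inl 1) (Sum.inl 1) + g (Sum.inl 0) (Sum.inr 0) * g (Sum.inl 1) (Sum.inl 0) + -(g (Sum.inl 0) (Sum.inl 1) * g (Sum.inl 1) (Sum.inr 1)) + -(g (Sum.inl 0) (Sum.inl 0) * g (Sum.inl 1) (Sum.inr 0)) = (0))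
    (h02 : g (Sum.inl 0) (Sum.inr 1) * g (Sum.inr 0) (Sum.inl 1) + g (Sum.inl 0) (Sum.inr 0) * g (Sum.inr 0) (Sum.inl 0) + -(g (Sum.inl 0) (Sum.inl 1) * g (Sum.inr 0) (Sum.inr 1)) + -(g (Sum.inl 0) (Sum.inl 0) * g (Sum.inr 0) (Sum.inr 0)) = (-1))
    (h03 : g (Sum.inl 0) (Sum.inr 1) * g (Sum.inr 1) (Sum.inl 1) + g (Sum.inl 0) (Sum.inr 0) * g (Sum.inr 1) (Sum.inl 0) + -(g (Sum.inl 0) (Sum.inl 1) * g (Sum.inr 1) (Sum.inr 1)) + -(g (Sum.inl 0) (Sum.inl 0) * g (Sum.inr 1) (Sum.inr 0)) = (0))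
    (h12 : g (Sum.inl 1) (Sum.inr 1) * g (Sum.inr 0) (Sum.inl 1) + g (Sum.inl 1) (Sum.inr 0) * g (Sum.inr 0) (Sum.inl 0) + -(g (Sum.inl 1) (Sum.inl 1) * g (Sum.inr 0) (Sum.inr 1)) + -(g (Sum.inl 1) (Sum.inl 0) * g (Sum.inr 0) (Sum.inr 0)) = (0))
    (h13 : g (Sum.inl 1) (Sum.inr 1) * g (Sum.inr 1) (Sum.inl 1) + g (Sum.inl 1) (Sum.inr 0) * g (Sum.inr 1) (Sum.inl 0) + -(g (Sum.inl 1) (Sum.inl 1) * g (Sum.inr 1) (Sum.inr 1)) + -(g (Sum.inl 1) (Sum.inl 0) * g (Sum.inr 1) (Sum.inr 0)) = (-1))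
    (h23 : g (Sum.inr 0) (Sum.inr 1) * g (Sum.inr 1) (Sum.inl 1) + g (Sum.inr 0) (Sum.inr 0) * g (Sum.inr 1) (Sum.inl 0) + -(g (Sum.inr 0) (Sum.inl 1) * g (Sum.inr 1) (Sum.inr 1)) + -(g (Sum.inr 0) (Sum.inl 0) * g (Sum.inr 1) (Sum.inr 0)) = (0))
    : -(g (Sum.inl 0) (Sum.inr 1) * g (Sum.inl 1) (Sum.inl 1) * g (Sum.inr 1) (Sum.inl 0)) + g (Sum.inl 0) (Sum.inr 1) * g (Sum.inl 1) (Sum.inl 0) * g (Sum.inr 1) (Sum.inl 1) + g (Sum.inl 0) (Sum.inl 1) * g (Sum.inl 1) (Sum.inr 1) * g (Sum.inr 1) (Sum.inl 0) + -(g (Sum.inl 0) (Sum.inl 1) * g (Sum.inl 1) (Sum.inl 0) * g (Sum.inr 1) (Sum.inr 1)) + -(g (Sum.inl 0) (Sum.inl 0) * g (Sum.inl 1) (Sum.inr 1) * g (Sum.inr 1) (Sum.inl 1)) + g (Sum.inl 0) (Sum.inl 0) * g (Sum.inl 1) (Sum.inl 1) * g (Sum.inr 1) (Sum.inr 1) = g (Sum.inl 0) (Sum.inl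 0) := by
  linear_combination (g (Sum.inl 0) (Sum.inr 1) * g (Sum.inr 0) (Sum.inl 1) * g (Sum.inr 1) (Sum.inl 0) + -(g (Sum.inl 0) (Sum.inr 1) * g (Sum.inr 0) (Sum.inl 0) * g (Sum.inr 1) (Sum.inl 1)) + -(g (Sum.inl 0) (Sum.inl 1) * g (Sum.inr 0) (Sum.inr 1) * g (Sum.inr 1) (Sum.inl 0)) + g (Sum.inl 0) (Sum.inl 1) * g (Sum.inr 0) (Sum.inl 0) * g (Sum.inr 1) (Sum.inr 1) + -(g (Sum.inl 0) (Sum.inl 0) * g (Sum.inr 0) (Sum.inr 0) * g (Sum.inr 1) (Sum.inl 0)) + g (Sum.inl 0) (Sum.inl 0) * g (Sum.inr 0) (Sum.inl 0) * g (Sum.inr 1) (Sum.inr 0)) * h01 +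
    (-(g (Sum.inl 0) (Sum.inr 1) * g (Sum.inl 1) (Sum.inl 1) * g (Sum.inr 1) (Sum.inl 0)) + g (Sum.inl 0) (Sum.inr 1) * g (Sum.inl 1) (Sum.inl 0) * g (Sum.inr 1) (Sum.inl 1) + g (Sum.inl 0) (Sum.inl 1) * g (Sum.inl 1) (Sum.inr 1) * g (Sum.inr 1) (Sum.inl 0) + -(g (Sum.inl 0) (Sum.inl 1) * g (Sum.inl 1) (Sum.inl 0) * g (Sum.inr 1) (Sum.inr 1)) + g (Sum.inl 0) (Sum.inl 0) * g (Sum.inl 1) (Sum.inr 0) * g (Sum.inr 1) (Sum.inl 0) + -(g (Sum.inl 0) (Sum.inl 0) * g (Sum.inl 1) (Sum.inl 0) * g (Sum.inr 1) (Sum.inr 0))) * h02 +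
    (g (Sum.inl 0) (Sum.inr 1) * g (Sum.inl 1) (Sum.inl 1) * g (Sum.inr 0) (Sum.inl 0) + -(g (Sum.inl 0) (Sum.inr 1) * g (Sum.inl 1) (Sum.inl 0) * g (Sum.inr 0) (Sum.inl 1)) + -(g (Sum.inl 0) (Sum.inl 1) * g (Sum.inl 1) (Sum.inr 1) * g (Sum.inr 0) (Sum.inl 0)) + g (Sum.inl 0) (Sum.inl 1) * g (Sum.inl 1) (Sum.inl 0) * g (Sum.inr 0) (Sum.inr 1) + -(g (Sum.inl 0) (Sum.inl 0) * g (Sum.inl 1) (Sum.inr 0) * g (Sum.inr 0) (Sum.inl 0)) + g (Sum.inl 0) (Sum.inl 0) * g (Sum.inl 1) (Sum.inl 0) * g (Sum.inr 0) (Sum.inr 0)) * h03 +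
    (-(g (Sum.inl 0) (Sum.inl 0))) * h13

theorem h8f_minor_01 (h2 : (2 : F) = 0)
    (h01 : g (Sum.inl 0) (Sum.inr 1) * g (Sum.inl 1) (Sum.inl 1) + g (Sum.inl 0) (Sum.inr 0) * g (Sum.inl 1) (Sum.inl 0) + -(g (Sum.inl 0) (Sum.inl 1) * g (Sum.inl 1) (Sum.inr 1)) + -(g (Sum.inl 0) (Sum.inl 0) * g (Sum.inl 1) (Sum.inr 0)) = (0))
    (h02 : g (Sum.inl 0) (Sum.inr 1) * g (Sum.inr 0) (Sum.inl 1) + g (Sum.inl 0) (Sum.inr 0) * g (Sum.inr 0) (Sum.inl 0) + -(g (Sum.inl 0) (Sum.inl 1) * g (Sum.inr 0) (Sum.inr 1)) + -(g (Sum.inl 0) (Sum.inl 0) * g (Sum.inr 0) (Sum.inr 0)) = (-1))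
    (h03 : g (Sum.inl 0) (Sum.inr 1) * g (Sum.inr 1) (Sum.inl 1) + g (Sum.inl 0) (Sum.inr 0) * g (Sum.inr 1) (Sum.inl 0) + -(g (Sum.inl 0) (Sum.inl 1) * g (Sum.inr 1) (Sum.inr 1)) + -(g (Sum.inl 0) (Sum.inl 0) * g (Sum.inr 1) (Sum.inr 0)) = (0))
    (h12 : g (Sum.inl 1) (Sum.inr 1) * g (Sum.inr 0) (Sum.inl 1) + g (Sum.inl 1) (Sum.inr 0) * g (Sum.inr 0) (Sum.inl 0) + -(g (Sum.inl 1) (Sum.inl 1) * g (Sum.inr 0) (Sum.inr 1)) + -(g (Sum.inl 1) (Sum.inl 0) * g (Sum.inr 0) (Sum.inr 0)) = (0))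
    (h13 : g (Sum.inl 1) (Sum.inr 1) * g (Sum.inr 1) (Sum.inl 1) + g (Sum.inl 1) (Sum.inr 0) * g (Sum.inr 1) (Sum.inl 0) + -(g (Sum.inl 1) (Sum.inl 1) * g (Sum.inr 1) (Sum.inr 1)) + -(g (Sum.inl 1) (Sum.inl 0) * g (Sum.inr 1) (Sum.inr 0)) = (-1))
    (h23 : g (Sum.inr 0) (Sum.inr 1) * g (Sum.inr 1) (Sum.inl 1) + g (Sum.inr 0) (Sum.inr 0) * g (Sum.inr 1) (Sum.inl 0) + -(g (Sum.inr 0) (Sum.inl 1) * g (Sum.inr 1) (Sum.inr 1)) + -(g (Sum.inr 0) (Sum.inl 0) * g (Sum.inr 1) (Sum.inr 0)) = (0))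
    : -(g (Sum.inl 0) (Sum.inr 0) * g (Sum.inl 1) (Sum.inl 1) * g (Sum.inr 1) (Sum.inl 0)) + g (Sum.inl 0) (Sum.inr 0) * g (Sum.inl 1) (Sum.inl 0) * g (Sum.inr 1) (Sum.inl 1) + g (Sum.inl 0) (Sum.inl 1) * g (Sum.inl 1) (Sum.inr 0) * g (Sum.inr 1) (Sum.inl 0) + -(g (Sum.inl 0) (Sum.inl 1) * g (Sum.inl 1) (Sum.inl 0) * g (Sum.inr 1) (Sum.inr 0)) + -(g (Sum.inl 0) (Sum.inl 0) * g (Sum.inl 1) (Sum.inr 0) * g (Sum.inr 1) (Sum.inl 1)) + g (Sum.inl 0) (Sum.inl 0) * g (Sum.inl 1) (Sum.inl 1) * g (Sum.inr 1) (Sum.inr 0) = g (Sum.inl 0) (Sum.inl 1) := by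
  linear_combination (g (Sum.inl 0) (Sum.inr 0) * g (Sum.inr 0) (Sum.inl 1) * g (Sum.inr 1) (Sum.inl 0) + -(g (Sum.inl 0) (Sum.inr 0) * g (Sum.inr 0) (Sum.inl 0) * g (Sum.inr 1) (Sum.inl 1)) + g (Sum.inl 0) (Sum.inl 1) * g (Sum.inr 0) (Sum.inr 1) * g (Sum.inr 1) (Sum.inl 1) + -(g (Sum.inl 0) (Sum.inl 1) * g (Sum.inr 0) (Sum.inl 1) * g (Sum.inr 1) (Sum.inr 1)) + g (Sum.inl 0) (Sum.inl 0) * g (Sum.inr 0) (Sum.inr 0) * g (Sum.inr 1) (Sum.inl 1) + -(g (Sum.inl 0) (Sum.inl 0) * g (Sum.inr 0) (Sum.inl 1) * g (Sum.inr 1) (Sum.inr 0))) * h01 +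
    (-(g (Sum.inl 0) (Sum.inr 0) * g (Sum.inl 1) (Sum.inl 1) * g (Sum.inr 1) (Sum.inl 0)) + g (Sum.inl 0) (Sum.inr 0) * g (Sum.inl 1) (Sum.inl 0) * g (Sum.inr 1) (Sum.inl 1) + -(g (Sum.inl 0) (Sum.inl 1) * g (Sum.inl 1) (Sum.inr 1) * g (Sum.inr 1) (Sum.inl 1)) + g (Sum.inl 0) (Sum.inl 1) * g (Sum.inl 1) (Sum.inl 1) * g (Sum.inr 1) (Sum.inr 1) + -(g (Sum.inl 0) (Sum.inl 0) * g (Sum.inl 1) (Sum.inr 0) * g (Sum.inr 1) (Sum.inl 1)) + g (Sum.inl 0) (Sum.inl 0) * g (Sum.inl 1) (Sum.inl 1) * g (Sum.inr 1) (Sum.inr 0)) * h02 +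
    (g (Sum.inl 0) (Sum.inr 0) * g (Sum.inl 1) (Sum.inl 1) * g (Sum.inr 0) (Sum.inl 0) + -(g (Sum.inl 0) (Sum.inr 0) * g (Sum.inl 1) (Sum.inl 0) * g (Sum.inr 0) (Sum.inl 1)) + g (Sum.inl 0) (Sum.inl 1) * g (Sum.inl 1) (Sum.inr 1) * g (Sum.inr 0) (Sum.inl 1) + -(g (Sum.inl 0) (Sum.inl 1) * g (Sum.inl 1) (Sum.inl 1) * g (Sum.inr 0) (Sum.inr 1)) + g (Sum.inl 0) (Sum.inl 0) * g (Sum.inl 1) (Sum.inr 0) * g (Sum.inr 0) (Sum.inl 1) + -(g (Sum.inl 0) (Sum.inl 0) * g (Sum.inl 1) (Sum.inl 1) * g (Sum.inr 0) (Sum.inr 0))) * h03 +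
    (g (Sum.inl 0) (Sum.inl 1)) * h13 +
    (-(g (Sum.inl 0) (Sum.inl 1))) * h2

theorem h8f_minor_02 (h2 : (2 : F) = 0)
    (h01 : g (Sum.inl 0) (Sum.inr 1) * g (Sum.inl 1) (Sum.inl 1) + g (Sum.inl 0) (Sum.inr 0) * g (Sum.inl 1) (Sum.inl 0) + -(g (Sum.inl 0) (Sum.inl 1) * g (Sum.inl 1) (Sum.inr 1)) + -(g (Sum.inl 0) (Sum.inl 0) * g (Sum.inl 1) (Sum.inr 0)) = (0))
    (h02 : g (Sum.inl 0) (Sum.inr 1) * g (Sum.inr 0) (Sum.inl 1) + g (Sum.inl 0) (Sum.inr 0) * g (Sum.inr 0) (Sum.inl 0) + -(g (Sum.inl 0) (Sum.inl 1) * g (Sum.inr 0) (Sum.inr 1)) + -(g (Sum.inl 0) (Sum.inl 0) * g (Sum.inr 0) (Sum.inr 0)) = (-1))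
    (h03 : g (Sum.inl 0) (Sum.inr 1) * g (Sum.inr 1) (Sum.inl 1) + g (Sum.inl 0) (Sum.inr 0) * g (Sum.inr 1) (Sum.inl 0) + -(g (Sum.inl 0) (Sum.inl 1) * g (Sum.inr 1) (Sum.inr 1)) + -(g (Sum.inl 0) (Sum.inl 0) * g (Sum.inr 1) (Sum.inr 0)) = (0))
    (h12 : g (Sum.inl 1) (Sum.inr 1) * g (Sum.inr 0) (Sum.inl 1) + g (Sum.inl 1) (Sum.inr 0) * g (Sum.inr 0) (Sum.inl 0) + -(g (Sum.inl 1) (Sum.inl 1) * g (Sum.inr 0) (Sum.inr 1)) + -(g (Sum.inl 1) (Sum.inl 0) * g (Sum.inr 0) (Sum.inr 0)) = (0))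
    (h13 : g (Sum.inl 1) (Sum.inr 1) * g (Sum.inr 1) (Sum.inl 1) + g (Sum.inl 1) (Sum.inr 0) * g (Sum.inr 1) (Sum.inl 0) + -(g (Sum.inl 1) (Sum.inl 1) * g (Sum.inr 1) (Sum.inr 1)) + -(g (Sum.inl 1) (Sum.inl 0) * g (Sum.inr 1) (Sum.inr 0)) = (-1))
    (h23 : g (Sum.inr 0) (Sum.inr 1) * g (Sum.inr 1) (Sum.inl 1) + g (Sum.inr 0) (Sum.inr 0) * g (Sum.inr 1) (Sum.inl 0) + -(g (Sum.inr 0) (Sum.inl 1) * g (Sum.inr 1) (Sum.inr 1)) + -(g (Sum.inr 0) (Sum.inl 0) * g (Sum.inr 1) (Sum.inr 0)) = (0))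
    : g (Sum.inl 0) (Sum.inr 1) * g (Sum.inl 1) (Sum.inr 0) * g (Sum.inr 1) (Sum.inl 1) + -(g (Sum.inl 0) (Sum.inr 1) * g (Sum.inl 1) (Sum.inl 1) * g (Sum.inr 1) (Sum.inr 0)) + -(g (Sum.inl 0) (Sum.inr 0) * g (Sum.inl 1) (Sum.inr 1) * g (Sum.inr 1) (Sum.inl 1)) + g (Sum.inl 0) (Sum.inr 0) * g (Sum.inl 1) (Sum.inl 1) * g (Sum.inr 1) (Sum.inr 1) + g (Sum.inl 0) (Sum.inl 1) * g (Sum.inl 1) (Sum.inr 1) * g (Sum.inr 1) (Sum.inr 0) + -(g (Sum.inl 0) (Sum.inl 1) * g (Sum.inl 1) (Sum.inr 0) * g (Sum.inr 1) (Sum.inr 1)) = g (Sum.inl 0) (Sum.inr 0) := by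
  linear_combination (-(g (Sum.inl 0) (Sum.inr 1) * g (Sum.inr 0) (Sum.inr 0) * g (Sum.inr 1) (Sum.inl 1)) + g (Sum.inl 0) (Sum.inr 1) * g (Sum.inr 0) (Sum.inl 1) * g (Sum.inr 1) (Sum.inr 0) + -(g (Sum.inl 0) (Sum.inr 0) * g (Sum.inr 0) (Sum.inr 0) * g (Sum.inr 1) (Sum.inl 0)) + g (Sum.inl 0) (Sum.inr 0) * g (Sum.inr 0) (Sum.inl 0) * g (Sum.inr 1) (Sum.inr 0) + -(g (Sum.inl 0) (Sum.inl 1) * g (Sum.inr 0) (Sum.inr 1) * g (Sum.inr 1) (Sum.inr 0)) + g (Sum.inl 0) (Sum.inl 1) * g (Sum.inr 0) (Sum.inr 0) * g (Sum.inr 1) (Sum.inr 1)) * h01 +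
    (g (Sum.inl 0) (Sum.inr 1) * g (Sum.inl 1) (Sum.inr 0) * g (Sum.inr 1) (Sum.inl 1) + -(g (Sum.inl 0) (Sum.inr 1) * g (Sum.inl 1) (Sum.inl 1) * g (Sum.inr 1) (Sum.inr 0)) + g (Sum.inl 0) (Sum.inr 0) * g (Sum.inl 1) (Sum.inr 0) * g (Sum.inr 1) (Sum.inl 0) + -(g (Sum.inl 0) (Sum.inr 0) * g (Sum.inl 1) (Sum.inl 0) * g (Sum.inr 1) (Sum.inr 0)) + g (Sum.inl 0) (Sum.inl 1) * g (Sum.inl 1) (Sum.inr 1) * g (Sum.inr 1) (Sum.inr 0) + -(g (Sum.inl 0) (Sum.inl 1) * g (Sum.inl 1) (Sum.inr 0) * g (Sum.inr 1) (Sum.inr 1))) * h02 +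
    (-(g (Sum.inl 0) (Sum.inr 1) * g (Sum.inl 1) (Sum.inr 0) * g (Sum.inr 0) (Sum.inl 1)) + g (Sum.inl 0) (Sum.inr 1) * g (Sum.inl 1) (Sum.inl 1) * g (Sum.inr 0) (Sum.inr 0) + -(g (Sum.inl 0) (Sum.inr 0) * g (Sum.inl 1) (Sum.inr 0) * g (Sum.inr 0) (Sum.inl 0)) + g (Sum.inl 0) (Sum.inr 0) * g (Sum.inl 1) (Sum.inl 0) * g (Sum.inr 0) (Sum.inr 0) + -(g (Sum.inl 0) (Sum.inl 1) * g (Sum.inl 1) (Sum.inr 1) * g (Sum.inr 0) (Sum.inr 0)) + g (Sum.inl 0) (Sum.inl 1) * g (Sum.inl 1) (Sum.inr 0) * g (Sum.inr 0) (Sum.inr 1)) * h03 +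
    (-(g (Sum.inl 0) (Sum.inr 0))) * h13

theorem h8f_minor_03 (h2 : (2 : F) = 0)
    (h01 : g (Sum.inl 0) (Sum.inr 1) * g (Sum.inl 1) (Sum.inl 1) + g (Sum.inl 0) (Sum.inr 0) * g (Sum.inl 1) (Sum.inl 0) + -(g (Sum.inl 0) (Sum.inl 1) * g (Sum.inl 1) (Sum.inr 1)) + -(g (Sum.inl 0) (Sum.inl 0) * g (Sum.inl 1) (Sum.inr 0)) = (0))
    (h02 : g (Sum.inl 0) (Sum.inr 1) * g (Sum.inr 0) (Sum.inl 1) + g (Sum.inl 0) (Sum.inr 0) * g (Sum.inr 0) (Sum.inl 0) + -(g (Sum.inl 0) (Sum.inl 1) * g (Sum.inr 0) (Sum.inr 1)) + -(g (Sum.inl 0) (Sum.inl 0) * g (Sum.inr 0) (Sum.inr 0)) = (-1))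
    (h03 : g (Sum.inl 0) (Sum.inr 1) * g (Sum.inr 1) (Sum.inl 1) + g (Sum.inl 0) (Sum.inr 0) * g (Sum.inr 1) (Sum.inl 0) + -(g (Sum.inl 0) (Sum.inl 1) * g (Sum.inr 1) (Sum.inr 1)) + -(g (Sum.inl 0) (Sum.inl 0) * g (Sum.inr 1) (Sum.inr 0)) = (0))
    (h12 : g (Sum.inl 1) (Sum.inr 1) * g (Sum.inr 0) (Sum.inl 1) + g (Sum.inl 1) (Sum.inr 0) * g (Sum.inr 0) (Sum.inl 0) + -(g (Sum.inl 1) (Sum.inl 1) * g (Sum.inr 0) (Sum.inr 1)) + -(g (Sum.inl 1) (Sum.inl 0) * g (Sum.inr 0) (Sum.inr 0)) = (0))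
    (h13 : g (Sum.inl 1) (Sum.inr 1) * g (Sum.inr 1) (Sum.inl 1) + g (Sum.inl 1) (Sum.inr 0) * g (Sum.inr 1) (Sum.inl 0) + -(g (Sum.inl 1) (Sum.inl 1) * g (Sum.inr 1) (Sum.inr 1)) + -(g (Sum.inl 1) (Sum.inl 0) * g (Sum.inr 1) (Sum.inr 0)) = (-1))
    (h23 : g (Sum.inr 0) (Sum.inr 1) * g (Sum.inr 1) (Sum.inl 1) + g (Sum.inr 0) (Sum.inr 0) * g (Sum.inr 1) (Sum.inl 0) + -(g (Sum.inr 0) (Sum.inl 1) * g (Sum.inr 1) (Sum.inr 1)) + -(g (Sum.inr 0) (Sum.inl 0) * g (Sum.inr 1) (Sum.inr 0)) = (0))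
    : -(g (Sum.inl 0) (Sum.inr 1) * g (Sum.inl 1) (Sum.inr 0) * g (Sum.inr 1) (Sum.inl 0)) + g (Sum.inl 0) (Sum.inr 1) * g (Sum.inl 1) (Sum.inl 0) * g (Sum.inr 1) (Sum.inr 0) + g (Sum.inl 0) (Sum.inr 0) * g (Sum.inl 1) (Sum.inr 1) * g (Sum.inr 1) (Sum.inl 0) + -(g (Sum.inl 0) (Sum.inr 0) * g (Sum.inl 1) (Sum.inl 0) * g (Sum.inr 1) (Sum.inr 1)) + -(g (Sum.inl 0) (Sum.inl 0) * g (Sum.inl 1) (Sum.inr 1) * g (Sum.inr 1) (Sum.inr 0)) + g (Sum.inl 0) (Sum.inl 0) * g (Sum.inl 1) (Sum.inr 0) * g (Sum.inr 1) (Sum.inr 1) = g (Sum.inl 0) (Sum.inr 1) := by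
  linear_combination (-(g (Sum.inl 0) (Sum.inr 1) * g (Sum.inr 0) (Sum.inr 1) * g (Sum.inr 1) (Sum.inl 1)) + g (Sum.inl 0) (Sum.inr 1) * g (Sum.inr 0) (Sum.inl 1) * g (Sum.inr 1) (Sum.inr 1) + -(g (Sum.inl 0) (Sum.inr 0) * g (Sum.inr 0) (Sum.inr 1) * g (Sum.inr 1) (Sum.inl 0)) + g (Sum.inl 0) (Sum.inr 0) * g (Sum.inr 0) (Sum.inl 0) * g (Sum.inr 1) (Sum.inr 1) + g (Sum.inl 0) (Sum.inl 0) * g (Sum.inr 0) (Sum.inr 1) * g (Sum.inr 1) (Sum.inr 0) + -(g (Sum.inl 0) (Sum.inl 0) * g (Sum.inr 0) (Sum.inr 0) * g (Sum.inr 1) (Sum.inr 1))) * h01 +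
    (g (Sum.inl 0) (Sum.inr 1) * g (Sum.inl 1) (Sum.inr 1) * g (Sum.inr 1) (Sum.inl 1) + -(g (Sum.inl 0) (Sum.inr 1) * g (Sum.inl 1) (Sum.inl 1) * g (Sum.inr 1) (Sum.inr 1)) + g (Sum.inl 0) (Sum.inr 0) * g (Sum.inl 1) (Sum.inr 1) * g (Sum.inr 1) (Sum.inl 0) + -(g (Sum.inl 0) (Sum.inr 0) * g (Sum.inl 1) (Sum.inl 0) * g (Sum.inr 1) (Sum.inr 1)) + -(g (Sum.inl 0) (Sum.inl 0) * g (Sum.inl 1) (Sum.inr 1) * g (Sum.inr 1) (Sum.inr 0)) + g (Sum.inl 0) (Sum.inl 0) * g (Sum.inl 1) (Sum.inr 0) * g (Sum.inr 1) (Sum.inr 1)) * h02 +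
    (-(g (Sum.inl 0) (Sum.inr 1) * g (Sum.inl 1) (Sum.inr 1) * g (Sum.inr 0) (Sum.inl 1)) + g (Sum.inl 0) (Sum.inr 1) * g (Sum.inl 1) (Sum.inl 1) * g (Sum.inr 0) (Sum.inr 1) + -(g (Sum.inl 0) (Sum.inr 0) * g (Sum.inl 1) (Sum.inr 1) * g (Sum.inr 0) (Sum.inl 0)) + g (Sum.inl 0) (Sum.inr 0) * g (Sum.inl 1) (Sum.inl 0) * g (Sum.inr 0) (Sum.inr 1) + g (Sum.inl 0) (Sum.inl 0) * g (Sum.inl 1) (Sum.inr 1) * g (Sum.inr 0) (Sum.inr 0) + -(g (Sum.inl 0) (Sum.inl 0) * g (Sum.inl 1) (Sum.inr 0) * g (Sum.inr 0) (Sum.inr 1))) * h03 +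
    (-(g (Sum.inl 0) (Sum.inr 1))) * h13

theorem h8f_minor_10 (h2 : (2 : F) = 0)
    (h01 : g (Sum.inl 0) (Sum.inr 1) * g (Sum.inl 1) (Sum.inl 1) + g (Sum.inl 0) (Sum.inr 0) * g (Sum.inl 1) (Sum.inl 0) + -(g (Sum.inl 0) (Sum.inl 1) * g (Sum.inl 1) (Sum.inr 1)) + -(g (Sum.inl 0) (Sum.inl 0) * g (Sum.inl 1) (Sum.inr 0)) = (0))
    (h02 : g (Sum.inl 0) (Sum.inr 1) * g (Sum.inr 0) (Sum.inl 1) + g (Sum.inl 0) (Sum.inr 0) * g (Sum.inr 0) (Sum.inl 0) + -(g (Sum.inl 0) (Sum.inl 1) * g (Sum.inr 0) (Sum.inr 1)) + -(g (Sum.inl 0) (Sum.inl 0) * g (Sum.inr 0) (Sum.inr 0)) = (-1))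
    (h03 : g (Sum.inl 0) (Sum.inr 1) * g (Sum.inr 1) (Sum.inl 1) + g (Sum.inl 0) (Sum.inr 0) * g (Sum.inr 1) (Sum.inl 0) + -(g (Sum.inl 0) (Sum.inl 1) * g (Sum.inr 1) (Sum.inr 1)) + -(g (Sum.inl 0) (Sum.inl 0) * g (Sum.inr 1) (Sum.inr 0)) = (0))
    (h12 : g (Sum.inl 1) (Sum.inr 1) * g (Sum.inr 0) (Sum.inl 1) + g (Sum.inl 1) (Sum.inr 0) * g (Sum.inr 0) (Sum.inl 0) + -(g (Sum.inl 1) (Sum.inl 1) * g (Sum.inr 0) (Sum.inr 1)) + -(g (Sum.inl 1) (Sum.inl 0) * g (Sum.inr 0) (Sum.inr 0)) = (0))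
    (h13 : g (Sum.inl 1) (Sum.inr 1) * g (Sum.inr 1) (Sum.inl 1) + g (Sum.inl 1) (Sum.inr 0) * g (Sum.inr 1) (Sum.inl 0) + -(g (Sum.inl 1) (Sum.inl 1) * g (Sum.inr 1) (Sum.inr 1)) + -(g (Sum.inl 1) (Sum.inl 0) * g (Sum.inr 1) (Sum.inr 0)) = (-1))
    (h23 : g (Sum.inr 0) (Sum.inr 1) * g (Sum.inr 1) (Sum.inl 1) + g (Sum.inr 0) (Sum.inr 0) * g (Sum.inr 1) (Sum.inl 0) + -(g (Sum.inr 0) (Sum.inl 1) * g (Sum.inr 1) (Sum.inr 1)) + -(g (Sum.inr 0) (Sum.inl 0) * g (Sum.inr 1) (Sum.inr 0)) = (0))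
    : -(g (Sum.inl 0) (Sum.inr 1) * g (Sum.inl 1) (Sum.inl 1) * g (Sum.inr 0) (Sum.inl 0)) + g (Sum.inl 0) (Sum.inr 1) * g (Sum.inl 1) (Sum.inl 0) * g (Sum.inr 0) (Sum.inl 1) + g (Sum.inl 0) (Sum.inl 1) * g (Sum.inl 1) (Sum.inr 1) * g (Sum.inr 0) (Sum.inl 0) + -(g (Sum.inl 0) (Sum.inl 1) * g (Sum.inl 1) (Sum.inl 0) * g (Sum.inr 0) (Sum.inr 1)) + -(g (Sum.inl 0) (Sum.inl 0) * g (Sum.inl 1) (Sum.inr 1) * g (Sum.inr 0) (Sum.inl 1)) + g (Sum.inl 0) (Sum.inl 0) * g (Sum.inl 1) (Sum.inl 1) * g (Sum.inr 0) (Sum.inr 1) = g (Sum.inl 1) (Sum.inl 0) := by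
  linear_combination (-(g (Sum.inl 1) (Sum.inr 1) * g (Sum.inr 0) (Sum.inl 1) * g (Sum.inr 1) (Sum.inl 0)) + g (Sum.inl 1) (Sum.inr 1) * g (Sum.inr 0) (Sum.inl 0) * g (Sum.inr 1) (Sum.inl 1) + g (Sum.inl 1) (Sum.inl 1) * g (Sum.inr 0) (Sum.inr 1) * g (Sum.inr 1) (Sum.inl 0) + -(g (Sum.inl 1) (Sum.inl 1) * g (Sum.inr 0) (Sum.inl 0) * g (Sum.inr 1) (Sum.inr 1)) + g (Sum.inl 1) (Sum.inl 0) * g (Sum.inr 0) (Sum.inr 0) * g (Sum.inr 1) (Sum.inl 0) + -(g (Sum.inl 1) (Sum.inl 0) * g (Sum.inr 0) (Sum.inl 0) * g (Sum.inr 1) (Sum.inr 0))) * h01 +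
    (-(g (Sum.inl 1) (Sum.inl 0) * g (Sum.inl 1) (Sum.inr 1) * g (Sum.inr 1) (Sum.inl 1)) + -(g (Sum.inl 1) (Sum.inl 0) * g (Sum.inl 1) (Sum.inr 0) * g (Sum.inr 1) (Sum.inl 0)) + g (Sum.inl 1) (Sum.inl 0) * g (Sum.inl 1) (Sum.inl 1) * g (Sum.inr 1) (Sum.inr 1) + g (Sum.inl 1) (Sum.inl 0) ^ 2 * g (Sum.inr 1) (Sum.inr 0)) * h02 +
    (g (Sum.inl 1) (Sum.inl 0) * g (Sum.inl 1) (Sum.inr 1) * g (Sum.inr 0) (Sum.inl 1) + g (Sum.inl 1) (Sum.inl 0) * g (Sum.inl 1) (Sum.inr 0) * g (Sum.inr 0) (Sum.inl 0) + -(g (Sum.inl 1) (Sum.inl 0) * g (Sum.inl 1) (Sum.inl 1) * g (Sum.inr 0) (Sum.inr 1)) + -(g (Sum.inl 1) (Sum.inl 0) ^ 2 * g (Sum.inr 0) (Sum.inr 0))) * h03 +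
    (g (Sum.inl 0) (Sum.inr 1) * g (Sum.inl 1) (Sum.inl 1) * g (Sum.inr 1) (Sum.inl 0) + -(g (Sum.inl 0) (Sum.inr 1) * g (Sum.inl 1) (Sum.inl 0) * g (Sum.inr 1) (Sum.inl 1)) + -(g (Sum.inl 0) (Sum.inl 1) * g (Sum.inl 1) (Sum.inr 1) * g (Sum.inr 1) (Sum.inl 0)) + g (Sum.inl 0) (Sum.inl 1) * g (Sum.inl 1) (Sum.inl 0) * g (Sum.inr 1) (Sum.inr 1) + g (Sum.inl 0) (Sum.inl 0) * g (Sum.inl 1) (Sum.inr 1) * g (Sum.inr 1) (Sum.inl 1) + -(g (Sum.inl 0) (Sum.inl 0) * g (Sum.inl 1) (Sum.inl 1) * g (Sum.inr 1) (Sum.inr 1))) * h12 +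
    (g (Sum.inl 1) (Sum.inl 0) + -(g (Sum.inl 0) (Sum.inr 1) * g (Sum.inl 1) (Sum.inl 1) * g (Sum.inr 0) (Sum.inl 0)) + g (Sum.inl 0) (Sum.inr 1) * g (Sum.inl 1) (Sum.inl 0) * g (Sum.inr 0) (Sum.inl 1) + g (Sum.inl 0) (Sum.inl 1) * g (Sum.inl 1) (Sum.inr 1) * g (Sum.inr 0) (Sum.inl 0) + -(g (Sum.inl 0) (Sum.inl 1) * g (Sum.inl 1) (Sum.inl 0) * g (Sum.inr 0) (Sum.inr 1)) + -(g (Sum.inl 0) (Sum.inl 0) * g (Sum.inl 1) (Sum.inr 1) * g (Sum.inr 0) (Sum.inl 1)) + g (Sum.inl 0) (Sum.inl 0) * g (Sum.inl 1) (Sum.inl 1) * g (Sum.inr 0) (Sum.inr 1)) * h13 +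
    (-(g (Sum.inl 1) (Sum.inl 0))) * h2

theorem h8f_minor_11 (h2 : (2 : F) = 0)
    (h01 : g (Sum.inl 0) (Sum.inr 1) * g (Sum.inl 1) (Sum.inl 1) + g (Sum.inl 0) (Sum.inr 0) * g (Sum.inl 1) (Sum.inl 0) + -(g (Sum.inl 0) (Sum.inl 1) * g (Sum.inl 1) (Sum.inr 1)) + -(g (Sum.inl 0) (Sum.inl 0) * g (Sum.inl 1) (Sum.inr 0)) = (0))
    (h02 : g (Sum.inl 0) (Sum.inr 1) * g (Sum.inr 0) (Sum.inl 1) + g (Sum.inl 0) (Sum.inr 0) * g (Sum.inr 0) (Sum.inl 0) + -(g (Sum.inl 0) (Sum.inl 1) * g (Sum.inr 0) (Sum.inr 1)) + -(g (Sum.inl 0) (Sum.inl 0) * g (Sum.inr 0) (Sum.inr 0)) = (-1))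
    (h03 : g (Sum.inl 0) (Sum.inr 1) * g (Sum.inr 1) (Sum.inl 1) + g (Sum.inl 0) (Sum.inr 0) * g (Sum.inr 1) (Sum.inl 0) + -(g (Sum.inl 0) (Sum.inl 1) * g (Sum.inr 1) (Sum.inr 1)) + -(g (Sum.inl 0) (Sum.inl 0) * g (Sum.inr 1) (Sum.inr 0)) = (0))
    (h12 : g (Sum.inl 1) (Sum.inr 1) * g (Sum.inr 0) (Sum.inl 1) + g (Sum.inl 1) (Sum.inr 0) * g (Sum.inr 0) (Sum.inl 0) + -(g (Sum.inl 1) (Sum.inl 1) * g (Sum.inr 0) (Sum.inr 1)) + -(g (Sum.inl 1) (Sum.inl 0) * g (Sum.inr 0) (Sum.inr 0)) = (0))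
    (h13 : g (Sum.inl 1) (Sum.inr 1) * g (Sum.inr 1) (Sum.inl 1) + g (Sum.inl 1) (Sum.inr 0) * g (Sum.inr 1) (Sum.inl 0) + -(g (Sum.inl 1) (Sum.inl 1) * g (Sum.inr 1) (Sum.inr 1)) + -(g (Sum.inl 1) (Sum.inl 0) * g (Sum.inr 1) (Sum.inr 0)) = (-1))
    (h23 : g (Sum.inr 0) (Sum.inr 1) * g (Sum.inr 1) (Sum.inl 1) + g (Sum.inr 0) (Sum.inr 0) * g (Sum.inr 1) (Sum.inl 0) + -(g (Sum.inr 0) (Sum.inl 1) * g (Sum.inr 1) (Sum.inr 1)) + -(g (Sum.inr 0) (Sum.inl 0) * g (Sum.inr 1) (Sum.inr 0)) = (0))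
    : -(g (Sum.inl 0) (Sum.inr 0) * g (Sum.inl 1) (Sum.inl 1) * g (Sum.inr 0) (Sum.inl 0)) + g (Sum.inl 0) (Sum.inr 0) * g (Sum.inl 1) (Sum.inl 0) * g (Sum.inr 0) (Sum.inl 1) + g (Sum.inl 0) (Sum.inl 1) * g (Sum.inl 1) (Sum.inr 0) * g (Sum.inr 0) (Sum.inl 0) + -(g (Sum.inl 0) (Sum.inl 1) * g (Sum.inl 1) (Sum.inl 0) * g (Sum.inr 0) (Sum.inr 0)) + -(g (Sum.inl 0) (Sum.inl 0) * g (Sum.inl 1) (Sum.inr 0) * g (Sum.inr 0) (Sum.inl 1)) + g (Sum.inl 0) (Sum.inl 0) * g (Sum.inl 1) (Sum.inl 1) * g (Sum.inr 0) (Sum.inr 0) = g (Sum.inl 1) (Sum.inl 1) := by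
  linear_combination (-(g (Sum.inl 1) (Sum.inr 0) * g (Sum.inr 0) (Sum.inl 1) * g (Sum.inr 1) (Sum.inl 0)) + g (Sum.inl 1) (Sum.inr 0) * g (Sum.inr 0) (Sum.inl 0) * g (Sum.inr 1) (Sum.inl 1) + -(g (Sum.inl 1) (Sum.inl 1) * g (Sum.inr 0) (Sum.inr 1) * g (Sum.inr 1) (Sum.inl 1)) + g (Sum.inl 1) (Sum.inl 1) * g (Sum.inr 0) (Sum.inl 1) * g (Sum.inr 1) (Sum.inr 1) + -(g (Sum.inl 1) (Sum.inl 0) * g (Sum.inr 0) (Sum.inr 0) * g (Sum.inr 1) (Sum.inl 1)) + g (Sum.inl 1) (Sum.inl 0) * g (Sum.inr 0) (Sum.inl 1) * g (Sum.inr 1) (Sum.inr 0)) * h01 +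
    (g (Sum.inl 1) (Sum.inl 1) * g (Sum.inl 1) (Sum.inr 1) * g (Sum.inr 1) (Sum.inl 1) + g (Sum.inl 1) (Sum.inl 1) * g (Sum.inl 1) (Sum.inr 0) * g (Sum.inr 1) (Sum.inl 0) + -(g (Sum.inl 1) (Sum.inl 1) ^ 2 * g (Sum.inr 1) (Sum.inr 1)) + -(g (Sum.inl 1) (Sum.inl 0) * g (Sum.inl 1) (Sum.inl 1) * g (Sum.inr 1) (Sum.inr 0))) * h02 +
    (-(g (Sum.inl 1) (Sum.inl 1) * g (Sum.inl 1) (Sum.inr 1) * g (Sum.inr 0) (Sum.inl 1)) + -(g (Sum.inl 1) (Sum.inl 1) * g (Sum.inl 1) (Sum.inr 0) * g (Sum.inr 0) (Sum.inl 0)) + g (Sum.inl 1) (Sum.inl 1) ^ 2 * g (Sum.inr 0) (Sum.inr 1) + g (Sum.inl 1) (Sum.inl 0) * g (Sum.inl 1) (Sum.inl 1) * g (Sum.inr 0) (Sum.inr 0)) * h03 +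
    (g (Sum.inl 0) (Sum.inr 0) * g (Sum.inl 1) (Sum.inl 1) * g (Sum.inr 1) (Sum.inl 0) + -(g (Sum.inl 0) (Sum.inr 0) * g (Sum.inl 1) (Sum.inl 0) * g (Sum.inr 1) (Sum.inl 1)) + -(g (Sum.inl 0) (Sum.inl 1) * g (Sum.inl 1) (Sum.inr 0) * g (Sum.inr 1) (Sum.inl 0)) + g (Sum.inl 0) (Sum.inl 1) * g (Sum.inl 1) (Sum.inl 0) * g (Sum.inr 1) (Sum.inr 0) + g (Sum.inl 0) (Sum.inl 0) * g (Sum.inl 1) (Sum.inr 0) * g (Sum.inr 1) (Sum.inl 1) + -(g (Sum.inl 0) (Sum.inl 0) * g (Sum.inl 1) (Sum.inl 1) * g (Sum.inr 1) (Sum.inr 0))) * h12 +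
    (-(g (Sum.inl 1) (Sum.inl 1)) + -(g (Sum.inl 0) (Sum.inr 0) * g (Sum.inl 1) (Sum.inl 1) * g (Sum.inr 0) (Sum.inl 0)) + g (Sum.inl 0) (Sum.inr 0) * g (Sum.inl 1) (Sum.inl 0) * g (Sum.inr 0) (Sum.inl 1) + g (Sum.inl 0) (Sum.inl 1) * g (Sum.inl 1) (Sum.inr 0) * g (Sum.inr 0) (Sum.inl 0) + -(g (Sum.inl 0) (Sum.inl 1) * g (Sum.inl 1) (Sum.inl 0) * g (Sum.inr 0) (Sum.inr 0)) + -(g (Sum.inl 0) (Sum.inl 0) * g (Sum.inl 1) (Sum.inr 0) * g (Sum.inr 0) (Sum.inl 1)) + g (Sum.inl 0) (Sum.inl 0) * g (Sum.inl 1) (Sum.inl 1) * g (Sum.inr 0) (Sum.inr 0)) * h13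

theorem h8f_minor_12 (h2 : (2 : F) = 0)
    (h01 : g (Sum.inl 0) (Sum.inr 1) * g (Sum.inl 1) (Sum.inl 1) + g (Sum.inl 0) (Sum.inr 0) * g (Sum.inl 1) (Sum.inl 0) + -(g (Sum.inl 0) (Sum.inl 1) * g (Sum.inl 1) (Sum.inr 1)) + -(g (Sum.inl 0) (Sum.inl 0) * g (Sum.inl 1) (Sum.inr 0)) = (0))
    (h02 : g (Sum.inl 0) (Sum.inr 1) * g (Sum.inr 0) (Sum.inl 1) + g (Sum.inl 0) (Sum.inr 0) * g (Sum.inr 0) (Sum.inl 0) + -(g (Sum.inl 0) (Sum.inl 1) * g (Sum.inr 0) (Sum.inr 1)) + -(g (Sum.inl 0) (Sum.inl 0) * g (Sum.inr 0) (Sum.inr 0)) = (-1))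
    (h03 : g (Sum.inl 0) (Sum.inr 1) * g (Sum.inr 1) (Sum.inl 1) + g (Sum.inl 0) (Sum.inr 0) * g (Sum.inr 1) (Sum.inl 0) + -(g (Sum.inl 0) (Sum.inl 1) * g (Sum.inr 1) (Sum.inr 1)) + -(g (Sum.inl 0) (Sum.inl 0) * g (Sum.inr 1) (Sum.inr 0)) = (0))
    (h12 : g (Sum.inl 1) (Sum.inr 1) * g (Sum.inr 0) (Sum.inl 1) + g (Sum.inl 1) (Sum.inr 0) * g (Sum.inr 0) (Sum.inl 0) + -(g (Sum.inl 1) (Sum.inl 1) * g (Sum.inr 0) (Sum.inr 1)) + -(g (Sum.inl 1) (Sum.inl 0) * g (Sum.inr 0) (Sum.inr 0)) = (0))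
    (h13 : g (Sum.inl 1) (Sum.inr 1) * g (Sum.inr 1) (Sum.inl 1) + g (Sum.inl 1) (Sum.inr 0) * g (Sum.inr 1) (Sum.inl 0) + -(g (Sum.inl 1) (Sum.inl 1) * g (Sum.inr 1) (Sum.inr 1)) + -(g (Sum.inl 1) (Sum.inl 0) * g (Sum.inr 1) (Sum.inr 0)) = (-1))
    (h23 : g (Sum.inr 0) (Sum.inr 1) * g (Sum.inr 1) (Sum.inl 1) + g (Sum.inr 0) (Sum.inr 0) * g (Sum.inr 1) (Sum.inl 0) + -(g (Sum.inr 0) (Sum.inl 1) * g (Sum.inr 1) (Sum.inr 1)) + -(g (Sum.inr 0) (Sum.inl 0) * g (Sum.inr 1) (Sum.inr 0)) = (0))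
    : g (Sum.inl 0) (Sum.inr 1) * g (Sum.inl 1) (Sum.inr 0) * g (Sum.inr 0) (Sum.inl 1) + -(g (Sum.inl 0) (Sum.inr 1) * g (Sum.inl 1) (Sum.inl 1) * g (Sum.inr 0) (Sum.inr 0)) + -(g (Sum.inl 0) (Sum.inr 0) * g (Sum.inl 1) (Sum.inr 1) * g (Sum.inr 0) (Sum.inl 1)) + g (Sum.inl 0) (Sum.inr 0) * g (Sum.inl 1) (Sum.inl 1) * g (Sum.inr 0) (Sum.inr 1) + g (Sum.inl 0) (Sum.inl 1) * g (Sum.inl 1) (Sum.inr 1) * g (Sum.inr 0) (Sum.inr 0) + -(g (Sum.inl 0) (Sum.inl 1) * g (Sum.inl 1) (Sum.inr 0) * g (Sum.inr 0) (Sum.inr 1)) = g (Sum.inl 1) (Sum.inr 0) := by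
  linear_combination (g (Sum.inl 1) (Sum.inr 1) * g (Sum.inr 0) (Sum.inr 0) * g (Sum.inr 1) (Sum.inl 1) + -(g (Sum.inl 1) (Sum.inr 1) * g (Sum.inr 0) (Sum.inl 1) * g (Sum.inr 1) (Sum.inr 0)) + g (Sum.inl 1) (Sum.inr 0) * g (Sum.inr 0) (Sum.inr 0) * g (Sum.inr 1) (Sum.inl 0) + -(g (Sum.inl 1) (Sum.inr 0) * g (Sum.inr 0) (Sum.inl 0) * g (Sum.inr 1) (Sum.inr 0)) + g (Sum.inl 1) (Sum.inl 1) * g (Sum.inr 0) (Sum.inr 1) * g (Sum.inr 1) (Sum.inr 0) + -(g (Sum.inl 1) (Sum.inl 1) * g (Sum.inr 0) (Sum.inr 0) * g (Sum.inr 1) (Sum.inr 1))) * h01 +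
    (-(g (Sum.inl 1) (Sum.inr 0) * g (Sum.inl 1) (Sum.inr 1) * g (Sum.inr 1) (Sum.inl 1)) + -(g (Sum.inl 1) (Sum.inr 0) ^ 2 * g (Sum.inr 1) (Sum.inl 0)) + g (Sum.inl 1) (Sum.inl 1) * g (Sum.inl 1) (Sum.inr 0) * g (Sum.inr 1) (Sum.inr 1) + g (Sum.inl 1) (Sum.inl 0) * g (Sum.inl 1) (Sum.inr 0) * g (Sum.inr 1) (Sum.inr 0)) * h02 +
    (g (Sum.inl 1) (Sum.inr 0) * g (Sum.inl 1) (Sum.inr 1) * g (Sum.inr 0) (Sum.inl 1) + g (Sum.inl 1) (Sum.inr 0) ^ 2 * g (Sum.inr 0) (Sum.inl 0) + -(g (Sum.inl 1) (Sum.inl 1) * g (Sum.inl 1) (Sum.inr 0) * g (Sum.inr 0) (Sum.inr 1)) + -(g (Sum.inl 1) (Sum.inl 0) * g (Sum.inl 1) (Sum.inr 0) * g (Sum.inr 0) (Sum.inr 0))) * h03 +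
    (-(g (Sum.inl 0) (Sum.inr 1) * g (Sum.inl 1) (Sum.inr 0) * g (Sum.inr 1) (Sum.inl 1)) + g (Sum.inl 0) (Sum.inr 1) * g (Sum.inl 1) (Sum.inl 1) * g (Sum.inr 1) (Sum.inr 0) + g (Sum.inl 0) (Sum.inr 0) * g (Sum.inl 1) (Sum.inr 1) * g (Sum.inr 1) (Sum.inl 1) + -(g (Sum.inl 0) (Sum.inr 0) * g (Sum.inl 1) (Sum.inl 1) * g (Sum.inr 1) (Sum.inr 1)) + -(g (Sum.inl 0) (Sum.inl 1) * g (Sum.inl 1) (Sum.inr 1) * g (Sum.inr 1) (Sum.inr 0)) + g (Sum.inl 0) (Sum.inl 1) * g (Sum.inl 1) (Sum.inr 0) * g (Sum.inr 1) (Sum.inr 1)) * h12 +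
    (g (Sum.inl 1) (Sum.inr 0) + g (Sum.inl 0) (Sum.inr 1) * g (Sum.inl 1) (Sum.inr 0) * g (Sum.inr 0) (Sum.inl 1) + -(g (Sum.inl 0) (Sum.inr 1) * g (Sum.inl 1) (Sum.inl 1) * g (Sum.inr 0) (Sum.inr 0)) + -(g (Sum.inl 0) (Sum.inr 0) * g (Sum.inl 1) (Sum.inr 1) * g (Sum.inr 0) (Sum.inl 1)) + g (Sum.inl 0) (Sum.inr 0) * g (Sum.inl 1) (Sum.inl 1) * g (Sum.inr 0) (Sum.inr 1) + g (Sum.inl 0) (Sum.inl 1) * g (Sum.inl 1) (Sum.inr 1) * g (Sum.inr 0) (Sum.inr 0) + -(g (Sum.inl 0) (Sum.inl 1) * g (Sum.inl 1) (Sum.inr 0) * g (Sum.inr 0) (Sum.inr 1))) * h13 +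
    (-(g (Sum.inl 1) (Sum.inr 0))) * h2

theorem h8f_minor_13 (h2 : (2 : F) = 0)
    (h01 : g (Sum.inl 0) (Sum.inr 1) * g (Sum.inl 1) (Sum.inl 1) + g (Sum.inl 0) (Sum.inr 0) * g (Sum.inl 1) (Sum.inl 0) + -(g (Sum.inl 0) (Sum.inl 1) * g (Sum.inl 1) (Sum.inr 1)) + -(g (Sum.inl 0) (Sum.inl 0) * g (Sum.inl 1) (Sum.inr 0)) = (0))
    (h02 : g (Sum.inl 0) (Sum.inr 1) * g (Sum.inr 0) (Sum.inl 1) + g (Sum.inl 0) (Sum.inr 0) * g (Sum.inr 0) (Sum.inl 0) + -(g (Sum.inl 0) (Sum.inl 1) * g (Sum.inr 0) (Sum.inr 1)) + -(g (Sum.inl 0) (Sum.inl 0) * g (Sum.inr 0) (Sum.inr 0)) = (-1))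
    (h03 : g (Sum.inl 0) (Sum.inr 1) * g (Sum.inr 1) (Sum.inl 1) + g (Sum.inl 0) (Sum.inr 0) * g (Sum.inr 1) (Sum.inl 0) + -(g (Sum.inl 0) (Sum.inl 1) * g (Sum.inr 1) (Sum.inr 1)) + -(g (Sum.inl 0) (Sum.inl 0) * g (Sum.inr 1) (Sum.inr 0)) = (0))
    (h12 : g (Sum.inl 1) (Sum.inr 1) * g (Sum.inr 0) (Sum.inl 1) + g (Sum.inl 1) (Sum.inr 0) * g (Sum.inr 0) (Sum.inl 0) + -(g (Sum.inl 1) (Sum.inl 1) * g (Sum.inr 0) (Sum.inr 1)) + -(g (Sum.inl 1) (Sum.inl 0) * g (Sum.inr 0) (Sum.inr 0)) = (0))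
    (h13 : g (Sum.inl 1) (Sum.inr 1) * g (Sum.inr 1) (Sum.inl 1) + g (Sum.inl 1) (Sum.inr 0) * g (Sum.inr 1) (Sum.inl 0) + -(g (Sum.inl 1) (Sum.inl 1) * g (Sum.inr 1) (Sum.inr 1)) + -(g (Sum.inl 1) (Sum.inl 0) * g (Sum.inr 1) (Sum.inr 0)) = (-1))
    (h23 : g (Sum.inr 0) (Sum.inr 1) * g (Sum.inr 1) (Sum.inl 1) + g (Sum.inr 0) (Sum.inr 0) * g (Sum.inr 1) (Sum.inl 0) + -(g (Sum.inr 0) (Sum.inl 1) * g (Sum.inr 1) (Sum.inr 1)) + -(g (Sum.inr 0) (Sum.inl 0) * g (Sum.inr 1) (Sum.inr 0)) = (0))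
    : -(g (Sum.inl 0) (Sum.inr 1) * g (Sum.inl 1) (Sum.inr 0) * g (Sum.inr 0) (Sum.inl 0)) + g (Sum.inl 0) (Sum.inr 1) * g (Sum.inl 1) (Sum.inl 0) * g (Sum.inr 0) (Sum.inr 0) + g (Sum.inl 0) (Sum.inr 0) * g (Sum.inl 1) (Sum.inr 1) * g (Sum.inr 0) (Sum.inl 0) + -(g (Sum.inl 0) (Sum.inr 0) * g (Sum.inl 1) (Sum.inl 0) * g (Sum.inr 0) (Sum.inr 1)) + -(g (Sum.inl 0) (Sum.inl 0) * g (Sum.inl 1) (Sum.inr 1) * g (Sum.inr 0) (Sum.inr 0)) + g (Sum.inl 0) (Sum.inl 0) * g (Sum.inl 1) (Sum.inr 0) * g (Sum.inr 0) (Sum.inr 1) = g (Sum.inl 1) (Sum.inr 1) := by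
  linear_combination (g (Sum.inl 1) (Sum.inr 1) * g (Sum.inr 0) (Sum.inr 1) * g (Sum.inr 1) (Sum.inl 1) + -(g (Sum.inl 1) (Sum.inr 1) * g (Sum.inr 0) (Sum.inl 1) * g (Sum.inr 1) (Sum.inr 1)) + g (Sum.inl 1) (Sum.inr 0) * g (Sum.inr 0) (Sum.inr 1) * g (Sum.inr 1) (Sum.inl 0) + -(g (Sum.inl 1) (Sum.inr 0) * g (Sum.inr 0) (Sum.inl 0) * g (Sum.inr 1) (Sum.inr 1)) + -(g (Sum.inl 1) (Sum.inl 0) * g (Sum.inr 0) (Sum.inr 1) * g (Sum.inr 1) (Sum.inr 0)) + g (Sum.inl 1) (Sum.inl 0) * g (Sum.inr 0) (Sum.inr 0) * g (Sum.inr 1) (Sum.inr 1)) * h01 +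
    (-(g (Sum.inl 1) (Sum.inr 1) ^ 2 * g (Sum.inr 1) (Sum.inl 1)) + -(g (Sum.inl 1) (Sum.inr 0) * g (Sum.inl 1) (Sum.inr 1) * g (Sum.inr 1) (Sum.inl 0)) + g (Sum.inl 1) (Sum.inl 1) * g (Sum.inl 1) (Sum.inr 1) * g (Sum.inr 1) (Sum.inr 1) + g (Sum.inl 1) (Sum.inl 0) * g (Sum.inl 1) (Sum.inr 1) * g (Sum.inr 1) (Sum.inr 0)) * h02 +
    (g (Sum.inl 1) (Sum.inr 1) ^ 2 * g (Sum.inr 0) (Sum.inl 1) + g (Sum.inl 1) (Sum.inr 0) * g (Sum.inl 1) (Sum.inr 1) * g (Sum.inr 0) (Sum.inl 0) + -(g (Sum.inl 1) (Sum.inl 1) * g (Sum.inl 1) (Sum.inr 1) * g (Sum.inr 0) (Sum.inr 1)) + -(g (Sum.inl 1) (Sum.inl 0) * g (Sum.inl 1) (Sum.inr 1) * g (Sum.inr 0) (Sum.inr 0))) * h03 +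
    (g (Sum.inl 0) (Sum.inr 1) * g (Sum.inl 1) (Sum.inr 0) * g (Sum.inr 1) (Sum.inl 0) + -(g (Sum.inl 0) (Sum.inr 1) * g (Sum.inl 1) (Sum.inl 0) * g (Sum.inr 1) (Sum.inr 0)) + -(g (Sum.inl 0) (Sum.inr 0) * g (Sum.inl 1) (Sum.inr 1) * g (Sum.inr 1) (Sum.inl 0)) + g (Sum.inl 0) (Sum.inr 0) * g (Sum.inl 1) (Sum.inl 0) * g (Sum.inr 1) (Sum.inr 1) + g (Sum.inl 0) (Sum.inl 0) * g (Sum.inl 1) (Sum.inr 1) * g (Sum.inr 1) (Sum.inr 0) + -(g (Sum.inl 0) (Sum.inl 0) * g (Sum.inl 1) (Sum.inr 0) * g (Sum.inr 1) (Sum.inr 1))) * h12 +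
    (g (Sum.inl 1) (Sum.inr 1) + -(g (Sum.inl 0) (Sum.inr 1) * g (Sum.inl 1) (Sum.inr 0) * g (Sum.inr 0) (Sum.inl 0)) + g (Sum.inl 0) (Sum.inr 1) * g (Sum.inl 1) (Sum.inl 0) * g (Sum.inr 0) (Sum.inr 0) + g (Sum.inl 0) (Sum.inr 0) * g (Sum.inl 1) (Sum.inr 1) * g (Sum.inr 0) (Sum.inl 0) + -(g (Sum.inl 0) (Sum.inr 0) * g (Sum.inl 1) (Sum.inl 0) * g (Sum.inr 0) (Sum.inr 1)) + -(g (Sum.inl 0) (Sum.inl 0) * g (Sum.inl 1) (Sum.inr 1) * g (Sum.inr 0) (Sum.inr 0)) + g (Sum.inl 0) (Sum.inl 0) * g (Sum.inl 1) (Sum.inr 0) * g (Sum.inr 0) (Sum.inr 1)) * h13 +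
    (-(g (Sum.inl 1) (Sum.inr 1))) * h2

theorem h8f_minor_20 (h2 : (2 : F) = 0)
    (h01 : g (Sum.inl 0) (Sum.inr 1) * g (Sum.inl 1) (Sum.inl 1) + g (Sum.inl 0) (Sum.inr 0) * g (Sum.inl 1) (Sum.inl 0) + -(g (Sum.inl 0) (Sum.inl 1) * g (Sum.inl 1) (Sum.inr 1)) + -(g (Sum.inl 0) (Sum.inl 0) * g (Sum.inl 1) (Sum.inr 0)) = (0))
    (h02 : g (Sum.inl 0) (Sum.inr 1) * g (Sum.inr 0) (Sum.inl 1) + g (Sum.inl 0) (Sum.inr 0) * g (Sum.inr 0) (Sum.inl 0) + -(g (Sum.inl 0) (Sum.inl 1) * g (Sum.inr 0) (Sum.inr 1)) + -(g (Sum.inl 0) (Sum.inl 0) * g (Sum.inr 0) (Sum.inr 0)) = (-1))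
    (h03 : g (Sum.inl 0) (Sum.inr 1) * g (Sum.inr 1) (Sum.inl 1) + g (Sum.inl 0) (Sum.inr 0) * g (Sum.inr 1) (Sum.inl 0) + -(g (Sum.inl 0) (Sum.inl 1) * g (Sum.inr 1) (Sum.inr 1)) + -(g (Sum.inl 0) (Sum.inl 0) * g (Sum.inr 1) (Sum.inr 0)) = (0))
    (h12 : g (Sum.inl 1) (Sum.inr 1) * g (Sum.inr 0) (Sum.inl 1) + g (Sum.inl 1) (Sum.inr 0) * g (Sum.inr 0) (Sum.inl 0) + -(g (Sum.inl 1) (Sum.inl 1) * g (Sum.inr 0) (Sum.inr 1)) + -(g (Sum.inl 1) (Sum.inl 0) * g (Sum.inr 0) (Sum.inr 0)) = (0))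
    (h13 : g (Sum.inl 1) (Sum.inr 1) * g (Sum.inr 1) (Sum.inl 1) + g (Sum.inl 1) (Sum.inr 0) * g (Sum.inr 1) (Sum.inl 0) + -(g (Sum.inl 1) (Sum.inl 1) * g (Sum.inr 1) (Sum.inr 1)) + -(g (Sum.inl 1) (Sum.inl 0) * g (Sum.inr 1) (Sum.inr 0)) = (-1))
    (h23 : g (Sum.inr 0) (Sum.inr 1) * g (Sum.inr 1) (Sum.inl 1) + g (Sum.inr 0) (Sum.inr 0) * g (Sum.inr 1) (Sum.inl 0) + -(g (Sum.inr 0) (Sum.inl 1) * g (Sum.inr 1) (Sum.inr 1)) + -(g (Sum.inr 0) (Sum.inl 0) * g (Sum.inr 1) (Sum.inr 0)) = (0))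
    : g (Sum.inl 1) (Sum.inr 1) * g (Sum.inr 0) (Sum.inl 1) * g (Sum.inr 1) (Sum.inl 0) + -(g (Sum.inl 1) (Sum.inr 1) * g (Sum.inr 0) (Sum.inl 0) * g (Sum.inr 1) (Sum.inl 1)) + -(g (Sum.inl 1) (Sum.inl 1) * g (Sum.inr 0) (Sum.inr 1) * g (Sum.inr 1) (Sum.inl 0)) + g (Sum.inl 1) (Sum.inl 1) * g (Sum.inr 0) (Sum.inl 0) * g (Sum.inr 1) (Sum.inr 1) + g (Sum.inl 1) (Sum.inl 0) * g (Sum.inr 0) (Sum.inr 1) * g (Sum.inr 1) (Sum.inl 1) + -(g (Sum.inl 1) (Sum.inl 0) * g (Sum.inr 0) (Sum.inl 1) * g (Sum.inr 1) (Sum.inr 1)) = g (Sum.inr 0) (Sum.inl 0) := by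
  linear_combination (-(g (Sum.inr 0) (Sum.inl 0) * g (Sum.inr 0) (Sum.inr 1) * g (Sum.inr 1) (Sum.inl 1)) + -(g (Sum.inr 0) (Sum.inl 0) * g (Sum.inr 0) (Sum.inr 0) * g (Sum.inr 1) (Sum.inl 0)) + g (Sum.inr 0) (Sum.inl 0) * g (Sum.inr 0) (Sum.inl 1) * g (Sum.inr 1) (Sum.inr 1) + g (Sum.inr 0) (Sum.inl 0) ^ 2 * g (Sum.inr 1) (Sum.inr 0)) * h01 +
    (g (Sum.inl 1) (Sum.inr 1) * g (Sum.inr 0) (Sum.inl 1) * g (Sum.inr 1) (Sum.inl 0) + g (Sum.inl 1) (Sum.inr 0) * g (Sum.inr 0) (Sum.inl 0) * g (Sum.inr 1) (Sum.inl 0) + -(g (Sum.inl 1) (Sum.inl 1) * g (Sum.inr 0) (Sum.inr 1) * g (Sum.inr 1) (Sum.inl 0)) + g (Sum.inl 1) (Sum.inl 0) * g (Sum.inr 0) (Sum.inr 1) * g (Sum.inr 1) (Sum.inl 1) + -(g (Sum.inl 1) (Sum.inl 0) * g (Sum.inr 0) (Sum.inl 1) * g (Sum.inr 1) (Sum.inr 1)) + -(g (Sum.inl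 1) (Sum.inl 0) * g (Sum.inr 0) (Sum.inl 0) * g (Sum.inr 1) (Sum.inr 0))) * h02 +
    (-(g (Sum.inl 1) (Sum.inr 1) * g (Sum.inr 0) (Sum.inl 0) * g (Sum.inr 0) (Sum.inl 1)) + -(g (Sum.inl 1) (Sum.inr 0) * g (Sum.inr 0) (Sum.inl 0) ^ 2) + g (Sum.inl 1) (Sum.inl 1) * g (Sum.inr 0) (Sum.inl 0) * g (Sum.inr 0) (Sum.inr 1) + g (Sum.inl 1) (Sum.inl 0) * g (Sum.inr 0) (Sum.inl 0) * g (Sum.inr 0) (Sum.inr 0)) * h03 +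
    (-(g (Sum.inl 0) (Sum.inr 1) * g (Sum.inr 0) (Sum.inl 1) * g (Sum.inr 1) (Sum.inl 0)) + g (Sum.inl 0) (Sum.inr 1) * g (Sum.inr 0) (Sum.inl 0) * g (Sum.inr 1) (Sum.inl 1) + g (Sum.inl 0) (Sum.inl 1) * g (Sum.inr 0) (Sum.inr 1) * g (Sum.inr 1) (Sum.inl 0) + -(g (Sum.inl 0) (Sum.inl 1) * g (Sum.inr 0) (Sum.inl 0) * g (Sum.inr 1) (Sum.inr 1)) + -(g (Sum.inl 0) (Sum.inl 0) * g (Sum.inr 0) (Sum.inr 1) * g (Sum.inr 1) (Sum.inl 1)) + g (Sum.inl 0) (Sum.inl 0) * g (Sum.inr 0) (Sum.inl 1) * g (Sum.inr 1) (Sum.inr 1)) * h12 +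
    (-(g (Sum.inr 0) (Sum.inl 0))) * h13 +
    (g (Sum.inl 0) (Sum.inr 1) * g (Sum.inl 1) (Sum.inl 1) * g (Sum.inr 0) (Sum.inl 0) + -(g (Sum.inl 0) (Sum.inr 1) * g (Sum.inl 1) (Sum.inl 0) * g (Sum.inr 0) (Sum.inl 1)) + -(g (Sum.inl 0) (Sum.inl 1) * g (Sum.inl 1) (Sum.inr 1) * g (Sum.inr 0) (Sum.inl 0)) + g (Sum.inl 0) (Sum.inl 1) * g (Sum.inl 1) (Sum.inl 0) * g (Sum.inr 0) (Sum.inr 1) + g (Sum.inl 0) (Sum.inl 0) * g (Sum.inl 1) (Sum.inr 1) * g (Sum.inr 0) (Sum.inl 1) + -(g (Sum.inl 0) (Sum.inl 0) * g (Sum.inl 1) (Sum.inl 1) * g (Sum.inr 0) (Sum.inr 1))) * h23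

theorem h8f_minor_21 (h2 : (2 : F) = 0)
    (h01 : g (Sum.inl 0) (Sum.inr 1) * g (Sum.inl 1) (Sum.inl 1) + g (Sum.inl 0) (Sum.inr 0) * g (Sum.inl 1) (Sum.inl 0) + -(g (Sum.inl 0) (Sum.inl 1) * g (Sum.inl 1) (Sum.inr 1)) + -(g (Sum.inl 0) (Sum.inl 0) * g (Sum.inl 1) (Sum.inr 0)) = (0))
    (h02 : g (Sum.inl 0) (Sum.inr 1) * g (Sum.inr 0) (Sum.inl 1) + g (Sum.inl 0) (Sum.inr 0) * g (Sum.inr 0) (Sum.inl 0) + -(g (Sum.inl 0) (Sum.inl 1) * g (Sum.inr 0) (Sum.inr 1)) + -(g (Sum.inl 0) (Sum.inl 0) * g (Sum.inr 0) (Sum.inr 0)) = (-1))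
    (h03 : g (Sum.inl 0) (Sum.inr 1) * g (Sum.inr 1) (Sum.inl 1) + g (Sum.inl 0) (Sum.inr 0) * g (Sum.inr 1) (Sum.inl 0) + -(g (Sum.inl 0) (Sum.inl 1) * g (Sum.inr 1) (Sum.inr 1)) + -(g (Sum.inl 0) (Sum.inl 0) * g (Sum.inr 1) (Sum.inr 0)) = (0))
    (h12 : g (Sum.inl 1) (Sum.inr 1) * g (Sum.inr 0) (Sum.inl 1) + g (Sum.inl 1) (Sum.inr 0) * g (Sum.inr 0) (Sum.inl 0) + -(g (Sum.inl 1) (Sum.inl 1) * g (Sum.inr 0) (Sum.inr 1)) + -(g (Sum.inl 1) (Sum.inl 0) * g (Sum.inr 0) (Sum.inr 0)) = (0))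
    (h13 : g (Sum.inl 1) (Sum.inr 1) * g (Sum.inr 1) (Sum.inl 1) + g (Sum.inl 1) (Sum.inr 0) * g (Sum.inr 1) (Sum.inl 0) + -(g (Sum.inl 1) (Sum.inl 1) * g (Sum.inr 1) (Sum.inr 1)) + -(g (Sum.inl 1) (Sum.inl 0) * g (Sum.inr 1) (Sum.inr 0)) = (-1))
    (h23 : g (Sum.inr 0) (Sum.inr 1) * g (Sum.inr 1) (Sum.inl 1) + g (Sum.inr 0) (Sum.inr 0) * g (Sum.inr 1) (Sum.inl 0) + -(g (Sum.inr 0) (Sum.inl 1) * g (Sum.inr 1) (Sum.inr 1)) + -(g (Sum.inr 0) (Sum.inl 0) * g (Sum.inr 1) (Sum.inr 0)) = (0))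
    : g (Sum.inl 1) (Sum.inr 0) * g (Sum.inr 0) (Sum.inl 1) * g (Sum.inr 1) (Sum.inl 0) + -(g (Sum.inl 1) (Sum.inr 0) * g (Sum.inr 0) (Sum.inl 0) * g (Sum.inr 1) (Sum.inl 1)) + -(g (Sum.inl 1) (Sum.inl 1) * g (Sum.inr 0) (Sum.inr 0) * g (Sum.inr 1) (Sum.inl 0)) + g (Sum.inl 1) (Sum.inl 1) * g (Sum.inr 0) (Sum.inl 0) * g (Sum.inr 1) (Sum.inr 0) + g (Sum.inl 1) (Sum.inl 0) * g (Sum.inr 0) (Sum.inr 0) * g (Sum.inr 1) (Sum.inl 1) + -(g (Sum.inl 1) (Sum.inl 0) * g (Sum.inr 0) (Sum.inl 1) * g (Sum.inr 1) (Sum.inr 0)) = g (Sum.inr 0) (Sum.inl 1) := by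
  linear_combination (g (Sum.inr 0) (Sum.inl 1) * g (Sum.inr 0) (Sum.inr 1) * g (Sum.inr 1) (Sum.inl 1) + g (Sum.inr 0) (Sum.inl 1) * g (Sum.inr 0) (Sum.inr 0) * g (Sum.inr 1) (Sum.inl 0) + -(g (Sum.inr 0) (Sum.inl 1) ^ 2 * g (Sum.inr 1) (Sum.inr 1)) + -(g (Sum.inr 0) (Sum.inl 0) * g (Sum.inr 0) (Sum.inl 1) * g (Sum.inr 1) (Sum.inr 0))) * h01 +
    (-(g (Sum.inl 1) (Sum.inr 1) * g (Sum.inr 0) (Sum.inl 1) * g (Sum.inr 1) (Sum.inl 1)) + -(g (Sum.inl 1) (Sum.inr 0) * g (Sum.inr 0) (Sum.inl 0) * g (Sum.inr 1) (Sum.inl 1)) + -(g (Sum.inl 1) (Sum.inl 1) * g (Sum.inr 0) (Sum.inr 0) * g (Sum.inr 1) (Sum.inl 0)) + g (Sum.inl 1) (Sum.inl 1) * g (Sum.inr 0) (Sum.inl 1) * g (Sum.inr 1) (Sum.inr 1) + g (Sum.inl 1) (Sum.inl 1) * g (Sum.inr 0) (Sum.inl 0) * g (Sum.inr 1) (Sum.inr 0) + g (Sum.inl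 1) (Sum.inl 0) * g (Sum.inr 0) (Sum.inr 0) * g (Sum.inr 1) (Sum.inl 1)) * h02 +
    (g (Sum.inl 1) (Sum.inr 1) * g (Sum.inr 0) (Sum.inl 1) ^ 2 + g (Sum.inl 1) (Sum.inr 0) * g (Sum.inr 0) (Sum.inl 0) * g (Sum.inr 0) (Sum.inl 1) + -(g (Sum.inl 1) (Sum.inl 1) * g (Sum.inr 0) (Sum.inl 1) * g (Sum.inr 0) (Sum.inr 1)) + -(g (Sum.inl 1) (Sum.inl 0) * g (Sum.inr 0) (Sum.inl 1) * g (Sum.inr 0) (Sum.inr 0))) * h03 +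
    (-(g (Sum.inl 0) (Sum.inr 0) * g (Sum.inr 0) (Sum.inl 1) * g (Sum.inr 1) (Sum.inl 0)) + g (Sum.inl 0) (Sum.inr 0) * g (Sum.inr 0) (Sum.inl 0) * g (Sum.inr 1) (Sum.inl 1) + g (Sum.inl 0) (Sum.inl 1) * g (Sum.inr 0) (Sum.inr 0) * g (Sum.inr 1) (Sum.inl 0) + -(g (Sum.inl 0) (Sum.inl 1) * g (Sum.inr 0) (Sum.inl 0) * g (Sum.inr 1) (Sum.inr 0)) + -(g (Sum.inl 0) (Sum.inl 0) * g (Sum.inr 0) (Sum.inr 0) * g (Sum.inr 1) (Sum.inl 1)) + g (Sum.inl 0) (Sum.inl 0) * g (Sum.inr 0) (Sum.inl 1) * g (Sum.inr 1) (Sum.inr 0)) * h12 +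
    (g (Sum.inr 0) (Sum.inl 1)) * h13 +
    (g (Sum.inl 0) (Sum.inr 0) * g (Sum.inl 1) (Sum.inl 1) * g (Sum.inr 0) (Sum.inl 0) + -(g (Sum.inl 0) (Sum.inr 0) * g (Sum.inl 1) (Sum.inl 0) * g (Sum.inr 0) (Sum.inl 1)) + -(g (Sum.inl 0) (Sum.inl 1) * g (Sum.inl 1) (Sum.inr 0) * g (Sum.inr 0) (Sum.inl 0)) + g (Sum.inl 0) (Sum.inl 1) * g (Sum.inl 1) (Sum.inl 0) * g (Sum.inr 0) (Sum.inr 0) + g (Sum.inl 0) (Sum.inl 0) * g (Sum.inl 1) (Sum.inr 0) * g (Sum.inr 0) (Sum.inl 1) + -(g (Sum.inl 0) (Sum.inl 0) * g (Sum.inl 1) (Sum.inl 1) * g (Sum.inr 0) (Sum.inr 0))) * h23 +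
    (-(g (Sum.inr 0) (Sum.inl 1))) * h2

theorem h8f_minor_22 (h2 : (2 : F) = 0)
    (h01 : g (Sum.inl 0) (Sum.inr 1) * g (Sum.inl 1) (Sum.inl 1) + g (Sum.inl 0) (Sum.inr 0) * g (Sum.inl 1) (Sum.inl 0) + -(g (Sum.inl 0) (Sum.inl 1) * g (Sum.inl 1) (Sum.inr 1)) + -(g (Sum.inl 0) (Sum.inl 0) * g (Sum.inl 1) (Sum.inr 0)) = (0))
    (h02 : g (Sum.inl 0) (Sum.inr 1) * g (Sum.inr 0) (Sum.inl 1) + g (Sum.inl 0) (Sum.inr 0) * g (Sum.inr 0) (Sum.inl 0) + -(g (Sum.inl 0) (Sum.inl 1) * g (Sum.inr 0) (Sum.inr 1)) + -(g (Sum.inl 0) (Sum.inl 0) * g (Sum.inr 0) (Sum.inr 0)) = (-1))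
    (h03 : g (Sum.inl 0) (Sum.inr 1) * g (Sum.inr 1) (Sum.inl 1) + g (Sum.inl 0) (Sum.inr 0) * g (Sum.inr 1) (Sum.inl 0) + -(g (Sum.inl 0) (Sum.inl 1) * g (Sum.inr 1) (Sum.inr 1)) + -(g (Sum.inl 0) (Sum.inl 0) * g (Sum.inr 1) (Sum.inr 0)) = (0))
    (h12 : g (Sum.inl 1) (Sum.inr 1) * g (Sum.inr 0) (Sum.inl 1) + g (Sum.inl 1) (Sum.inr 0) * g (Sum.inr 0) (Sum.inl 0) + -(g (Sum.inl 1) (Sum.inl 1) * g (Sum.inr 0) (Sum.inr 1)) + -(g (Sum.inl 1) (Sum.inl 0) * g (Sum.inr 0) (Sum.inr 0)) = (0))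
    (h13 : g (Sum.inl 1) (Sum.inr 1) * g (Sum.inr 1) (Sum.inl 1) + g (Sum.inl 1) (Sum.inr 0) * g (Sum.inr 1) (Sum.inl 0) + -(g (Sum.inl 1) (Sum.inl 1) * g (Sum.inr 1) (Sum.inr 1)) + -(g (Sum.inl 1) (Sum.inl 0) * g (Sum.inr 1) (Sum.inr 0)) = (-1))
    (h23 : g (Sum.inr 0) (Sum.inr 1) * g (Sum.inr 1) (Sum.inl 1) + g (Sum.inr 0) (Sum.inr 0) * g (Sum.inr 1) (Sum.inl 0) + -(g (Sum.inr 0) (Sum.inl 1) * g (Sum.inr 1) (Sum.inr 1)) + -(g (Sum.inr 0) (Sum.inl 0) * g (Sum.inr 1) (Sum.inr 0)) = (0))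
    : -(g (Sum.inl 1) (Sum.inr 1) * g (Sum.inr 0) (Sum.inr 0) * g (Sum.inr 1) (Sum.inl 1)) + g (Sum.inl 1) (Sum.inr 1) * g (Sum.inr 0) (Sum.inl 1) * g (Sum.inr 1) (Sum.inr 0) + g (Sum.inl 1) (Sum.inr 0) * g (Sum.inr 0) (Sum.inr 1) * g (Sum.inr 1) (Sum.inl 1) + -(g (Sum.inl 1) (Sum.inr 0) * g (Sum.inr 0) (Sum.inl 1) * g (Sum.inr 1) (Sum.inr 1)) + -(g (Sum.inl 1) (Sum.inl 1) * g (Sum.inr 0) (Sum.inr 1) * g (Sum.inr 1) (Sum.inr 0)) + g (Sum.inl 1) (Sum.inl 1) * g (Sum.inr 0) (Sum.inr 0) * g (Sum.inr 1) (Sum.inr 1) = g (Sum.inr 0) (Sum.inr 0) := by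
  linear_combination (-(g (Sum.inr 0) (Sum.inr 0) * g (Sum.inr 0) (Sum.inr 1) * g (Sum.inr 1) (Sum.inl 1)) + -(g (Sum.inr 0) (Sum.inr 0) ^ 2 * g (Sum.inr 1) (Sum.inl 0)) + g (Sum.inr 0) (Sum.inl 1) * g (Sum.inr 0) (Sum.inr 0) * g (Sum.inr 1) (Sum.inr 1) + g (Sum.inr 0) (Sum.inl 0) * g (Sum.inr 0) (Sum.inr 0) * g (Sum.inr 1) (Sum.inr 0)) * h01 +
    (g (Sum.inl 1) (Sum.inr 1) * g (Sum.inr 0) (Sum.inl 1) * g (Sum.inr 1) (Sum.inr 0) + g (Sum.inl 1) (Sum.inr 0) * g (Sum.inr 0) (Sum.inr 1) * g (Sum.inr 1) (Sum.inl 1) + g (Sum.inl 1) (Sum.inr 0) * g (Sum.inr 0) (Sum.inr 0) * g (Sum.inr 1) (Sum.inl 0) + -(g (Sum.inl 1) (Sum.inr 0) * g (Sum.inr 0) (Sum.inl 1) * g (Sum.inr 1) (Sum.inr 1)) + -(g (Sum.inl 1) (Sum.inl 1) * g (Sum.inr 0) (Sum.inr 1) * g (Sum.inr 1) (Sum.inr 0)) + -(g (Sum.inl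 1) (Sum.inl 0) * g (Sum.inr 0) (Sum.inr 0) * g (Sum.inr 1) (Sum.inr 0))) * h02 +
    (-(g (Sum.inl 1) (Sum.inr 1) * g (Sum.inr 0) (Sum.inl 1) * g (Sum.inr 0) (Sum.inr 0)) + -(g (Sum.inl 1) (Sum.inr 0) * g (Sum.inr 0) (Sum.inl 0) * g (Sum.inr 0) (Sum.inr 0)) + g (Sum.inl 1) (Sum.inl 1) * g (Sum.inr 0) (Sum.inr 0) * g (Sum.inr 0) (Sum.inr 1) + g (Sum.inl 1) (Sum.inl 0) * g (Sum.inr 0) (Sum.inr 0) ^ 2) * h03 +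
    (g (Sum.inl 0) (Sum.inr 1) * g (Sum.inr 0) (Sum.inr 0) * g (Sum.inr 1) (Sum.inl 1) + -(g (Sum.inl 0) (Sum.inr 1) * g (Sum.inr 0) (Sum.inl 1) * g (Sum.inr 1) (Sum.inr 0)) + -(g (Sum.inl 0) (Sum.inr 0) * g (Sum.inr 0) (Sum.inr 1) * g (Sum.inr 1) (Sum.inl 1)) + g (Sum.inl 0) (Sum.inr 0) * g (Sum.inr 0) (Sum.inl 1) * g (Sum.inr 1) (Sum.inr 1) + g (Sum.inl 0) (Sum.inl 1) * g (Sum.inr 0) (Sum.inr 1) * g (Sum.inr 1) (Sum.inr 0) + -(g (Sum.inl 0) (Sum.inl 1) * g (Sum.inr 0) (Sum.inr 0) * g (Sum.inr 1) (Sum.inr 1))) * h12 +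
    (-(g (Sum.inr 0) (Sum.inr 0))) * h13 +
    (-(g (Sum.inl 0) (Sum.inr 1) * g (Sum.inl 1) (Sum.inr 0) * g (Sum.inr 0) (Sum.inl 1)) + g (Sum.inl 0) (Sum.inr 1) * g (Sum.inl 1) (Sum.inl 1) * g (Sum.inr 0) (Sum.inr 0) + g (Sum.inl 0) (Sum.inr 0) * g (Sum.inl 1) (Sum.inr 1) * g (Sum.inr 0) (Sum.inl 1) + -(g (Sum.inl 0) (Sum.inr 0) * g (Sum.inl 1) (Sum.inl 1) * g (Sum.inr 0) (Sum.inr 1)) + -(g (Sum.inl 0) (Sum.inl 1) * g (Sum.inl 1) (Sum.inr 1) * g (Sum.inr 0) (Sum.inr 0)) + g (Sum.inl 0) (Sum.inl 1) * g (Sum.inl 1) (Sum.inr 0) * g (Sum.inr 0) (Sum.inr 1)) * h23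

theorem h8f_minor_23 (h2 : (2 : F) = 0)
    (h01 : g (Sum.inl 0) (Sum.inr 1) * g (Sum.inl 1) (Sum.inl 1) + g (Sum.inl 0) (Sum.inr 0) * g (Sum.inl 1) (Sum.inl 0) + -(g (Sum.inl 0) (Sum.inl 1) * g (Sum.inl 1) (Sum.inr 1)) + -(g (Sum.inl 0) (Sum.inl 0) * g (Sum.inl 1) (Sum.inr 0)) = (0))
    (h02 : g (Sum.inl 0) (Sum.inr 1) * g (Sum.inr 0) (Sum.inl 1) + g (Sum.inl 0) (Sum.inr 0) * g (Sum.inr 0) (Sum.inl 0) + -(g (Sum.inl 0) (Sum.inl 1) * g (Sum.inr 0) (Sum.inr 1)) + -(g (Sum.inl 0) (Sum.inl 0) * g (Sum.inr 0) (Sum.inr 0)) = (-1))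
    (h03 : g (Sum.inl 0) (Sum.inr 1) * g (Sum.inr 1) (Sum.inl 1) + g (Sum.inl 0) (Sum.inr 0) * g (Sum.inr 1) (Sum.inl 0) + -(g (Sum.inl 0) (Sum.inl 1) * g (Sum.inr 1) (Sum.inr 1)) + -(g (Sum.inl 0) (Sum.inl 0) * g (Sum.inr 1) (Sum.inr 0)) = (0))
    (h12 : g (Sum.inl 1) (Sum.inr 1) * g (Sum.inr 0) (Sum.inl 1) + g (Sum.inl 1) (Sum.inr 0) * g (Sum.inr 0) (Sum.inl 0) + -(g (Sum.inl 1) (Sum.inl 1) * g (Sum.inr 0) (Sum.inr 1)) + -(g (Sum.inl 1) (Sum.inl 0) * g (Sum.inr 0) (Sum.inr 0)) = (0))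
    (h13 : g (Sum.inl 1) (Sum.inr 1) * g (Sum.inr 1) (Sum.inl 1) + g (Sum.inl 1) (Sum.inr 0) * g (Sum.inr 1) (Sum.inl 0) + -(g (Sum.inl 1) (Sum.inl 1) * g (Sum.inr 1) (Sum.inr 1)) + -(g (Sum.inl 1) (Sum.inl 0) * g (Sum.inr 1) (Sum.inr 0)) = (-1))
    (h23 : g (Sum.inr 0) (Sum.inr 1) * g (Sum.inr 1) (Sum.inl 1) + g (Sum.inr 0) (Sum.inr 0) * g (Sum.inr 1) (Sum.inl 0) + -(g (Sum.inr 0) (Sum.inl 1) * g (Sum.inr 1) (Sum.inr 1)) + -(g (Sum.inr 0) (Sum.inl 0) * g (Sum.inr 1) (Sum.inr 0)) = (0))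
    : g (Sum.inl 1) (Sum.inr 1) * g (Sum.inr 0) (Sum.inr 0) * g (Sum.inr 1) (Sum.inl 0) + -(g (Sum.inl 1) (Sum.inr 1) * g (Sum.inr 0) (Sum.inl 0) * g (Sum.inr 1) (Sum.inr 0)) + -(g (Sum.inl 1) (Sum.inr 0) * g (Sum.inr 0) (Sum.inr 1) * g (Sum.inr 1) (Sum.inl 0)) + g (Sum.inl 1) (Sum.inr 0) * g (Sum.inr 0) (Sum.inl 0) * g (Sum.inr 1) (Sum.inr 1) + g (Sum.inl 1) (Sum.inl 0) * g (Sum.inr 0) (Sum.inr 1) * g (Sum.inr 1) (Sum.inr 0) + -(g (Sum.inl 1) (Sum.inl 0) * g (Sum.inr 0) (Sum.inr 0) * g (Sum.inr 1) (Sum.inr 1)) = g (Sum.inr 0) (Sum.inr 1) := by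
  linear_combination (-(g (Sum.inr 0) (Sum.inr 1) ^ 2 * g (Sum.inr 1) (Sum.inl 1)) + -(g (Sum.inr 0) (Sum.inr 0) * g (Sum.inr 0) (Sum.inr 1) * g (Sum.inr 1) (Sum.inl 0)) + g (Sum.inr 0) (Sum.inl 1) * g (Sum.inr 0) (Sum.inr 1) * g (Sum.inr 1) (Sum.inr 1) + g (Sum.inr 0) (Sum.inl 0) * g (Sum.inr 0) (Sum.inr 1) * g (Sum.inr 1) (Sum.inr 0)) * h01 +
    (g (Sum.inl 1) (Sum.inr 1) * g (Sum.inr 0) (Sum.inr 1) * g (Sum.inr 1) (Sum.inl 1) + g (Sum.inl 1) (Sum.inr 1) * g (Sum.inr 0) (Sum.inr 0) * g (Sum.inr 1) (Sum.inl 0) + -(g (Sum.inl 1) (Sum.inr 1) * g (Sum.inr 0) (Sum.inl 0) * g (Sum.inr 1) (Sum.inr 0)) + g (Sum.inl 1) (Sum.inr 0) * g (Sum.inr 0) (Sum.inl 0) * g (Sum.inr 1) (Sum.inr 1) + -(g (Sum.inl 1) (Sum.inl 1) * g (Sum.inr 0) (Sum.inr 1) * g (Sum.inr 1) (Sum.inr 1)) + -(g (Sum.inl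 1) (Sum.inl 0) * g (Sum.inr 0) (Sum.inr 0) * g (Sum.inr 1) (Sum.inr 1))) * h02 +
    (-(g (Sum.inl 1) (Sum.inr 1) * g (Sum.inr 0) (Sum.inl 1) * g (Sum.inr 0) (Sum.inr 1)) + -(g (Sum.inl 1) (Sum.inr 0) * g (Sum.inr 0) (Sum.inl 0) * g (Sum.inr 0) (Sum.inr 1)) + g (Sum.inl 1) (Sum.inl 1) * g (Sum.inr 0) (Sum.inr 1) ^ 2 + g (Sum.inl 1) (Sum.inl 0) * g (Sum.inr 0) (Sum.inr 0) * g (Sum.inr 0) (Sum.inr 1)) * h03 +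
    (-(g (Sum.inl 0) (Sum.inr 1) * g (Sum.inr 0) (Sum.inr 0) * g (Sum.inr 1) (Sum.inl 0)) + g (Sum.inl 0) (Sum.inr 1) * g (Sum.inr 0) (Sum.inl 0) * g (Sum.inr 1) (Sum.inr 0) + g (Sum.inl 0) (Sum.inr 0) * g (Sum.inr 0) (Sum.inr 1) * g (Sum.inr 1) (Sum.inl 0) + -(g (Sum.inl 0) (Sum.inr 0) * g (Sum.inr 0) (Sum.inl 0) * g (Sum.inr 1) (Sum.inr 1)) + -(g (Sum.inl 0) (Sum.inl 0) * g (Sum.inr 0) (Sum.inr 1) * g (Sum.inr 1) (Sum.inr 0)) + g (Sum.inl 0) (Sum.inl 0) * g (Sum.inr 0) (Sum.inr 0) * g (Sum.inr 1) (Sum.inr 1)) * h12 +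
    (-(g (Sum.inr 0) (Sum.inr 1))) * h13 +
    (g (Sum.inl 0) (Sum.inr 1) * g (Sum.inl 1) (Sum.inr 0) * g (Sum.inr 0) (Sum.inl 0) + -(g (Sum.inl 0) (Sum.inr 1) * g (Sum.inl 1) (Sum.inl 0) * g (Sum.inr 0) (Sum.inr 0)) + -(g (Sum.inl 0) (Sum.inr 0) * g (Sum.inl 1) (Sum.inr 1) * g (Sum.inr 0) (Sum.inl 0)) + g (Sum.inl 0) (Sum.inr 0) * g (Sum.inl 1) (Sum.inl 0) * g (Sum.inr 0) (Sum.inr 1) + g (Sum.inl 0) (Sum.inl 0) * g (Sum.inl 1) (Sum.inr 1) * g (Sum.inr 0) (Sum.inr 0) + -(g (Sum.inl 0) (Sum.inl 0) * g (Sum.inl 1) (Sum.inr 0) * g (Sum.inr 0) (Sum.inr 1))) * h23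

theorem h8f_minor_30 (h2 : (2 : F) = 0)
    (h01 : g (Sum.inl 0) (Sum.inr 1) * g (Sum.inl 1) (Sum.inl 1) + g (Sum.inl 0) (Sum.inr 0) * g (Sum.inl 1) (Sum.inl 0) + -(g (Sum.inl 0) (Sum.inl 1) * g (Sum.inl 1) (Sum.inr 1)) + -(g (Sum.inl 0) (Sum.inl 0) * g (Sum.inl 1) (Sum.inr 0)) = (0))
    (h02 : g (Sum.inl 0) (Sum.inr 1) * g (Sum.inr 0) (Sum.inl 1) + g (Sum.inl 0) (Sum.inr 0) * g (Sum.inr 0) (Sum.inl 0) + -(g (Sum.inl 0) (Sum.inl 1) * g (Sum.inr 0) (Sum.inr 1)) + -(g (Sum.inl 0) (Sum.inl 0) * g (Sum.inr 0) (Sum.inr 0)) = (-1))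
    (h03 : g (Sum.inl 0) (Sum.inr 1) * g (Sum.inr 1) (Sum.inl 1) + g (Sum.inl 0) (Sum.inr 0) * g (Sum.inr 1) (Sum.inl 0) + -(g (Sum.inl 0) (Sum.inl 1) * g (Sum.inr 1) (Sum.inr 1)) + -(g (Sum.inl 0) (Sum.inl 0) * g (Sum.inr 1) (Sum.inr 0)) = (0))
    (h12 : g (Sum.inl 1) (Sum.inr 1) * g (Sum.inr 0) (Sum.inl 1) + g (Sum.inl 1) (Sum.inr 0) * g (Sum.inr 0) (Sum.inl 0) + -(g (Sum.inl 1) (Sum.inl 1) * g (Sum.inr 0) (Sum.inr 1)) + -(g (Sum.inl 1) (Sum.inl 0) * g (Sum.inr 0) (Sum.inr 0)) = (0))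
    (h13 : g (Sum.inl 1) (Sum.inr 1) * g (Sum.inr 1) (Sum.inl 1) + g (Sum.inl 1) (Sum.inr 0) * g (Sum.inr 1) (Sum.inl 0) + -(g (Sum.inl 1) (Sum.inl 1) * g (Sum.inr 1) (Sum.inr 1)) + -(g (Sum.inl 1) (Sum.inl 0) * g (Sum.inr 1) (Sum.inr 0)) = (-1))
    (h23 : g (Sum.inr 0) (Sum.inr 1) * g (Sum.inr 1) (Sum.inl 1) + g (Sum.inr 0) (Sum.inr 0) * g (Sum.inr 1) (Sum.inl 0) + -(g (Sum.inr 0) (Sum.inl 1) * g (Sum.inr 1) (Sum.inr 1)) + -(g (Sum.inr 0) (Sum.inl 0) * g (Sum.inr 1) (Sum.inr 0)) = (0))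
    : -(g (Sum.inl 0) (Sum.inr 1) * g (Sum.inr 0) (Sum.inl 1) * g (Sum.inr 1) (Sum.inl 0)) + g (Sum.inl 0) (Sum.inr 1) * g (Sum.inr 0) (Sum.inl 0) * g (Sum.inr 1) (Sum.inl 1) + g (Sum.inl 0) (Sum.inl 1) * g (Sum.inr 0) (Sum.inr 1) * g (Sum.inr 1) (Sum.inl 0) + -(g (Sum.inl 0) (Sum.inl 1) * g (Sum.inr 0) (Sum.inl 0) * g (Sum.inr 1) (Sum.inr 1)) + -(g (Sum.inl 0) (Sum.inl 0) * g (Sum.inr 0) (Sum.inr 1) * g (Sum.inr 1) (Sum.inl 1)) + g (Sum.inl 0) (Sum.inl 0) * g (Sum.inr 0) (Sum.inl 1) * g (Sum.inr 1) (Sum.inr 1) = g (Sum.inr 1) (Sum.inl 0) := by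
  linear_combination (-(g (Sum.inr 0) (Sum.inr 1) * g (Sum.inr 1) (Sum.inl 0) * g (Sum.inr 1) (Sum.inl 1)) + -(g (Sum.inr 0) (Sum.inr 0) * g (Sum.inr 1) (Sum.inl 0) ^ 2) + g (Sum.inr 0) (Sum.inl 1) * g (Sum.inr 1) (Sum.inl 0) * g (Sum.inr 1) (Sum.inr 1) + g (Sum.inr 0) (Sum.inl 0) * g (Sum.inr 1) (Sum.inl 0) * g (Sum.inr 1) (Sum.inr 0)) * h01 +
    (g (Sum.inl 1) (Sum.inr 1) * g (Sum.inr 1) (Sum.inl 0) * g (Sum.inr 1) (Sum.inl 1) + g (Sum.inl 1) (Sum.inr 0) * g (Sum.inr 1) (Sum.inl 0) ^ 2 + -(g (Sum.inl 1) (Sum.inl 1) * g (Sum.inr 1) (Sum.inl 0) * g (Sum.inr 1) (Sum.inr 1)) + -(g (Sum.inl 1) (Sum.inl 0) * g (Sum.inr 1) (Sum.inl 0) * g (Sum.inr 1) (Sum.inr 0))) * h02 +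
    (-(g (Sum.inl 1) (Sum.inr 1) * g (Sum.inr 0) (Sum.inl 0) * g (Sum.inr 1) (Sum.inl 1)) + -(g (Sum.inl 1) (Sum.inr 0) * g (Sum.inr 0) (Sum.inl 0) * g (Sum.inr 1) (Sum.inl 0)) + g (Sum.inl 1) (Sum.inl 1) * g (Sum.inr 0) (Sum.inl 0) * g (Sum.inr 1) (Sum.inr 1) + g (Sum.inl 1) (Sum.inl 0) * g (Sum.inr 0) (Sum.inr 1) * g (Sum.inr 1) (Sum.inl 1) + g (Sum.inl 1) (Sum.inl 0) * g (Sum.inr 0) (Sum.inr 0) * g (Sum.inr 1) (Sum.inl 0) + -(g (Sum.inl 1) (Sum.inl 0) * g (Sum.inr 0) (Sum.inl 1) * g (Sum.inr 1) (Sum.inr 1))) * h03 +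
    (-(g (Sum.inr 1) (Sum.inl 0)) + -(g (Sum.inl 0) (Sum.inr 1) * g (Sum.inr 0) (Sum.inl 1) * g (Sum.inr 1) (Sum.inl 0)) + g (Sum.inl 0) (Sum.inr 1) * g (Sum.inr 0) (Sum.inl 0) * g (Sum.inr 1) (Sum.inl 1) + g (Sum.inl 0) (Sum.inl 1) * g (Sum.inr 0) (Sum.inr 1) * g (Sum.inr 1) (Sum.inl 0) + -(g (Sum.inl 0) (Sum.inl 1) * g (Sum.inr 0) (Sum.inl 0) * g (Sum.inr 1) (Sum.inr 1)) + -(g (Sum.inl 0) (Sum.inl 0) * g (Sum.inr 0) (Sum.inr 1) * g (Sum.inr 1) (Sum.inl 1)) + g (Sum.inl 0) (Sum.inl 0) * g (Sum.inr 0) (Sum.inl 1) * g (Sum.inr 1) (Sum.inr 1)) * h13 +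
    (g (Sum.inl 0) (Sum.inr 1) * g (Sum.inl 1) (Sum.inl 1) * g (Sum.inr 1) (Sum.inl 0) + -(g (Sum.inl 0) (Sum.inr 1) * g (Sum.inl 1) (Sum.inl 0) * g (Sum.inr 1) (Sum.inl 1)) + -(g (Sum.inl 0) (Sum.inl 1) * g (Sum.inl 1) (Sum.inr 1) * g (Sum.inr 1) (Sum.inl 0)) + g (Sum.inl 0) (Sum.inl 1) * g (Sum.inl 1) (Sum.inl 0) * g (Sum.inr 1) (Sum.inr 1) + g (Sum.inl 0) (Sum.inl 0) * g (Sum.inl 1) (Sum.inr 1) * g (Sum.inr 1) (Sum.inl 1) + -(g (Sum.inl 0) (Sum.inl 0) * g (Sum.inl 1) (Sum.inl 1) * g (Sum.inr 1) (Sum.inr 1))) * h23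

theorem h8f_minor_31 (h2 : (2 : F) = 0)
    (h01 : g (Sum.inl 0) (Sum.inr 1) * g (Sum.inl 1) (Sum.inl 1) + g (Sum.inl 0) (Sum.inr 0) * g (Sum.inl 1) (Sum.inl 0) + -(g (Sum.inl 0) (Sum.inl 1) * g (Sum.inl 1) (Sum.inr 1)) + -(g (Sum.inl 0) (Sum.inl 0) * g (Sum.inl 1) (Sum.inr 0)) = (0))
    (h02 : g (Sum.inl 0) (Sum.inr 1) * g (Sum.inr 0) (Sum.inl 1) + g (Sum.inl 0) (Sum.inr 0) * g (Sum.inr 0) (Sum.inl 0) + -(g (Sum.inl 0) (Sum.inl 1) * g (Sum.inr 0) (Sum.inr 1)) + -(g (Sum.inl 0) (Sum.inl 0) * g (Sum.inr 0) (Sum.inr 0)) = (-1))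
    (h03 : g (Sum.inl 0) (Sum.inr 1) * g (Sum.inr 1) (Sum.inl 1) + g (Sum.inl 0) (Sum.inr 0) * g (Sum.inr 1) (Sum.inl 0) + -(g (Sum.inl 0) (Sum.inl 1) * g (Sum.inr 1) (Sum.inr 1)) + -(g (Sum.inl 0) (Sum.inl 0) * g (Sum.inr 1) (Sum.inr 0)) = (0))
    (h12 : g (Sum.inl 1) (Sum.inr 1) * g (Sum.inr 0) (Sum.inl 1) + g (Sum.inl 1) (Sum.inr 0) * g (Sum.inr 0) (Sum.inl 0) + -(g (Sum.inl 1) (Sum.inl 1) * g (Sum.inr 0) (Sum.inr 1)) + -(g (Sum.inl 1) (Sum.inl 0) * g (Sum.inr 0) (Sum.inr 0)) = (0))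
    (h13 : g (Sum.inl 1) (Sum.inr 1) * g (Sum.inr 1) (Sum.inl 1) + g (Sum.inl 1) (Sum.inr 0) * g (Sum.inr 1) (Sum.inl 0) + -(g (Sum.inl 1) (Sum.inl 1) * g (Sum.inr 1) (Sum.inr 1)) + -(g (Sum.inl 1) (Sum.inl 0) * g (Sum.inr 1) (Sum.inr 0)) = (-1))
    (h23 : g (Sum.inr 0) (Sum.inr 1) * g (Sum.inr 1) (Sum.inl 1) + g (Sum.inr 0) (Sum.inr 0) * g (Sum.inr 1) (Sum.inl 0) + -(g (Sum.inr 0) (Sum.inl 1) * g (Sum.inr 1) (Sum.inr 1)) + -(g (Sum.inr 0) (Sum.inl 0) * g (Sum.inr 1) (Sum.inr 0)) = (0))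
    : -(g (Sum.inl 0) (Sum.inr 0) * g (Sum.inr 0) (Sum.inl 1) * g (Sum.inr 1) (Sum.inl 0)) + g (Sum.inl 0) (Sum.inr 0) * g (Sum.inr 0) (Sum.inl 0) * g (Sum.inr 1) (Sum.inl 1) + g (Sum.inl 0) (Sum.inl 1) * g (Sum.inr 0) (Sum.inr 0) * g (Sum.inr 1) (Sum.inl 0) + -(g (Sum.inl 0) (Sum.inl 1) * g (Sum.inr 0) (Sum.inl 0) * g (Sum.inr 1) (Sum.inr 0)) + -(g (Sum.inl 0) (Sum.inl 0) * g (Sum.inr 0) (Sum.inr 0) * g (Sum.inr 1) (Sum.inl 1)) + g (Sum.inl 0) (Sum.inl 0) * g (Sum.inr 0) (Sum.inl 1) * g (Sum.inr 1) (Sum.inr 0) = g (Sum.inr 1) (Sum.inl 1) := by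
  linear_combination (g (Sum.inr 0) (Sum.inr 1) * g (Sum.inr 1) (Sum.inl 1) ^ 2 + g (Sum.inr 0) (Sum.inr 0) * g (Sum.inr 1) (Sum.inl 0) * g (Sum.inr 1) (Sum.inl 1) + -(g (Sum.inr 0) (Sum.inl 1) * g (Sum.inr 1) (Sum.inl 1) * g (Sum.inr 1) (Sum.inr 1)) + -(g (Sum.inr 0) (Sum.inl 0) * g (Sum.inr 1) (Sum.inl 1) * g (Sum.inr 1) (Sum.inr 0))) * h01 +
    (-(g (Sum.inl 1) (Sum.inr 1) * g (Sum.inr 1) (Sum.inl 1) ^ 2) + -(g (Sum.inl 1) (Sum.inr 0) * g (Sum.inr 1) (Sum.inl 0) * g (Sum.inr 1) (Sum.inl 1)) + g (Sum.inl 1) (Sum.inl 1) * g (Sum.inr 1) (Sum.inl 1) * g (Sum.inr 1) (Sum.inr 1) + g (Sum.inl 1) (Sum.inl 0) * g (Sum.inr 1) (Sum.inl 1) * g (Sum.inr 1) (Sum.inr 0)) * h02 +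
    (g (Sum.inl 1) (Sum.inr 1) * g (Sum.inr 0) (Sum.inl 1) * g (Sum.inr 1) (Sum.inl 1) + g (Sum.inl 1) (Sum.inr 0) * g (Sum.inr 0) (Sum.inl 1) * g (Sum.inr 1) (Sum.inl 0) + -(g (Sum.inl 1) (Sum.inl 1) * g (Sum.inr 0) (Sum.inr 1) * g (Sum.inr 1) (Sum.inl 1)) + -(g (Sum.inl 1) (Sum.inl 1) * g (Sum.inr 0) (Sum.inr 0) * g (Sum.inr 1) (Sum.inl 0)) + g (Sum.inl 1) (Sum.inl 1) * g (Sum.inr 0) (Sum.inl 0) * g (Sum.inr 1) (Sum.inr 0) + -(g (Sum.inl 1) (Sum.inl 0) * g (Sum.inr 0) (Sum.inl 1) * g (Sum.inr 1) (Sum.inr 0))) * h03 +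
    (g (Sum.inr 1) (Sum.inl 1) + -(g (Sum.inl 0) (Sum.inr 0) * g (Sum.inr 0) (Sum.inl 1) * g (Sum.inr 1) (Sum.inl 0)) + g (Sum.inl 0) (Sum.inr 0) * g (Sum.inr 0) (Sum.inl 0) * g (Sum.inr 1) (Sum.inl 1) + g (Sum.inl 0) (Sum.inl 1) * g (Sum.inr 0) (Sum.inr 0) * g (Sum.inr 1) (Sum.inl 0) + -(g (Sum.inl 0) (Sum.inl 1) * g (Sum.inr 0) (Sum.inl 0) * g (Sum.inr 1) (Sum.inr 0)) + -(g (Sum.inl 0) (Sum.inl 0) * g (Sum.inr 0) (Sum.inr 0) * g (Sum.inr 1) (Sum.inl 1)) + g (Sum.inl 0) (Sum.inl 0) * g (Sum.inr 0) (Sum.inl 1) * g (Sum.inr 1) (Sum.inr 0)) * h13 +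
    (g (Sum.inl 0) (Sum.inr 0) * g (Sum.inl 1) (Sum.inl 1) * g (Sum.inr 1) (Sum.inl 0) + -(g (Sum.inl 0) (Sum.inr 0) * g (Sum.inl 1) (Sum.inl 0) * g (Sum.inr 1) (Sum.inl 1)) + -(g (Sum.inl 0) (Sum.inl 1) * g (Sum.inl 1) (Sum.inr 0) * g (Sum.inr 1) (Sum.inl 0)) + g (Sum.inl 0) (Sum.inl 1) * g (Sum.inl 1) (Sum.inl 0) * g (Sum.inr 1) (Sum.inr 0) + g (Sum.inl 0) (Sum.inl 0) * g (Sum.inl 1) (Sum.inr 0) * g (Sum.inr 1) (Sum.inl 1) + -(g (Sum.inl 0) (Sum.inl 0) * g (Sum.inl 1) (Sum.inl 1) * g (Sum.inr 1) (Sum.inr 0))) * h23 +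
    (-(g (Sum.inr 1) (Sum.inl 1))) * h2

theorem h8f_minor_32 (h2 : (2 : F) = 0)
    (h01 : g (Sum.inl 0) (Sum.inr 1) * g (Sum.inl 1) (Sum.inl 1) + g (Sum.inl 0) (Sum.inr 0) * g (Sum.inl 1) (Sum.inl 0) + -(g (Sum.inl 0) (Sum.inl 1) * g (Sum.inl 1) (Sum.inr 1)) + -(g (Sum.inl 0) (Sum.inl 0) * g (Sum.inl 1) (Sum.inr 0)) = (0))
    (h02 : g (Sum.inl 0) (Sum.inr 1) * g (Sum.inr 0) (Sum.inl 1) + g (Sum.inl 0) (Sum.inr 0) * g (Sum.inr 0) (Sum.inl 0) + -(g (Sum.inl 0) (Sum.inl 1) * g (Sum.inr 0) (Sum.inr 1)) + -(g (Sum.inl 0) (Sum.inl 0) * g (Sum.inr 0) (Sum.inr 0)) = (-1))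
    (h03 : g (Sum.inl 0) (Sum.inr 1) * g (Sum.inr 1) (Sum.inl 1) + g (Sum.inl 0) (Sum.inr 0) * g (Sum.inr 1) (Sum.inl 0) + -(g (Sum.inl 0) (Sum.inl 1) * g (Sum.inr 1) (Sum.inr 1)) + -(g (Sum.inl 0) (Sum.inl 0) * g (Sum.inr 1) (Sum.inr 0)) = (0))
    (h12 : g (Sum.inl 1) (Sum.inr 1) * g (Sum.inr 0) (Sum.inl 1) + g (Sum.inl 1) (Sum.inr 0) * g (Sum.inr 0) (Sum.inl 0) + -(g (Sum.inl 1) (Sum.inl 1) * g (Sum.inr 0) (Sum.inr 1)) + -(g (Sum.inl 1) (Sum.inl 0) * g (Sum.inr 0) (Sum.inr 0)) = (0))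
    (h13 : g (Sum.inl 1) (Sum.inr 1) * g (Sum.inr 1) (Sum.inl 1) + g (Sum.inl 1) (Sum.inr 0) * g (Sum.inr 1) (Sum.inl 0) + -(g (Sum.inl 1) (Sum.inl 1) * g (Sum.inr 1) (Sum.inr 1)) + -(g (Sum.inl 1) (Sum.inl 0) * g (Sum.inr 1) (Sum.inr 0)) = (-1))
    (h23 : g (Sum.inr 0) (Sum.inr 1) * g (Sum.inr 1) (Sum.inl 1) + g (Sum.inr 0) (Sum.inr 0) * g (Sum.inr 1) (Sum.inl 0) + -(g (Sum.inr 0) (Sum.inl 1) * g (Sum.inr 1) (Sum.inr 1)) + -(g (Sum.inr 0) (Sum.inl 0) * g (Sum.inr 1) (Sum.inr 0)) = (0))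
    : g (Sum.inl 0) (Sum.inr 1) * g (Sum.inr 0) (Sum.inr 0) * g (Sum.inr 1) (Sum.inl 1) + -(g (Sum.inl 0) (Sum.inr 1) * g (Sum.inr 0) (Sum.inl 1) * g (Sum.inr 1) (Sum.inr 0)) + -(g (Sum.inl 0) (Sum.inr 0) * g (Sum.inr 0) (Sum.inr 1) * g (Sum.inr 1) (Sum.inl 1)) + g (Sum.inl 0) (Sum.inr 0) * g (Sum.inr 0) (Sum.inl 1) * g (Sum.inr 1) (Sum.inr 1) + g (Sum.inl 0) (Sum.inl 1) * g (Sum.inr 0) (Sum.inr 1) * g (Sum.inr 1) (Sum.inr 0) + -(g (Sum.inl 0) (Sum.inl 1) * g (Sum.inr 0) (Sum.inr 0) * g (Sum.inr 1) (Sum.inr 1)) = g (Sum.inr 1) (Sum.inr 0) := by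
  linear_combination (-(g (Sum.inr 0) (Sum.inr 1) * g (Sum.inr 1) (Sum.inl 1) * g (Sum.inr 1) (Sum.inr 0)) + -(g (Sum.inr 0) (Sum.inr 0) * g (Sum.inr 1) (Sum.inl 0) * g (Sum.inr 1) (Sum.inr 0)) + g (Sum.inr 0) (Sum.inl 1) * g (Sum.inr 1) (Sum.inr 0) * g (Sum.inr 1) (Sum.inr 1) + g (Sum.inr 0) (Sum.inl 0) * g (Sum.inr 1) (Sum.inr 0) ^ 2) * h01 +
    (g (Sum.inl 1) (Sum.inr 1) * g (Sum.inr 1) (Sum.inl 1) * g (Sum.inr 1) (Sum.inr 0) + g (Sum.inl 1) (Sum.inr 0) * g (Sum.inr 1) (Sum.inl 0) * g (Sum.inr 1) (Sum.inr 0) + -(g (Sum.inl 1) (Sum.inl 1) * g (Sum.inr 1) (Sum.inr 0) * g (Sum.inr 1) (Sum.inr 1)) + -(g (Sum.inl 1) (Sum.inl 0) * g (Sum.inr 1) (Sum.inr 0) ^ 2)) * h02 +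
    (-(g (Sum.inl 1) (Sum.inr 1) * g (Sum.inr 0) (Sum.inr 0) * g (Sum.inr 1) (Sum.inl 1)) + g (Sum.inl 1) (Sum.inr 0) * g (Sum.inr 0) (Sum.inr 1) * g (Sum.inr 1) (Sum.inl 1) + -(g (Sum.inl 1) (Sum.inr 0) * g (Sum.inr 0) (Sum.inl 1) * g (Sum.inr 1) (Sum.inr 1)) + -(g (Sum.inl 1) (Sum.inr 0) * g (Sum.inr 0) (Sum.inl 0) * g (Sum.inr 1) (Sum.inr 0)) + g (Sum.inl 1) (Sum.inl 1) * g (Sum.inr 0) (Sum.inr 0) * g (Sum.inr 1) (Sum.inr 1) + g (Sum.inl 1) (Sum.inl 0) * g (Sum.inr 0) (Sum.inr 0) * g (Sum.inr 1) (Sum.inr 0)) * h03 +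
    (-(g (Sum.inr 1) (Sum.inr 0)) + g (Sum.inl 0) (Sum.inr 1) * g (Sum.inr 0) (Sum.inr 0) * g (Sum.inr 1) (Sum.inl 1) + -(g (Sum.inl 0) (Sum.inr 1) * g (Sum.inr 0) (Sum.inl 1) * g (Sum.inr 1) (Sum.inr 0)) + -(g (Sum.inl 0) (Sum.inr 0) * g (Sum.inr 0) (Sum.inr 1) * g (Sum.inr 1) (Sum.inl 1)) + g (Sum.inl 0) (Sum.inr 0) * g (Sum.inr 0) (Sum.inl 1) * g (Sum.inr 1) (Sum.inr 1) + g (Sum.inl 0) (Sum.inl 1) * g (Sum.inr 0) (Sum.inr 1) * g (Sum.inr 1) (Sum.inr 0) + -(g (Sum.inl 0) (Sum.inl 1) * g (Sum.inr 0) (Sum.inr 0) * g (Sum.inr 1) (Sum.inr 1))) * h13 +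
    (-(g (Sum.inl 0) (Sum.inr 1) * g (Sum.inl 1) (Sum.inr 0) * g (Sum.inr 1) (Sum.inl 1)) + g (Sum.inl 0) (Sum.inr 1) * g (Sum.inl 1) (Sum.inl 1) * g (Sum.inr 1) (Sum.inr 0) + g (Sum.inl 0) (Sum.inr 0) * g (Sum.inl 1) (Sum.inr 1) * g (Sum.inr 1) (Sum.inl 1) + -(g (Sum.inl 0) (Sum.inr 0) * g (Sum.inl 1) (Sum.inl 1) * g (Sum.inr 1) (Sum.inr 1)) + -(g (Sum.inl 0) (Sum.inl 1) * g (Sum.inl 1) (Sum.inr 1) * g (Sum.inr 1) (Sum.inr 0)) + g (Sum.inl 0) (Sum.inl 1) * g (Sum.inl 1) (Sum.inr 0) * g (Sum.inr 1) (Sum.inr 1)) * h23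

theorem h8f_minor_33 (h2 : (2 : F) = 0)
    (h01 : g (Sum.inl 0) (Sum.inr 1) * g (Sum.inl 1) (Sum.inl 1) + g (Sum.inl 0) (Sum.inr 0) * g (Sum.inl 1) (Sum.inl 0) + -(g (Sum.inl 0) (Sum.inl 1) * g (Sum.inl 1) (Sum.inr 1)) + -(g (Sum.inl 0) (Sum.inl 0) * g (Sum.inl 1) (Sum.inr 0)) = (0))
    (h02 : g (Sum.inl 0) (Sum.inr 1) * g (Sum.inr 0) (Sum.inl 1) + g (Sum.inl 0) (Sum.inr 0) * g (Sum.inr 0) (Sum.inl 0) + -(g (Sum.inl 0) (Sum.inl 1) * g (Sum.inr 0) (Sum.inr 1)) + -(g (Sum.inl 0) (Sum.inl 0) * g (Sum.inr 0) (Sum.inr 0)) = (-1))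
    (h03 : g (Sum.inl 0) (Sum.inr 1) * g (Sum.inr 1) (Sum.inl 1) + g (Sum.inl 0) (Sum.inr 0) * g (Sum.inr 1) (Sum.inl 0) + -(g (Sum.inl 0) (Sum.inl 1) * g (Sum.inr 1) (Sum.inr 1)) + -(g (Sum.inl 0) (Sum.inl 0) * g (Sum.inr 1) (Sum.inr 0)) = (0))
    (h12 : g (Sum.inl 1) (Sum.inr 1) * g (Sum.inr 0) (Sum.inl 1) + g (Sum.inl 1) (Sum.inr 0) * g (Sum.inr 0) (Sum.inl 0) + -(g (Sum.inl 1) (Sum.inl 1) * g (Sum.inr 0) (Sum.inr 1)) + -(g (Sum.inl 1) (Sum.inl 0) * g (Sum.inr 0) (Sum.inr 0)) = (0))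
    (h13 : g (Sum.inl 1) (Sum.inr 1) * g (Sum.inr 1) (Sum.inl 1) + g (Sum.inl 1) (Sum.inr 0) * g (Sum.inr 1) (Sum.inl 0) + -(g (Sum.inl 1) (Sum.inl 1) * g (Sum.inr 1) (Sum.inr 1)) + -(g (Sum.inl 1) (Sum.inl 0) * g (Sum.inr 1) (Sum.inr 0)) = (-1))
    (h23 : g (Sum.inr 0) (Sum.inr 1) * g (Sum.inr 1) (Sum.inl 1) + g (Sum.inr 0) (Sum.inr 0) * g (Sum.inr 1) (Sum.inl 0) + -(g (Sum.inr 0) (Sum.inl 1) * g (Sum.inr 1) (Sum.inr 1)) + -(g (Sum.inr 0) (Sum.inl 0) * g (Sum.inr 1) (Sum.inr 0)) = (0))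
    : -(g (Sum.inl 0) (Sum.inr 1) * g (Sum.inr 0) (Sum.inr 0) * g (Sum.inr 1) (Sum.inl 0)) + g (Sum.inl 0) (Sum.inr 1) * g (Sum.inr 0) (Sum.inl 0) * g (Sum.inr 1) (Sum.inr 0) + g (Sum.inl 0) (Sum.inr 0) * g (Sum.inr 0) (Sum.inr 1) * g (Sum.inr 1) (Sum.inl 0) + -(g (Sum.inl 0) (Sum.inr 0) * g (Sum.inr 0) (Sum.inl 0) * g (Sum.inr 1) (Sum.inr 1)) + -(g (Sum.inl 0) (Sum.inl 0) * g (Sum.inr 0) (Sum.inr 1) * g (Sum.inr 1) (Sum.inr 0)) + g (Sum.inl 0) (Sum.inl 0) * g (Sum.inr 0) (Sum.inr 0) * g (Sum.inr 1) (Sum.inr 1) = g (Sum.inr 1) (Sum.inr 1) := by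
  linear_combination (-(g (Sum.inr 0) (Sum.inr 1) * g (Sum.inr 1) (Sum.inl 1) * g (Sum.inr 1) (Sum.inr 1)) + -(g (Sum.inr 0) (Sum.inr 0) * g (Sum.inr 1) (Sum.inl 0) * g (Sum.inr 1) (Sum.inr 1)) + g (Sum.inr 0) (Sum.inl 1) * g (Sum.inr 1) (Sum.inr 1) ^ 2 + g (Sum.inr 0) (Sum.inl 0) * g (Sum.inr 1) (Sum.inr 0) * g (Sum.inr 1) (Sum.inr 1)) * h01 +
    (g (Sum.inl 1) (Sum.inr 1) * g (Sum.inr 1) (Sum.inl 1) * g (Sum.inr 1) (Sum.inr 1) + g (Sum.inl 1) (Sum.inr 0) * g (Sum.inr 1) (Sum.inl 0) * g (Sum.inr 1) (Sum.inr 1) + -(g (Sum.inl 1) (Sum.inl 1) * g (Sum.inr 1) (Sum.inr 1) ^ 2) + -(g (Sum.inl 1) (Sum.inl 0) * g (Sum.inr 1) (Sum.inr 0) * g (Sum.inr 1) (Sum.inr 1))) * h02 +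
    (g (Sum.inl 1) (Sum.inr 1) * g (Sum.inr 0) (Sum.inr 0) * g (Sum.inr 1) (Sum.inl 0) + -(g (Sum.inl 1) (Sum.inr 1) * g (Sum.inr 0) (Sum.inl 1) * g (Sum.inr 1) (Sum.inr 1)) + -(g (Sum.inl 1) (Sum.inr 1) * g (Sum.inr 0) (Sum.inl 0) * g (Sum.inr 1) (Sum.inr 0)) + -(g (Sum.inl 1) (Sum.inr 0) * g (Sum.inr 0) (Sum.inr 1) * g (Sum.inr 1) (Sum.inl 0)) + g (Sum.inl 1) (Sum.inl 1) * g (Sum.inr 0) (Sum.inr 1) * g (Sum.inr 1) (Sum.inr 1) + g (Sum.inl 1) (Sum.inl 0) * g (Sum.inr 0) (Sum.inr 1) * g (Sum.inr 1) (Sum.inr 0)) * h03 +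
    (-(g (Sum.inr 1) (Sum.inr 1)) + -(g (Sum.inl 0) (Sum.inr 1) * g (Sum.inr 0) (Sum.inr 0) * g (Sum.inr 1) (Sum.inl 0)) + g (Sum.inl 0) (Sum.inr 1) * g (Sum.inr 0) (Sum.inl 0) * g (Sum.inr 1) (Sum.inr 0) + g (Sum.inl 0) (Sum.inr 0) * g (Sum.inr 0) (Sum.inr 1) * g (Sum.inr 1) (Sum.inl 0) + -(g (Sum.inl 0) (Sum.inr 0) * g (Sum.inr 0) (Sum.inl 0) * g (Sum.inr 1) (Sum.inr 1)) + -(g (Sum.inl 0) (Sum.inl 0) * g (Sum.inr 0) (Sum.inr 1) * g (Sum.inr 1) (Sum.inr 0)) + g (Sum.inl 0) (Sum.inl 0) * g (Sum.inr 0) (Sum.inr 0) * g (Sum.inr 1) (Sum.inr 1)) * h13 +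
    (g (Sum.inl 0) (Sum.inr 1) * g (Sum.inl 1) (Sum.inr 0) * g (Sum.inr 1) (Sum.inl 0) + -(g (Sum.inl 0) (Sum.inr 1) * g (Sum.inl 1) (Sum.inl 0) * g (Sum.inr 1) (Sum.inr 0)) + -(g (Sum.inl 0) (Sum.inr 0) * g (Sum.inl 1) (Sum.inr 1) * g (Sum.inr 1) (Sum.inl 0)) + g (Sum.inl 0) (Sum.inr 0) * g (Sum.inl 1) (Sum.inl 0) * g (Sum.inr 1) (Sum.inr 1) + g (Sum.inl 0) (Sum.inl 0) * g (Sum.inl 1) (Sum.inr 1) * g (Sum.inr 1) (Sum.inr 0) + -(g (Sum.inl 0) (Sum.inl 0) * g (Sum.inl 1) (Sum.inr 0) * g (Sum.inr 1) (Sum.inr 1))) * h23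

end

theorem phiMat_phiMat {F : Type*} [Field F] (h2 : (2 : F) = 0)
    (g : Matrix (Fin 2 ⊕ Fin 2) (Fin 2 ⊕ Fin 2) F)
    (hg : g * Matrix.J (Fin 2) F * g.transpose = Matrix.J (Fin 2) F)
    (hg' : g.transpose * Matrix.J (Fin 2) F * g = Matrix.J (Fin 2) F)
    (hdet : g.det = 1) :
    phiMat (phiMat g) = g.map (fun x => x ^ 2) := by
  have h01 := h8f_h01 g hg
  have h02 := h8f_h02 g hg
  have h03 := h8f_h03 g hg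
  have h12 := h8f_h12 g hg
  have h13 := h8f_h13 g hg
  have h23 := h8f_h23 g hg
  ext I J
  rcases I with I | I <;> rcases J with J | J <;> fin_cases I <;> fin_cases J
  · have hm := h8f_minor_00 g h2 h01 h02 h03 h12 h13 h23
    simp only [phiMat_apply, pr, Matrix.map_apply, Sum.elim_inl, Sum.elim_inr, Fin.zero_eta, Fin.mk_one,
      Fin.isValue, if_true, if_false, one_ne_zero, zero_ne_one, reduceIte]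
    linear_combination (g (Sum.inl 0) (Sum.inl 0)) * hm
  · have hm := h8f_minor_01 g h2 h01 h02 h03 h12 h13 h23
    simp only [phiMat_apply, pr, Matrix.map_apply, Sum.elim_inl, Sum.elim_inr, Fin.zero_eta, Fin.mk_one,
      Fin.isValue, if_true, if_false, one_ne_zero, zero_ne_one, reduceIte]
    linear_combination (g (Sum.inl 0) (Sum.inl 1)) * hm
  · have hm := h8f_minor_10 g h2 h01 h02 h03 h12 h13 h23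
    simp only [phiMat_apply, pr, Matrix.map_apply, Sum.elim_inl, Sum.elim_inr, Fin.zero_eta, Fin.mk_one,
      Fin.isValue, if_true, if_false, one_ne_zero, zero_ne_one, reduceIte]
    linear_combination (g (Sum.inl 1) (Sum.inl 0)) * hm
  · have hm := h8f_minor_11 g h2 h01 h02 h03 h12 h13 h23
    simp only [phiMat_apply, pr, Matrix.map_apply, Sum.elim_inl, Sum.elim_inr, Fin.zero_eta, Fin.mk_one,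
      Fin.isValue, if_true, if_false, one_ne_zero, zero_ne_one, reduceIte]
    linear_combination (g (Sum.inl 1) (Sum.inl 1)) * hm
  · have hm := h8f_minor_02 g h2 h01 h02 h03 h12 h13 h23
    simp only [phiMat_apply, pr, Matrix.map_apply, Sum.elim_inl, Sum.elim_inr, Fin.zero_eta, Fin.mk_one,
      Fin.isValue, if_true, if_false, one_ne_zero, zero_ne_one, reduceIte]
    linear_combination (g (Sum.inl 0) (Sum.inr 0)) * hm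
  · have hm := h8f_minor_03 g h2 h01 h02 h03 h12 h13 h23
    simp only [phiMat_apply, pr, Matrix.map_apply, Sum.elim_inl, Sum.elim_inr, Fin.zero_eta, Fin.mk_one,
      Fin.isValue, if_true, if_false, one_ne_zero, zero_ne_one, reduceIte]
    linear_combination (g (Sum.inl 0) (Sum.inr 1)) * hm
  · have hm := h8f_minor_12 g h2 h01 h02 h03 h12 h13 h23
    simp only [phiMat_apply, pr, Matrix.map_apply, Sum.elim_inl, Sum.elim_inr, Fin.zero_eta, Fin.mk_one,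
      Fin.isValue, if_true, if_false, one_ne_zero, zero_ne_one, reduceIte]
    linear_combination (g (Sum.inl 1) (Sum.inr 0)) * hm
  · have hm := h8f_minor_13 g h2 h01 h02 h03 h12 h13 h23
    simp only [phiMat_apply, pr, Matrix.map_apply, Sum.elim_inl, Sum.elim_inr, Fin.zero_eta, Fin.mk_one,
      Fin.isValue, if_true, if_false, one_ne_zero, zero_ne_one, reduceIte]
    linear_combination (g (Sum.inl 1) (Sum.inr 1)) * hm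
  · have hm := h8f_minor_20 g h2 h01 h02 h03 h12 h13 h23
    simp only [phiMat_apply, pr, Matrix.map_apply, Sum.elim_inl, Sum.elim_inr, Fin.zero_eta, Fin.mk_one,
      Fin.isValue, if_true, if_false, one_ne_zero, zero_ne_one, reduceIte]
    linear_combination (g (Sum.inr 0) (Sum.inl 0)) * hm
  · have hm := h8f_minor_21 g h2 h01 h02 h03 h12 h13 h23
    simp only [phiMat_apply, pr, Matrix.map_apply, Sum.elim_inl, Sum.elim_inr, Fin.zero_eta, Fin.mk_one,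
      Fin.isValue, if_true, if_false, one_ne_zero, zero_ne_one, reduceIte]
    linear_combination (g (Sum.inr 0) (Sum.inl 1)) * hm
  · have hm := h8f_minor_30 g h2 h01 h02 h03 h12 h13 h23
    simp only [phiMat_apply, pr, Matrix.map_apply, Sum.elim_inl, Sum.elim_inr, Fin.zero_eta, Fin.mk_one,
      Fin.isValue, if_true, if_false, one_ne_zero, zero_ne_one, reduceIte]
    linear_combination (g (Sum.inr 1) (Sum.inl 0)) * hm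
  · have hm := h8f_minor_31 g h2 h01 h02 h03 h12 h13 h23
    simp only [phiMat_apply, pr, Matrix.map_apply, Sum.elim_inl, Sum.elim_inr, Fin.zero_eta, Fin.mk_one,
      Fin.isValue, if_true, if_false, one_ne_zero, zero_ne_one, reduceIte]
    linear_combination (g (Sum.inr 1) (Sum.inl 1)) * hm
  · have hm := h8f_minor_22 g h2 h01 h02 h03 h12 h13 h23
    simp only [phiMat_apply, pr, Matrix.map_apply, Sum.elim_inl, Sum.elim_inr, Fin.zero_eta, Fin.mk_one,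
      Fin.isValue, if_true, if_false, one_ne_zero, zero_ne_one, reduceIte]
    linear_combination (g (Sum.inr 0) (Sum.inr 0)) * hm
  · have hm := h8f_minor_23 g h2 h01 h02 h03 h12 h13 h23
    simp only [phiMat_apply, pr, Matrix.map_apply, Sum.elim_inl, Sum.elim_inr, Fin.zero_eta, Fin.mk_one,
      Fin.isValue, if_true, if_false, one_ne_zero, zero_ne_one, reduceIte]
    linear_combination (g (Sum.inr 0) (Sum.inr 1)) * hm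
  · have hm := h8f_minor_32 g h2 h01 h02 h03 h12 h13 h23
    simp only [phiMat_apply, pr, Matrix.map_apply, Sum.elim_inl, Sum.elim_inr, Fin.zero_eta, Fin.mk_one,
      Fin.isValue, if_true, if_false, one_ne_zero, zero_ne_one, reduceIte]
    linear_combination (g (Sum.inr 1) (Sum.inr 0)) * hm
  · have hm := h8f_minor_33 g h2 h01 h02 h03 h12 h13 h23
    simp only [phiMat_apply, pr, Matrix.map_apply, Sum.elim_inl, Sum.elim_inr, Fin.zero_eta, Fin.mk_one,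
      Fin.isValue, if_true, if_false, one_ne_zero, zero_ne_one, reduceIte]
    linear_combination (g (Sum.inr 1) (Sum.inr 1)) * hm

end Cfsg.Agent.Helper8.SPX
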