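import Mathlib
import Cfsg.Agent.Lib.Helper62.SUO0
import Cfsg.Agent.Lib.Helper87.PsuHB
import Cfsg.Agent.Lib.Helper9.SUOX2
import Cfsg.Agent.Lib.Helper34.SUOX3
import Cfsg.Agent.Lib.Helper1.SUOC2
import Cfsg.Agent.Lib.Helper21.SUOU2
import Cfsg.Agent.Lib.Helper98.SUOU4
import Cfsg.Agent.Lib.Helper87.SUOC4
import Cfsg.Agent.Lib.Helper98.SUOU5
import Cfsg.Agent.Lib.Helper66.SUOA
import Cfsg.Agent.Lib.Helper65.SUOU3
import Cfsg.Agent.Lib.Helper78.SUOE6

/-!
# Assembly of S2282 for `n = 2m+5` (helper8, second assembler of helper62's SUO server)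
-/

set_option autoImplicit false
set_option linter.unusedSectionVars false
set_option linter.unusedVariables false
set_option quotPrecheck false

namespace Cfsg.Agent.Helper8.SUOAsm

open Matrix Cfsg Cfsg.Agent.Helper13 Cfsg.Agent.Helper87.PsuA Cfsg.Agent.Helper62.SUO

variable {F : Type*} [Field F] [Fintype F] {q : ℕ} (hF : Fintype.card F = q ^ 2)

include hF

theorem h8_main_odd (m : ℕ) :
    ∃ u g h : ↥(Cfsg.SU (2 * m + 5) F q),
      (IsNilpotent (((u : Matrix.SpecialLinearGroup (Fin (2 * m + 5)) F) :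
          Matrix (Fin (2 * m + 5)) (Fin (2 * m + 5)) F) - 1) ∧
        (((u : Matrix.SpecialLinearGroup (Fin (2 * m + 5)) F) :
          Matrix (Fin (2 * m + 5)) (Fin (2 * m + 5)) F) - 1) ^ (2 * m + 5 - 1) ≠ 0) ∧
      Subgroup.closure ({u, g * u * g⁻¹, h * u * h⁻¹} : Set ↥(Cfsg.SU (2 * m + 5) F q)) = ⊤ := by
  obtain ⟨b, hb'⟩ := Cfsg.Agent.Helper87.PsuHB.exists_hb hF (2 * m + 5)
  have hb : HB q b := hb'
  -- the parameters
  obtain ⟨t, a, c, ht, hta, ha, hκ, hgen⟩ :
      ∃ t a c : F, t ≠ 0 ∧ a + a ^ q + t * t ^ q = 0 ∧ a ≠ 0 ∧ c - c ^ q ≠ 0 ∧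
        Gen2 c (c - c ^ q) ((c - c ^ q) ^ 2 * (a * a ^ q)) := by
    rcases Nat.even_or_odd q with hq | hq
    · exact Cfsg.Agent.Helper34.SUO.exists_params_even hF hq
    · exact Cfsg.Agent.Helper9.SUO.exists_params_odd hF hq
  -- the regular unipotent
  obtain ⟨u, hu, hs, hP, hP'⟩ := Cfsg.Agent.Helper1.SUO.exists_u (m := m) hF hb t a ht hta
  have hreg := Cfsg.Agent.Helper21.SUO.regular_of_supNZ hF hb (by omega) hu hs
  -- indices
  set i0 : Fin (2 * m + 5) := ⟨0, by omega⟩ with hi0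
  set i1 : Fin (2 * m + 5) := ⟨1, by omega⟩ with hi1
  set i2 : Fin (2 * m + 5) := ⟨2, by omega⟩ with hi2
  set iL : Fin (2 * m + 5) := ⟨2 * m + 3, by omega⟩ with hiL
  obtain ⟨hu0, hu1, -⟩ := Cfsg.Agent.Helper98.SUO.usub_low hF hb hu i0 i1 i2 rfl rfl rfl
  set s1 : F := co q b (actv u (b i1)) i0 with hs1
  have hs1ne : s1 ≠ 0 := hs i0 i1 rfl
  set e0 : Fin (2 * m + 5) → F := b i0 with he0
  set e1 : Fin (2 * m + 5) → F := s1⁻¹ • b i1 with he1
  set p : Fin (2 * m + 5) → F := ((-a * s1) ^ q) • b iL with hp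
  -- the lower conjugate
  obtain ⟨h, hh1, hh2⟩ :=
    Cfsg.Agent.Helper87.SUO.exists_h (m := m) hF hb t a ht hta ha hu hs hP hP' e1 p rfl rfl
  -- the third conjugate
  obtain ⟨g, μ, α, hα, hg⟩ :=
    Cfsg.Agent.Helper98.SUO.exists_g hF hb (by omega) hu hs i0 i1 rfl rfl c
  refine ⟨u, g, h, hreg, ?_⟩
  set Hs := Subgroup.closure ({u, g * u * g⁻¹, h * u * h⁻¹} : Set ↥(Cfsg.SU (2 * m + 5) F q))
    with hHs
  have huH : u ∈ Hs := Subgroup.subset_closure (by simp)
  have hgH : g * u * g⁻¹ ∈ Hs := Subgroup.subset_closure (by simp)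
  have hlH : h * u * h⁻¹ ∈ Hs := Subgroup.subset_closure (by simp)
  -- basic form values
  have hb_val : ∀ i j : Fin (2 * m + 5), Cfsg.hermForm (2 * m + 5) F q (b i) (b j) =
      if j = Fin.rev i then 1 else 0 := hb
  have h00 : Cfsg.hermForm (2 * m + 5) F q e0 e0 = 0 := by
    rw [he0, hb_val, if_neg]
    intro hcon
    have := congrArg Fin.val hcon
    rw [Fin.val_rev] at this
    simp only [hi0] at this
    omega
  have h01 : Cfsg.hermForm (2 * m + 5) F q (b i0) (b i1) = 0 := by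
    rw [hb_val, if_neg]
    intro hcon
    have := congrArg Fin.val hcon
    rw [Fin.val_rev] at this
    simp only [hi0, hi1] at this
    omega
  have h0L : Cfsg.hermForm (2 * m + 5) F q (b i0) (b iL) = 0 := by
    rw [hb_val, if_neg]
    intro hcon
    have := congrArg Fin.val hcon
    rw [Fin.val_rev] at this
    simp only [hi0, hiL] at this
    omega
  have h1L : Cfsg.hermForm (2 * m + 5) F q (b i1) (b iL) = 1 := by
    rw [hb_val, if_pos]
    apply Fin.ext
    rw [Fin.val_rev]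
    simp only [hi1, hiL]
    omega
  have hfr : ((-a * s1) ^ q) ^ q = -a * s1 := frob_frob hF _
  have he0e1 : Cfsg.hermForm (2 * m + 5) F q e0 e1 = 0 := by
    rw [he1, hermForm_smul_right, h01, mul_zero]
  have he1p : Cfsg.hermForm (2 * m + 5) F q e1 p = -a := by
    rw [he1, hp, hermForm_smul_left, hermForm_smul_right, hfr, h1L]
    field_simp
  have hue1 : actv u e1 = e1 + e0 := by
    rw [he1, actv_smul, hu1, smul_add, smul_smul, inv_mul_cancel₀ hs1ne, one_smul]
  -- `c • e1 ∈ QQ`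
  have hcQ : c • e1 ∈ QQ hF Hs e0 := by
    obtain ⟨S, hS⟩ := Cfsg.Agent.Helper66.SUO.QQ_addsub hF (Hs := Hs) h00
    have hmem : ∀ w, w ∈ S ↔ w ∈ QQ hF Hs e0 := fun w => by rw [← hS]; rfl
    have h1 : c • e1 + μ • e0 ∈ S := by
      rw [hmem]
      refine ⟨?_, α, hα, ?_⟩
      · rw [hermForm_add_right hF, hermForm_smul_right c e0 e1, hermForm_smul_right μ e0 e0,
          he0e1, h00]
        ring
      · rw [← hg]
        exact Hs.mul_mem hgH (Hs.inv_mem huH)
    have h2 : μ • e0 ∈ S := (hmem _).2 (Cfsg.Agent.Helper66.SUO.QQ_e0 hF h00 μ)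
    have h3 := S.sub_mem h1 h2
    rw [add_sub_cancel_right] at h3
    exact (hmem _).1 h3
  -- the hypotheses
  have hyp : Hyp hF Hs u (h * u * h⁻¹) e0 e1 p c (-a) :=
    { hu := huH
      hl := hlH
      e0e0 := h00
      ue0 := hu0
      ue1 := hue1
      le0 := hh1
      lp := hh2
      e0e1 := he0e1
      e1p := he1p
      γ0 := neg_ne_zero.2 ha
      hc := hcQ
      κ0 := hκ
      gen := by
        have : (-a) * (-a) ^ q = a * a ^ q := by rw [frob_neg hF]; ring
        rw [this]; exact hgen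
      cyc := Cfsg.Agent.Helper65.SUO.cyc_of_supNZ hF hb hu hs i0 i1 rfl rfl p
        (by rw [hp, hermForm_smul_right, h0L, mul_zero])
        (by
          rw [hp, hermForm_smul_right, hfr, h1L, mul_one]
          exact mul_ne_zero (neg_ne_zero.2 ha) hs1ne) }
  exact Cfsg.Agent.Helper78.SUO.core_top hF (by omega) (by omega) hyp

end Cfsg.Agent.Helper8.SUOAsm
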