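import Mathlib
import Cfsg.Agent.Lib.Helper13.SUOA

/-!
# The abstract core for S2282 (helper8; design of helper20, board post 8366)

`Hs ≤ SU_n(q)`, `e0` isotropic, `u, l ∈ Hs`, a central transvection `E(e0,0,κ) ∈ Hs`, `u e0 = e0`,
`x = l e0 ⊥ e0` with `u x = x + s e0`, `p = l⁻¹ e0 ⊥ e0` with `H x p ≠ 0`, a generation condition on
`ω = κ H(u p, p)` and cyclicity of `p` under `u` in `e0^⊥`.  Then `Hs = ⊤`.
-/

set_option autoImplicit false
set_option quotPrecheck false
set_option linter.unusedSectionVars false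
set_option linter.unusedVariables false

namespace Cfsg.Agent.Helper8.SUOCore

open Matrix Cfsg Cfsg.Agent.Helper13 Cfsg.Agent.Helper87.PsuA Cfsg.Agent.Helper87.PsuB0
open Cfsg.Agent.Helper13.SUOA

variable {F : Type*} [Field F] [Fintype F] {q n : ℕ}

local notation "V" => Fin n → F
local notation "G" => ↥(Cfsg.SU n F q)
local notation "H" => Cfsg.hermForm n F q

variable (hF : Fintype.card F = q ^ 2)
include hF

/-- the condition for a central transvection -/
theorem h8_cond_zero {κ : F} (hκ : κ + κ ^ q = 0) : κ + κ ^ q + H (0 : V) 0 = 0 := by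
  rw [H_zero_right hF]; linear_combination hκ

/-- (a) the central transvection `E(e0,0,κ)` moves with the orbit of `e0` -/
theorem h8_tv_orb (Hs : Subgroup G) {e0 : V} {κ : F} (hee : H e0 e0 = 0) (hκ : κ + κ ^ q = 0)
    (hτ : eich hF e0 0 κ ∈ Hs) {t : G} (ht : t ∈ Hs) : eich hF (actv t e0) 0 κ ∈ Hs := by
  have e1 := eich_conj hF hee (H_zero_right hF e0) (h8_cond_zero hF hκ) t
  rw [actv_zero] at e1
  rw [← e1]
  exact Hs.mul_mem (Hs.mul_mem ht hτ) (Hs.inv_mem ht)

/-- action of a central transvection -/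
theorem h8_tv_act {y : V} {κ : F} (hyy : H y y = 0) (hκ : κ + κ ^ q = 0) (w : V) :
    actv (eich hF y 0 κ) w = w + (κ * H w y) • y := by
  rw [eich_act hF hyy (H_zero_right hF y) (h8_cond_zero hF hκ), H_zero_right hF]
  module

/-- (b) the seed identity -/
theorem h8_seed_eq {e0 x : V} {κ s : F} (hee : H e0 e0 = 0) (hxx : H x x = 0) (hxe : H x e0 = 0)
    (hκ : κ + κ ^ q = 0) :
    eich hF (x + s • e0) 0 κ * (eich hF x 0 κ)⁻¹ =
      eich hF e0 ((κ * s ^ q) • x) (κ * s * s ^ q) := by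
  have hex : H e0 x = 0 := H_symm_zero hF hxe
  have hκq : κ ^ q = -κ := by linear_combination hκ
  have h1 : H (x + s • e0) (x + s • e0) = 0 := by
    rw [hermForm_add_left, hermForm_add_right hF, hermForm_add_right hF, hermForm_smul_left,
      hermForm_smul_left, hermForm_smul_right, hermForm_smul_right, hxx, hxe, hex, hee]
    ring
  have h2 : H e0 ((κ * s ^ q) • x) = 0 := by rw [hermForm_smul_right, hex, mul_zero]
  have h3 : κ * s * s ^ q + (κ * s * s ^ q) ^ q + H ((κ * s ^ q) • x) ((κ * s ^ q) • x) = 0 := by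
    rw [hermForm_smul_left, hermForm_smul_right, hxx, mul_pow, mul_pow, frob_frob hF, hκq]
    ring
  have hκ' : κ ^ q + (κ ^ q) ^ q = 0 := by rw [frob_frob hF]; linear_combination hκ
  apply G_ext
  intro y
  have hinv : (eich hF x 0 κ)⁻¹ = eich hF x 0 (κ ^ q) := by
    rw [eich_inv hF hxx (H_zero_right hF x) (h8_cond_zero hF hκ), neg_zero]
  rw [actv_mul, hinv, h8_tv_act hF hxx hκ', h8_tv_act hF h1 hκ, eich_act hF hee h2 h3]
  simp only [hermForm_add_left, hermForm_add_right hF, hermForm_smul_left, hermForm_smul_right,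
    hxx, hxe, mul_pow, frob_frob hF, hκq]
  module

/-- (b) the seed: `κ s̄ x ∈ A` -/
theorem h8_seed (Hs : Subgroup G) {e0 x : V} {κ s : F} (hee : H e0 e0 = 0) (hxx : H x x = 0)
    (hxe : H x e0 = 0) (hκ : κ + κ ^ q = 0) (h1 : eich hF (x + s • e0) 0 κ ∈ Hs)
    (h2 : eich hF x 0 κ ∈ Hs) : (κ * s ^ q) • x ∈ A hF Hs e0 := by
  have hex : H e0 x = 0 := H_symm_zero hF hxe
  have hκq : κ ^ q = -κ := by linear_combination hκ
  refine ⟨by rw [hermForm_smul_right, hex, mul_zero], κ * s * s ^ q, ?_, ?_⟩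
  · rw [hermForm_smul_left, hermForm_smul_right, hxx, mul_pow, mul_pow, frob_frob hF, hκq]
    ring
  · rw [← h8_seed_eq hF hee hxx hxe hκ]
    exact Hs.mul_mem h1 (Hs.inv_mem h2)

/-- (c) the step -/
theorem h8_step (Hs : Subgroup G) {e0 y w : V} {κ : F} (hee : H e0 e0 = 0) (hyy : H y y = 0)
    (hye : H y e0 = 0) (hκ : κ + κ ^ q = 0) (hy : eich hF y 0 κ ∈ Hs) (hw : w ∈ A hF Hs e0) :
    (κ * H w y) • y ∈ A hF Hs e0 := by
  have hey : H e0 y = 0 := H_symm_zero hF hye
  have hfix : actv (eich hF y 0 κ) e0 = e0 := by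
    rw [h8_tv_act hF hyy hκ, hey, mul_zero, zero_smul, add_zero]
  have := A_comm hF Hs hee hw hy hfix
  rw [h8_tv_act hF hyy hκ, add_sub_cancel_left] at this
  exact this

/-- **the abstract core** -/
theorem h8_suo_core (hn : 3 ≤ n) (h32 : ¬(n = 3 ∧ q = 2)) (Hs : Subgroup G) (u l : G)
    (e0 d : V) (κ s : F)
    (hee : H e0 e0 = 0) (hed : H e0 d = 0) (hdd : H d d ≠ 0)
    (hu : u ∈ Hs) (hl : l ∈ Hs)
    (hκ0 : κ ≠ 0) (hκ : κ + κ ^ q = 0) (hτ : eich hF e0 0 κ ∈ Hs)
    (hue : actv u e0 = e0) (hs : s ≠ 0)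
    (hx0 : H (actv l e0) e0 = 0) (hux : actv u (actv l e0) = actv l e0 + s • e0)
    (hp0 : H (actv l⁻¹ e0) e0 = 0) (hγ : H (actv l e0) (actv l⁻¹ e0) ≠ 0)
    (hgen : ∀ S : AddSubgroup F, S ≠ ⊥ →
      (∀ a ∈ S, κ * H (actv u (actv l⁻¹ e0)) (actv l⁻¹ e0) * a ∈ S) → S = ⊤)
    (hcyc : ∀ W : Submodule F V, (∀ w ∈ W, actv u w ∈ W) → actv l⁻¹ e0 ∈ W →
      ∀ w : V, H e0 w = 0 → w ∈ W) :
    Hs = ⊤ := by
  set x : V := actv l e0 with hx
  set p : V := actv l⁻¹ e0 with hp
  have hxx : H x x = 0 := by rw [hx, H_actv]; exact hee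
  have hpp : H p p = 0 := by rw [hp, H_actv]; exact hee
  -- transvections in the orbit
  have tx : eich hF x 0 κ ∈ Hs := h8_tv_orb hF Hs hee hκ hτ hl
  have tp : eich hF p 0 κ ∈ Hs := h8_tv_orb hF Hs hee hκ hτ (Hs.inv_mem hl)
  have txs : eich hF (x + s • e0) 0 κ ∈ Hs := by
    have := h8_tv_orb hF Hs hee hκ hτ (Hs.mul_mem hu hl)
    rwa [actv_mul, hux] at this
  -- the seed
  have seed : (κ * s ^ q) • x ∈ A hF Hs e0 := h8_seed hF Hs hee hxx hx0 hκ txs tx
  -- (d)
  have hd1 := h8_step hF Hs hee hpp hp0 hκ tp seed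
  -- the additive subgroup `S`
  let S : AddSubgroup F :=
    { carrier := {a | a • p ∈ A hF Hs e0}
      zero_mem' := by
        show (0 : F) • p ∈ A hF Hs e0
        rw [zero_smul]; exact A_zero hF Hs hee
      add_mem' := by
        intro a b ha hb
        show (a + b) • p ∈ A hF Hs e0
        rw [add_smul]; exact A_add hF Hs hee ha hb
      neg_mem' := by
        intro a ha
        show (-a) • p ∈ A hF Hs e0
        rw [neg_smul]; exact A_neg hF Hs hee ha }
  have hSmem : ∀ a : F, a ∈ S ↔ a • p ∈ A hF Hs e0 := fun a => Iff.rfl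
  have hSne : S ≠ ⊥ := by
    intro hbot
    have h1 : κ * H ((κ * s ^ q) • x) p ∈ S := (hSmem _).2 hd1
    rw [hbot, AddSubgroup.mem_bot, hermForm_smul_left] at h1
    have : κ * (κ * s ^ q * H x p) ≠ 0 :=
      mul_ne_zero hκ0 (mul_ne_zero (mul_ne_zero hκ0 (pow_ne_zero q hs)) hγ)
    exact this h1
  have hSω : ∀ a ∈ S, κ * H (actv u p) p * a ∈ S := by
    intro a ha
    have h1 : actv u (a • p) ∈ A hF Hs e0 := A_act hF Hs hee ((hSmem a).1 ha) hu hue
    rw [actv_smul] at h1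
    have h2 := h8_step hF Hs hee hpp hp0 hκ tp h1
    rw [hermForm_smul_left] at h2
    rw [hSmem]
    have e1 : κ * H (actv u p) p * a = κ * (a * H (actv u p) p) := by ring
    rw [e1]; exact h2
  have hStop : S = ⊤ := hgen S hSne hSω
  -- the subspace `W`
  let W : Submodule F V :=
    { carrier := {w | ∀ a : F, a • w ∈ A hF Hs e0}
      zero_mem' := by
        intro a
        rw [smul_zero]; exact A_zero hF Hs hee
      add_mem' := by
        intro w w' hw hw' a
        rw [smul_add]; exact A_add hF Hs hee (hw a) (hw' a)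
      smul_mem' := by
        intro c w hw a
        rw [smul_smul]; exact hw (a * c) }
  have hWmem : ∀ w : V, w ∈ W ↔ ∀ a : F, a • w ∈ A hF Hs e0 := fun w => Iff.rfl
  have hWu : ∀ w ∈ W, actv u w ∈ W := by
    intro w hw
    rw [hWmem] at hw ⊢
    intro a
    have := A_act hF Hs hee (hw a) hu hue
    rwa [actv_smul] at this
  have hWp : p ∈ W := by
    rw [hWmem]
    intro a
    have : a ∈ S := by rw [hStop]; exact AddSubgroup.mem_top a
    exact (hSmem a).1 this
  have hA : ∀ w : V, H e0 w = 0 → w ∈ A hF Hs e0 := by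
    intro w hw
    have h1 := (hWmem w).1 (hcyc W hWu hWp w hw) 1
    rwa [one_smul] at h1
  -- out
  have hout : H (actv (l * l) e0) e0 ≠ 0 := by
    rw [actv_mul, ← H_actv_inv' l (actv l e0) e0]
    exact hγ
  exact top_of_A hF hn h32 Hs hee hed hdd hA (l * l) (Hs.mul_mem hl hl) hout

end Cfsg.Agent.Helper8.SUOCore
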