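import Mathlib
import Cfsg.Agent.Lib.Helper8.SUOCore
import Cfsg.Agent.Lib.Helper12.SUOCyc
import Cfsg.Agent.Lib.Helper53.SUOComm

/-!
# Feeding the hypotheses of `h8_suo_core` (helper8, for S2282)

* `h8_gen_of_generator`: the `hgen` hypothesis from "`ω` generates `Fˣ`";
* `h8_cyc_of`: the `hcyc` hypothesis in a hyperbolic basis (via helper12's `h12_cyc`);
* `h8_third`: the third conjugate `g0 u g0⁻¹`, `g0 = E(e0,w,0)`, gives the central transvection
  `E(e0,0,c - c^q)` when `u w = w + c e0`.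
-/

set_option autoImplicit false
set_option quotPrecheck false
set_option linter.unusedSectionVars false
set_option linter.unusedVariables false

namespace Cfsg.Agent.Helper8.SUOCore

open Matrix Cfsg Cfsg.Agent.Helper13 Cfsg.Agent.Helper87.PsuA Cfsg.Agent.Helper87.PsuB0
open Cfsg.Agent.Helper13.SUOA

variable {F : Type*} [Field F] [Fintype F] {q n : ℕ}

local notation "V" => Fin n → F
local notation "G" => ↥(Cfsg.SU n F q)
local notation "H" => Cfsg.hermForm n F q

omit [Fintype F] in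
/-- `hgen` from a generator of `Fˣ` -/
theorem h8_gen_of_generator {ω : F} (hω : ∀ a : F, a ≠ 0 → ∃ k : ℕ, a = ω ^ k) :
    ∀ S : AddSubgroup F, S ≠ ⊥ → (∀ a ∈ S, ω * a ∈ S) → S = ⊤ := by
  intro S hS hmul
  obtain ⟨a0, ha0, ha0ne⟩ : ∃ a0 ∈ S, a0 ≠ 0 := by
    rcases S.bot_or_exists_ne_zero with h | h
    · exact absurd h hS
    · exact h
  have hpow : ∀ k : ℕ, ω ^ k * a0 ∈ S := by
    intro k
    induction k with
    | zero => rw [pow_zero, one_mul]; exact ha0
    | succ k ih =>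
      have := hmul _ ih
      rwa [← mul_assoc, ← pow_succ'] at this
  rw [eq_top_iff]
  intro c _
  rcases eq_or_ne c 0 with rfl | hc
  · exact S.zero_mem
  · obtain ⟨k, hk⟩ := hω (c / a0) (div_ne_zero hc ha0ne)
    have : c = ω ^ k * a0 := by rw [← hk, div_mul_cancel₀ c ha0ne]
    rw [this]; exact hpow k

variable (hF : Fintype.card F = q ^ 2)
include hF

/-- `hcyc` in a hyperbolic basis: `u` upper unitriangular with nonzero superdiagonal, `p ⊥ b 0` of
exact level `n - 2` -/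
theorem h8_cyc_of {b : Fin n → V} (hb : HB q b) (hn0 : 0 < n) (u : G)
    (hlow : ∀ i j : Fin n, j ≤ i → co q b (actv u (b j)) i = if i = j then 1 else 0)
    (hsup : ∀ i j : Fin n, i.val + 1 = j.val → co q b (actv u (b j)) i ≠ 0)
    (j : Fin n) (hj : j.val + 2 = n) (p : V) (hpe : H (b ⟨0, hn0⟩) p = 0)
    (hpj : co q b p j ≠ 0) :
    ∀ W : Submodule F V, (∀ w ∈ W, actv u w ∈ W) → p ∈ W →
      ∀ w : V, H (b ⟨0, hn0⟩) w = 0 → w ∈ W := by
  intro W hW hpW w hw
  have key : ∀ (x : V), H (b ⟨0, hn0⟩) x = 0 → ∀ i : Fin n, j < i → co q b x i = 0 := by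
    intro x hx i hji
    have hi : i = Fin.rev ⟨0, hn0⟩ := by
      apply Fin.ext
      rw [Fin.val_rev]
      have h1 : j.val < i.val := hji
      have h2 := i.isLt
      simp only
      omega
    rw [hi]
    exact (Cfsg.Agent.Helper12.SUO.h12_perp_b0_iff hF hb hn0 x).1 hx
  exact Cfsg.Agent.Helper12.SUO.h12_cyc hF hb u hlow hsup W hW j p hpW hpj (key p hpe) w (key w hw)

/-- the third conjugate gives a central transvection -/
theorem h8_third (Hs : Subgroup G) {e0 w : V} {c : F} (u : G) (hee : H e0 e0 = 0)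
    (hew : H e0 w = 0) (hww : H w w = 0) (hue : actv u e0 = e0) (huw : actv u w = w + c • e0)
    (hu : u ∈ Hs) (hconj : eich hF e0 w 0 * u * (eich hF e0 w 0)⁻¹ ∈ Hs) :
    eich hF e0 0 (c - c ^ q) ∈ Hs := by
  have hwe : H w e0 = 0 := H_symm_zero hF hew
  have ha : (0 : F) + 0 ^ q + H w w = 0 := by rw [hww, frob_zero hF]; ring
  have e1 := Cfsg.Agent.Helper53.SUO.h53_eich_conj_fix hF hee hew ha u hue
  have e2 : actv u w - w = 0 + c • e0 := by rw [huw]; abel
  have e3 : (0 : F) + 0 ^ q + H w (actv u w) = 0 := by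
    rw [huw, hermForm_add_right hF, hermForm_smul_right, hww, hwe, frob_zero hF]; ring
  rw [e2, e3] at e1
  have h0 : H e0 (0 : V) = 0 := H_zero_right hF e0
  have ha0 : (0 : F) + 0 ^ q + H (0 : V) 0 = 0 := by rw [H_zero_right hF, frob_zero hF]; ring
  rw [eich_add_smul hF hee h0 ha0, zero_add] at e1
  rw [← e1]
  have : u * eich hF e0 w 0 * u⁻¹ * (eich hF e0 w 0)⁻¹ =
      u * (eich hF e0 w 0 * u * (eich hF e0 w 0)⁻¹)⁻¹ := by group
  rw [this]
  exact Hs.mul_mem hu (Hs.inv_mem hconj)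

end Cfsg.Agent.Helper8.SUOCore
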