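import Cfsg.Agent.Lib.Helper8.Steiner12

set_option autoImplicit false
set_option linter.unusedSectionVars false

/-! Sharpness: an automorphism of an `S(5,6,12)` fixing five points (of an `S(4,5,11)` fixing four
points) is the identity. -/

namespace Cfsg.Agent.Helper8

open Cfsg Finset

variable {α : Type*} [Fintype α] [DecidableEq α]

/-- An automorphism maps a block to itself as soon as block and image share `t` points. -/
theorem image_eq_of_subset {t k : ℕ} {B : Set (Finset α)} (hB : IsSteinerSystem t k B)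
    (g : Equiv.Perm α) (hg : ∀ l ∈ B, l.image g ∈ B) {c : Finset α} (hc : c ∈ B)
    (T : Finset α) (hTc : T ⊆ c) (hTg : T ⊆ c.image g) (hT : t ≤ T.card) : c.image g = c := by
  by_contra hne
  have h1 := card_inter_lt hB (hg c hc) hc hne
  have h2 : T.card ≤ (c.image g ∩ c).card := card_le_card (subset_inter hTg hTc)
  omega

theorem notMem_of_fix {b : Finset α} (g : Equiv.Perm α) (hfix : ∀ a ∈ b, g a = a) {y : α}
    (hy : y ∉ b) : g y ∉ b := by
  intro h
  have := hfix _ h
  exact hy (by rw [← g.injective this]; exact h)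

/-- An automorphism fixing a block pointwise and one more point is the identity. -/
theorem fix_all_of_fix_one {t : ℕ} {B : Set (Finset α)} (hB : IsSteinerSystem t (t + 1) B)
    (ht : 1 ≤ t) {b : Finset α}
    (H1 : ∀ x y, x ∉ b → y ∉ b → x ≠ y → ∃ c ∈ B, x ∈ c ∧ y ∈ c ∧ (b ∩ c).card = t - 1)
    (g : Equiv.Perm α) (hg : ∀ l ∈ B, l.image g ∈ B) (hfix : ∀ a ∈ b, g a = a)
    {x : α} (hx : x ∉ b) (hgx : g x = x) (y : α) : g y = y := by
  by_cases hy : y ∈ b
  · exact hfix y hy
  by_cases hxy : x = y
  · rw [← hxy]; exact hgx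
  obtain ⟨c, hc, hxc, hyc, hcard⟩ := H1 x y hx hy hxy
  have hTcard : (insert x (b ∩ c)).card = t := by
    rw [card_insert_of_notMem (fun h => hx (mem_of_mem_inter_left h)), hcard]; omega
  have himg : c.image g = c := by
    apply image_eq_of_subset hB g hg hc (insert x (b ∩ c)) ?_ ?_ (le_of_eq hTcard.symm)
    · intro a ha
      rcases mem_insert.mp ha with rfl | ha
      · exact hxc
      · exact mem_of_mem_inter_right ha
    · intro a ha
      rcases mem_insert.mp ha with rfl | ha
      · exact mem_image.mpr ⟨a, hxc, hgx⟩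
      · exact mem_image.mpr ⟨a, mem_of_mem_inter_right ha, hfix a (mem_of_mem_inter_left ha)⟩
  have hgyc : g y ∈ c := by rw [← himg]; exact mem_image_of_mem g hyc
  have hsd : (c \ b).card = 2 := by
    have := card_sdiff_add_card_inter c b
    rw [inter_comm, hcard, hB.1 c hc] at this
    omega
  by_contra hgy
  have hgyx : g y ≠ x := by
    intro h
    rw [← hgx] at h
    exact hxy (g.injective h).symm
  have h3 : ({x, y, g y} : Finset α).card = 3 :=
    card_eq_three.mpr ⟨x, y, g y, hxy, fun h => hgyx h.symm, fun h => hgy h.symm, rfl⟩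
  have hsub : ({x, y, g y} : Finset α) ⊆ c \ b := by
    intro a ha
    simp only [mem_insert, mem_singleton] at ha
    rcases ha with rfl | rfl | rfl
    · exact mem_sdiff.mpr ⟨hxc, hx⟩
    · exact mem_sdiff.mpr ⟨hyc, hy⟩
    · exact mem_sdiff.mpr ⟨hgyc, notMem_of_fix g hfix hy⟩
  have := card_le_card hsub
  omega

/-- An automorphism fixing a block pointwise is the identity. -/
theorem rigid_of_blocks {t : ℕ} {B : Set (Finset α)} (hB : IsSteinerSystem t (t + 1) B)
    (ht : 2 ≤ t) {b : Finset α}
    (H1 : ∀ x y, x ∉ b → y ∉ b → x ≠ y → ∃ c ∈ B, x ∈ c ∧ y ∈ c ∧ (b ∩ c).card = t - 1)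
    (H2 : ∀ x y, x ∉ b → y ∉ b → x ≠ y → ∃ c ∈ B, x ∈ c ∧ y ∈ c ∧ (b ∩ c).card = t - 2)
    (g : Equiv.Perm α) (hg : ∀ l ∈ B, l.image g ∈ B) (hfix : ∀ a ∈ b, g a = a) (x : α) :
    g x = x := by
  by_cases hx : x ∈ b
  · exact hfix x hx
  by_contra hgx
  have hy : g x ∉ b := notMem_of_fix g hfix hx
  have hxy : x ≠ g x := fun h => hgx h.symm
  -- first: `g (g x) = x`
  have hggx : g (g x) = x := by
    obtain ⟨c, hc, hxc, hyc, hcard⟩ := H1 x (g x) hx hy hxy
    have hTcard : (insert (g x) (b ∩ c)).card = t := by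
      rw [card_insert_of_notMem (fun h => hy (mem_of_mem_inter_left h)), hcard]; omega
    have himg : c.image g = c := by
      apply image_eq_of_subset hB g hg hc (insert (g x) (b ∩ c)) ?_ ?_ (le_of_eq hTcard.symm)
      · intro a ha
        rcases mem_insert.mp ha with rfl | ha
        · exact hyc
        · exact mem_of_mem_inter_right ha
      · intro a ha
        rcases mem_insert.mp ha with rfl | ha
        · exact mem_image_of_mem g hxc
        · exact mem_image.mpr ⟨a, mem_of_mem_inter_right ha, hfix a (mem_of_mem_inter_left ha)⟩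
    have hggc : g (g x) ∈ c := by rw [← himg]; exact mem_image_of_mem g hyc
    have hsd : (c \ b).card = 2 := by
      have := card_sdiff_add_card_inter c b
      rw [inter_comm, hcard, hB.1 c hc] at this
      omega
    by_contra hne
    have hne2 : g (g x) ≠ g x := fun h => hgx (g.injective h)
    have h3 : ({x, g x, g (g x)} : Finset α).card = 3 :=
      card_eq_three.mpr ⟨x, g x, g (g x), hxy, fun h => hne h.symm, fun h => hne2 h.symm, rfl⟩
    have hsub : ({x, g x, g (g x)} : Finset α) ⊆ c \ b := by
      intro a ha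
      simp only [mem_insert, mem_singleton] at ha
      rcases ha with rfl | rfl | rfl
      · exact mem_sdiff.mpr ⟨hxc, hx⟩
      · exact mem_sdiff.mpr ⟨hyc, hy⟩
      · exact mem_sdiff.mpr ⟨hggc, notMem_of_fix g hfix hy⟩
    have := card_le_card hsub
    omega
  -- second: a fixed point off `b`
  obtain ⟨c, hc, hxc, hyc, hcard⟩ := H2 x (g x) hx hy hxy
  have hxbc : x ∉ b ∩ c := fun h => hx (mem_of_mem_inter_left h)
  have hybc : g x ∉ insert x (b ∩ c) := by
    intro h
    rcases mem_insert.mp h with h | h
    · exact hxy h.symm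
    · exact hy (mem_of_mem_inter_left h)
  have hTcard : (insert (g x) (insert x (b ∩ c))).card = t := by
    rw [card_insert_of_notMem hybc, card_insert_of_notMem hxbc, hcard]; omega
  have himg : c.image g = c := by
    apply image_eq_of_subset hB g hg hc (insert (g x) (insert x (b ∩ c))) ?_ ?_
      (le_of_eq hTcard.symm)
    · intro a ha
      rcases mem_insert.mp ha with rfl | ha
      · exact hyc
      rcases mem_insert.mp ha with rfl | ha
      · exact hxc
      · exact mem_of_mem_inter_right ha
    · intro a ha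
      rcases mem_insert.mp ha with rfl | ha
      · exact mem_image_of_mem g hxc
      rcases mem_insert.mp ha with rfl | ha
      · exact mem_image.mpr ⟨g a, hyc, hggx⟩
      · exact mem_image.mpr ⟨a, mem_of_mem_inter_right ha, hfix a (mem_of_mem_inter_left ha)⟩
  have hsd : (c \ b).card = 3 := by
    have := card_sdiff_add_card_inter c b
    rw [inter_comm, hcard, hB.1 c hc] at this
    omega
  -- the third point of `c \ b`
  have hsd' : (((c \ b).erase x).erase (g x)).card = 1 := by
    rw [card_erase_of_mem, card_erase_of_mem, hsd]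
    · exact mem_sdiff.mpr ⟨hxc, hx⟩
    · exact mem_erase.mpr ⟨fun h => hxy h.symm, mem_sdiff.mpr ⟨hyc, hy⟩⟩
  obtain ⟨z, hz⟩ := card_eq_one.mp hsd'
  have hzmem : z ∈ ((c \ b).erase x).erase (g x) := by rw [hz]; exact mem_singleton_self z
  rw [mem_erase, mem_erase, mem_sdiff] at hzmem
  obtain ⟨hzy, hzx, hzc, hzb⟩ := hzmem
  have hgzc : g z ∈ c := by rw [← himg]; exact mem_image_of_mem g hzc
  have hgzb : g z ∉ b := notMem_of_fix g hfix hzb
  have hgz : g z = z := by
    have : g z ∈ ((c \ b).erase x).erase (g x) := by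
      rw [mem_erase, mem_erase, mem_sdiff]
      refine ⟨fun h => hzx (g.injective h), fun h => ?_, hgzc, hgzb⟩
      rw [← hggx] at h
      exact hzy (g.injective h)
    rw [hz] at this
    exact mem_singleton.mp this
  exact hgx (fix_all_of_fix_one hB (by omega) H1 g hg hfix hzb hgz x)

end Cfsg.Agent.Helper8
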