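import Cfsg.Prelude.Def_Sporadic_a
import Mathlib

set_option autoImplicit false
set_option linter.unusedSectionVars false

namespace Cfsg.Agent.Helper8

open Cfsg Finset

variable {α : Type*} [Fintype α] [DecidableEq α]

/-- The blocks of a set system, as a `Finset`. -/
noncomputable def blocksF (B : Set (Finset α)) : Finset (Finset α) := by
  classical exact Finset.univ.filter (· ∈ B)

@[simp] theorem mem_blocksF {B : Set (Finset α)} {b : Finset α} : b ∈ blocksF B ↔ b ∈ B := by
  classical
  simp [blocksF]

theorem ncard_eq_card_blocksF (B : Set (Finset α)) : B.ncard = (blocksF B).card := by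
  classical
  rw [← Set.ncard_coe_finset]
  congr 1
  ext b; simp

/-- Number of `t`-subsets `T` with `S ⊆ T ⊆ b`. -/
theorem card_between (S b : Finset α) (hSb : S ⊆ b) (t : ℕ) (hst : S.card ≤ t) :
    ((powersetCard t b).filter (S ⊆ ·)).card = Nat.choose (b.card - S.card) (t - S.card) := by
  have : Nat.choose (b.card - S.card) (t - S.card) = (powersetCard (t - S.card) (b \ S)).card := by
    rw [card_powersetCard, card_sdiff_of_subset hSb]
  rw [this]
  apply Finset.card_nbij' (fun T => T \ S) (fun U => U ∪ S)
  · intro T hT
    simp only [coe_filter, mem_powersetCard, Set.mem_ofPred_eq] at hT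
    simp only [mem_coe, mem_powersetCard]
    refine ⟨sdiff_subset_sdiff hT.1.1 (le_refl S), ?_⟩
    rw [card_sdiff_of_subset hT.2, hT.1.2]
  · intro U hU
    simp only [mem_coe, mem_powersetCard] at hU
    simp only [coe_filter, mem_powersetCard, Set.mem_ofPred_eq]
    refine ⟨⟨union_subset (hU.1.trans sdiff_subset) hSb, ?_⟩, subset_union_right⟩
    rw [card_union_of_disjoint, hU.2]
    · omega
    · exact disjoint_of_subset_left hU.1 sdiff_disjoint
  · intro T hT
    simp only [coe_filter, mem_powersetCard, Set.mem_ofPred_eq] at hT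
    exact sdiff_union_of_subset hT.2
  · intro U hU
    simp only [mem_coe, mem_powersetCard] at hU
    have hd : Disjoint U S := disjoint_of_subset_left hU.1 sdiff_disjoint
    exact union_sdiff_cancel_right hd

/-- In a Steiner system, a `t`-set lies in exactly one block (Finset form). -/
theorem card_blocks_through_t {t k : ℕ} {B : Set (Finset α)} (hB : IsSteinerSystem t k B)
    (T : Finset α) (hT : T.card = t) : ((blocksF B).filter (T ⊆ ·)).card = 1 := by
  obtain ⟨b, ⟨hb, hTb⟩, huniq⟩ := hB.2 T hT
  rw [Finset.card_eq_one]
  refine ⟨b, ?_⟩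
  ext c
  simp only [mem_filter, mem_blocksF, mem_singleton]
  constructor
  · rintro ⟨hc, hTc⟩; exact huniq c ⟨hc, hTc⟩
  · rintro rfl; exact ⟨hb, hTb⟩

/-- The number `λ_s` of blocks through an `s`-set, `s ≤ t`. -/
theorem card_blocks_through {t k : ℕ} {B : Set (Finset α)} (hB : IsSteinerSystem t k B)
    (S : Finset α) (hS : S.card ≤ t) :
    ((blocksF B).filter (S ⊆ ·)).card * Nat.choose (k - S.card) (t - S.card) =
      Nat.choose (Fintype.card α - S.card) (t - S.card) := by
  -- double counting pairs (T, b), S ⊆ T ⊆ b, |T| = t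
  have h1 := Finset.sum_card_bipartiteAbove_eq_sum_card_bipartiteBelow
    (s := (powersetCard t (univ : Finset α)).filter (S ⊆ ·)) (t := blocksF B)
    (r := fun T b => T ⊆ b)
  have hleft : ∀ T ∈ (powersetCard t (univ : Finset α)).filter (S ⊆ ·),
      ((blocksF B).bipartiteAbove (fun T b => T ⊆ b) T).card = 1 := by
    intro T hT
    simp only [mem_filter, mem_powersetCard] at hT
    exact card_blocks_through_t hB T hT.1.2
  rw [Finset.sum_congr rfl hleft] at h1
  simp only [sum_const, smul_eq_mul, mul_one] at h1
  rw [card_between S univ (subset_univ S) t hS, card_univ] at h1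
  rw [h1]
  -- right side
  have hright : ∀ b ∈ blocksF B,
      (((powersetCard t (univ : Finset α)).filter (S ⊆ ·)).bipartiteBelow (fun T b => T ⊆ b) b).card =
        if S ⊆ b then Nat.choose (k - S.card) (t - S.card) else 0 := by
    intro b hb
    have hbk : b.card = k := hB.1 b (mem_blocksF.mp hb)
    split_ifs with hSb
    · rw [← hbk, ← card_between S b hSb t hS]
      congr 1
      ext T
      simp only [bipartiteBelow, mem_filter, mem_powersetCard, subset_univ, true_and]
      tauto
    · rw [Finset.card_eq_zero]
      ext T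
      simp only [bipartiteBelow, mem_filter, mem_powersetCard, subset_univ, true_and,
        notMem_empty, iff_false, not_and]
      intro h hTb
      exact hSb (h.2.trans hTb)
  rw [Finset.sum_congr rfl hright, ← Finset.sum_filter, sum_const, smul_eq_mul]

/-- Number of blocks times `C(k,t)` equals `C(v,t)`. -/
theorem card_blocks {t k : ℕ} {B : Set (Finset α)} (hB : IsSteinerSystem t k B) :
    (blocksF B).card * Nat.choose k t = Nat.choose (Fintype.card α) t := by
  have := card_blocks_through hB ∅ (by simp)
  simpa using this

/-- The moment identities: for a block `b` and `s ≤ t`,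
`∑_c C(|b ∩ c|, s) · C(k-s, t-s) = C(k, s) · C(v-s, t-s)`. -/
theorem moment {t k : ℕ} {B : Set (Finset α)} (hB : IsSteinerSystem t k B) {b : Finset α}
    (hb : b ∈ B) (s : ℕ) (hs : s ≤ t) :
    (∑ c ∈ blocksF B, Nat.choose (b ∩ c).card s) * Nat.choose (k - s) (t - s) =
      Nat.choose k s * Nat.choose (Fintype.card α - s) (t - s) := by
  have hbk : b.card = k := hB.1 b hb
  have h1 := Finset.sum_card_bipartiteAbove_eq_sum_card_bipartiteBelow
    (s := powersetCard s b) (t := blocksF B) (r := fun S c => S ⊆ c)
  have hright : ∀ c ∈ blocksF B,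
      ((powersetCard s b).bipartiteBelow (fun S c => S ⊆ c) c).card =
        Nat.choose (b ∩ c).card s := by
    intro c _
    rw [← card_powersetCard]
    congr 1
    ext S
    simp only [bipartiteBelow, mem_filter, mem_powersetCard, subset_inter_iff]
    tauto
  rw [Finset.sum_congr rfl hright] at h1
  rw [← h1, Finset.sum_mul]
  have hleft : ∀ S ∈ powersetCard s b,
      ((blocksF B).bipartiteAbove (fun S c => S ⊆ c) S).card * Nat.choose (k - s) (t - s) =
        Nat.choose (Fintype.card α - s) (t - s) := by
    intro S hS
    rw [mem_powersetCard] at hS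
    have := card_blocks_through hB S (by rw [hS.2]; exact hs)
    rw [hS.2] at this
    exact this
  rw [Finset.sum_congr rfl hleft, sum_const, card_powersetCard, hbk, smul_eq_mul]

/-- Distinct blocks share fewer than `t` points. -/
theorem card_inter_lt {t k : ℕ} {B : Set (Finset α)} (hB : IsSteinerSystem t k B)
    {b c : Finset α} (hb : b ∈ B) (hc : c ∈ B) (hbc : b ≠ c) : (b ∩ c).card < t := by
  by_contra hge
  have hge := not_lt.mp hge
  obtain ⟨T, hT, hTc⟩ := Finset.exists_subset_card_eq hge
  obtain ⟨d, -, huniq⟩ := hB.2 T hTc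
  have h1 := huniq b ⟨hb, hT.trans inter_subset_left⟩
  have h2 := huniq c ⟨hc, hT.trans inter_subset_right⟩
  exact hbc (h1.trans h2.symm)

/-- The moment identity for an arbitrary finite set `Z` in place of a block. -/
theorem moment_set {t k : ℕ} {B : Set (Finset α)} (hB : IsSteinerSystem t k B) (Z : Finset α)
    (s : ℕ) (hs : s ≤ t) :
    (∑ c ∈ blocksF B, Nat.choose (Z ∩ c).card s) * Nat.choose (k - s) (t - s) =
      Nat.choose Z.card s * Nat.choose (Fintype.card α - s) (t - s) := by
  have h1 := Finset.sum_card_bipartiteAbove_eq_sum_card_bipartiteBelow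
    (s := powersetCard s Z) (t := blocksF B) (r := fun S c => S ⊆ c)
  have hright : ∀ c ∈ blocksF B,
      ((powersetCard s Z).bipartiteBelow (fun S c => S ⊆ c) c).card =
        Nat.choose (Z ∩ c).card s := by
    intro c _
    rw [← card_powersetCard]
    congr 1
    ext S
    simp only [bipartiteBelow, mem_filter, mem_powersetCard, subset_inter_iff]
    tauto
  rw [Finset.sum_congr rfl hright] at h1
  rw [← h1, Finset.sum_mul]
  have hleft : ∀ S ∈ powersetCard s Z,
      ((blocksF B).bipartiteAbove (fun S c => S ⊆ c) S).card * Nat.choose (k - s) (t - s) =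
        Nat.choose (Fintype.card α - s) (t - s) := by
    intro S hS
    rw [mem_powersetCard] at hS
    have := card_blocks_through hB S (by rw [hS.2]; exact hs)
    rw [hS.2] at this
    exact this
  rw [Finset.sum_congr rfl hleft, sum_const, card_powersetCard, smul_eq_mul]

end Cfsg.Agent.Helper8
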