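import Cfsg.Agent.Lib.Helper8.SteinerNumbers

set_option autoImplicit false
set_option linter.unusedSectionVars false

/-! Moment identities for the blocks through a fixed set (Leech triangle counting). -/

namespace Cfsg.Agent.Helper8

open Cfsg Finset

variable {α : Type*} [Fintype α] [DecidableEq α]

/-- Moment identity for the blocks through a fixed set `s`, against a set `Z` disjoint from `s`. -/
theorem moment_through {t k : ℕ} {B : Set (Finset α)} (hB : IsSteinerSystem t k B)
    (s Z : Finset α) (hsZ : Disjoint s Z) (m : ℕ) (hm : s.card + m ≤ t) :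
    (∑ c ∈ (blocksF B).filter (fun c => s ⊆ c), Nat.choose (Z ∩ c).card m) *
        Nat.choose (k - (s.card + m)) (t - (s.card + m)) =
      Nat.choose Z.card m * Nat.choose (Fintype.card α - (s.card + m)) (t - (s.card + m)) := by
  have h1 := Finset.sum_card_bipartiteAbove_eq_sum_card_bipartiteBelow
    (s := powersetCard m Z) (t := (blocksF B).filter (fun c => s ⊆ c)) (r := fun U c => U ⊆ c)
  have hright : ∀ c ∈ (blocksF B).filter (fun c => s ⊆ c),
      ((powersetCard m Z).bipartiteBelow (fun U c => U ⊆ c) c).card =
        Nat.choose (Z ∩ c).card m := by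
    intro c _
    rw [← card_powersetCard]
    congr 1
    ext S
    simp only [bipartiteBelow, mem_filter, mem_powersetCard, subset_inter_iff]
    tauto
  rw [Finset.sum_congr rfl hright] at h1
  rw [← h1, Finset.sum_mul]
  have hleft : ∀ U ∈ powersetCard m Z,
      (((blocksF B).filter (fun c => s ⊆ c)).bipartiteAbove (fun U c => U ⊆ c) U).card *
          Nat.choose (k - (s.card + m)) (t - (s.card + m)) =
        Nat.choose (Fintype.card α - (s.card + m)) (t - (s.card + m)) := by
    intro U hU
    rw [mem_powersetCard] at hU
    have hd : Disjoint s U := disjoint_of_subset_right hU.1 hsZ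
    have hc : (s ∪ U).card = s.card + m := by rw [card_union_of_disjoint hd, hU.2]
    have := card_blocks_through hB (s ∪ U) (by rw [hc]; exact hm)
    rw [hc] at this
    rw [← this]
    congr 2
    ext c
    simp only [bipartiteAbove, mem_filter, union_subset_iff]
    tauto
  rw [Finset.sum_congr rfl hleft, sum_const, card_powersetCard, smul_eq_mul]

end Cfsg.Agent.Helper8
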