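import Mathlib

set_option autoImplicit false

/-! Moving closures between a group and one of its subgroups. -/

namespace Cfsg.Agent.Helper8.BSGS

variable {Γ : Type*} [Group Γ]

/-- An element of the closure of a subset of `G`, seen inside `G`. -/
theorem closure_lift (G : Subgroup Γ) (S : Set Γ) (hS : S ⊆ G) (y : Γ)
    (hy : y ∈ Subgroup.closure S) :
    ∃ hyG : y ∈ G, (⟨y, hyG⟩ : G) ∈ Subgroup.closure (G.subtype ⁻¹' S) := by
  have hle : Subgroup.closure S ≤ G := (Subgroup.closure_le G).mpr hS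
  have hmap : (Subgroup.closure (G.subtype ⁻¹' S)).map G.subtype = Subgroup.closure S := by
    rw [MonoidHom.map_closure, Set.image_preimage_eq_inter_range]
    congr 1
    apply Set.inter_eq_left.mpr
    intro x hx
    exact ⟨⟨x, hS hx⟩, rfl⟩
  rw [← hmap] at hy
  obtain ⟨x, hx, rfl⟩ := hy
  exact ⟨x.2, hx⟩

/-- A subgroup of `G` is everything as soon as it contains generators of `G`. -/
theorem eq_top_of_closure (G : Subgroup Γ) (S : Set Γ) (hG : G = Subgroup.closure S)
    (M : Subgroup G) (hM : ∀ s ∈ S, ∃ hs : s ∈ G, (⟨s, hs⟩ : G) ∈ M) : M = ⊤ := by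
  have hS : S ⊆ G := by rw [hG]; exact Subgroup.subset_closure
  rw [eq_top_iff]
  rintro ⟨y, hyG⟩ _
  have hy : y ∈ Subgroup.closure S := by rw [← hG]; exact hyG
  obtain ⟨_, h⟩ := closure_lift G S hS y hy
  have hle : Subgroup.closure (G.subtype ⁻¹' S) ≤ M := by
    rw [Subgroup.closure_le]
    rintro ⟨s, hsG⟩ hs
    obtain ⟨_, h'⟩ := hM s hs
    exact h'
  exact hle h

end Cfsg.Agent.Helper8.BSGS
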