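import Mathlib

set_option autoImplicit false

namespace Cfsg.Agent.Helper8.U6

section rel

variable {H S : Type*} [Group H] [Group S] {n : ℕ}

/-- the graph relation `(h, s) ∈ T` -/
def h8Rel (τ : Fin n → S) (ρ : H →* Equiv.Perm (Fin n)) (h : H) (s : S) : Prop :=
  ∀ i, τ (ρ h i) = s * τ i * s⁻¹

theorem h8Rel_one (τ : Fin n → S) (ρ : H →* Equiv.Perm (Fin n)) : h8Rel τ ρ 1 1 := by
  intro i
  rw [map_one, Equiv.Perm.one_apply, one_mul, inv_one, mul_one]

theorem h8Rel_mul {τ : Fin n → S} {ρ : H →* Equiv.Perm (Fin n)} {h h' : H} {s s' : S}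
    (h1 : h8Rel τ ρ h s) (h2 : h8Rel τ ρ h' s') : h8Rel τ ρ (h * h') (s * s') := by
  intro i
  rw [map_mul, Equiv.Perm.mul_apply, h1, h2, mul_inv_rev]
  simp only [mul_assoc]

theorem h8Rel_inv {τ : Fin n → S} {ρ : H →* Equiv.Perm (Fin n)} {h : H} {s : S}
    (h1 : h8Rel τ ρ h s) : h8Rel τ ρ h⁻¹ s⁻¹ := by
  intro i
  have h2 := h1 (ρ h⁻¹ i)
  rw [← Equiv.Perm.mul_apply, ← map_mul, mul_inv_cancel, map_one, Equiv.Perm.one_apply] at h2
  rw [h2, inv_inv]
  simp only [mul_assoc, inv_mul_cancel_left, inv_mul_cancel, mul_one]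

/-- first projection of the graph subgroup -/
def h8P1 (τ : Fin n → S) (ρ : H →* Equiv.Perm (Fin n)) : Subgroup H where
  carrier := {h | ∃ s, h8Rel τ ρ h s}
  one_mem' := ⟨1, h8Rel_one τ ρ⟩
  mul_mem' := by
    rintro x y ⟨s, hs⟩ ⟨s', hs'⟩
    exact ⟨s * s', h8Rel_mul hs hs'⟩
  inv_mem' := by
    rintro x ⟨s, hs⟩
    exact ⟨s⁻¹, h8Rel_inv hs⟩

/-- second projection of the graph subgroup -/
def h8P2 (τ : Fin n → S) (ρ : H →* Equiv.Perm (Fin n)) : Subgroup S where
  carrier := {s | ∃ h, h8Rel τ ρ h s}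
  one_mem' := ⟨1, h8Rel_one τ ρ⟩
  mul_mem' := by
    rintro x y ⟨h, hs⟩ ⟨h', hs'⟩
    exact ⟨h * h', h8Rel_mul hs hs'⟩
  inv_mem' := by
    rintro x ⟨h, hs⟩
    exact ⟨h⁻¹, h8Rel_inv hs⟩

end rel

/-- a simple group of non-prime order has trivial centre -/
theorem h8_center_eq_bot {P : Type*} [Group P] [Finite P] (hP : IsSimpleGroup P)
    (hnp : ¬ (Nat.card P).Prime) : Subgroup.center P = ⊥ := by
  rcases hP.eq_bot_or_eq_top_of_normal (Subgroup.center P) inferInstance with h | h
  · exact h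
  · exfalso
    apply hnp
    exact @IsSimpleGroup.prime_card P (Group.commGroupOfCenterEqTop h) hP

/-- (CORE) the graph-subgroup argument. -/
theorem core {H S : Type*} [Group H] [Group S] [Finite H] [Finite S]
    (hP : IsSimpleGroup (S ⧸ Subgroup.center S))
    (hnp : ¬ (Nat.card (S ⧸ Subgroup.center S)).Prime)
    (hcard : Nat.card H = 2 * Nat.card (S ⧸ Subgroup.center S))
    (a : H) (ha : a ∈ Subgroup.center H) (ha1 : a ≠ 1)
    {n : ℕ} (τ : Fin n → S) (hτ : Function.Injective τ)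
    (ρ : H →* Equiv.Perm (Fin n)) (hρa : ρ a = 1)
    (Γ : Set H) (hΓ : Subgroup.closure Γ = ⊤)
    (heq : ∀ γ ∈ Γ, ∃ m : S, ∀ i, τ (ρ γ i) = m * τ i * m⁻¹)
    (htrans : ∀ i j, ∃ h : H, ρ h i = j)
    (i0 : Fin n) (γ0 : H) (h0 : ∀ i, τ (ρ γ0 i) = τ i0 * τ i * (τ i0)⁻¹)
    (hclosed : ∀ (s : S) (i : Fin n), ∃ j, s * τ i * s⁻¹ = τ j)
    (hnc : ∃ j, τ i0 * τ j ≠ τ j * τ i0) :
    Nat.card (Subgroup.center H) = 2 ∧
      Nonempty (H ⧸ Subgroup.center H ≃* S ⧸ Subgroup.center S) := by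
  classical
  -- (1) first projection is onto
  have hP1 : ∀ h : H, ∃ s, h8Rel τ ρ h s := by
    have htop : h8P1 τ ρ = ⊤ := by
      rw [eq_top_iff, ← hΓ, Subgroup.closure_le]
      intro γ hγ
      exact heq γ hγ
    intro h
    have hm : h ∈ h8P1 τ ρ := by
      rw [htop]
      exact Subgroup.mem_top h
    exact hm
  have hγ0 : h8Rel τ ρ γ0 (τ i0) := h0
  -- (2) every `τ j` is in the second projection
  have hτmem : ∀ j, τ j ∈ h8P2 τ ρ := by
    intro j
    obtain ⟨h, hh⟩ := htrans i0 j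
    obtain ⟨s, hs⟩ := hP1 h
    refine ⟨h * γ0 * h⁻¹, ?_⟩
    have h1 := h8Rel_mul (h8Rel_mul hs hγ0) (h8Rel_inv hs)
    have h2 : s * τ i0 * s⁻¹ = τ j := by rw [← hs i0, hh]
    rw [h2] at h1
    exact h1
  have hZrel : ∀ z ∈ Subgroup.center S, h8Rel τ ρ 1 z := by
    intro z hz i
    rw [map_one, Equiv.Perm.one_apply]
    rw [Subgroup.mem_center_iff] at hz
    rw [← hz (τ i), mul_inv_cancel_right]
  -- (3) `N = closure (range τ)` is normal
  have hNn : (Subgroup.closure (Set.range τ)).Normal := by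
    constructor
    intro x hx g
    induction hx using Subgroup.closure_induction with
    | mem y hy =>
      obtain ⟨i, rfl⟩ := hy
      obtain ⟨j, hj⟩ := hclosed g i
      rw [hj]
      exact Subgroup.subset_closure ⟨j, rfl⟩
    | one =>
      rw [mul_one, mul_inv_cancel]
      exact Subgroup.one_mem _
    | mul y z _ _ hy hz =>
      have h3 : g * (y * z) * g⁻¹ = (g * y * g⁻¹) * (g * z * g⁻¹) := by group
      rw [h3]
      exact Subgroup.mul_mem _ hy hz
    | inv y _ hy =>
      have h3 : g * y⁻¹ * g⁻¹ = (g * y * g⁻¹)⁻¹ := by group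
      rw [h3]
      exact Subgroup.inv_mem _ hy
  have hNP2 : Subgroup.closure (Set.range τ) ≤ h8P2 τ ρ := by
    rw [Subgroup.closure_le]
    rintro x ⟨j, rfl⟩
    exact hτmem j
  have hmapn : ((Subgroup.closure (Set.range τ)).map
      (QuotientGroup.mk' (Subgroup.center S))).Normal :=
    Subgroup.Normal.map hNn _ (QuotientGroup.mk'_surjective _)
  have hmaptop : (Subgroup.closure (Set.range τ)).map
      (QuotientGroup.mk' (Subgroup.center S)) = ⊤ := by
    rcases hP.eq_bot_or_eq_top_of_normal _ hmapn with h | h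
    · exfalso
      have h1 : Subgroup.closure (Set.range τ) ≤ Subgroup.center S := by
        have h2 := (Subgroup.map_eq_bot_iff _).1 h
        rw [QuotientGroup.ker_mk'] at h2
        exact h2
      have h3 : τ i0 ∈ Subgroup.center S := h1 (Subgroup.subset_closure ⟨i0, rfl⟩)
      obtain ⟨j, hj⟩ := hnc
      rw [Subgroup.mem_center_iff] at h3
      exact hj (h3 (τ j)).symm
    · exact h
  have hdecomp : ∀ g : S, ∃ x ∈ Subgroup.closure (Set.range τ), ∃ z ∈ Subgroup.center S,
      g = x * z := by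
    intro g
    have hg : (QuotientGroup.mk' (Subgroup.center S)) g ∈ (Subgroup.closure (Set.range τ)).map
        (QuotientGroup.mk' (Subgroup.center S)) := by
      rw [hmaptop]
      exact Subgroup.mem_top _
    obtain ⟨x, hx, hxg⟩ := hg
    refine ⟨x, hx, x⁻¹ * g, ?_, ?_⟩
    · exact QuotientGroup.eq.1 hxg
    · rw [mul_inv_cancel_left]
  have hP2 : ∀ s : S, ∃ h, h8Rel τ ρ h s := by
    intro s
    obtain ⟨x, hx, z, hz, rfl⟩ := hdecomp s
    have h1 : x ∈ h8P2 τ ρ := hNP2 hx
    have h2 : z ∈ h8P2 τ ρ := ⟨1, hZrel z hz⟩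
    exact (h8P2 τ ρ).mul_mem h1 h2
  -- (4) `(1, s) ∈ T` forces `s` central
  have hkerZ : ∀ s, h8Rel τ ρ 1 s → s ∈ Subgroup.center S := by
    intro s hs
    have hcomm : ∀ i, s * τ i = τ i * s := by
      intro i
      have h1 := hs i
      rw [map_one, Equiv.Perm.one_apply] at h1
      have h2 : τ i * s = s * τ i * s⁻¹ * s := by rw [← h1]
      rw [h2, inv_mul_cancel_right]
    have hN : Subgroup.closure (Set.range τ) ≤ Subgroup.centralizer ({s} : Set S) := by
      rw [Subgroup.closure_le]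
      rintro x ⟨i, rfl⟩
      rw [SetLike.mem_coe, Subgroup.mem_centralizer_iff]
      intro y hy
      rw [Set.mem_singleton_iff] at hy
      rw [hy]
      exact hcomm i
    rw [Subgroup.mem_center_iff]
    intro g
    obtain ⟨x, hx, z, hz, rfl⟩ := hdecomp g
    have h1 : s * x = x * s := by
      have := hN hx
      rw [Subgroup.mem_centralizer_iff] at this
      exact this s rfl
    rw [Subgroup.mem_center_iff] at hz
    calc x * z * s = x * (z * s) := by rw [mul_assoc]
      _ = x * (s * z) := by rw [hz s]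
      _ = (x * s) * z := by rw [mul_assoc]
      _ = (s * x) * z := by rw [h1]
      _ = s * (x * z) := by rw [mul_assoc]
  -- (5) the homomorphism `θ`
  have huniq : ∀ h s s', h8Rel τ ρ h s → h8Rel τ ρ h s' →
      (QuotientGroup.mk s : S ⧸ Subgroup.center S) = QuotientGroup.mk s' := by
    intro h s s' h1 h2
    have h3 := h8Rel_mul (h8Rel_inv h1) h2
    rw [inv_mul_cancel] at h3
    exact QuotientGroup.eq.2 (hkerZ _ h3)
  obtain ⟨sel, hsel⟩ : ∃ sel : H → S, ∀ h, h8Rel τ ρ h (sel h) :=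
    ⟨fun h => Classical.choose (hP1 h), fun h => Classical.choose_spec (hP1 h)⟩
  let θ : H →* S ⧸ Subgroup.center S :=
    MonoidHom.mk' (fun h => (QuotientGroup.mk (sel h) : S ⧸ Subgroup.center S)) (by
      intro x y
      exact huniq (x * y) _ _ (hsel (x * y)) (h8Rel_mul (hsel x) (hsel y)))
  have hθ : ∀ h, θ h = (QuotientGroup.mk (sel h) : S ⧸ Subgroup.center S) := fun _ => rfl
  have hsurj : Function.Surjective θ := by
    intro p
    obtain ⟨s, rfl⟩ := QuotientGroup.mk_surjective p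
    obtain ⟨h, hh⟩ := hP2 s
    exact ⟨h, huniq h _ _ (hsel h) hh⟩
  have hker : ∀ h, h ∈ θ.ker ↔ ρ h = 1 := by
    intro h
    rw [MonoidHom.mem_ker, hθ, QuotientGroup.eq_one_iff]
    constructor
    · intro hz
      have h1 := h8Rel_mul (hsel h) (h8Rel_inv (hZrel _ hz))
      rw [inv_one, mul_one, mul_inv_cancel] at h1
      apply Equiv.ext
      intro i
      have h2 := h1 i
      rw [one_mul, inv_one, mul_one] at h2
      rw [Equiv.Perm.one_apply]
      exact hτ h2
    · intro hρ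
      have h1 : h8Rel τ ρ h 1 := by
        intro i
        rw [hρ, Equiv.Perm.one_apply, one_mul, inv_one, mul_one]
      have h2 := h8Rel_mul (h8Rel_inv h1) (hsel h)
      rw [inv_mul_cancel, inv_one, one_mul] at h2
      exact hkerZ _ h2
  -- (6) cardinalities
  have hcardker : Nat.card θ.ker = 2 := by
    have h1 := Subgroup.card_eq_card_quotient_mul_card_subgroup θ.ker
    have h2 : Nat.card (H ⧸ θ.ker) = Nat.card (S ⧸ Subgroup.center S) :=
      Nat.card_congr (QuotientGroup.quotientKerEquivOfSurjective θ hsurj).toEquiv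
    rw [h2, hcard] at h1
    have hpos : 0 < Nat.card (S ⧸ Subgroup.center S) := Nat.card_pos
    have h3 : Nat.card (S ⧸ Subgroup.center S) * 2 =
        Nat.card (S ⧸ Subgroup.center S) * Nat.card θ.ker := by
      rw [← h1, mul_comm]
    exact (Nat.eq_of_mul_eq_mul_left hpos h3).symm
  have haker : a ∈ θ.ker := (hker a).2 hρa
  have hAle : Subgroup.zpowers a ≤ θ.ker := (Subgroup.zpowers_le).2 haker
  have hAeq : Subgroup.zpowers a = θ.ker := by
    apply Subgroup.eq_of_le_of_card_ge hAle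
    rw [hcardker]
    have h1 : Nat.card (Subgroup.zpowers a) ∣ 2 := by
      rw [← hcardker]
      exact Subgroup.card_dvd_of_le hAle
    rcases (Nat.dvd_prime Nat.prime_two).1 h1 with h2 | h2
    · exfalso
      rw [Subgroup.card_eq_one] at h2
      apply ha1
      have h3 : a ∈ Subgroup.zpowers a := Subgroup.mem_zpowers a
      rw [h2, Subgroup.mem_bot] at h3
      exact h3
    · rw [h2]
  have hkerle : θ.ker ≤ Subgroup.center H := by
    rw [← hAeq]
    exact (Subgroup.zpowers_le).2 ha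
  have hcP : Subgroup.center (S ⧸ Subgroup.center S) = ⊥ := h8_center_eq_bot hP hnp
  have hcle : Subgroup.center H ≤ θ.ker := by
    intro c hc
    rw [MonoidHom.mem_ker]
    have h1 : θ c ∈ Subgroup.center (S ⧸ Subgroup.center S) := by
      rw [Subgroup.mem_center_iff]
      intro p
      obtain ⟨h, rfl⟩ := hsurj p
      rw [Subgroup.mem_center_iff] at hc
      rw [← map_mul, ← map_mul, hc h]
    rw [hcP, Subgroup.mem_bot] at h1
    exact h1
  have hEq : Subgroup.center H = θ.ker := le_antisymm hcle hkerle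
  refine ⟨?_, ⟨?_⟩⟩
  · rw [hEq]
    exact hcardker
  · exact (QuotientGroup.quotientMulEquivOfEq hEq).trans
      (QuotientGroup.quotientKerEquivOfSurjective θ hsurj)

end Cfsg.Agent.Helper8.U6
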