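import Mathlib
import Cfsg.Agent.Lib.Helper98.UT0
import Cfsg.Agent.Lib.Helper13.SUGen

/-!
# UT server (helper98, S2283): piece (E3) `top_of_Q`.
-/

set_option autoImplicit false
set_option quotPrecheck false
set_option linter.unusedSectionVars false
set_option linter.unusedVariables false

namespace Cfsg.Agent.Helper8.UT

open Matrix Cfsg Cfsg.Agent.Helper13 Cfsg.Agent.Helper87.PsuA Cfsg.Agent.Helper87.PsuB0
  Cfsg.Agent.Helper98.UT

variable {F : Type*} [Field F] [Fintype F] {q : ℕ}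

local notation "G" => ↥(Cfsg.SU 3 F q)
local notation "H" => Cfsg.hermForm 3 F q

section helpers

variable {b : Fin 3 → Fin 3 → F}

theorem h8_ha0 (hF : Fintype.card F = q ^ 2) (a : F) (h : a + a ^ q = 0) :
    a + a ^ q + H (0 : Fin 3 → F) (0 : Fin 3 → F) = 0 := by
  rw [H_zero_left hF, add_zero]; exact h

theorem h8_hee (hb : HB q b) : H (b 0) (b 0) = 0 := by rw [hb 0 0, if_neg (by decide)]
theorem h8_hef (hb : HB q b) : H (b 0) (b 2) = 1 := by rw [hb 0 2, if_pos (by decide)]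
theorem h8_hed (hb : HB q b) : H (b 0) (b 1) = 0 := by rw [hb 0 1, if_neg (by decide)]
theorem h8_hfe (hb : HB q b) : H (b 2) (b 0) = 1 := by rw [hb 2 0, if_pos (by decide)]
theorem h8_hff (hb : HB q b) : H (b 2) (b 2) = 0 := by rw [hb 2 2, if_neg (by decide)]
theorem h8_hfd (hb : HB q b) : H (b 2) (b 1) = 0 := by rw [hb 2 1, if_neg (by decide)]
theorem h8_hdd (hb : HB q b) : H (b 1) (b 1) = 1 := by rw [hb 1 1, if_pos (by decide)]

/-- the central root group of `e` lies in `Hs` -/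
theorem h8_Te (hF : Fintype.card F = q ^ 2) (hb : HB q b) (Hs : Subgroup G)
    (hQ : ∀ ω β : F, β + β ^ q + ω * ω ^ q = 0 → yEl hF b ω β ∈ Hs) (β : F)
    (hβ : β + β ^ q = 0) : eich hF (b 0) 0 β ∈ Hs := by
  have h := hQ 0 β (by rw [zero_mul, add_zero]; exact hβ)
  unfold yEl at h
  have hz : (-((0 : F) ^ q)) • b 1 = 0 := by
    rw [zero_pow (q_pos hF).ne', neg_zero, zero_smul]
  rw [hz] at h
  exact h

/-- action of `x(a,β)` on `f` -/
theorem h8_yEl_f (hF : Fintype.card F = q ^ 2) (hb : HB q b) (a β : F) (hab : β + β ^ q + a * a ^ q = 0) :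
    actv (yEl hF b a β) (b 2) = b 2 + (-(a ^ q)) • b 1 + β • b 0 := by
  unfold yEl
  have huw : H (b 0) ((-(a ^ q)) • b 1) = 0 := by
    rw [hermForm_smul_right, h8_hed hb, mul_zero]
  have ha : β + β ^ q + H ((-(a ^ q)) • b 1) ((-(a ^ q)) • b 1) = 0 := by
    rw [hermForm_smul_left, hermForm_smul_right, h8_hdd hb, frob_neg hF, frob_frob hF]
    linear_combination hab
  rw [eich_act hF (h8_hee hb) huw ha, h8_hfe hb, hermForm_smul_right, h8_hfd hb]
  module

/-- the central root group of `f` lies in `Hs` -/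
theorem h8_Tf (hF : Fintype.card F = q ^ 2) (hb : HB q b) (Hs : Subgroup G)
    (hQ : ∀ ω β : F, β + β ^ q + ω * ω ^ q = 0 → yEl hF b ω β ∈ Hs) {c : F} (hc0 : c ≠ 0)
    (hc : c + c ^ q = 0) (ht : lEl hF b 0 c ∈ Hs) (c' : F) (hc' : c' + c' ^ q = 0) :
    eich hF (b 2) 0 c' ∈ Hs := by
  -- `t = eich f 0 c`
  have ht' : eich hF (b 2) 0 c ∈ Hs := by
    unfold lEl at ht
    have hz : (-((0 : F) ^ q)) • b 1 = 0 := by
      rw [zero_pow (q_pos hF).ne', neg_zero, zero_smul]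
    rw [hz] at ht
    exact ht
  have hcq : c ^ q = -c := by linear_combination hc
  have hcq0 : c ^ q ≠ 0 := by rw [hcq]; exact neg_ne_zero.2 hc0
  -- parameters
  have hN : (c * c ^ q) ^ q = c * c ^ q := by rw [mul_pow, frob_frob hF]; ring
  have hN0 : c * c ^ q ≠ 0 := mul_ne_zero hc0 hcq0
  have hβ : c' / (c * c ^ q) + (c' / (c * c ^ q)) ^ q = 0 := by
    rw [div_pow, hN, ← add_div, hc', zero_div]
  have hci : c⁻¹ + (c⁻¹) ^ q = 0 := by
    rw [inv_pow, hcq, inv_neg, add_neg_cancel]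
  have hE := h8_Te hF hb Hs hQ _ hβ
  have hg1 := h8_Te hF hb Hs hQ _ hci
  -- `t e = e + c f`
  have hte : actv (eich hF (b 2) 0 c) (b 0) = b 0 + c • b 2 := by
    rw [eich_act hF (h8_hff hb) (H_zero_right hF _) (h8_ha0 hF c hc), h8_hef hb, H_zero_right hF]
    module
  -- `g1 f = f + c⁻¹ e`
  have hg1f : actv (eich hF (b 0) 0 c⁻¹) (b 2) = b 2 + c⁻¹ • b 0 := by
    rw [eich_act hF (h8_hee hb) (H_zero_right hF _) (h8_ha0 hF _ hci), h8_hfe hb, H_zero_right hF]
    module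
  have hrel : b 0 + c • b 2 = c • (b 2 + c⁻¹ • b 0) := by
    rw [smul_add, smul_smul, mul_inv_cancel₀ hc0, one_smul, add_comm]
  -- conjugation formulas
  have h1 : eich hF (b 2) 0 c * eich hF (b 0) 0 (c' / (c * c ^ q)) * (eich hF (b 2) 0 c)⁻¹ =
      eich hF (b 0 + c • b 2) 0 (c' / (c * c ^ q)) := by
    rw [eich_conj hF (h8_hee hb) (H_zero_right hF _) (h8_ha0 hF _ hβ), hte, actv_zero]
  have hgf : H (actv (eich hF (b 0) 0 c⁻¹) (b 2)) (actv (eich hF (b 0) 0 c⁻¹) (b 2)) = 0 := by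
    rw [H_actv]; exact h8_hff hb
  have h2 : eich hF (b 0 + c • b 2) 0 (c' / (c * c ^ q)) =
      eich hF (actv (eich hF (b 0) 0 c⁻¹) (b 2)) 0 c' := by
    rw [hrel, ← hg1f, eich_smul hF hgf (H_zero_right hF _) (h8_ha0 hF _ hβ), smul_zero]
    congr 1
    field_simp
  have h3 : eich hF (b 0) 0 c⁻¹ * eich hF (b 2) 0 c' * (eich hF (b 0) 0 c⁻¹)⁻¹ =
      eich hF (actv (eich hF (b 0) 0 c⁻¹) (b 2)) 0 c' := by
    rw [eich_conj hF (h8_hff hb) (H_zero_right hF _) (h8_ha0 hF _ hc'), actv_zero]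
  have h4 : eich hF (b 2) 0 c' =
      (eich hF (b 0) 0 c⁻¹)⁻¹ * (eich hF (b 2) 0 c * eich hF (b 0) 0 (c' / (c * c ^ q)) *
        (eich hF (b 2) 0 c)⁻¹) * eich hF (b 0) 0 c⁻¹ := by
    rw [h1, h2, ← h3]; group
  rw [h4]
  exact Hs.mul_mem (Hs.mul_mem (Hs.inv_mem hg1)
    (Hs.mul_mem (Hs.mul_mem ht' hE) (Hs.inv_mem ht'))) hg1

/-- every unitary transvection lies in `Hs` -/
theorem h8_tv_mem (hF : Fintype.card F = q ^ 2) (hb : HB q b) (Hs : Subgroup G)
    (hQ : ∀ ω β : F, β + β ^ q + ω * ω ^ q = 0 → yEl hF b ω β ∈ Hs) {c : F} (hc0 : c ≠ 0)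
    (hc : c + c ^ q = 0) (ht : lEl hF b 0 c ∈ Hs) (u : Fin 3 → F) (a' : F) (huu : H u u = 0)
    (ha' : a' + a' ^ q = 0) : eich hF u 0 a' ∈ Hs := by
  have r0 : Fin.rev (0 : Fin 3) = 2 := by decide
  have r1 : Fin.rev (1 : Fin 3) = 1 := by decide
  have r2 : Fin.rev (2 : Fin 3) = 0 := by decide
  have hexp : u = co q b u 0 • b 0 + co q b u 1 • b 1 + co q b u 2 • b 2 := by
    have h := expand hb u
    rw [Fin.sum_univ_three] at h
    exact h
  have hiso : co q b u 0 * (co q b u 2) ^ q + co q b u 1 * (co q b u 1) ^ q +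
      co q b u 2 * (co q b u 0) ^ q = 0 := by
    have h := H_eq_sum hF hb u u
    rw [Fin.sum_univ_three, r0, r1, r2, huu] at h
    exact h.symm
  set x := co q b u 0 with hx
  set y := co q b u 1 with hy
  set z := co q b u 2 with hz
  by_cases hz0 : z = 0
  · -- `u = x e`
    have hy0 : y = 0 := by
      rw [hz0, zero_pow (q_pos hF).ne', mul_zero, zero_mul, add_zero, zero_add] at hiso
      have : y ^ (q + 1) = 0 := by rw [pow_succ']; exact hiso
      exact pow_eq_zero_iff (by omega) |>.1 this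
    have hu : u = x • b 0 := by
      rw [hexp, hz0, hy0, zero_smul, zero_smul, add_zero, add_zero]
    have hβ : x * x ^ q * a' + (x * x ^ q * a') ^ q = 0 := by
      rw [mul_pow, mul_pow, frob_frob hF]
      linear_combination (x * x ^ q) * ha'
    rw [hu, eich_smul hF (h8_hee hb) (H_zero_right hF _) (h8_ha0 hF _ ha'), smul_zero]
    exact h8_Te hF hb Hs hQ _ hβ
  · have hzq : z ^ q ≠ 0 := pow_ne_zero _ hz0
    have hωq : (-((y / z) ^ q)) ^ q = -(y / z) := by rw [frob_neg hF, frob_frob hF]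
    have hcond : x / z + (x / z) ^ q + (-((y / z) ^ q)) * (-((y / z) ^ q)) ^ q = 0 := by
      rw [hωq, div_pow, div_pow]
      field_simp
      linear_combination hiso
    have hg2 := hQ _ _ hcond
    have hg2f := h8_yEl_f hF hb _ _ hcond
    rw [hωq, neg_neg] at hg2f
    have hu : u = z • actv (yEl hF b (-((y / z) ^ q)) (x / z)) (b 2) := by
      rw [hg2f, smul_add, smul_add, smul_smul, smul_smul, mul_div_cancel₀ _ hz0,
        mul_div_cancel₀ _ hz0]
      rw [hexp]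
      abel
    have hgf : H (actv (yEl hF b (-((y / z) ^ q)) (x / z)) (b 2))
        (actv (yEl hF b (-((y / z) ^ q)) (x / z)) (b 2)) = 0 := by
      rw [H_actv]; exact h8_hff hb
    have hc' : z * z ^ q * a' + (z * z ^ q * a') ^ q = 0 := by
      rw [mul_pow, mul_pow, frob_frob hF]
      linear_combination (z * z ^ q) * ha'
    have h3 : yEl hF b (-((y / z) ^ q)) (x / z) * eich hF (b 2) 0 (z * z ^ q * a') *
        (yEl hF b (-((y / z) ^ q)) (x / z))⁻¹ =
        eich hF (actv (yEl hF b (-((y / z) ^ q)) (x / z)) (b 2)) 0 (z * z ^ q * a') := by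
      rw [eich_conj hF (h8_hff hb) (H_zero_right hF _) (h8_ha0 hF _ hc'), actv_zero]
    rw [hu, eich_smul hF hgf (H_zero_right hF _) (h8_ha0 hF _ ha'), smul_zero, ← h3]
    exact Hs.mul_mem (Hs.mul_mem hg2 (h8_Tf hF hb Hs hQ hc0 hc ht _ hc')) (Hs.inv_mem hg2)

end helpers

variable (hF : Fintype.card F = q ^ 2) {b : Fin 3 → Fin 3 → F}

/-- (E3) -/
theorem top_of_Q (hb : HB q b) (hq : 3 ≤ q) (Hs : Subgroup G)
    (hQ : ∀ ω β : F, β + β ^ q + ω * ω ^ q = 0 → yEl hF b ω β ∈ Hs) {c : F} (hc0 : c ≠ 0)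
    (hc : c + c ^ q = 0) (ht : lEl hF b 0 c ∈ Hs) : Hs = ⊤ := by
  rw [eq_top_iff, ← TG_top hF (n := 3) (by norm_num) (by omega)]
  unfold TG
  rw [Subgroup.closure_le]
  rintro g ⟨u, a, huu, ha, _, rfl⟩
  rw [tvSU_eq_eich hF u a huu ha]
  exact h8_tv_mem hF hb Hs hQ hc0 hc ht u a huu (by rw [add_comm]; exact ha)

end Cfsg.Agent.Helper8.UT
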