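import Mathlib
import Cfsg.Prelude.Def_OddOrderLocal
import Cfsg.Agent.Lib.Helper98.TIHDefs
import Cfsg.Agent.Lib.Helper52.CoprimeSylow

set_option autoImplicit false

namespace Cfsg.Agent.Helper8.ZTI

open Cfsg.Agent.Helper98.TIH

universe u

/-- (B2) [S-M] an element of prime order of `C_H(Q)` lies in a Sylow subgroup of `H` centralized by `Q`. -/
theorem exists_sylow_le_centralizer {G : Type u} [Group G] [Finite G] (H Q : Subgroup G)
    (hQ : Q ≤ Subgroup.normalizer (H : Set G)) (hcop : (Nat.card Q).Coprime (Nat.card H))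
    (hZ : IsZGroup H)
    (hB1 : ∀ (P : Subgroup G) (p : ℕ), p.Prime → IsPGroup p P → IsCyclic P → ∀ q : G,
      q ∈ Subgroup.normalizer (P : Set G) → (orderOf q).Coprime p → ∀ x ∈ P, x ≠ 1 →
      q * x * q⁻¹ = x → ∀ y ∈ P, q * y * q⁻¹ = y)
    (p : ℕ) (hp : p.Prime) (x : G) (hxH : x ∈ H) (hxQ : x ∈ Subgroup.centralizer (Q : Set G))
    (hx : orderOf x = p) :
    ∃ P : Subgroup G, P ≤ H ⊓ Subgroup.centralizer (Q : Set G) ∧ x ∈ P ∧
      Nat.card P = p ^ (Nat.card H).factorization p := by
  classical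
  have hpF : Fact p.Prime := ⟨hp⟩
  -- `U = ⟨x⟩`
  have hUH : Subgroup.zpowers x ≤ H := by
    rw [Subgroup.zpowers_le]; exact hxH
  have hUp : IsPGroup p (Subgroup.zpowers x) := by
    apply IsPGroup.of_card (n := 1)
    rw [Nat.card_zpowers, hx, pow_one]
  have hcomm : ∀ q ∈ Q, q * x = x * q := fun q hq =>
    (Subgroup.mem_centralizer_iff.1 hxQ q hq)
  have hUQ : Q ≤ Subgroup.normalizer ((Subgroup.zpowers x : Subgroup G) : Set G) := by
    intro q hq
    rw [Subgroup.mem_normalizer_iff]
    intro h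
    have hc : ∀ h ∈ Subgroup.zpowers x, q * h * q⁻¹ = h := by
      intro h hh
      obtain ⟨k, rfl⟩ := Subgroup.mem_zpowers_iff.1 hh
      have : Commute q (x ^ k) := (show Commute q x from hcomm q hq).zpow_right k
      rw [this.eq, mul_inv_cancel_right]
    constructor
    · intro hh
      rw [hc h hh]; exact hh
    · intro hh
      have h2 := hc _ hh
      -- q * (q h q⁻¹) * q⁻¹ = q h q⁻¹ gives q h q⁻¹ = h after cancelling
      have h3 : q * h * q⁻¹ = h := by
        have h4 : q * (q * h * q⁻¹) * q⁻¹ = q * h * q⁻¹ := h2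
        have h5 : q * (q * h * q⁻¹) = q * h := by
          have := congrArg (fun z => z * q) h4
          simpa [mul_assoc] using this
        have h6 := mul_left_cancel h5
        exact h6
      rw [← h3]; exact hh
  have hsolv : Group.IsSolvable ↥H := inferInstance
  obtain ⟨P, hPH, hPcard, hUP, hQP⟩ :=
    Cfsg.Agent.Helper52.exists_invariant_sylow_ge Q H hQ hcop (Or.inr hsolv) p
      (Subgroup.zpowers x) hUH hUp hUQ
  have hxP : x ∈ P := hUP (Subgroup.mem_zpowers x)
  have hPp : IsPGroup p P := IsPGroup.of_card (n := (Nat.card H).factorization p) hPcard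
  -- `P` is cyclic
  have hcyc : IsCyclic P := by
    have h1 : IsPGroup p (P.subgroupOf H) := by
      apply IsPGroup.of_card (n := (Nat.card H).factorization p)
      rw [Nat.card_congr (Subgroup.subgroupOfEquivOfLe hPH).toEquiv]
      exact hPcard
    have h2 : IsCyclic (P.subgroupOf H) := h1.isCyclic_of_isZGroup
    exact isCyclic_of_surjective (Subgroup.subgroupOfEquivOfLe hPH)
      (Subgroup.subgroupOfEquivOfLe hPH).surjective
  have hx1 : x ≠ 1 := by
    intro h
    rw [h, orderOf_one] at hx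
    exact hp.one_lt.ne hx
  have hpH : p ∣ Nat.card H := by
    rw [← hx]
    exact Subgroup.orderOf_dvd_natCard H hxH
  refine ⟨P, ?_, hxP, hPcard⟩
  intro y hy
  refine ⟨hPH hy, ?_⟩
  show y ∈ Subgroup.centralizer (Q : Set G)
  rw [Subgroup.mem_centralizer_iff]
  intro q hq
  have hqo : (orderOf q).Coprime p := by
    have h1 : orderOf q ∣ Nat.card Q := Subgroup.orderOf_dvd_natCard Q hq
    exact (hcop.coprime_dvd_left h1).coprime_dvd_right hpH
  have hqx : q * x * q⁻¹ = x := by
    rw [hcomm q hq, mul_inv_cancel_right]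
  have := hB1 P p hp hPp hcyc q (hQP hq) hqo x hxP hx1 hqx y hy
  -- q * y * q⁻¹ = y → q * y = y * q
  calc q * y = q * y * q⁻¹ * q := by group
    _ = y * q := by rw [this]

end Cfsg.Agent.Helper8.ZTI
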