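import Mathlib
import Cfsg.Prelude.Def_OddOrderLocal
import Cfsg.Agent.Lib.Helper98.TIHDefs

set_option autoImplicit false

namespace Cfsg.Agent.Helper8.ZTI

open Cfsg.Agent.Helper98.TIH

universe u

/-- `|C| * |H : C| = |H|` -/
theorem h8_card_mul_relIndex {G : Type u} [Group G] [Finite G] {C H : Subgroup G} (hCH : C ≤ H) :
    Nat.card C * C.relIndex H = Nat.card H := by
  rw [Subgroup.relIndex, ← Subgroup.card_mul_index (C.subgroupOf H),
    Nat.card_congr (Subgroup.subgroupOfEquivOfLe hCH).toEquiv]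

/-- (B3) [S] `C` is a Hall subgroup of `H`. -/
theorem coprime_card_relIndex_of_sylow {G : Type u} [Group G] [Finite G] (H C : Subgroup G)
    (hCH : C ≤ H)
    (hB2 : ∀ (p : ℕ), p.Prime → ∀ x ∈ C, orderOf x = p →
      ∃ P : Subgroup G, P ≤ C ∧ Nat.card P = p ^ (Nat.card H).factorization p) :
    (Nat.card C).Coprime (C.relIndex H) := by
  apply Nat.coprime_of_dvd
  intro p hp hpC hpR
  have : Fact p.Prime := ⟨hp⟩
  obtain ⟨x, hx⟩ := exists_prime_orderOf_dvd_card' (G := ↥C) p hpC
  have hx' : orderOf (x : G) = p := by rw [Subgroup.orderOf_coe]; exact hx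
  obtain ⟨P, hPC, hPcard⟩ := hB2 p hp (x : G) x.2 hx'
  have h1 : p ^ (Nat.card H).factorization p ∣ Nat.card C := by
    rw [← hPcard]; exact Subgroup.card_dvd_of_le hPC
  have h2 : p ^ ((Nat.card H).factorization p + 1) ∣ Nat.card H := by
    have h3 : p ^ (Nat.card H).factorization p * p ∣ Nat.card C * C.relIndex H :=
      Nat.mul_dvd_mul h1 hpR
    rw [h8_card_mul_relIndex hCH] at h3
    rw [pow_succ]
    exact h3
  exact Nat.pow_succ_factorization_not_dvd (Nat.card_pos (α := ↥H)).ne' hp h2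

end Cfsg.Agent.Helper8.ZTI
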